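import Mathlib
import Cfsg.Agent.H160.QRoots
import Cfsg.Agent.Lib.RingK
import Cfsg.Agent.H94.Sp.Base_m3
import Mathlib.Data.Nat.Notation
import Mathlib.Data.Nat.GCD.Basic
import Mathlib.Tactic
import Cfsg.Agent.H321.SpecEven.Defs_m3
import Cfsg.Agent.H376.Six.Top_m3
import Cfsg.Agent.H411.Six.UpSp6
import Cfsg.Agent.H77.E4XD
import Cfsg.Agent.Prune
set_option linter.all false

section
prune_inst 0x7fbfeff8fbbfffffdfff7e7fffd9fffe1b97dfffacdffb437fea6bffcf7f139219cdf7ad1de070fe4ed6c03410a87843fb7eefffe26fdc7ffffdfff41ffbee4ff5f7b50911d080240f340ff703f07f8a7f3fffffffffdfffffffffffffffffbeffbfffffffff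

-- part: R2/Spec/P1/TopBlk
section
prune_inst 0x401003044000000000018000260001e0682000530000888000800030006800a2000802821b8b0110082a8224528310048110001d00200000000000000011a00800028040041c10008880080000004400000000000020000000000000000000004000000000
set_option linter.all false
open scoped Cfsg.Agent.FastGrp

-- part: R2/Spec/P1/TopEig
section
/-!
# Team T3 (S3435), box P1b: eigenvalues of isometries with an element of a large class (helper15)
-/

set_option autoImplicit false
set_option linter.unusedSectionVars false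

namespace Cfsg.Agent.R2.Spec.P1.Eig

open Cfsg.Agent.H160.QRoots

variable {K : Type*} [Field K] [DecidableEq K] {q : ℕ}

/-- multisets stable under `x ↦ x ^ q` and inversion -/
structure ED (q : ℕ) (R : Multiset K) : Prop where
  frob : ∀ x, R.count (x ^ q) = R.count x
  inv : ∀ x, R.count x⁻¹ = R.count x
  ne0 : ∀ x ∈ R, x ≠ 0

variable {R : Multiset K}

theorem ED.iter (h : ED q R) (x : K) (i : ℕ) : R.count (x ^ (q ^ i)) = R.count x := by
  induction i with
  | zero => simp
  | succ i ih => rw [pow_succ, pow_mul, h.frob, ih]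

theorem ED.toInv (hq : Function.Injective (fun x : K => x ^ q)) (h : ED q R) :
    _root_.Cfsg.Agent.H160.QRoots.Inv q (R.filter (fun x => x ≠ x⁻¹)) where
  frob x := by
    have h1 : x ^ q ≠ (x ^ q)⁻¹ ↔ x ≠ x⁻¹ := by
      rw [← inv_pow]
      exact not_congr hq.eq_iff
    by_cases hx : x ≠ x⁻¹
    · rw [Multiset.count_filter_of_pos (p := fun x => x ≠ x⁻¹) (h1.2 hx),
        Multiset.count_filter_of_pos (p := fun x => x ≠ x⁻¹) hx, h.frob]
    · rw [Multiset.count_filter_of_neg (p := fun x => x ≠ x⁻¹) (fun h2 => hx (h1.1 h2)),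
        Multiset.count_filter_of_neg (p := fun x => x ≠ x⁻¹) hx]
  inv x := by
    have h1 : x⁻¹ ≠ (x⁻¹)⁻¹ ↔ x ≠ x⁻¹ := by
      rw [inv_inv]
      exact ne_comm
    by_cases hx : x ≠ x⁻¹
    · rw [Multiset.count_filter_of_pos (p := fun x => x ≠ x⁻¹) (h1.2 hx),
        Multiset.count_filter_of_pos (p := fun x => x ≠ x⁻¹) hx, h.inv]
    · rw [Multiset.count_filter_of_neg (p := fun x => x ≠ x⁻¹) (fun h2 => hx (h1.1 h2)),
        Multiset.count_filter_of_neg (p := fun x => x ≠ x⁻¹) hx]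
  ne0 x hx := h.ne0 x (Multiset.mem_of_mem_filter hx)
  ne1 x hx := (Multiset.mem_filter.1 hx).2

theorem ED.count_orb (h : ED q R) {μ x : K} {d : ℕ} (hx : x ∈ orb q μ d) : R.count x = R.count μ := by
  obtain ⟨i, _, rfl | rfl⟩ := mem_orb.1 hx
  · exact h.iter μ i
  · rw [h.inv, h.iter μ i]

/-- removing an orbit -/
theorem ED.filter (hq : Function.Injective (fun x : K => x ^ q)) (h : ED q R) {μ : K} {d : ℕ} (hd : IsMin q μ d) :
    ED q (R.filter (fun x => x ∉ orb q μ d)) where
  frob x := by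
    by_cases hx : x ∈ orb q μ d
    · rw [Multiset.count_filter_of_neg (p := fun x => x ∉ orb q μ d) (by rw [frob_mem_orb hq hd]; exact not_not.2 hx),
        Multiset.count_filter_of_neg (p := fun x => x ∉ orb q μ d) (not_not.2 hx)]
    · rw [Multiset.count_filter_of_pos (p := fun x => x ∉ orb q μ d) (by rw [frob_mem_orb hq hd]; exact hx),
        Multiset.count_filter_of_pos (p := fun x => x ∉ orb q μ d) hx, h.frob]
  inv x := by
    by_cases hx : x ∈ orb q μ d
    · rw [Multiset.count_filter_of_neg (p := fun x => x ∉ orb q μ d) (by rw [inv_mem_orb]; exact not_not.2 hx),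
        Multiset.count_filter_of_neg (p := fun x => x ∉ orb q μ d) (not_not.2 hx)]
    · rw [Multiset.count_filter_of_pos (p := fun x => x ∉ orb q μ d) (by rw [inv_mem_orb]; exact hx),
        Multiset.count_filter_of_pos (p := fun x => x ∉ orb q μ d) hx, h.inv]
  ne0 x hx := h.ne0 x (Multiset.mem_of_mem_filter hx)

theorem ED.filter_mem (h : ED q R) (μ : K) (d : ℕ) :
    R.filter (fun x => x ∈ orb q μ d) = R.count μ • (orb q μ d).val := by
  ext x
  rw [Multiset.count_nsmul]
  by_cases hx : x ∈ orb q μ d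
  · rw [Multiset.count_filter_of_pos hx, h.count_orb hx, Multiset.count_eq_one_of_mem (orb q μ d).nodup hx,
      mul_one]
  · rw [Multiset.count_filter_of_neg hx, Multiset.count_eq_zero_of_notMem (s := (orb q μ d).val) hx, mul_zero]

/-- **Removing an orbit.** -/
theorem ED.peel (hq : Function.Injective (fun x : K => x ^ q)) (h : ED q R) {μ : K} {d : ℕ} (hd : IsMin q μ d) :
    ∃ R', R = R.count μ • (orb q μ d).val + R' ∧ ED q R' ∧ R.card = R.count μ * (2 * d) + R'.card := by
  refine ⟨R.filter (fun x => x ∉ orb q μ d), ?_, h.filter hq hd, ?_⟩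
  · rw [← h.filter_mem μ d, Multiset.filter_add_not]
  · have h1 := congrArg Multiset.card (Multiset.filter_add_not (fun x => x ∈ orb q μ d) R)
    rw [h.filter_mem μ d, Multiset.card_add, Multiset.card_nsmul, Finset.card_val, card_orb hq hd] at h1
    exact h1.symm

theorem zmod_two_cases : ∀ y : ZMod 2, y = 0 ∨ y = 1 := by decide

theorem orderOf_eq_prime_of {ζ : K} {r : ℕ} (hr : r.Prime) (h1 : ζ ≠ 1) (hζ : ζ ^ r = 1) : orderOf ζ = r := by
  rcases (Nat.dvd_prime hr).1 (orderOf_dvd_of_pow_eq_one hζ) with h | h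
  · exact absurd (orderOf_eq_one_iff.1 h) h1
  · exact h

/-- **The large block.** -/
theorem ED.block (hq : Function.Injective (fun x : K => x ^ q)) (hq1 : 1 ≤ q) (h : ED q R) {m r i k : ℕ} {x : K}
    (hx : x ∈ R) (hr : r.Prime) (h1 : x ^ k ≠ 1) (hxr : (x ^ k) ^ r = 1) (hi : orderOf (q : ZMod r) = i)
    (h3 : 3 ≤ i) (him : i = 2 * m ∨ (i = m ∧ Odd m)) (hc : R.card < 4 * m) :
    IsMin q x m ∧ (i = 2 * m → x ^ (q ^ m) = x⁻¹) ∧ (i = m → x ^ (q ^ m) = x) ∧
      ∃ R', R = (orb q x m).val + R' ∧ ED q R' ∧ R.card = 2 * m + R'.card := by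
  have hrf := Fact.mk hr
  have hord := orderOf_eq_prime_of hr h1 hxr
  have hx0 := h.ne0 x hx
  have hζ0 : x ^ k ≠ 0 := pow_ne_zero _ hx0
  -- `x ^ (q ^ a) = x`
  have hA1 : ∀ a, x ^ (q ^ a) = x → i ∣ a := by
    intro a ha
    have h4 : (x ^ k) ^ (q ^ a) = x ^ k := by rw [← pow_mul, mul_comm, pow_mul, ha]
    have h5 : (x ^ k) ^ (q ^ a - 1) = 1 := by
      have h6 : (x ^ k) ^ (q ^ a - 1) * x ^ k = x ^ k := by
        rw [← pow_succ, Nat.sub_add_cancel (Nat.one_le_pow _ _ hq1), h4]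
      exact mul_right_cancel₀ hζ0 (by rw [h6, one_mul])
    have h6 := orderOf_dvd_of_pow_eq_one h5
    rw [hord, ← ZMod.natCast_eq_zero_iff, Nat.cast_sub (Nat.one_le_pow _ _ hq1)] at h6
    push_cast at h6
    rw [← hi]
    exact orderOf_dvd_of_pow_eq_one (sub_eq_zero.1 h6)
  have hA2 : ∀ a, x ^ (q ^ a) = x⁻¹ → i ∣ 2 * a ∧ ¬ i ∣ a := by
    intro a ha
    have h4 : (x ^ k) ^ (q ^ a + 1) = 1 := by
      rw [← pow_mul, mul_comm, pow_mul, pow_succ, ha, inv_mul_cancel₀ hx0, one_pow]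
    have h6 := orderOf_dvd_of_pow_eq_one h4
    rw [hord, ← ZMod.natCast_eq_zero_iff] at h6
    push_cast at h6
    have h7 : (q : ZMod r) ^ a = -1 := by linear_combination h6
    constructor
    · rw [← hi]
      apply orderOf_dvd_of_pow_eq_one
      rw [mul_comm, pow_mul, h7]
      ring
    · intro h8
      rw [← hi, orderOf_dvd_iff_pow_eq_one, h7] at h8
      have h9 : ((2 : ℕ) : ZMod r) = 0 := by
        push_cast
        linear_combination -h8
      rw [ZMod.natCast_eq_zero_iff] at h9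
      have h10 := (Nat.prime_dvd_prime_iff_eq hr Nat.prime_two).1 h9
      subst h10
      -- `i ≤ 1`
      have h11 : (q : ZMod 2) = 0 ∨ (q : ZMod 2) = 1 := zmod_two_cases _
      rcases h11 with h11 | h11
      · rw [h11, orderOf_zero] at hi
        omega
      · rw [h11, orderOf_one] at hi
        omega
  have hxx : x ≠ x⁻¹ := by
    intro h4
    exact (hA2 0 (by rw [pow_zero, pow_one]; exact h4)).2 (dvd_zero _)
  obtain ⟨d, hd⟩ := exists_isMin hq (h.toInv hq) (Multiset.mem_filter.2 ⟨hx, hxx⟩)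
  obtain ⟨R', hR, hR', hcard⟩ := h.peel hq hd
  have hcnt : 1 ≤ R.count x := Multiset.one_le_count_iff_mem.2 hx
  have h2d : 2 * d ≤ R.count x * (2 * d) := Nat.le_mul_of_pos_left _ (by omega)
  have hdpos := hd.pos
  have hm0 : 0 < m := by omega
  have hdm : d = m := by
    rcases hd.eq with h4 | h4
    · have h5 := hA1 d h4
      rcases him with h6 | ⟨h6, -⟩
      · exfalso
        have := Nat.le_of_dvd hdpos h5
        omega
      · rw [h6] at h5
        obtain ⟨c, rfl⟩ := h5
        have : c ≠ 0 := by rintro rfl; omega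
        have : c < 2 := by
          by_contra hcc
          have : m * 2 ≤ m * c := Nat.mul_le_mul_left m (by omega)
          omega
        have : c = 1 := by omega
        rw [this, mul_one]
    · obtain ⟨h5, h5'⟩ := hA2 d h4
      rcases him with h6 | ⟨h6, h7⟩
      · rw [h6] at h5
        obtain ⟨c, hc'⟩ := h5
        have hcd : d = m * c := by
          have : 2 * d = 2 * (m * c) := by rw [hc']; ring
          omega
        have : c ≠ 0 := by rintro rfl; omega
        have : c < 2 := by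
          by_contra hcc
          have : m * 2 ≤ m * c := Nat.mul_le_mul_left m (by omega)
          omega
        have : c = 1 := by omega
        rw [hcd, this, mul_one]
      · exfalso
        apply h5'
        rw [h6] at h5 ⊢
        exact (Nat.coprime_two_right.2 h7).dvd_of_dvd_mul_left h5
  subst hdm
  have hc1 : R.count x = 1 := by
    by_contra hne
    have : 2 * (2 * d) ≤ R.count x * (2 * d) := Nat.mul_le_mul_right _ (by omega)
    omega
  refine ⟨hd, ?_, ?_, R', ?_, hR', ?_⟩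
  · intro h6
    rcases hd.eq with h4 | h4
    · exfalso
      have := Nat.le_of_dvd hdpos (hA1 d h4)
      omega
    · exact h4
  · intro h6
    rcases hd.eq with h4 | h4
    · exact h4
    · exfalso
      exact (hA2 d h4).2 (by rw [h6])
  · rw [hc1, one_smul] at hR
    exact hR
  · rw [hc1, one_mul] at hcard
    exact hcard

theorem prod_orb_val (hq : Function.Injective (fun x : K => x ^ q)) {μ : K} {d : ℕ} (h : IsMin q μ d) :
    (orb q μ d).val.prod = 1 := by
  have h1 : (orb q μ d).val.prod = ∏ x ∈ orb q μ d, x := by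
    rw [Finset.prod_eq_multiset_prod, Multiset.map_id']
  rw [h1, prod_orb hq (fun x => x) h]
  exact Finset.prod_eq_one fun i _ => mul_inv_cancel₀ (pow_ne_zero _ h.ne0)

/-- the rest: one element -/
theorem ED.rest_one {R' : Multiset K} (hc : R'.card = 1) (hp : R'.prod = 1) : R' = {1} := by
  obtain ⟨a, rfl⟩ := Multiset.card_eq_one.1 hc
  rw [Multiset.prod_singleton] at hp
  rw [hp]

/-- the rest: two elements -/
theorem ED.rest_two {R' : Multiset K} (h : ED q R') (hc : R'.card = 2) (hp : R'.prod = 1) :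
    ∃ μ : K, μ ≠ 0 ∧ R' = {μ, μ⁻¹} ∧ (μ ^ q = μ ∨ μ ^ q = μ⁻¹) := by
  obtain ⟨a, b, rfl⟩ := Multiset.card_eq_two.1 hc
  rw [Multiset.insert_eq_cons, Multiset.prod_cons, Multiset.prod_singleton] at hp
  have ha0 : a ≠ 0 := by
    rintro rfl
    rw [zero_mul] at hp
    exact zero_ne_one hp
  have hb : b = a⁻¹ := eq_inv_of_mul_eq_one_right hp
  subst hb
  refine ⟨a, ha0, rfl, ?_⟩
  have h1 : a ^ q ∈ ({a, a⁻¹} : Multiset K) := by
    rw [← Multiset.one_le_count_iff_mem, h.frob, Multiset.one_le_count_iff_mem]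
    exact Multiset.mem_cons_self _ _
  rw [Multiset.insert_eq_cons, Multiset.mem_cons, Multiset.mem_singleton] at h1
  exact h1

/-! ### The product of the `1 + x` -/

/-- the product of the `1 + x` -/
def psi (R : Multiset K) : K := (R.map (fun x => 1 + x)).prod

omit [DecidableEq K] in
theorem psi_add (R S : Multiset K) : psi (R + S) = psi R * psi S := by
  simp only [psi, Multiset.map_add, Multiset.prod_add]

/-- the value on an orbit, `2 * e + 1 = q` -/
theorem psi_orb (hq : Function.Injective (fun x : K => x ^ q)) (hadd : ∀ x y : K, (x + y) ^ q = x ^ q + y ^ q)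
    {e : ℕ} (he : q = 2 * e + 1) {μ : K} {d : ℕ} (hd : IsMin q μ d) :
    (μ ^ (q ^ d) = μ → psi (orb q μ d).val ^ e * μ ^ ((q ^ d - 1) / 2) = 1) ∧
      (μ ^ (q ^ d) = μ⁻¹ → psi (orb q μ d).val ^ e * μ ^ ((q ^ d + 1) / 2) = 1) := by
  have hne : ∀ i : ℕ, μ ^ (q ^ i) ≠ 0 := fun i => pow_ne_zero _ hd.ne0
  have hκ : ∀ i : ℕ, 1 + μ ^ (q ^ i) ≠ 0 := by
    intro i h1
    have h2 : μ ^ (q ^ i) = -1 := by linear_combination h1
    apply ne_inv hq hd i
    rw [h2]
    norm_num
  have h1 : psi (orb q μ d).val = ∏ i ∈ Finset.range d, ((1 + μ ^ (q ^ i)) ^ 2 / μ ^ (q ^ i)) := by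
    show ∏ x ∈ orb q μ d, (1 + x) = _
    rw [prod_orb hq _ hd]
    refine Finset.prod_congr rfl fun i _ => ?_
    have := hne i
    generalize μ ^ (q ^ i) = y at this
    field_simp
    ring
  have h2 : ∀ i : ℕ, (1 + μ ^ (q ^ i)) ^ q = 1 + μ ^ (q ^ (i + 1)) := by
    intro i
    rw [hadd, one_pow, ← pow_mul, ← pow_succ]
  have hsum : ∀ n : ℕ, ∏ i ∈ Finset.range n, (μ ^ (q ^ i)) ^ e = μ ^ ((q ^ n - 1) / 2) := by
    intro n
    induction n with
    | zero => simp
    | succ n ih =>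
      rw [Finset.prod_range_succ, ih, ← pow_mul, ← pow_add]
      congr 1
      have h5 : 1 ≤ q ^ n := Nat.one_le_pow _ _ (by omega)
      have h6 : q ^ n % 2 = 1 := by
        rw [he]
        have : Odd ((2 * e + 1) ^ n) := Odd.pow ⟨e, rfl⟩
        exact Nat.odd_iff.1 this
      have h7 : q ^ (n + 1) = 2 * (q ^ n * e) + q ^ n := by
        rw [pow_succ]
        calc q ^ n * q = q ^ n * (2 * e + 1) := by rw [← he]
          _ = _ := by ring
      omega
  have h3 : psi (orb q μ d).val ^ e * μ ^ ((q ^ d - 1) / 2) =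
      ∏ i ∈ Finset.range d, ((1 + μ ^ (q ^ (i + 1))) / (1 + μ ^ (q ^ i))) := by
    rw [h1, ← Finset.prod_pow, ← hsum, ← Finset.prod_mul_distrib]
    refine Finset.prod_congr rfl fun i _ => ?_
    have h4 : (1 + μ ^ (q ^ i)) ^ q = (1 + μ ^ (q ^ i)) ^ (2 * e) * (1 + μ ^ (q ^ i)) := by
      rw [← pow_succ, ← he]
    rw [div_pow, div_mul_cancel₀ _ (pow_ne_zero _ (hne i)), ← pow_mul, ← h2 i, h4, mul_div_assoc,
      div_self (hκ i), mul_one]
  have h6 : ∀ n : ℕ, ∏ i ∈ Finset.range n, ((1 + μ ^ (q ^ (i + 1))) / (1 + μ ^ (q ^ i))) =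
      (1 + μ ^ (q ^ n)) / (1 + μ ^ (q ^ 0)) := by
    intro n
    induction n with
    | zero => rw [Finset.prod_range_zero, div_self (hκ 0)]
    | succ n ih => rw [Finset.prod_range_succ, ih, div_mul_div_comm, mul_comm (1 + μ ^ (q ^ n)), mul_div_mul_right _ _ (hκ n)]
  rw [h6, pow_zero, pow_one] at h3
  have h0 : 1 + μ ≠ 0 := by simpa only [_root_.ne_eq, _root_.pow_zero, _root_.pow_one] using hκ 0
  have hodd : q ^ d % 2 = 1 := by
    rw [he]
    have : Odd ((2 * e + 1) ^ d) := Odd.pow ⟨e, rfl⟩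
    exact Nat.odd_iff.1 this
  constructor
  · intro h
    rw [h3, h, div_self h0]
  · intro h
    have h5 : (q ^ d + 1) / 2 = (q ^ d - 1) / 2 + 1 := by omega
    rw [h5, pow_succ, ← mul_assoc, h3, h]
    have := hd.ne0
    field_simp
    ring

end Cfsg.Agent.R2.Spec.P1.Eig
end

-- part: R2/Spec/P1/TopBlk
section
/-!
# Team T3 (S3435), box P1b: blocks (helper15)
-/

set_option autoImplicit false
set_option linter.unusedSectionVars false

namespace Cfsg.Agent.R2.Spec.P1.Eig

open Cfsg.Agent.H160.QRoots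

/-- `q ^ m - δ` -/
def AN (δ : ℤ) (m q : ℕ) : ℕ := if δ = 1 then q ^ m - 1 else q ^ m + 1

theorem AN_one {m q : ℕ} : AN 1 m q = q ^ m - 1 := if_pos rfl

theorem AN_neg {m q : ℕ} : AN (-1) m q = q ^ m + 1 := if_neg (by decide)

theorem AN_even {δ : ℤ} {m q : ℕ} (hq : q % 2 = 1) : 2 * (AN δ m q / 2) = AN δ m q := by
  have h1 : q ^ m % 2 = 1 := Nat.odd_iff.1 ((Nat.odd_iff.2 hq).pow)
  rw [AN]
  split_ifs <;> omega

variable {K : Type*} [Field K] [DecidableEq K] {q : ℕ}

/-- a block -/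
structure Blk (q d : ℕ) (δ : ℤ) (μ : K) : Prop where
  min : IsMin q μ d
  fr : (δ = 1 ∧ μ ^ (q ^ d) = μ) ∨ (δ = -1 ∧ μ ^ (q ^ d) = μ⁻¹)

theorem Blk.pm {d : ℕ} {δ : ℤ} {μ : K} (h : Blk q d δ μ) : δ = 1 ∨ δ = -1 := by
  rcases h.fr with ⟨h, -⟩ | ⟨h, -⟩
  · exact Or.inl h
  · exact Or.inr h

theorem Blk.pow {d : ℕ} {δ : ℤ} {μ : K} (h : Blk q d δ μ) (hq : 1 ≤ q) : μ ^ AN δ d q = 1 := by
  have h0 := h.min.ne0
  rcases h.fr with ⟨rfl, h1⟩ | ⟨rfl, h1⟩
  · rw [AN_one]
    have h2 : μ ^ (q ^ d - 1) * μ = μ := by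
      rw [← pow_succ, Nat.sub_add_cancel (Nat.one_le_pow _ _ hq), h1]
    exact mul_right_cancel₀ h0 (by rw [h2, one_mul])
  · rw [AN_neg, pow_succ, h1, inv_mul_cancel₀ h0]

/-- the half power is `±1` -/
theorem half_sq {μ : K} {N : ℕ} (h : μ ^ N = 1) (hN : 2 * (N / 2) = N) : μ ^ (N / 2) = 1 ∨ μ ^ (N / 2) = -1 := by
  have h1 : μ ^ (N / 2) * μ ^ (N / 2) = 1 := by rw [← pow_add, ← two_mul, hN, h]
  exact mul_self_eq_one_iff.1 h1

theorem Blk.psi (hq : Function.Injective (fun x : K => x ^ q)) (hadd : ∀ x y : K, (x + y) ^ q = x ^ q + y ^ q)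
    {e : ℕ} (he : q = 2 * e + 1) {d : ℕ} {δ : ℤ} {μ : K} (h : Blk q d δ μ) :
    Eig.psi (orb q μ d).val ^ e = μ ^ (AN δ d q / 2) := by
  have h1 := psi_orb hq hadd he h.min
  have h2 := half_sq (h.pow (by omega)) (AN_even (δ := δ) (m := d) (q := q) (by omega))
  have h3 : Eig.psi (orb q μ d).val ^ e * μ ^ (AN δ d q / 2) = 1 := by
    rcases h.fr with ⟨rfl, h4⟩ | ⟨rfl, h4⟩
    · rw [AN_one]; exact h1.1 h4
    · rw [AN_neg]; exact h1.2 h4
  rcases h2 with h2 | h2
  · rw [h2, mul_one] at h3; rw [h2, h3]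
  · rw [h2] at h3; rw [h2]; linear_combination -h3

theorem Blk.phi (hq : Function.Injective (fun x : K => x ^ q)) (hsub : ∀ x y : K, (x - y) ^ q = x ^ q - y ^ q)
    {e : ℕ} (he : q = 2 * e + 1) {d : ℕ} {δ : ℤ} {μ : K} (h : Blk q d δ μ) :
    Cfsg.Agent.H160.QRoots.phi (orb q μ d).val ^ e = (-1) ^ (d * e) * (δ : K) := by
  have h1 := phi_orb hq hsub he h.min
  rcases h.fr with ⟨rfl, h4⟩ | ⟨rfl, h4⟩
  · rw [h1.1 h4]; push_cast; ring
  · rw [h1.2 h4]; push_cast; ring

/-- powers of the elements of the orbit -/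
theorem pow_of_mem_orb {μ x : K} {d N : ℕ} {z : K} (hx : x ∈ orb q μ d) (h : μ ^ N = z) (hz : z = 1 ∨ z = -1)
    (hq : q % 2 = 1) : x ^ N = z := by
  have hz2 : z⁻¹ = z := by rcases hz with rfl | rfl <;> norm_num
  have hzq : ∀ i, z ^ (q ^ i) = z := by
    intro i
    have ho : Odd (q ^ i) := (Nat.odd_iff.2 hq).pow
    rcases hz with rfl | rfl
    · exact one_pow _
    · exact ho.neg_one_pow
  obtain ⟨i, -, rfl | rfl⟩ := mem_orb.1 hx
  · rw [← pow_mul, mul_comm, pow_mul, h, hzq]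
  · rw [inv_pow, ← pow_mul, mul_comm, pow_mul, h, hzq, hz2]

theorem orb_ne_pm (hq : Function.Injective (fun x : K => x ^ q)) {μ : K} {d : ℕ} (h : IsMin q μ d) {x : K}
    (hx : x ∈ orb q μ d) : x ≠ x⁻¹ := by
  obtain ⟨i, -, rfl | rfl⟩ := mem_orb.1 hx
  · exact ne_inv hq h i
  · rw [inv_inv]; exact (ne_inv hq h i).symm

/-- a pair is a block -/
theorem blk_pair {μ : K} (h0 : μ ≠ 0) (hne : μ ≠ μ⁻¹) (hf : μ ^ q = μ ∨ μ ^ q = μ⁻¹) :
    ∃ δ : ℤ, Blk q 1 δ μ ∧ (orb q μ 1).val = {μ, μ⁻¹} := by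
  have hmin : IsMin q μ 1 := ⟨one_pos, by rw [pow_one]; exact hf, fun i hi hi1 => by omega, h0, hne⟩
  have ho : orb q μ 1 = {μ, μ⁻¹} := by
    ext x
    rw [mem_orb, Finset.mem_insert, Finset.mem_singleton]
    constructor
    · rintro ⟨i, hi, h⟩
      have : i = 0 := by omega
      subst this
      simpa using h
    · intro h
      exact ⟨0, one_pos, by simpa using h⟩
  have hov : (orb q μ 1).val = {μ, μ⁻¹} := by
    rw [ho, Finset.insert_val_of_notMem (by rw [Finset.mem_singleton]; exact hne)]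
    rfl
  rcases hf with hf | hf
  · exact ⟨1, ⟨hmin, Or.inl ⟨rfl, by rw [pow_one]; exact hf⟩⟩, hov⟩
  · exact ⟨-1, ⟨hmin, Or.inr ⟨rfl, by rw [pow_one]; exact hf⟩⟩, hov⟩

/-- **The conclusion on the multiset, with a rest of two elements.** -/
theorem rest_two_rel (h2K : (2 : K) ≠ 0) (hq : Function.Injective (fun x : K => x ^ q))
    (hadd : ∀ x y : K, (x + y) ^ q = x ^ q + y ^ q)
    (hsub : ∀ x y : K, (x - y) ^ q = x ^ q - y ^ q) {e : ℕ} (he : q = 2 * e + 1) (h2e : (2 : K) ^ (2 * e) = 1)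
    {R R' : Multiset K} {d : ℕ} {δ ε : ℤ} {x : K} (hx : Blk q d δ x)
    (hR : R = (orb q x d).val + R') (hR' : ED q R') (hc : R'.card = 2) (hp : R'.prod = 1) {n : ℕ} (hn : n = d + 1)
    (hε : ε = 1 ∨ ε = -1)
    -- the class
    (hdc : (∀ y ∈ R, y ≠ y⁻¹) → Cfsg.Agent.H160.QRoots.phi R ^ e = (-1) ^ (n * e) * (ε : K))
    -- the spinor norm
    (hsp : (-1 : K) ∉ R → Eig.psi R ^ e = 1)
    (hsm : (1 : K) ∉ R → (R.map (fun x => 1 - x)).prod ^ e = (-1) ^ (n * e) * (ε : K)) :
    ∃ μ : K, μ ≠ 0 ∧ R' = {μ, μ⁻¹} ∧ μ ^ AN (δ * ε) 1 q = 1 ∧ x ^ (AN δ d q / 2) = μ ^ (AN (δ * ε) 1 q / 2) := by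
  obtain ⟨μ, h0, hRμ, hf⟩ := hR'.rest_two hc hp
  have hδ := hx.pm
  have hpsi := hx.psi hq hadd he
  have hphi := hx.phi hq hsub he
  have hmem : ∀ y, y ∈ R ↔ y ∈ orb q x d ∨ y = μ ∨ y = μ⁻¹ := by
    intro y
    rw [hR, Multiset.mem_add, hRμ, Multiset.insert_eq_cons, Multiset.mem_cons, Multiset.mem_singleton]
    rfl
  have h1e : ((-1 : K) ^ e) * (-1) ^ e = 1 := by rw [← mul_pow]; norm_num
  have hpm1 : (-1 : K) ^ e = 1 ∨ (-1 : K) ^ e = -1 := mul_self_eq_one_iff.1 h1e
  have hs1 : ((-1 : K) ^ (d * e)) * (-1) ^ (d * e) = 1 := by rw [← mul_pow]; norm_num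
  have hne' : (-1 : K) ^ (n * e) = (-1) ^ (d * e) * (-1) ^ e := by rw [hn, add_mul, one_mul, pow_add]
  have hδK : (δ : K) * δ = 1 := by rcases hδ with h | h <;> rw [h] <;> norm_num
  refine ⟨μ, h0, hRμ, ?_⟩
  by_cases hμ : μ = μ⁻¹
  · -- `μ = ±1`
    have h1 : μ * μ = 1 := by
      nth_rewrite 2 [hμ]
      exact mul_inv_cancel₀ h0
    rcases mul_self_eq_one_iff.1 h1 with rfl | rfl
    · refine ⟨one_pow _, ?_⟩
      rw [one_pow, ← hpsi]
      have h3 : (-1 : K) ∉ R := by
        rw [hmem]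
        rintro (h3 | h3 | h3)
        · exact orb_ne_pm hq hx.min h3 (by norm_num)
        · apply h2K; linear_combination -h3
        · apply h2K; rw [inv_one] at h3; linear_combination -h3
      have h4 := hsp h3
      rw [hR, psi_add, mul_pow, hRμ] at h4
      have h5 : Eig.psi ({1, (1 : K)⁻¹} : Multiset K) ^ e = 1 := by
        rw [Eig.psi, Multiset.insert_eq_cons, Multiset.map_cons, Multiset.map_singleton, Multiset.prod_cons,
          Multiset.prod_singleton, inv_one, one_add_one_eq_two, ← pow_two, ← pow_mul]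
        exact h2e
      rw [h5, mul_one] at h4
      exact h4
    · have hB : AN (δ * ε) 1 q = 2 * (AN (δ * ε) 1 q / 2) := (AN_even (by omega)).symm
      refine ⟨by rw [hB, pow_mul]; norm_num, ?_⟩
      have h3 : (1 : K) ∉ R := by
        rw [hmem]
        rintro (h3 | h3 | h3)
        · exact orb_ne_pm hq hx.min h3 (by norm_num)
        · apply h2K; linear_combination h3
        · apply h2K
          have h6 : (-1 : K)⁻¹ = -1 := by norm_num
          rw [h6] at h3; linear_combination h3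
      have h4 := hsm h3
      have h5 : ((orb q x d).val.map (fun x => 1 - x)).prod ^ e = (-1) ^ (n * e) * (ε : K) := by
        rw [hR, Multiset.map_add, Multiset.prod_add, mul_pow, hRμ] at h4
        have h6 : ((({-1, (-1 : K)⁻¹} : Multiset K).map (fun x => 1 - x)).prod) ^ e = 1 := by
          rw [Multiset.insert_eq_cons, Multiset.map_cons, Multiset.map_singleton, Multiset.prod_cons,
            Multiset.prod_singleton, show (-1 : K)⁻¹ = -1 by norm_num, sub_neg_eq_add, one_add_one_eq_two, ← pow_two,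
            ← pow_mul]
          exact h2e
        rw [h6, mul_one] at h4
        exact h4
      have h7 : Cfsg.Agent.H160.QRoots.phi (orb q x d).val =
          ((orb q x d).val.map (fun x => 1 - x)).prod * Eig.psi (orb q x d).val := by
        have h8 : ((orb q x d).val.map (fun x => (-1 : K) - x)).prod = Eig.psi (orb q x d).val := by
          have h9 : (orb q x d).val.map (fun x => (-1 : K) - x) =
              (orb q x d).val.map (fun x => (-1 : K) * (1 + x)) := by
            refine Multiset.map_congr rfl fun y _ => by ring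
          rw [h9, Multiset.prod_map_mul, Multiset.map_const', Multiset.prod_replicate, Finset.card_val,
            card_orb hq hx.min, pow_mul, neg_one_sq, one_pow, one_mul, Eig.psi]
        rw [Cfsg.Agent.H160.QRoots.phi, Multiset.prod_map_mul, h8]
      have h8 : (-1 : K) ^ (d * e) * (δ : K) = (-1) ^ (n * e) * (ε : K) * x ^ (AN δ d q / 2) := by
        rw [← hphi, h7, mul_pow, h5, hpsi]
      have hεK : (ε : K) * ε = 1 := by rcases hε with h | h <;> rw [h] <;> norm_num
      have h9 : x ^ (AN δ d q / 2) = (-1) ^ e * ((δ : K) * ε) := by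
        rw [hne'] at h8
        calc x ^ (AN δ d q / 2) = ((-1 : K) ^ (d * e) * (-1) ^ (d * e)) * (((-1 : K) ^ e) * (-1) ^ e) *
              ((ε : K) * ε) * x ^ (AN δ d q / 2) := by rw [hs1, h1e, hεK]; ring
          _ = (-1 : K) ^ (d * e) * (-1) ^ e * ε * ((-1) ^ (d * e) * (-1) ^ e * (ε : K) * x ^ (AN δ d q / 2)) := by ring
          _ = (-1 : K) ^ (d * e) * (-1) ^ e * ε * ((-1 : K) ^ (d * e) * (δ : K)) := by rw [← h8]
          _ = ((-1 : K) ^ (d * e) * (-1) ^ (d * e)) * ((-1) ^ e * ((δ : K) * ε)) := by ring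
          _ = _ := by rw [hs1, one_mul]
      rw [h9]
      rcases hδ with h | h <;> rcases hε with h' | h' <;> rw [h, h'] <;> norm_num only [AN_one, AN_neg, _root_.mul_one, _root_.pow_one, _root_.mul_neg] <;>
        rw [he]
      · rw [show (2 * e + 1 - 1) / 2 = e by omega]
      · rw [show (2 * e + 1 + 1) / 2 = e + 1 by omega, pow_succ]; ring
      · rw [show (2 * e + 1 + 1) / 2 = e + 1 by omega, pow_succ]; ring
      · rw [show (2 * e + 1 - 1) / 2 = e by omega]
  · -- `μ ≠ ±1`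
    obtain ⟨δ', hb, hbv⟩ := blk_pair h0 hμ hf
    have hbp := hb.psi hq hadd he
    have hbf := hb.phi hq hsub he
    rw [hbv] at hbp hbf
    have hpmR : ∀ y ∈ R, y ≠ y⁻¹ := by
      intro y hy
      rw [hmem] at hy
      rcases hy with hy | rfl | rfl
      · exact orb_ne_pm hq hx.min hy
      · exact hμ
      · rw [inv_inv]; exact fun h => hμ h.symm
    have h3 := hdc hpmR
    rw [hR, phi_add, mul_pow, hRμ, hbf, hphi, hne', one_mul] at h3
    have hδ' : δ' = δ * ε := by
      have h4 : (δ : K) * δ' = ε := by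
        calc (δ : K) * δ' = ((-1 : K) ^ (d * e) * (-1) ^ (d * e)) * (((-1 : K) ^ e) * (-1) ^ e) * ((δ : K) * δ') := by
              rw [hs1, h1e]; ring
          _ = (-1 : K) ^ (d * e) * (-1) ^ e * ((-1) ^ (d * e) * (δ : K) * ((-1) ^ e * (δ' : K))) := by ring
          _ = (-1 : K) ^ (d * e) * (-1) ^ e * ((-1) ^ (d * e) * (-1) ^ e * (ε : K)) := by rw [h3]
          _ = ((-1 : K) ^ (d * e) * (-1) ^ (d * e)) * (((-1 : K) ^ e) * (-1) ^ e) * ε := by ring
          _ = _ := by rw [hs1, h1e]; ring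
      have h1ne : (1 : K) ≠ -1 := fun h => h2K (by linear_combination h)
      rcases hδ with h | h <;> rcases hb.pm with h' | h' <;> rcases hε with h'' | h'' <;> rw [h, h', h''] at h4 ⊢ <;>
        norm_num only [] at h4 ⊢
      all_goals first
        | exact h1ne h4
        | exact h1ne h4.symm
    subst hδ'
    refine ⟨hb.pow (by omega), ?_⟩
    have h5 : (-1 : K) ∉ R := fun h => hpmR _ h (by norm_num)
    have h6 := hsp h5
    rw [hR, psi_add, mul_pow, hRμ, hbp, hpsi] at h6
    rcases half_sq (hb.pow (by omega)) (AN_even (δ := δ * ε) (m := 1) (q := q) (by omega)) with h7 | h7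
    · rw [h7, mul_one] at h6; rw [h6, h7]
    · rw [h7] at h6; rw [h7]; linear_combination -h6

end Cfsg.Agent.R2.Spec.P1.Eig
end

private theorem dce_b9071a8f9e5c : _root_.True := by
  try have : _root_.True := by simp only [_root_.Cfsg.Agent.R2.Spec.P1.Eig.psi.eq_1]
  try have : _root_.True := by simp only [_root_.Cfsg.Agent.R2.Spec.P1.Eig.AN.eq_1]
  exact _root_.True.intro
end

-- part: R2/Spec/X5/Core
section
prune_inst 0x401006044000002000000000200001a060000053000430801584001080806da6200802e0148a01812122c128138010000000000d000000000000034000003002080aa4400f398af0c8e008f803007180c00000000020000000000000000041004000000000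
set_option linter.all false
open scoped Cfsg.Agent.FastGrp

/-!
# S3435, box X5 (helper12): the elimination

`2 h P0 = q V + 1`, `c0 P0 = F (u ^ k0 - ε0)`, `T ∣ κ (V - δ)`:
* `e1` : one torus `T c1 = u ^ k - ε`, `k0 = k + e`;
* `e2` : two tori;
* `e3` : one torus, `k = k0 + 1`.
-/

set_option autoImplicit false

namespace Cfsg.Agent.R2.Spec.X5

open Cfsg.Agent.R2.Spec.P1.Eig

/-- the elimination -/
theorem elim {T κ : ℕ} {q V H F C0 P0 Q0 ρ δ lam : ℤ} (h1 : H * P0 = q * V + 1) (h2 : C0 * P0 = F * (Q0 - 1))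
    (h3 : (T : ℤ) ∣ lam * (Q0 - 1) - ρ) (h4 : (T : ℤ) ∣ κ * (V - δ)) :
    (T : ℤ) ∣ κ * (H * F * ρ - lam * C0 * (1 + δ * q)) := by
  have h5 : (κ : ℤ) * (H * F * ρ - lam * C0 * (1 + δ * q)) =
      lam * C0 * q * (κ * (V - δ)) - κ * H * F * (lam * (Q0 - 1) - ρ) := by
    linear_combination ((κ : ℤ) * lam * C0) * h1 - (κ : ℤ) * lam * H * h2
  rw [h5]
  exact dvd_sub (h4.mul_left _) (h3.mul_left _)

theorem eq_zero_of_lt {T κ : ℕ} {Z : ℤ} {B : ℕ} (h : (T : ℤ) ∣ κ * Z) (hκ : 1 ≤ κ) (hZ : |Z| ≤ (B : ℤ)) :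
    Z = 0 ∨ T ≤ κ * B := by
  by_cases h0 : Z = 0
  · exact Or.inl h0
  · right
    have h1 : (κ : ℤ) * Z ≠ 0 := mul_ne_zero (by exact_mod_cast (show κ ≠ 0 by omega)) h0
    have h2 := Int.le_of_dvd (abs_pos.2 h1) ((dvd_abs _ _).2 h)
    rw [abs_mul, Nat.abs_cast] at h2
    have h3 : (κ : ℤ) * |Z| ≤ κ * B := mul_le_mul_of_nonneg_left hZ (by positivity)
    exact_mod_cast h2.trans h3

theorem pm_mul {a b : ℤ} (ha : a = 1 ∨ a = -1) (hb : b = 1 ∨ b = -1) : a * b = 1 ∨ a * b = -1 := by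
  rcases ha with rfl | rfl <;> rcases hb with rfl | rfl <;> norm_num

theorem abs_pm {a : ℤ} (ha : a = 1 ∨ a = -1) : |a| = 1 := by
  rcases ha with rfl | rfl <;> norm_num

theorem AN_int {δ : ℤ} (hδ : δ = 1 ∨ δ = -1) {m q : ℕ} (hq : 1 ≤ q) : ((AN δ m q : ℕ) : ℤ) = (q : ℤ) ^ m - δ := by
  have : 1 ≤ q ^ m := Nat.one_le_pow _ _ hq
  rcases hδ with rfl | rfl
  · rw [AN_one, Nat.cast_sub this]; push_cast; ring
  · rw [AN_neg]; push_cast; ring

theorem AN_dvd {δ : ℤ} (hδ : δ = 1 ∨ δ = -1) {m q : ℕ} (hq : 1 ≤ q) {T : ℕ} (h : T ∣ AN δ m q) :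
    (T : ℤ) ∣ δ * (q : ℤ) ^ m - 1 := by
  have h1 : (T : ℤ) ∣ (q : ℤ) ^ m - δ := by
    rw [← AN_int hδ hq]
    exact_mod_cast h
  have h2 : δ * (q : ℤ) ^ m - 1 = δ * ((q : ℤ) ^ m - δ) := by
    rcases hδ with rfl | rfl <;> ring
  rw [h2]
  exact h1.mul_left _

variable {q V h F c0 P0 u k e b r k0 T κ c1 : ℕ} {ε0 ε ε' δ : ℤ}

/-- the data -/
structure Dat (q V h F c0 P0 u k0 : ℕ) (ε0 : ℤ) : Prop where
  pm : ε0 = 1 ∨ ε0 = -1
  upos : 1 ≤ u
  l : 2 * h * P0 = q * V + 1
  s : c0 * P0 = F * AN ε0 k0 u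

theorem Dat.elim (D : Dat q V h F c0 P0 u k0 ε0) {ρ lam : ℤ} (h3 : (T : ℤ) ∣ lam * (ε0 * (u : ℤ) ^ k0 - 1) - ρ)
    (h4 : (T : ℤ) ∣ κ * ((V : ℤ) - δ)) :
    (T : ℤ) ∣ κ * (2 * h * F * ρ - lam * (ε0 * c0) * (1 + δ * q)) := by
  have h1 : (2 * h : ℤ) * P0 = q * V + 1 := by exact_mod_cast D.l
  have h2 : (ε0 * c0 : ℤ) * P0 = F * (ε0 * (u : ℤ) ^ k0 - 1) := by
    have h5 : (c0 : ℤ) * P0 = F * ((u : ℤ) ^ k0 - ε0) := by
      rw [← AN_int D.pm D.upos]
      exact_mod_cast D.s
    have h6 : ε0 * ε0 = 1 := by rcases D.pm with h | h <;> rw [h] <;> norm_num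
    linear_combination ε0 * h5 + (F : ℤ) * (-1) * h6
  exact X5.elim h1 h2 h3 h4

/-- **One torus.** -/
theorem Dat.e1 (D : Dat q V h F c0 P0 u (k + e) ε0) (hε : ε = 1 ∨ ε = -1) (hδ : δ = 1 ∨ δ = -1)
    (h3 : T ∣ AN ε k u) (h4 : (T : ℤ) ∣ κ * ((V : ℤ) - δ)) (hκ : 1 ≤ κ) :
    (2 * h * F * (ε0 * ε * (u : ℤ) ^ e - 1) = ε0 * c0 * (1 + δ * q)) ∨
      T ≤ κ * (2 * h * F * (u ^ e + 1) + c0 * (q + 1)) := by
  have h5 := AN_dvd hε D.upos h3
  have h6 : ε * ε = 1 := by rcases hε with h | h <;> rw [h] <;> norm_num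
  have h7 := D.elim (ρ := ε0 * ε * (u : ℤ) ^ e - 1) (lam := 1) (T := T) (κ := κ) (δ := δ) (by
    have h8 : (1 : ℤ) * (ε0 * (u : ℤ) ^ (k + e) - 1) - (ε0 * ε * (u : ℤ) ^ e - 1) =
        (ε0 * ε * (u : ℤ) ^ e) * (ε * (u : ℤ) ^ k - 1) := by
      rw [pow_add]
      linear_combination (-(ε0 * (u : ℤ) ^ e * (u : ℤ) ^ k)) * h6
    rw [h8]
    exact h5.mul_left _) h4
  rw [one_mul] at h7
  have key := eq_zero_of_lt h7 hκ (B := 2 * h * F * (u ^ e + 1) + c0 * (q + 1))
  suffices hB : _ by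
    rcases key hB with h8 | h8
    · left; linear_combination h8
    · right; exact h8
  · have e1 : |(ε0 * ε * (u : ℤ) ^ e - 1)| ≤ (u : ℤ) ^ e + 1 := by
      refine (abs_sub _ _).trans ?_
      rw [abs_mul, abs_pm (pm_mul D.pm hε), abs_of_nonneg (by positivity : (0 : ℤ) ≤ (u : ℤ) ^ e)]
      norm_num
    have e2 : |(1 + δ * (q : ℤ))| ≤ q + 1 := by
      rcases hδ with h | h <;> rw [h] <;> refine abs_le.2 ⟨?_, ?_⟩ <;> push_cast <;> linarith only []
    refine (abs_sub _ _).trans ?_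
    rw [abs_mul, abs_mul (ε0 * (c0 : ℤ)), abs_mul ε0, abs_pm D.pm, one_mul]
    push_cast
    have e3 : |((2 : ℤ) * h * F)| = 2 * h * F := abs_of_nonneg (by (clear * -; positivity))
    have e4 : |((c0 : ℤ))| = c0 := abs_of_nonneg (by positivity)
    rw [e3, e4]
    gcongr

/-- **Two tori.** -/
theorem Dat.e2 (D : Dat q V h F c0 P0 u (k + b + r) ε0) (hε : ε = 1 ∨ ε = -1) (hε' : ε' = 1 ∨ ε' = -1)
    (hδ : δ = 1 ∨ δ = -1)
    (h3 : T ∣ Nat.lcm (AN ε k u) (AN ε' b u)) (h4 : (T : ℤ) ∣ κ * ((V : ℤ) - δ)) (hκ : 1 ≤ κ) :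
    (2 * h * F * (ε0 * ε * ε' * (u : ℤ) ^ r * (ε * (u : ℤ) ^ k + ε' * (u : ℤ) ^ b - 1) - 1) =
      ε0 * c0 * (1 + δ * q)) ∨
      T ≤ κ * (2 * h * F * (u ^ r * (u ^ k + u ^ b + 1) + 1) + c0 * (q + 1)) := by
  have h5 : (T : ℤ) ∣ (ε * (u : ℤ) ^ k - 1) * (ε' * (u : ℤ) ^ b - 1) := by
    have h6 : (T : ℤ) ∣ (AN ε k u * AN ε' b u : ℕ) := by
      exact_mod_cast h3.trans (Nat.lcm_dvd_mul _ _)
    push_cast at h6
    rw [AN_int hε D.upos, AN_int hε' D.upos] at h6
    have h7 : (ε * (u : ℤ) ^ k - 1) * (ε' * (u : ℤ) ^ b - 1) =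
        (ε * ε') * (((u : ℤ) ^ k - ε) * ((u : ℤ) ^ b - ε')) := by
      rcases hε with h | h <;> rcases hε' with h' | h' <;> rw [h, h'] <;> ring
    rw [h7]
    exact h6.mul_left _
  have h6 : ε * ε = 1 := by rcases hε with h | h <;> rw [h] <;> norm_num
  have h6' : ε' * ε' = 1 := by rcases hε' with h | h <;> rw [h] <;> norm_num
  have h7 := D.elim (ρ := ε0 * ε * ε' * (u : ℤ) ^ r * (ε * (u : ℤ) ^ k + ε' * (u : ℤ) ^ b - 1) - 1) (lam := 1)
    (T := T) (κ := κ) (δ := δ) (by
    have h8 : (1 : ℤ) * (ε0 * (u : ℤ) ^ (k + b + r) - 1) -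
        (ε0 * ε * ε' * (u : ℤ) ^ r * (ε * (u : ℤ) ^ k + ε' * (u : ℤ) ^ b - 1) - 1) =
        (ε0 * ε * ε' * (u : ℤ) ^ r) * ((ε * (u : ℤ) ^ k - 1) * (ε' * (u : ℤ) ^ b - 1)) := by
      rw [pow_add, pow_add]
      rcases hε with h | h <;> rcases hε' with h' | h' <;> rw [h, h'] <;> ring
    rw [h8]
    exact h5.mul_left _) h4
  rw [one_mul] at h7
  have key := eq_zero_of_lt h7 hκ (B := 2 * h * F * (u ^ r * (u ^ k + u ^ b + 1) + 1) + c0 * (q + 1))
  suffices hB : _ by
    rcases key hB with h8 | h8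
    · left; linear_combination h8
    · right; exact h8
  · have e0 : |(ε * (u : ℤ) ^ k + ε' * (u : ℤ) ^ b - 1)| ≤ (u : ℤ) ^ k + (u : ℤ) ^ b + 1 := by
      have : (0 : ℤ) ≤ (u : ℤ) ^ k := by (clear * -; positivity)
      have : (0 : ℤ) ≤ (u : ℤ) ^ b := by positivity
      rcases hε with h | h <;> rcases hε' with h' | h' <;> rw [h, h'] <;> refine abs_le.2 ⟨?_, ?_⟩ <;> linarith
    have e1 : |(ε0 * ε * ε' * (u : ℤ) ^ r * (ε * (u : ℤ) ^ k + ε' * (u : ℤ) ^ b - 1) - 1)| ≤
        (u : ℤ) ^ r * ((u : ℤ) ^ k + (u : ℤ) ^ b + 1) + 1 := by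
      refine (abs_sub _ _).trans ?_
      rw [abs_mul, abs_mul, abs_pm (pm_mul (pm_mul D.pm hε) hε'), one_mul,
        abs_of_nonneg (by (clear * -; positivity) : (0 : ℤ) ≤ (u : ℤ) ^ r), abs_one]
      gcongr
    have e2 : |(1 + δ * (q : ℤ))| ≤ q + 1 := by
      rcases hδ with h | h <;> rw [h] <;> refine abs_le.2 ⟨?_, ?_⟩ <;> push_cast <;> linarith only []
    refine (abs_sub _ _).trans ?_
    rw [abs_mul, abs_mul (ε0 * (c0 : ℤ)), abs_mul ε0, abs_pm D.pm, one_mul]
    push_cast
    have e3 : |((2 : ℤ) * h * F)| = 2 * h * F := abs_of_nonneg (by (clear * -; positivity))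
    have e4 : |((c0 : ℤ))| = c0 := abs_of_nonneg (by positivity)
    rw [e3, e4]
    gcongr

/-- **One torus, larger than the first one.** -/
theorem Dat.e3 (D : Dat q V h F c0 P0 u k0 ε0) (hε : ε = 1 ∨ ε = -1) (hδ : δ = 1 ∨ δ = -1)
    (h3 : T ∣ AN ε (k0 + 1) u) (h4 : (T : ℤ) ∣ κ * ((V : ℤ) - δ)) (hκ : 1 ≤ κ) :
    (2 * h * F * (1 - ε0 * ε * u) = ε0 * ε * u * (ε0 * c0) * (1 + δ * q)) ∨
      T ≤ κ * (2 * h * F * (u + 1) + u * c0 * (q + 1)) := by
  have h5 := AN_dvd hε D.upos h3
  have h6 : ε0 * ε0 = 1 := by rcases D.pm with h | h <;> rw [h] <;> norm_num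
  have h7 := D.elim (ρ := 1 - ε0 * ε * u) (lam := ε0 * ε * u) (T := T) (κ := κ) (δ := δ) (by
    have h8 : (ε0 * ε * u : ℤ) * (ε0 * (u : ℤ) ^ k0 - 1) - (1 - ε0 * ε * u) = ε * (u : ℤ) ^ (k0 + 1) - 1 := by
      rw [pow_succ]
      linear_combination ((ε * (u : ℤ) ^ k0 * u)) * h6
    rw [h8]
    exact h5) h4
  have key := eq_zero_of_lt h7 hκ (B := 2 * h * F * (u + 1) + u * c0 * (q + 1))
  suffices hB : _ by
    rcases key hB with h8 | h8
    · left; linear_combination h8
    · right; exact h8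
  · have e1 : |(1 - ε0 * ε * (u : ℤ))| ≤ (u : ℤ) + 1 := by
      rcases pm_mul D.pm hε with h | h <;> rw [h] <;> refine abs_le.2 ⟨?_, ?_⟩ <;> linarith only [Int.natCast_nonneg u]
    have e2 : |(1 + δ * (q : ℤ))| ≤ q + 1 := by
      rcases hδ with h | h <;> rw [h] <;> refine abs_le.2 ⟨?_, ?_⟩ <;> push_cast <;> linarith only [Int.natCast_nonneg q]
    refine (abs_sub _ _).trans ?_
    rw [abs_mul, abs_mul (ε0 * ε * (u : ℤ) * (ε0 * c0)), abs_mul (ε0 * ε * (u : ℤ)), abs_mul ε0 (c0 : ℤ),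
      abs_mul (ε0 * ε), abs_pm (pm_mul D.pm hε), abs_pm D.pm, one_mul, one_mul]
    push_cast
    have e3 : |((2 : ℤ) * h * F)| = 2 * h * F := abs_of_nonneg (by (clear * -; positivity))
    have e4 : |((c0 : ℤ))| = c0 := abs_of_nonneg (by positivity)
    have e5 : |((u : ℤ))| = u := abs_of_nonneg (by positivity)
    rw [e3, e4, e5]
    gcongr

end Cfsg.Agent.R2.Spec.X5
end

-- part: R2/Spec/X5/SizeE3
section
prune_inst 0x4010050400000020000000002200002040000053200408801594003080a46d2620080280048801812126cb28118010008110000d002000000000034000003002080aa4600f7fd0f0c8e008f803007580c00000000020000000000000000041004000000000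
set_option linter.all false
open scoped Cfsg.Agent.FastGrp

-- part: R2/Spec/X5/SizeOne
section
/-!
# S3435, box X5 (helper12): sizes, one torus and the primitive part
-/

set_option autoImplicit false

namespace Cfsg.Agent.R2.Spec.X5

/-- the bound of `G = H Y` by the primitive part -/
theorem size_g {G X c0 P w ρ a g Q : ℕ} (hw : 1 ≤ w) (h1 : G * X ≤ c0 * (P + 1) + G) (h4 : w * ρ ≤ a * (X + 1))
    (hnum : a * (P + 1) + 2 * a * (g * Q) ≤ g * Q * ρ) (hρ : 2 * a < ρ) : w * G ≤ g * Q * c0 := by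
  by_contra hcon
  rw [not_le] at hcon
  have e1 : w * G * ρ ≤ a * c0 * (P + 1) + 2 * a * (w * G) := by
    calc w * G * ρ = G * (w * ρ) := by ring
      _ ≤ G * (a * (X + 1)) := Nat.mul_le_mul_left _ h4
      _ = a * (G * X) + a * G := by ring
      _ ≤ a * (c0 * (P + 1) + G) + a * G := by gcongr
      _ = a * c0 * (P + 1) + 2 * a * G := by ring
      _ ≤ a * c0 * (P + 1) + 2 * a * (w * G) := by
        gcongr
        exact Nat.le_mul_of_pos_left _ hw
  obtain ⟨ρ', hρ'⟩ := Nat.exists_eq_add_of_lt hρ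
  rw [hρ'] at e1 hnum
  have e2 : w * G * (ρ' + 1) ≤ a * c0 * (P + 1) := by linarith only [e1]
  have e3 : a * (P + 1) ≤ g * Q * (ρ' + 1) := by linarith only [hnum]
  have e4 : a * c0 * (P + 1) ≤ g * Q * c0 * (ρ' + 1) := by
    calc a * c0 * (P + 1) = c0 * (a * (P + 1)) := by ring
      _ ≤ c0 * (g * Q * (ρ' + 1)) := Nat.mul_le_mul_left _ e3
      _ = g * Q * c0 * (ρ' + 1) := by ring
  have e5 : g * Q * c0 * (ρ' + 1) < w * G * (ρ' + 1) := Nat.mul_lt_mul_of_pos_right hcon (by omega)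
  omega

/-- families `B`, `C`, `D` -/
theorem size_one_B {G X c0 c1 P q ρ a g Q : ℕ} (h1 : G * X ≤ c0 * (P + 1) + G) (h2 : c0 * (P + 1) ≤ G * (X + 1))
    (h3 : X ≤ 1 + c1 * ((q + 1) * (2 * G + c0 * (q + 1)))) (h4 : ρ ≤ a * (X + 1))
    (hnum : a * (P + 1) + 2 * a * (g * Q) ≤ g * Q * ρ) (hρ : 2 * a < ρ) (hc0 : 1 ≤ c0) (hc0' : c0 ≤ 4) (hc1 : c1 ≤ 2) :
    P + 1 ≤ g * Q * (2 + 2 * ((q + 1) * (8 * (g * Q) + 4 * (q + 1)))) := by
  have hG := size_g (w := 1) le_rfl h1 (by rwa [one_mul]) hnum hρ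
  rw [one_mul] at hG
  have e1 : c0 * (P + 1) ≤ c0 * (g * Q * (2 + 2 * ((q + 1) * (8 * (g * Q) + 4 * (q + 1))))) := by
    calc c0 * (P + 1) ≤ G * (X + 1) := h2
      _ ≤ (g * Q * c0) * (1 + 2 * ((q + 1) * (2 * (g * Q * 4) + 4 * (q + 1))) + 1) := by
        gcongr
        refine h3.trans ?_
        have : G ≤ g * Q * 4 := hG.trans (Nat.mul_le_mul_left _ hc0')
        gcongr
      _ = c0 * (g * Q * (2 + 2 * ((q + 1) * (8 * (g * Q) + 4 * (q + 1))))) := by ring
  exact Nat.le_of_mul_le_mul_left e1 hc0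

/-- family `A` -/
theorem size_one_A {G X c0 w d P q ρ a g Q : ℕ} (h1 : G * X ≤ c0 * (P + 1) + G) (h2 : c0 * (P + 1) ≤ G * (X + 1))
    (h3 : X ≤ 1 + (q + 1) * (2 * G + c0 * (q + 1))) (h4 : w * ρ ≤ a * (X + 1))
    (hnum : a * (P + 1) + 2 * a * (g * Q) ≤ g * Q * ρ) (hρ : 2 * a < ρ) (hd : 1 ≤ d) (hdw : d ≤ w)
    (hc : c0 = w * d ∨ c0 = d) :
    P + 1 ≤ g * Q * (2 + (q + 1) * (2 * (g * Q) + w * (q + 1))) := by
  have hw : 1 ≤ w := hd.trans hdw
  have hG := size_g hw h1 h4 hnum hρ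
  obtain ⟨c, hc1, hcw⟩ : ∃ c, c0 = c * d ∧ 1 ≤ c ∧ c ≤ w := by
    rcases hc with h | h
    · exact ⟨w, h, hw, le_rfl⟩
    · exact ⟨1, by rw [h, one_mul], le_rfl, hw⟩
  obtain ⟨hcw1, hcw2⟩ := hcw
  have hGd : G ≤ g * Q * d := by
    refine Nat.le_of_mul_le_mul_left (hG.trans ?_) hw
    rw [hc1]
    calc g * Q * (c * d) ≤ g * Q * (w * d) := by gcongr
      _ = w * (g * Q * d) := by ring
  have e1 : (w * c0) * (P + 1) ≤ (w * c0) * (g * Q * (2 + (q + 1) * (2 * (g * Q) + w * (q + 1)))) := by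
    calc (w * c0) * (P + 1) = w * (c0 * (P + 1)) := by ring
      _ ≤ w * (G * (X + 1)) := Nat.mul_le_mul_left _ h2
      _ = w * G * (X + 1) := by ring
      _ ≤ (g * Q * c0) * (1 + (q + 1) * (2 * (g * Q * d) + w * d * (q + 1)) + 1) := by
        gcongr
        refine h3.trans ?_
        have : c0 ≤ w * d := by
          rw [hc1]
          exact Nat.mul_le_mul_right _ hcw2
        gcongr
      _ ≤ (g * Q * c0) * (w * 1 + (q + 1) * (2 * (g * Q * w) + w * w * (q + 1)) + w * 1) := by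
        gcongr <;> omega
      _ = (w * c0) * (g * Q * (2 + (q + 1) * (2 * (g * Q) + w * (q + 1)))) := by ring
  refine Nat.le_of_mul_le_mul_left e1 (Nat.mul_pos hw ?_)
  rw [hc1]
  exact Nat.mul_pos hcw1 hd

/-- the numbers -/
theorem num6 {q : ℕ} (hq : 1149 ≤ q) :
    15 * (q ^ 6 + 1) + 2 * 15 * (8 * q ^ 2) ≤ 8 * q ^ 2 * (2 * q ^ 4) ∧ 2 * 15 < 2 * q ^ 4 ∧
    8 * q ^ 2 * (2 + 2 * ((q + 1) * (8 * (8 * q ^ 2) + 4 * (q + 1)))) < q ^ 6 + 1 := by
  obtain ⟨k, rfl⟩ := Nat.exists_eq_add_of_le hq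
  refine ⟨?_, ?_, ?_⟩
  · ring_nf
    linarith [Nat.zero_le k, Nat.zero_le (k ^ 2), Nat.zero_le (k ^ 3), Nat.zero_le (k ^ 4), Nat.zero_le (k ^ 5), Nat.zero_le (k ^ 6)]
  · calc 2 * 15 < 2 * 1149 ^ 4 := by norm_num
      _ ≤ _ := by gcongr
  · ring_nf
    linarith [Nat.zero_le k, Nat.zero_le (k ^ 2), Nat.zero_le (k ^ 3), Nat.zero_le (k ^ 4), Nat.zero_le (k ^ 5), Nat.zero_le (k ^ 6)]

theorem num8 {q : ℕ} (hq : 197 ≤ q) :
    21 * (q ^ 8 + 1) + 2 * 21 * (11 * q ^ 2) ≤ 11 * q ^ 2 * (2 * q ^ 6) ∧ 2 * 21 < 2 * q ^ 6 ∧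
    11 * q ^ 2 * (2 + 2 * ((q + 1) * (8 * (11 * q ^ 2) + 4 * (q + 1)))) < q ^ 8 + 1 := by
  obtain ⟨k, rfl⟩ := Nat.exists_eq_add_of_le hq
  refine ⟨?_, ?_, ?_⟩
  · ring_nf
    linarith [Nat.zero_le k, Nat.zero_le (k ^ 2), Nat.zero_le (k ^ 3), Nat.zero_le (k ^ 4), Nat.zero_le (k ^ 5), Nat.zero_le (k ^ 6), Nat.zero_le (k ^ 7), Nat.zero_le (k ^ 8)]
  · calc 2 * 21 < 2 * 197 ^ 6 := by norm_num
      _ ≤ _ := by gcongr
  · ring_nf
    linarith [Nat.zero_le k, Nat.zero_le (k ^ 2), Nat.zero_le (k ^ 3), Nat.zero_le (k ^ 4), Nat.zero_le (k ^ 5), Nat.zero_le (k ^ 6), Nat.zero_le (k ^ 7), Nat.zero_le (k ^ 8)]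

/-- the numbers, family `A` (`w + 1 ≤ 3 q`) -/
theorem num6A {q w : ℕ} (hq : 1149 ≤ q) (hw : w ≤ 3 * q) :
    8 * q ^ 2 * (2 + (q + 1) * (2 * (8 * q ^ 2) + w * (q + 1))) < q ^ 6 + 1 := by
  refine lt_of_le_of_lt (b := 8 * q ^ 2 * (2 + (q + 1) * (2 * (8 * q ^ 2) + 3 * q * (q + 1)))) (by gcongr) ?_
  obtain ⟨k, rfl⟩ := Nat.exists_eq_add_of_le hq
  ring_nf
  linarith [Nat.zero_le k, Nat.zero_le (k ^ 2), Nat.zero_le (k ^ 3), Nat.zero_le (k ^ 4), Nat.zero_le (k ^ 5), Nat.zero_le (k ^ 6)]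

theorem num8A {q w : ℕ} (hq : 197 ≤ q) (hw : w ≤ 3 * q) :
    11 * q ^ 2 * (2 + (q + 1) * (2 * (11 * q ^ 2) + w * (q + 1))) < q ^ 8 + 1 := by
  refine lt_of_le_of_lt (b := 11 * q ^ 2 * (2 + (q + 1) * (2 * (11 * q ^ 2) + 3 * q * (q + 1)))) (by gcongr) ?_
  obtain ⟨k, rfl⟩ := Nat.exists_eq_add_of_le hq
  ring_nf
  linarith [Nat.zero_le k, Nat.zero_le (k ^ 2), Nat.zero_le (k ^ 3), Nat.zero_le (k ^ 4), Nat.zero_le (k ^ 5), Nat.zero_le (k ^ 6), Nat.zero_le (k ^ 7), Nat.zero_le (k ^ 8)]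

theorem num10A {q w : ℕ} (hq : 69 ≤ q) (hw : w ≤ 3 * q) :
    4 * (q ^ 10 + 1) + 2 * 4 * (5 * q ^ 4) ≤ 5 * q ^ 4 * (q ^ 6) ∧ 2 * 4 < q ^ 6 ∧
    5 * q ^ 4 * (2 + (q + 1) * (2 * (5 * q ^ 4) + w * (q + 1))) < q ^ 10 + 1 := by
  refine ⟨?_, ?_, lt_of_le_of_lt (b := 5 * q ^ 4 * (2 + (q + 1) * (2 * (5 * q ^ 4) + 3 * q * (q + 1)))) (by gcongr) ?_⟩
  · obtain ⟨k, rfl⟩ := Nat.exists_eq_add_of_le hq
    ring_nf
    linarith [Nat.zero_le k, Nat.zero_le (k ^ 2), Nat.zero_le (k ^ 3), Nat.zero_le (k ^ 4), Nat.zero_le (k ^ 5), Nat.zero_le (k ^ 6), Nat.zero_le (k ^ 7), Nat.zero_le (k ^ 8), Nat.zero_le (k ^ 9), Nat.zero_le (k ^ 10)]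
  · calc 2 * 4 < 69 ^ 6 := by norm_num
      _ ≤ _ := by gcongr
  · obtain ⟨k, rfl⟩ := Nat.exists_eq_add_of_le hq
    ring_nf
    linarith [Nat.zero_le k, Nat.zero_le (k ^ 2), Nat.zero_le (k ^ 3), Nat.zero_le (k ^ 4), Nat.zero_le (k ^ 5), Nat.zero_le (k ^ 6), Nat.zero_le (k ^ 7), Nat.zero_le (k ^ 8), Nat.zero_le (k ^ 9), Nat.zero_le (k ^ 10)]

/-- families `B`, `C`, `D`, the primitive part alone -/
theorem size_R {G X c0 P q ρ a g Q R : ℕ} (h1 : G * X ≤ c0 * (P + 1) + G) (h4 : R ≤ X + 1) (h5 : ρ ≤ a * R)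
    (h6 : R ≤ 2 * G + c0 * (q + 1))
    (hnum : a * (P + 1) + 2 * a * (g * Q) ≤ g * Q * ρ) (hρ : 2 * a < ρ) (hc0' : c0 ≤ 4) :
    ρ ≤ a * (8 * (g * Q) + 4 * (q + 1)) := by
  have hG := size_g (w := 1) le_rfl h1 (by rw [one_mul]; exact h5.trans (Nat.mul_le_mul_left _ h4)) hnum hρ
  rw [one_mul] at hG
  refine h5.trans (Nat.mul_le_mul_left _ (h6.trans ?_))
  have : G ≤ g * Q * 4 := hG.trans (Nat.mul_le_mul_left _ hc0')
  calc 2 * G + c0 * (q + 1) ≤ 2 * (g * Q * 4) + 4 * (q + 1) := by gcongr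
    _ = _ := by ring

theorem num10R {q : ℕ} (hq : 69 ≤ q) :
    4 * (q ^ 10 + 1) + 2 * 4 * (1 * (4 * q ^ 4 + 1)) ≤ 1 * (4 * q ^ 4 + 1) * (q ^ 6) ∧ 2 * 4 < q ^ 6 ∧
    4 * (8 * (1 * (4 * q ^ 4 + 1)) + 4 * (q + 1)) < q ^ 6 := by
  obtain ⟨k, rfl⟩ := Nat.exists_eq_add_of_le hq
  refine ⟨?_, ?_, ?_⟩
  · ring_nf
    linarith [Nat.zero_le k, Nat.zero_le (k ^ 2), Nat.zero_le (k ^ 3), Nat.zero_le (k ^ 4), Nat.zero_le (k ^ 5), Nat.zero_le (k ^ 6), Nat.zero_le (k ^ 7), Nat.zero_le (k ^ 8), Nat.zero_le (k ^ 9), Nat.zero_le (k ^ 10)]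
  · calc 2 * 4 < 69 ^ 6 := by norm_num
      _ ≤ _ := by gcongr
  · ring_nf
    linarith [Nat.zero_le k, Nat.zero_le (k ^ 2), Nat.zero_le (k ^ 3), Nat.zero_le (k ^ 4), Nat.zero_le (k ^ 5), Nat.zero_le (k ^ 6)]

end Cfsg.Agent.R2.Spec.X5
end

-- part: R2/Spec/X5/SizeE3
section
/-!
# S3435, box X5 (helper12): sizes, the class above
-/

set_option autoImplicit false

namespace Cfsg.Agent.R2.Spec.X5

open Cfsg.Agent.R2.Spec.P1.Eig

theorem AN_le {ε : ℤ} (hε : ε = 1 ∨ ε = -1) (k u : ℕ) : AN ε k u ≤ u ^ k + 1 := by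
  rcases hε with rfl | rfl
  · rw [AN_one]; omega
  · rw [AN_neg]

theorem AN_ge {ε : ℤ} (hε : ε = 1 ∨ ε = -1) (k : ℕ) {u : ℕ} (hu : 1 ≤ u) : u ^ k ≤ AN ε k u + 1 := by
  have := Nat.one_le_pow k u hu
  rcases hε with rfl | rfl
  · rw [AN_one]; omega
  · rw [AN_neg]; omega

theorem sq_le_two_mul {h u : ℕ} (hu : 2 ^ h ≤ u) (ho : Odd h) : h ^ 2 ≤ 2 * u := by
  refine le_trans ?_ (Nat.mul_le_mul_left 2 hu)
  obtain ⟨k, rfl⟩ := ho
  clear hu
  induction k with
  | zero => norm_num
  | succ n ih =>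
    have e : 2 * 2 ^ (2 * (n + 1) + 1) = 4 * (2 * 2 ^ (2 * n + 1)) := by ring
    rw [e]
    rcases Nat.eq_zero_or_pos n with rfl | hn
    · norm_num
    · have h5 : (2 * (n + 1) + 1) ^ 2 ≤ 4 * (2 * n + 1) ^ 2 := by
        obtain ⟨k, rfl⟩ := Nat.exists_eq_add_of_le hn
        ring_nf
        linarith only [_root_.sq_nonneg (↑k : ℤ), _root_.Nat.cast_nonneg (α := ℤ) (k)]
      exact h5.trans (Nat.mul_le_mul_left 4 ih)

/-- **Finishing.** -/
theorem fin_pow {P u q h : ℕ} (hP : 2 ^ 60 ≤ P) (hu : u ^ 5 ≤ 3 * P) (hq : q ^ 6 ≤ P) (hh : h ^ 2 ≤ 2 * u)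
    (h1 : P ≤ 528 * (u ^ 3 * q) + 256 * (h * u * q ^ 2)) : False := by
  have hP0 : 0 < P := lt_of_lt_of_le (by norm_num) hP
  rcases le_total (528 * (u ^ 3 * q)) (256 * (h * u * q ^ 2)) with h2 | h2
  · have h3 : P ≤ 512 * (h * u * q ^ 2) := by linarith only [h1, h2]
    have h4 : P ^ 2 ≤ 2 ^ 19 * (u ^ 3 * q ^ 4) := by
      calc P ^ 2 ≤ (512 * (h * u * q ^ 2)) ^ 2 := Nat.pow_le_pow_left h3 2
        _ = 2 ^ 18 * (h ^ 2 * (u ^ 2 * q ^ 4)) := by ring
        _ ≤ 2 ^ 18 * ((2 * u) * (u ^ 2 * q ^ 4)) := by gcongr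
        _ = _ := by ring
    have h5 : P ^ 19 * P ^ 11 ≤ P ^ 19 * ((2 ^ 19) ^ 15 * 3 ^ 9) := by
      calc P ^ 19 * P ^ 11 = (P ^ 2) ^ 15 := by ring
        _ ≤ (2 ^ 19 * (u ^ 3 * q ^ 4)) ^ 15 := Nat.pow_le_pow_left h4 15
        _ = (2 ^ 19) ^ 15 * ((u ^ 5) ^ 9 * (q ^ 6) ^ 10) := by ring
        _ ≤ (2 ^ 19) ^ 15 * ((3 * P) ^ 9 * P ^ 10) := by gcongr
        _ = P ^ 19 * ((2 ^ 19) ^ 15 * 3 ^ 9) := by ring
    have h6 := Nat.le_of_mul_le_mul_left h5 (by positivity)
    have h7 := (Nat.pow_le_pow_left hP 11).trans h6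
    exact absurd h7 (by norm_num)
  · have h3 : P ≤ 1056 * (u ^ 3 * q) := by linarith only [h1, h2]
    have h5 : P ^ 23 * P ^ 7 ≤ P ^ 23 * (1056 ^ 30 * 3 ^ 18) := by
      calc P ^ 23 * P ^ 7 = P ^ 30 := by ring
        _ ≤ (1056 * (u ^ 3 * q)) ^ 30 := Nat.pow_le_pow_left h3 30
        _ = 1056 ^ 30 * ((u ^ 5) ^ 18 * (q ^ 6) ^ 5) := by ring
        _ ≤ 1056 ^ 30 * ((3 * P) ^ 18 * P ^ 5) := by gcongr
        _ = P ^ 23 * (1056 ^ 30 * 3 ^ 18) := by ring
    have h6 := Nat.le_of_mul_le_mul_left h5 (by positivity)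
    have h7 := (Nat.pow_le_pow_left hP 7).trans h6
    exact absurd h7 (by norm_num)

/-- **Finishing, family `A`.** -/
theorem fin_powA {P u q h : ℕ} (hP : 2 ^ 60 ≤ P) (hu : u ^ 7 ≤ 3 * P) (hq : q ^ 6 ≤ P) (hh : h ^ 2 ≤ 2 * u)
    (h1 : P ≤ 80 * (u ^ 2 * q) + 64 * (h * u ^ 2 * q ^ 2)) : False := by
  have hP0 : 0 < P := lt_of_lt_of_le (by norm_num) hP
  rcases le_total (80 * (u ^ 2 * q)) (64 * (h * u ^ 2 * q ^ 2)) with h2 | h2
  · have h3 : P ≤ 128 * (h * u ^ 2 * q ^ 2) := by linarith only [h1, h2]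
    have h4 : P ^ 2 ≤ 2 ^ 15 * (u ^ 5 * q ^ 4) := by
      calc P ^ 2 ≤ (128 * (h * u ^ 2 * q ^ 2)) ^ 2 := Nat.pow_le_pow_left h3 2
        _ = 2 ^ 14 * (h ^ 2 * (u ^ 4 * q ^ 4)) := by ring
        _ ≤ 2 ^ 14 * ((2 * u) * (u ^ 4 * q ^ 4)) := by gcongr
        _ = _ := by ring
    have h5 : P ^ 29 * P ^ 13 ≤ P ^ 29 * ((2 ^ 15) ^ 21 * 3 ^ 15) := by
      calc P ^ 29 * P ^ 13 = (P ^ 2) ^ 21 := by ring
        _ ≤ (2 ^ 15 * (u ^ 5 * q ^ 4)) ^ 21 := Nat.pow_le_pow_left h4 21
        _ = (2 ^ 15) ^ 21 * ((u ^ 7) ^ 15 * (q ^ 6) ^ 14) := by ring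
        _ ≤ (2 ^ 15) ^ 21 * ((3 * P) ^ 15 * P ^ 14) := by gcongr
        _ = P ^ 29 * ((2 ^ 15) ^ 21 * 3 ^ 15) := by ring
    have h6 := Nat.le_of_mul_le_mul_left h5 (by positivity)
    have h7 := (Nat.pow_le_pow_left hP 13).trans h6
    exact absurd h7 (by norm_num)
  · have h3 : P ≤ 160 * (u ^ 2 * q) := by linarith only [h1, h2]
    have h5 : P ^ 19 * P ^ 23 ≤ P ^ 19 * (160 ^ 42 * 3 ^ 12) := by
      calc P ^ 19 * P ^ 23 = P ^ 42 := by ring
        _ ≤ (160 * (u ^ 2 * q)) ^ 42 := Nat.pow_le_pow_left h3 42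
        _ = 160 ^ 42 * ((u ^ 7) ^ 12 * (q ^ 6) ^ 7) := by ring
        _ ≤ 160 ^ 42 * ((3 * P) ^ 12 * P ^ 7) := by gcongr
        _ = P ^ 19 * (160 ^ 42 * 3 ^ 12) := by ring
    have h6 := Nat.le_of_mul_le_mul_left h5 (by positivity)
    have h7 := (Nat.pow_le_pow_left hP 23).trans h6
    exact absurd h7 (by norm_num)

section

variable {q V h F c0 P0 u k0 T κ c1 P w d : ℕ} {ε0 ε δ : ℤ}

theorem Dat.cP (D : Dat q V h F c0 P0 u k0 ε0) (hV : q * V = P) : c0 * (P + 1) = 2 * h * F * AN ε0 k0 u := by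
  have h1 := D.l
  have h2 := D.s
  rw [hV] at h1
  calc c0 * (P + 1) = 2 * h * (c0 * P0) := by rw [← h1]; ring
    _ = 2 * h * F * AN ε0 k0 u := by rw [h2]; ring

/-- **The class above, families `D`: sizes.** -/
theorem Dat.e3_size (D : Dat q V h F c0 P0 u k0 ε0) (hV : q * V = P) (hP : 2 ^ 60 ≤ P) (hqP : q ^ 6 ≤ P) (hk0 : 5 ≤ k0)
    (hh : h ^ 2 ≤ 2 * u) (hh1 : 1 ≤ h) (hF : 1 ≤ F) (hFu : F ≤ u + 1) (hc0 : 1 ≤ c0) (hc0' : c0 ≤ 4) (hq1 : 1 ≤ q)
    (hκ : κ ≤ q + 1) (hε : ε = 1 ∨ ε = -1) (hc1 : c1 ≤ 4) (hT : T * c1 = AN ε (k0 + 1) u)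
    (h3 : T ≤ κ * (2 * h * F * (u + 1) + u * c0 * (q + 1))) : False := by
  have hu := D.upos
  have hcP := D.cP hV
  have a1 := AN_le D.pm k0 u
  have a2 := AN_ge D.pm k0 hu
  have a3 := AN_ge hε (k0 + 1) hu
  have hu5 : u ^ 5 ≤ 3 * P := by
    have e1 : u ^ 5 ≤ u ^ k0 := Nat.pow_le_pow_right hu hk0
    have e2 : 2 * AN ε0 k0 u ≤ 4 * (P + 1) := by
      calc 2 * AN ε0 k0 u ≤ 2 * h * F * AN ε0 k0 u := by
            gcongr
            nlinarith only [hh1, hF]
        _ = c0 * (P + 1) := hcP.symm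
        _ ≤ 4 * (P + 1) := by gcongr
    omega
  have e1 : P + 1 ≤ 2 * h * (u + 1) * (u ^ k0 + 1) := by
    calc P + 1 ≤ c0 * (P + 1) := Nat.le_mul_of_pos_left _ hc0
      _ = 2 * h * F * AN ε0 k0 u := hcP
      _ ≤ 2 * h * (u + 1) * (u ^ k0 + 1) := by gcongr
  have e2 : u ^ (k0 + 1) ≤ 1 + 4 * ((q + 1) * (2 * h * (u + 1) * (u + 1) + u * 4 * (q + 1))) := by
    calc u ^ (k0 + 1) ≤ AN ε (k0 + 1) u + 1 := a3
      _ = 1 + c1 * T := by rw [← hT]; ring
      _ ≤ 1 + 4 * ((q + 1) * (2 * h * (u + 1) * (u + 1) + u * 4 * (q + 1))) := by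
        gcongr
        refine h3.trans ?_
        gcongr
  have e3 : u * (P + 1) ≤ u * (8 * h * u + 256 * (h ^ 2 * u ^ 2 * q) + 256 * (h * u * q ^ 2)) := by
    calc u * (P + 1) ≤ u * (2 * h * (u + 1) * (u ^ k0 + 1)) := Nat.mul_le_mul_left _ e1
      _ = 2 * h * (u + 1) * (u ^ (k0 + 1) + u) := by ring
      _ ≤ 2 * h * (u + u) * ((1 + 4 * ((q + 1) * (2 * h * (u + 1) * (u + 1) + u * 4 * (q + 1)))) + u) := by gcongr
      _ ≤ 2 * h * (u + u) * ((u + 4 * ((q + q) * (2 * h * (u + u) * (u + u) + u * 4 * (q + q)))) + u) := by gcongr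
      _ = u * (8 * h * u + 256 * (h ^ 2 * u ^ 2 * q) + 256 * (h * u * q ^ 2)) := by ring
  have e4 := Nat.le_of_mul_le_mul_left e3 hu
  refine fin_pow hP hu5 hqP hh ?_
  have e5 : h * u ≤ h ^ 2 * u ^ 2 * q := by
    calc h * u = h * u * 1 := by ring
      _ ≤ h * u * (h * u * q) := by
        gcongr
        exact Nat.mul_pos (Nat.mul_pos hh1 hu) hq1
      _ = _ := by ring
  have e6 : h ^ 2 * u ^ 2 * q ≤ 2 * (u ^ 3 * q) := by
    calc h ^ 2 * u ^ 2 * q ≤ (2 * u) * u ^ 2 * q := by gcongr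
      _ = _ := by ring
  linarith only [e4, e5, e6]

/-- **The class above, family `A`: sizes.** -/
theorem Dat.e3_sizeA (D : Dat q V h 1 d P0 u k0 ε0) (hV : q * V = P) (hP : 2 ^ 60 ≤ P) (hqP : q ^ 6 ≤ P) (hk0 : 8 ≤ k0)
    (hh : h ^ 2 ≤ 2 * u) (hh1 : 1 ≤ h) (hd : 1 ≤ d) (hdw : d ≤ w) (hw : w ≤ u + 1) (hq1 : 1 ≤ q)
    (hκ : κ ≤ q + 1) (hε : ε = 1 ∨ ε = -1) (hT : T * (w * d) = AN ε (k0 + 1) u)
    (h3 : T ≤ κ * (2 * h * 1 * (u + 1) + u * d * (q + 1))) : False := by
  have hu := D.upos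
  have hcP := D.cP hV
  have a1 := AN_le D.pm k0 u
  have a2 := AN_ge D.pm k0 hu
  have a3 := AN_ge hε (k0 + 1) hu
  have hu7 : u ^ 7 ≤ 3 * P := by
    have e1 : u ^ 8 ≤ u ^ k0 := Nat.pow_le_pow_right hu hk0
    have e2 : 2 * AN ε0 k0 u ≤ (2 * u) * (P + 1) := by
      calc 2 * AN ε0 k0 u ≤ 2 * h * 1 * AN ε0 k0 u := by
            gcongr
            omega
        _ = d * (P + 1) := hcP.symm
        _ ≤ (2 * u) * (P + 1) := by gcongr; omega
    have e3 : AN ε0 k0 u ≤ u * (P + 1) := by linarith only [e2]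
    have e4 : u * u ^ 7 ≤ u * (P + 2) := by
      have : u * u ^ 7 = u ^ 8 := by ring
      rw [this]
      have : u * (P + 2) = u * (P + 1) + u := by ring
      omega
    have e5 := Nat.le_of_mul_le_mul_left e4 hu
    omega
  have e2 : u ^ (k0 + 1) ≤ 1 + (w * d) * ((q + 1) * (2 * h * 1 * (u + 1) + u * d * (q + 1))) := by
    calc u ^ (k0 + 1) ≤ AN ε (k0 + 1) u + 1 := a3
      _ = 1 + (w * d) * T := by rw [← hT]; ring
      _ ≤ 1 + (w * d) * ((q + 1) * (2 * h * 1 * (u + 1) + u * d * (q + 1))) := by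
        gcongr
        refine h3.trans ?_
        gcongr
  have e3 : (u * d) * (P + 1) ≤ (u * d) * (4 * h + 32 * (h ^ 2 * u * q) + 64 * (h * u ^ 2 * q ^ 2)) := by
    calc (u * d) * (P + 1) = u * (d * (P + 1)) := by ring
      _ = u * (2 * h * 1 * AN ε0 k0 u) := by rw [hcP]
      _ ≤ u * (2 * h * 1 * (u ^ k0 + 1)) := by gcongr
      _ = 2 * h * (u ^ (k0 + 1) + u) := by ring
      _ ≤ 2 * h * ((1 + (w * d) * ((q + 1) * (2 * h * 1 * (u + 1) + u * d * (q + 1)))) + u) := by gcongr
      _ ≤ 2 * h * ((u * d + ((u + u) * d) * ((q + q) * (2 * h * 1 * (u + u) + u * (u + u) * (q + q)))) + u * d) := by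
        gcongr
        · exact Nat.mul_pos hu hd
        · omega
        · omega
        · exact Nat.le_mul_of_pos_right _ hd
      _ = (u * d) * (4 * h + 32 * (h ^ 2 * u * q) + 32 * (h * u ^ 2 * q ^ 2)) := by ring
      _ ≤ _ := by gcongr; norm_num
  have e4 := Nat.le_of_mul_le_mul_left e3 (Nat.mul_pos hu hd)
  refine fin_powA hP hu7 hqP hh ?_
  have e5 : h ≤ h ^ 2 * u * q := by
    calc h = h * 1 := by ring
      _ ≤ h * (h * u * q) := by
        gcongr
        exact Nat.mul_pos (Nat.mul_pos hh1 hu) hq1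
      _ = _ := by ring
  have e6 : h ^ 2 * u * q ≤ 2 * (u ^ 2 * q) := by
    calc h ^ 2 * u * q ≤ (2 * u) * u * q := by gcongr
      _ = _ := by ring
  omega

/-- **The class below the top, family `A`: sizes.** -/
theorem Dat.e1_sizeA (D : Dat q V h 1 c0 P0 u (k0 + 1) ε0) (hV : q * V = P) (hP : 2 ^ 60 ≤ P) (hqP : q ^ 6 ≤ P)
    (hk0 : 8 ≤ k0) (hu2 : 2 ≤ u) (hc0 : c0 = w * d)
    (hh : h ^ 2 ≤ 2 * u) (hh1 : 1 ≤ h) (hd : 1 ≤ d) (hdw : d ≤ w) (hw : w ≤ u + 1) (hwu : u ≤ w + 1) (hq1 : 1 ≤ q)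
    (hκ : κ ≤ q + 1) (hε : ε = 1 ∨ ε = -1) (hc1 : c1 ≤ d) (hT : T * c1 = AN ε k0 u)
    (h3 : T ≤ κ * (2 * h * 1 * (u ^ 1 + 1) + c0 * (q + 1))) : False := by
  have hu := D.upos
  have hcP := D.cP hV
  rw [pow_one] at h3
  subst hc0
  have a1 := AN_le D.pm (k0 + 1) u
  have a2 := AN_ge D.pm (k0 + 1) hu
  have a3 := AN_ge hε k0 hu
  have hw1 : 1 ≤ w := by omega
  have hu7 : u ^ 7 ≤ 3 * P := by
    have e1 : u ^ 9 ≤ u ^ (k0 + 1) := Nat.pow_le_pow_right hu (by omega)
    have e2 : 2 * AN ε0 (k0 + 1) u ≤ (4 * u ^ 2) * (P + 1) := by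
      calc 2 * AN ε0 (k0 + 1) u ≤ 2 * h * 1 * AN ε0 (k0 + 1) u := by
            gcongr
            omega
        _ = (w * d) * (P + 1) := hcP.symm
        _ ≤ ((u + u) * (u + u)) * (P + 1) := by gcongr <;> omega
        _ = _ := by ring
    have e3 : AN ε0 (k0 + 1) u ≤ u ^ 2 * (2 * (P + 1)) := by linarith only [e2]
    have e4 : u ^ 2 * u ^ 7 ≤ u ^ 2 * (2 * (P + 1) + 1) := by
      have : u ^ 2 * u ^ 7 = u ^ 9 := by ring
      rw [this]
      have : u ^ 2 * (2 * (P + 1) + 1) = u ^ 2 * (2 * (P + 1)) + u ^ 2 := by ring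
      have h4 : 1 ≤ u ^ 2 := Nat.one_le_pow _ _ hu
      omega
    have e5 := Nat.le_of_mul_le_mul_left e4 (by positivity)
    omega
  have e2 : u ^ k0 ≤ 1 + d * ((q + 1) * (2 * h * 1 * (u + 1) + (w * d) * (q + 1))) := by
    calc u ^ k0 ≤ AN ε k0 u + 1 := a3
      _ = 1 + c1 * T := by rw [← hT]; ring
      _ ≤ 1 + d * ((q + 1) * (2 * h * 1 * (u + 1) + (w * d) * (q + 1))) := by
        gcongr
        refine h3.trans ?_
        gcongr
  have e3 : (w * d) * (P + 1) ≤ (w * d) * (6 * h + 32 * (h ^ 2 * u * q) + 64 * (h * u ^ 2 * q ^ 2)) := by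
    calc (w * d) * (P + 1) = (2 * h * 1 * AN ε0 (k0 + 1) u) := by rw [hcP]
      _ ≤ (2 * h * 1 * (u ^ (k0 + 1) + 1)) := by gcongr
      _ = 2 * h * (u * u ^ k0 + 1) := by ring
      _ ≤ 2 * h * (u * (1 + d * ((q + 1) * (2 * h * 1 * (u + 1) + (w * d) * (q + 1)))) + 1) := by gcongr
      _ = 2 * h * (u + 1 + u * d * ((q + 1) * (2 * h * 1 * (u + 1) + (w * d) * (q + 1)))) := by ring
      _ ≤ 2 * h * (3 * (w * d) + (2 * w) * d * ((q + q) * (2 * h * 1 * (u + u) + ((u + u) * (u + u)) * (q + q)))) := by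
        have g1 : u + 1 ≤ 3 * (w * d) := by
          have : w ≤ w * d := Nat.le_mul_of_pos_right _ hd
          omega
        gcongr <;> (clear * - hw hwu hw1 hu2 hdw; omega)
      _ = (w * d) * (6 * h + 32 * (h ^ 2 * u * q) + 64 * (h * u ^ 2 * q ^ 2)) := by ring
  have e4 := Nat.le_of_mul_le_mul_left e3 (Nat.mul_pos hw1 hd)
  refine fin_powA hP hu7 hqP hh ?_
  have e5 : h ≤ h ^ 2 * u * q := by
    calc h = h * 1 := by ring
      _ ≤ h * (h * u * q) := by
        gcongr
        exact Nat.mul_pos (Nat.mul_pos hh1 hu) hq1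
      _ = _ := by ring
  have e6 : h ^ 2 * u * q ≤ 2 * (u ^ 2 * q) := by
    calc h ^ 2 * u * q ≤ (2 * u) * u * q := by gcongr
      _ = _ := by ring
  linarith only [e4, e5, e6]

end

end Cfsg.Agent.R2.Spec.X5
end
end

-- part: R2/Spec/X5/SizeB
section
prune_inst 0x4010050400000020000000002000002040000053000408801580003080206d2620080280048801812122c920118010000000000d000000000000034000003002080aa060071d1030c8e008f801007580c00000000020000000000000000041004000000000
set_option linter.all false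
open scoped Cfsg.Agent.FastGrp

/-!
# S3435, box X5 (helper12): sizes, two tori, families `B`, `C`, `D`
-/

set_option autoImplicit false

namespace Cfsg.Agent.R2.Spec.X5

open Cfsg.Agent.R2.Spec.P1.Eig

/-- in `ZMod N` -/
theorem dvd_two_of {N : ℕ} (h : (-1 : ZMod N) = 1) : N ∣ 2 := by
  rw [← ZMod.natCast_eq_zero_iff]
  push_cast
  have h2 : (2 : ZMod N) = 1 - (-1) := by ring
  rw [h2, h, sub_self]

theorem AN_zmod {ε : ℤ} (hε : ε = 1 ∨ ε = -1) {k u N : ℕ} (hu : 1 ≤ u) (h : N ∣ AN ε k u) :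
    ((u : ℕ) : ZMod N) ^ k = (ε : ℤ) := by
  have h1 := (ZMod.natCast_eq_zero_iff _ _).2 h
  have h2 : ((AN ε k u : ℕ) : ℤ) = (u : ℤ) ^ k - ε := AN_int hε hu
  have h3 : (((AN ε k u : ℕ) : ℤ) : ZMod N) = 0 := by rw [Int.cast_natCast]; exact h1
  rw [h2] at h3
  push_cast at h3
  linear_combination h3

/-- **The sign of the second torus.** -/
theorem gcd_two {ε : ℤ} (hε : ε = 1 ∨ ε = -1) {k b u : ℕ} (hk : 1 ≤ k) (hb : 1 ≤ b) (hu : 1 ≤ u) (ho : ε = 1 → Odd k) :
    ∃ ε' : ℤ, (ε' = 1 ∨ ε' = -1) ∧ Nat.gcd (AN ε k u) (AN ε' b u) ∣ 2 := by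
  rcases hε with rfl | rfl
  · refine ⟨-1, Or.inr rfl, ?_⟩
    have h1 := AN_zmod (Or.inl rfl) hu (Nat.gcd_dvd_left (AN 1 k u) (AN (-1) b u))
    have h2 := AN_zmod (Or.inr rfl) hu (Nat.gcd_dvd_right (AN 1 k u) (AN (-1) b u))
    apply dvd_two_of
    have h3 := congrArg (· ^ b) h1
    have h4 := congrArg (· ^ k) h2
    simp only [← pow_mul] at h3 h4
    push_cast at h3 h4
    rw [one_pow] at h3
    rw [(ho rfl).neg_one_pow, mul_comm b k, h3] at h4
    exact h4.symm
  · obtain ⟨i, k', hk', hk2⟩ := Nat.exists_eq_two_pow_mul_odd (n := k) (by omega)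
    obtain ⟨j, b', hb', hb2⟩ := Nat.exists_eq_two_pow_mul_odd (n := b) (by omega)
    rcases lt_trichotomy i j with hij | hij | hij
    · refine ⟨-1, Or.inr rfl, ?_⟩
      have h1 := AN_zmod (Or.inr rfl) hu (Nat.gcd_dvd_left (AN (-1) k u) (AN (-1) b u))
      have h2 := AN_zmod (Or.inr rfl) hu (Nat.gcd_dvd_right (AN (-1) k u) (AN (-1) b u))
      apply dvd_two_of
      have h3 := congrArg (· ^ (2 ^ (j - i) * b')) h1
      have h4 := congrArg (· ^ k') h2
      simp only [← pow_mul] at h3 h4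
      push_cast at h3 h4
      have he : Even (2 ^ (j - i) * b') := (even_two.pow_of_ne_zero (by omega)).mul_right _
      have hij' : 2 ^ j = 2 ^ i * 2 ^ (j - i) := by rw [← pow_add]; congr 1; omega
      have hkb : k * (2 ^ (j - i) * b') = b * k' := by
        rw [hk2, hb2, hij']; ring
      rw [he.neg_one_pow, hkb] at h3
      rw [hk'.neg_one_pow, h3] at h4
      exact h4.symm
    · refine ⟨1, Or.inl rfl, ?_⟩
      have h1 := AN_zmod (Or.inr rfl) hu (Nat.gcd_dvd_left (AN (-1) k u) (AN 1 b u))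
      have h2 := AN_zmod (Or.inl rfl) hu (Nat.gcd_dvd_right (AN (-1) k u) (AN 1 b u))
      apply dvd_two_of
      have h3 := congrArg (· ^ b') h1
      have h4 := congrArg (· ^ k') h2
      simp only [← pow_mul] at h3 h4
      push_cast at h3 h4
      have hkb : k * b' = b * k' := by
        rw [hk2, hb2, hij]; ring
      rw [hb'.neg_one_pow, hkb] at h3
      rw [one_pow, h3] at h4
      exact h4
    · refine ⟨-1, Or.inr rfl, ?_⟩
      have h1 := AN_zmod (Or.inr rfl) hu (Nat.gcd_dvd_left (AN (-1) k u) (AN (-1) b u))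
      have h2 := AN_zmod (Or.inr rfl) hu (Nat.gcd_dvd_right (AN (-1) k u) (AN (-1) b u))
      apply dvd_two_of
      have h3 := congrArg (· ^ (2 ^ (i - j) * k')) h2
      have h4 := congrArg (· ^ b') h1
      simp only [← pow_mul] at h3 h4
      push_cast at h3 h4
      have he : Even (2 ^ (i - j) * k') := (even_two.pow_of_ne_zero (by omega)).mul_right _
      have hij' : 2 ^ i = 2 ^ j * 2 ^ (i - j) := by rw [← pow_add]; congr 1; omega
      have hkb : b * (2 ^ (i - j) * k') = k * b' := by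
        rw [hk2, hb2, hij']; ring
      rw [he.neg_one_pow, hkb] at h3
      rw [hb'.neg_one_pow, h3] at h4
      exact h4.symm

section

variable {q V h F c0 P0 u k0 T κ c1 P k b r n : ℕ} {ε0 ε ε' δ : ℤ}

/-- `8 c0 (q + 1) ≤ H u ^ k` -/
theorem Dat.mid (D : Dat q V h F c0 P0 u k0 ε0) (hV : q * V = P) (hq : 3 ≤ q) (hP : q ^ 12 ≤ P) (hk : k0 + 1 ≤ 2 * k)
    (hu : 2 ≤ u) (hc0 : c0 ≤ 4) : 8 * c0 * (q + 1) ≤ 2 * h * F * u ^ k := by
  have hcP := D.cP hV
  have a1 := AN_le D.pm k0 u
  have h1 : c0 * (P + 1) ≤ (2 * h * F * u ^ k) ^ 2 := by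
    rcases Nat.eq_zero_or_pos (2 * h * F) with h0 | h0
    · rw [h0] at hcP ⊢
      rw [hcP]
      simp
    · calc c0 * (P + 1) = 2 * h * F * AN ε0 k0 u := hcP
        _ ≤ 2 * h * F * (u ^ (2 * k)) := by
          gcongr
          refine a1.trans ?_
          have h3 : u ^ (k0 + 1) ≤ u ^ (2 * k) := Nat.pow_le_pow_right (by omega) hk
          rw [pow_succ] at h3
          have h4 := Nat.one_le_pow k0 u (by omega)
          nlinarith only [hu, h3, h4]
        _ ≤ (2 * h * F) * (2 * h * F) * (u ^ (2 * k)) := Nat.mul_le_mul_right _ (Nat.le_mul_of_pos_left _ h0)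
        _ = _ := by ring
  have h2 : (8 * c0 * (q + 1)) ^ 2 ≤ c0 * (P + 1) := by
    have h3 : 64 * c0 * (q + 1) ^ 2 ≤ P + 1 := by
      calc 64 * c0 * (q + 1) ^ 2 ≤ 64 * 4 * (q + 1) ^ 2 := by gcongr
        _ ≤ 64 * 4 * (2 * q) ^ 2 := by gcongr; omega
        _ = 1024 * q ^ 2 := by ring
        _ ≤ 3 ^ 10 * q ^ 2 := by gcongr; norm_num
        _ ≤ q ^ 10 * q ^ 2 := by gcongr
        _ = q ^ 12 := by ring
        _ ≤ P + 1 := by omega
    calc (8 * c0 * (q + 1)) ^ 2 = c0 * (64 * c0 * (q + 1) ^ 2) := by ring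
      _ ≤ _ := Nat.mul_le_mul_left _ h3
  exact (Nat.pow_le_pow_iff_left two_ne_zero).1 (h2.trans h1)

/-- the equality of `e2` is impossible -/
theorem e2_ne {H c0 q u k b r : ℕ} {C0 τ a a' δ : ℤ} (hτ : τ = 1 ∨ τ = -1) (ha : a = 1 ∨ a = -1) (ha' : a' = 1 ∨ a' = -1)
    (hδ : δ = 1 ∨ δ = -1) (hC : |C0| = c0) (hu : 2 ≤ u) (hb : b + 1 ≤ k) (hk : 6 ≤ k) (hH : 1 ≤ H) (hq : 1 ≤ q)
    (hc0 : 1 ≤ c0)
    (hm : 8 * c0 * (q + 1) ≤ H * u ^ k) (h : (H : ℤ) * (τ * (u : ℤ) ^ r * (a * (u : ℤ) ^ k + a' * (u : ℤ) ^ b - 1) - 1) =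
      C0 * (1 + δ * q)) : False := by
  have h1 : |C0 * (1 + δ * (q : ℤ))| ≤ c0 * (q + 1) := by
    rw [abs_mul, hC]
    gcongr
    rcases hδ with h | h <;> rw [h] <;> refine abs_le.2 ⟨?_, ?_⟩ <;> linarith only [hq]
  have hub : (2 : ℤ) * (u : ℤ) ^ b ≤ (u : ℤ) ^ k := by
    have h3 : 2 * u ^ b ≤ u ^ k := by
      calc 2 * u ^ b ≤ u * u ^ b := by gcongr
        _ = u ^ (b + 1) := by ring
        _ ≤ u ^ k := Nat.pow_le_pow_right (by omega) hb
    exact_mod_cast h3
  have huk : (64 : ℤ) ≤ (u : ℤ) ^ k := by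
    have h3 : 2 ^ 6 ≤ u ^ k := (Nat.pow_le_pow_left hu 6).trans (Nat.pow_le_pow_right (by omega) hk)
    exact_mod_cast h3
  have hur : (1 : ℤ) ≤ (u : ℤ) ^ r := by exact_mod_cast Nat.one_le_pow r u (by omega)
  have hub0 : (0 : ℤ) ≤ (u : ℤ) ^ b := by positivity
  have h2 : (u : ℤ) ^ k ≤ 4 * |(τ * (u : ℤ) ^ r * (a * (u : ℤ) ^ k + a' * (u : ℤ) ^ b - 1) - 1)| := by
    have h3 : (u : ℤ) ^ k ≤ 2 * |(a * (u : ℤ) ^ k + a' * (u : ℤ) ^ b - 1)| + 2 := by
      rcases ha with h | h <;> rcases ha' with h' | h' <;> rw [h, h']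
      · rw [abs_of_nonneg (by linarith only [huk, hub0])]; linarith only [huk, hub0]
      · rw [abs_of_nonneg (by linarith only [hub, huk])]; linarith only [hub]
      · rw [abs_of_nonpos (by linarith only [hub, huk])]; linarith only [hub]
      · rw [abs_of_nonpos (by linarith only [huk, hub0])]; linarith only [huk, hub0]
    have h4 : |(a * (u : ℤ) ^ k + a' * (u : ℤ) ^ b - 1)| ≤
        |(τ * (u : ℤ) ^ r * (a * (u : ℤ) ^ k + a' * (u : ℤ) ^ b - 1))| := by
      rw [abs_mul, abs_mul, abs_pm hτ, one_mul, abs_of_nonneg (by positivity : (0 : ℤ) ≤ (u : ℤ) ^ r)]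
      exact le_mul_of_one_le_left (abs_nonneg _) hur
    have h5 := abs_sub_abs_le_abs_sub (τ * (u : ℤ) ^ r * (a * (u : ℤ) ^ k + a' * (u : ℤ) ^ b - 1)) 1
    rw [abs_one] at h5
    linarith only [huk, h3, h4, h5]
  have h3 : (H : ℤ) * |(τ * (u : ℤ) ^ r * (a * (u : ℤ) ^ k + a' * (u : ℤ) ^ b - 1) - 1)| ≤ c0 * (q + 1) := by
    rw [← abs_of_nonneg (by positivity : (0 : ℤ) ≤ (H : ℤ)), ← abs_mul, h]
    exact h1
  have h4 : (8 : ℤ) * c0 * (q + 1) ≤ H * (u : ℤ) ^ k := by exact_mod_cast hm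
  have h5 : (H : ℤ) * (u : ℤ) ^ k ≤ H * (4 * |(τ * (u : ℤ) ^ r * (a * (u : ℤ) ^ k + a' * (u : ℤ) ^ b - 1) - 1)|) := by
    gcongr
  have h6 : (1 : ℤ) ≤ (c0 : ℤ) * (q + 1) := by
    have : 1 ≤ c0 * (q + 1) := Nat.mul_pos hc0 (by omega)
    exact_mod_cast this
  linarith only [hm, h3, h5, h6]

/-- **Two tori: the bound of `u ^ b`.** -/
theorem Dat.e2_size (D : Dat q V h F c0 P0 u (k + b + r) ε0) (hV : q * V = P) (hq : 3 ≤ q) (hP : q ^ 12 ≤ P)
    (hk2 : k + b + r + 1 ≤ 2 * k) (hb : 1 ≤ b) (hk : 6 ≤ k)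
    (hu : 2 ≤ u) (hc0 : c0 ≤ 4) (hc1 : 1 ≤ c0) (hh : 1 ≤ h) (hF : 1 ≤ F) (hε : ε = 1 ∨ ε = -1) (hε' : ε' = 1 ∨ ε' = -1)
    (hδ : δ = 1 ∨ δ = -1) (hκ1 : 1 ≤ κ) (hκ : κ ≤ q + 1) (h4 : (T : ℤ) ∣ κ * ((V : ℤ) - δ)) {c : ℕ} (hc : c ∣ 2)
    (hT : T * c = Nat.lcm (AN ε k u) (AN ε' b u)) (hg : Nat.gcd (AN ε k u) (AN ε' b u) ∣ 2) :
    u ^ b ≤ 64 * (q + 1) * (2 * h * F * u ^ r) := by
  have hu1 : 1 ≤ u := by omega
  have hmid := D.mid (k := k) hV hq hP hk2 hu hc0
  have hH : 1 ≤ 2 * h * F := Nat.mul_pos (Nat.mul_pos two_pos hh) hF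
  rcases D.e2 hε hε' hδ (Dvd.intro _ hT) h4 hκ1 with h5 | h5
  · exfalso
    refine e2_ne (H := 2 * h * F) (c0 := c0) (q := q) (u := u) (k := k) (b := b) (r := r) (C0 := ε0 * c0)
      (τ := ε0 * ε * ε') (a := ε) (a' := ε') (δ := δ) (pm_mul (pm_mul D.pm hε) hε') hε hε' hδ ?_ hu (by omega) hk hH
      (by omega) hc1 hmid (by push_cast; exact h5)
    rw [abs_mul, abs_pm D.pm, one_mul, Nat.abs_cast]
  · have a1 := AN_ge hε k hu1
    have a2 := AN_ge hε' b hu1
    have b1 : u ^ k ≤ 2 * AN ε k u := by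
      have : 2 ≤ u ^ k := le_trans hu (Nat.le_self_pow (by omega) u)
      omega
    have b2 : u ^ b ≤ 2 * AN ε' b u := by
      have : 2 ≤ u ^ b := le_trans hu (Nat.le_self_pow (by omega) u)
      omega
    have b3 : AN ε k u * AN ε' b u ≤ 4 * T := by
      rw [← Nat.gcd_mul_lcm, ← hT]
      have g1 := Nat.le_of_dvd two_pos hc
      have g2 := Nat.le_of_dvd two_pos hg
      calc Nat.gcd (AN ε k u) (AN ε' b u) * (T * c) ≤ 2 * (T * 2) := by gcongr
        _ = 4 * T := by ring
    have b4 : u ^ b + 1 ≤ u ^ k := by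
      have h3 : u ^ b * 2 ≤ u ^ k := by
        calc u ^ b * 2 ≤ u ^ b * u := by gcongr
          _ = u ^ (b + 1) := by ring
          _ ≤ u ^ k := Nat.pow_le_pow_right (by omega) (by omega)
      have := Nat.one_le_pow b u hu1
      omega
    have b5 : 1 ≤ u ^ r * u ^ k := Nat.mul_pos (Nat.pow_pos hu1) (Nat.pow_pos hu1)
    have b6 : T ≤ (q + 1) * (2 * h * F * (4 * (u ^ r * u ^ k))) := by
      calc T ≤ κ * (2 * h * F * (u ^ r * (u ^ k + u ^ b + 1) + 1) + c0 * (q + 1)) := h5
        _ ≤ (q + 1) * (2 * h * F * (u ^ r * (u ^ k + u ^ k) + u ^ r * u ^ k) + 2 * h * F * (u ^ r * u ^ k)) := by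
          have g1 : c0 * (q + 1) ≤ 2 * h * F * (u ^ r * u ^ k) := by
            calc c0 * (q + 1) ≤ 8 * c0 * (q + 1) := by nlinarith only []
              _ ≤ 2 * h * F * u ^ k := hmid
              _ ≤ _ := by
                gcongr
                exact Nat.le_mul_of_pos_left _ (Nat.pow_pos hu1)
          rw [add_assoc (u ^ k) (u ^ b) 1]
          gcongr
        _ = (q + 1) * (2 * h * F * (4 * (u ^ r * u ^ k))) := by ring
    have b7 : u ^ k * u ^ b ≤ u ^ k * (64 * (q + 1) * (2 * h * F * u ^ r)) := by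
      calc u ^ k * u ^ b ≤ (2 * AN ε k u) * (2 * AN ε' b u) := Nat.mul_le_mul b1 b2
        _ = 4 * (AN ε k u * AN ε' b u) := by ring
        _ ≤ 4 * (4 * ((q + 1) * (2 * h * F * (4 * (u ^ r * u ^ k))))) := by
          refine Nat.mul_le_mul_left _ (b3.trans (Nat.mul_le_mul_left _ b6))
        _ = u ^ k * (64 * (q + 1) * (2 * h * F * u ^ r)) := by ring
    exact Nat.le_of_mul_le_mul_left b7 (Nat.pow_pos hu1)

/-- **The bound of `P`.** -/
theorem size_two_B {G X : ℕ} (h1 : c0 * (P + 1) ≤ G * (X + 1)) (h2 : X ≤ 1 + 2 * ((q + 1) * (2 * G + c0 * (q + 1))))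
    (hG : G ≤ 256 * (q + 1) * (h * (u + 1)) ^ 2) (hc0 : c0 ≤ 4) (hc1 : 1 ≤ c0) (hq : 3 ≤ q) (hh : 1 ≤ h) (hu : 2 ≤ u)
    (hn : 12 ≤ n) (hP : P = q ^ n) (hu10 : u ^ 10 ≤ 3 * P) : P ^ 7 ≤ 3 ^ 28 * (2 ^ 84) ^ 5 * h ^ 80 := by
  obtain ⟨G0, hG0⟩ : ∃ G0, G0 = 256 * (q + 1) * (h * (u + 1)) ^ 2 := ⟨_, rfl⟩
  rw [← hG0] at hG
  have hG1 : 4 * (q + 1) ≤ G0 := by
    rw [hG0]
    calc 4 * (q + 1) ≤ 256 * (q + 1) := by omega
      _ ≤ 256 * (q + 1) * (h * (u + 1)) ^ 2 := Nat.le_mul_of_pos_right _ (Nat.pow_pos (Nat.mul_pos hh (by omega)))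
  have e1 : P + 1 ≤ 8 * (q + 1) * G0 ^ 2 := by
    calc P + 1 ≤ c0 * (P + 1) := Nat.le_mul_of_pos_left _ hc1
      _ ≤ G * (X + 1) := h1
      _ ≤ G0 * (1 + 2 * ((q + 1) * (2 * G0 + 4 * (q + 1))) + 1) := by
        gcongr
        refine h2.trans ?_
        gcongr
      _ ≤ G0 * ((q + 1) * G0 + 2 * ((q + 1) * (2 * G0 + G0)) + (q + 1) * G0) := by
        have : 1 ≤ (q + 1) * G0 := Nat.mul_pos (by omega) (by omega)
        gcongr
      _ = 8 * (q + 1) * G0 ^ 2 := by ring
  have e2 : 432 * P ≤ 432 * (3 * 2 ^ 21 * (q ^ 3 * (h ^ 4 * u ^ 4))) := by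
    calc 432 * P ≤ 432 * (8 * (q + 1) * G0 ^ 2) := by omega
      _ = 2 ^ 19 * (3 * (q + 1)) ^ 3 * h ^ 4 * (2 * (u + 1)) ^ 4 := by rw [hG0]; (set_option synthInstance.maxSize 99999 in exact Cfsg.Agent.Lib.RingK.eqN (by decide +kernel))
      _ ≤ 2 ^ 19 * (4 * q) ^ 3 * h ^ 4 * (3 * u) ^ 4 := by
        gcongr ?_ * ?_ ^ 3 * _ * ?_ ^ 4 <;> omega
      _ = _ := by ring
  have e3 : P ≤ 3 * 2 ^ 21 * (q ^ 3 * (h ^ 4 * u ^ 4)) := by omega
  have e4 : q ^ (n - 3) ≤ 3 * 2 ^ 21 * (h ^ 4 * u ^ 4) := by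
    have h5 : q ^ 3 * q ^ (n - 3) ≤ q ^ 3 * (3 * 2 ^ 21 * (h ^ 4 * u ^ 4)) := by
      calc q ^ 3 * q ^ (n - 3) = q ^ n := by rw [← pow_add]; congr 1; omega
        _ ≤ 3 * 2 ^ 21 * (q ^ 3 * (h ^ 4 * u ^ 4)) := by rw [← hP]; exact e3
        _ = _ := by ring
    exact Nat.le_of_mul_le_mul_left h5 (Nat.pow_pos (by omega))
  have e5 : P ^ 3 ≤ 3 ^ 4 * 2 ^ 84 * (h ^ 16 * u ^ 16) := by
    calc P ^ 3 = q ^ (3 * n) := by rw [hP, ← pow_mul, mul_comm]
      _ ≤ q ^ (4 * (n - 3)) := Nat.pow_le_pow_right (by omega) (by omega)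
      _ = (q ^ (n - 3)) ^ 4 := by rw [← pow_mul, mul_comm]
      _ ≤ (3 * 2 ^ 21 * (h ^ 4 * u ^ 4)) ^ 4 := Nat.pow_le_pow_left e4 4
      _ = _ := by ring
  have hP0 : 0 < P := by rw [hP]; exact Nat.pow_pos (by omega)
  have e6 : P ^ 8 * P ^ 7 ≤ P ^ 8 * (3 ^ 28 * (2 ^ 84) ^ 5 * h ^ 80) := by
    calc P ^ 8 * P ^ 7 = (P ^ 3) ^ 5 := by ring
      _ ≤ (3 ^ 4 * 2 ^ 84 * (h ^ 16 * u ^ 16)) ^ 5 := Nat.pow_le_pow_left e5 5
      _ = 3 ^ 20 * (2 ^ 84) ^ 5 * h ^ 80 * (u ^ 10) ^ 8 := by ring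
      _ ≤ 3 ^ 20 * (2 ^ 84) ^ 5 * h ^ 80 * (3 * P) ^ 8 := by gcongr
      _ = _ := by ring
  exact Nat.le_of_mul_le_mul_left e6 (Nat.pow_pos hP0)

theorem sq_le_pow {h : ℕ} (hh : 11 ≤ h) : h ^ 2 ≤ 121 * 2 ^ (h - 11) := by
  obtain ⟨j, rfl⟩ := Nat.exists_eq_add_of_le hh
  rw [Nat.add_sub_cancel_left]
  clear hh
  induction j with
  | zero => norm_num
  | succ n ih =>
    have h1 : (11 + (n + 1)) ^ 2 ≤ 2 * (11 + n) ^ 2 := by
      ring_nf
      linarith [Nat.zero_le n, Nat.zero_le (n ^ 2)]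
    calc (11 + (n + 1)) ^ 2 ≤ 2 * (11 + n) ^ 2 := h1
      _ ≤ 2 * (121 * 2 ^ n) := Nat.mul_le_mul_left _ ih
      _ = 121 * 2 ^ (n + 1) := by ring

/-- **The finite domain.** -/
theorem fin_two_B (h7 : P ^ 7 ≤ 3 ^ 28 * (2 ^ 84) ^ 5 * h ^ 80) (hu : 2 ^ h ≤ u) (hu10 : u ^ 10 ≤ 3 * P) (hh : Odd h) :
    (h = 1 ∧ P < 2 ^ 67) ∨ (3 ≤ h ∧ P < 2 ^ 103) := by
  rcases Nat.lt_or_ge h 3 with h3 | h3
  · have h1 : h = 1 := by
      obtain ⟨j, hj⟩ := hh
      omega
    subst h1
    refine Or.inl ⟨rfl, ?_⟩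
    by_contra hcon
    rw [not_lt] at hcon
    have h4 := (Nat.pow_le_pow_left hcon 7).trans h7
    norm_num at h4
  · refine Or.inr ⟨h3, ?_⟩
    have h9 : h < 11 := by
      by_contra hcon
      rw [not_lt] at hcon
      obtain ⟨j, rfl⟩ := Nat.exists_eq_add_of_le hcon
      have h4 := sq_le_pow hcon
      rw [Nat.add_sub_cancel_left] at h4
      have h5 : (2 ^ 10) ^ (11 + j) ≤ 3 * P := by
        calc (2 ^ 10) ^ (11 + j) = (2 ^ (11 + j)) ^ 10 := by rw [← pow_mul, ← pow_mul, mul_comm]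
          _ ≤ u ^ 10 := Nat.pow_le_pow_left hu 10
          _ ≤ 3 * P := hu10
      have h6 : (2 ^ 40) ^ j * (((2 ^ 10) ^ 11) ^ 7 * (2 ^ 30) ^ j) ≤
          (2 ^ 40) ^ j * (3 ^ 35 * (2 ^ 84) ^ 5 * 121 ^ 40) := by
        calc (2 ^ 40) ^ j * (((2 ^ 10) ^ 11) ^ 7 * (2 ^ 30) ^ j) = ((2 ^ 10) ^ (11 + j)) ^ 7 := by
              have e1 : (2 ^ 40) ^ j = (2 ^ j) ^ 40 := by rw [← pow_mul, ← pow_mul, mul_comm]
              have e2 : (2 ^ 30) ^ j = (2 ^ j) ^ 30 := by rw [← pow_mul, ← pow_mul, mul_comm]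
              have e3 : (2 ^ 10) ^ (11 + j) = (2 ^ 10) ^ 11 * (2 ^ j) ^ 10 := by
                rw [pow_add, ← pow_mul 2 10 j, ← pow_mul 2 j 10, mul_comm 10 j]
              rw [e1, e2, e3]
              ring
          _ ≤ (3 * P) ^ 7 := Nat.pow_le_pow_left h5 7
          _ = 3 ^ 7 * P ^ 7 := by ring
          _ ≤ 3 ^ 7 * (3 ^ 28 * (2 ^ 84) ^ 5 * (11 + j) ^ 80) := Nat.mul_le_mul_left _ h7
          _ = 3 ^ 35 * (2 ^ 84) ^ 5 * ((11 + j) ^ 2) ^ 40 := by (set_option synthInstance.maxSize 99999 in exact Cfsg.Agent.Lib.RingK.eqN (by decide +kernel))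
          _ ≤ 3 ^ 35 * (2 ^ 84) ^ 5 * (121 * 2 ^ j) ^ 40 := Nat.mul_le_mul_left _ (Nat.pow_le_pow_left h4 40)
          _ = (2 ^ 40) ^ j * (3 ^ 35 * (2 ^ 84) ^ 5 * 121 ^ 40) := by
            have e1 : (2 ^ 40) ^ j = (2 ^ j) ^ 40 := by rw [← pow_mul, ← pow_mul, mul_comm]
            rw [e1]
            ring
      have h8 := Nat.le_of_mul_le_mul_left h6 (Nat.pow_pos (Nat.pow_pos two_pos))
      have h10 : ((2 ^ 10) ^ 11) ^ 7 * 1 ≤ ((2 ^ 10) ^ 11) ^ 7 * (2 ^ 30) ^ j :=
        Nat.mul_le_mul_left _ (Nat.one_le_pow _ _ (by norm_num))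
      have h11 := h10.trans h8
      norm_num at h11
    by_contra hcon
    rw [not_lt] at hcon
    have h9' : h ≤ 9 := by
      obtain ⟨j, hj⟩ := hh
      omega
    have h4 : P ^ 7 ≤ 3 ^ 28 * (2 ^ 84) ^ 5 * 9 ^ 80 := h7.trans (by gcongr)
    have h5 := (Nat.pow_le_pow_left hcon 7).trans h4
    norm_num at h5

end

end Cfsg.Agent.R2.Spec.X5
end

-- part: R2/Spec/X5/SizeA
section
prune_inst 0x4010050400000020000000002000002040000053000408801590003080a46d2620080280048801810126cb28118010000000000d000000000000034000003002080aa060071d10f0c8e008f803007580c00000000020000000000000000041004000000000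
set_option linter.all false
open scoped Cfsg.Agent.FastGrp

/-!
# S3435, box X5 (helper12): sizes, two tori, family `A`
-/

set_option autoImplicit false

namespace Cfsg.Agent.R2.Spec.X5

open Cfsg.Agent.R2.Spec.P1.Eig

section

variable {q V h c0 P0 u k0 T κ c1 P k b r n w d γ : ℕ} {ε0 ε ε' δ : ℤ}

theorem small_uq (hu : u ^ 15 ≤ 3 * P) (hq : q ^ 12 ≤ P) (hP : 3 ^ 12 ≤ P) : 256 * (u ^ 2 * q ^ 2) ≤ P := by
  by_contra hcon
  rw [not_le] at hcon
  have hP0 : 0 < P := lt_of_lt_of_le (by norm_num) hP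
  have h5 : P ^ 9 * P ^ 21 ≤ P ^ 9 * (256 ^ 30 * 3 ^ 4) := by
    calc P ^ 9 * P ^ 21 = P ^ 30 := by ring
      _ ≤ (256 * (u ^ 2 * q ^ 2)) ^ 30 := Nat.pow_le_pow_left hcon.le 30
      _ = 256 ^ 30 * ((u ^ 15) ^ 4 * (q ^ 12) ^ 5) := by ring
      _ ≤ 256 ^ 30 * ((3 * P) ^ 4 * P ^ 5) := by gcongr
      _ = _ := by ring
  have h6 := Nat.le_of_mul_le_mul_left h5 (by positivity)
  have h7 := (Nat.pow_le_pow_left hP 21).trans h6
  exact absurd h7 (by norm_num)

theorem small_uq' (hu : u ^ 15 ≤ 3 * P) (hq : q ^ 12 ≤ P) (hP : 3 ^ 12 ≤ P) : 16 * (u ^ 2 * q ^ 3) ≤ P := by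
  by_contra hcon
  rw [not_le] at hcon
  have hP0 : 0 < P := lt_of_lt_of_le (by norm_num) hP
  have h5 : P ^ 23 * P ^ 37 ≤ P ^ 23 * (16 ^ 60 * 3 ^ 8) := by
    calc P ^ 23 * P ^ 37 = P ^ 60 := by ring
      _ ≤ (16 * (u ^ 2 * q ^ 3)) ^ 60 := Nat.pow_le_pow_left hcon.le 60
      _ = 16 ^ 60 * ((u ^ 15) ^ 8 * (q ^ 12) ^ 15) := by ring
      _ ≤ 16 ^ 60 * ((3 * P) ^ 8 * P ^ 15) := by gcongr
      _ = _ := by ring
  have h6 := Nat.le_of_mul_le_mul_left h5 (by positivity)
  have h7 := (Nat.pow_le_pow_left hP 37).trans h6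
  exact absurd h7 (by norm_num)

/-- `8 c0 (q + 1) ≤ H u ^ k` -/
theorem Dat.midA (D : Dat q V h 1 c0 P0 u k0 ε0) (hV : q * V = P) (hq : 3 ≤ q) (hP : q ^ 12 ≤ P) (hk : k0 + 1 ≤ 2 * k)
    (hu : 2 ≤ u) (hc0 : c0 ≤ (u + 1) ^ 2) (hu15 : u ^ 15 ≤ 3 * P) : 8 * c0 * (q + 1) ≤ 2 * h * 1 * u ^ k := by
  have hP3 : 3 ^ 12 ≤ P := (Nat.pow_le_pow_left hq 12).trans hP
  have hcP := D.cP hV
  have a1 := AN_le D.pm k0 u
  have h1 : c0 * (P + 1) ≤ (2 * h * 1 * u ^ k) ^ 2 := by
    rcases Nat.eq_zero_or_pos (2 * h * 1) with h0 | h0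
    · rw [h0] at hcP ⊢
      rw [hcP]
      simp
    · calc c0 * (P + 1) = 2 * h * 1 * AN ε0 k0 u := hcP
        _ ≤ 2 * h * 1 * (u ^ (2 * k)) := by
          gcongr
          refine a1.trans ?_
          have h3 : u ^ (k0 + 1) ≤ u ^ (2 * k) := Nat.pow_le_pow_right (by omega) hk
          rw [pow_succ] at h3
          have h4 := Nat.one_le_pow k0 u (by omega)
          nlinarith only [hu, h3, h4]
        _ ≤ (2 * h * 1) * (2 * h * 1) * (u ^ (2 * k)) := Nat.mul_le_mul_right _ (Nat.le_mul_of_pos_left _ h0)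
        _ = _ := by ring
  have h2 : (8 * c0 * (q + 1)) ^ 2 ≤ c0 * (P + 1) := by
    have h3 : 64 * c0 * (q + 1) ^ 2 ≤ P + 1 := by
      have h5 : 36 * (64 * c0 * (q + 1) ^ 2) ≤ 36 * (256 * (u ^ 2 * q ^ 2)) := by
        calc 36 * (64 * c0 * (q + 1) ^ 2) ≤ 36 * (64 * (u + 1) ^ 2 * (q + 1) ^ 2) := by gcongr
          _ = 64 * (2 * (u + 1)) ^ 2 * (3 * (q + 1)) ^ 2 := by ring
          _ ≤ 64 * (3 * u) ^ 2 * (4 * q) ^ 2 := by gcongr ?_ * ?_ ^ 2 * ?_ ^ 2 <;> omega
          _ = _ := by ring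
      have h6 := small_uq hu15 hP hP3
      omega
    calc (8 * c0 * (q + 1)) ^ 2 = c0 * (64 * c0 * (q + 1) ^ 2) := by ring
      _ ≤ _ := Nat.mul_le_mul_left _ h3
  exact (Nat.pow_le_pow_iff_left two_ne_zero).1 (h2.trans h1)

/-- **Two tori: the bound of `u ^ b`.** -/
theorem Dat.e2_sizeA (D : Dat q V h 1 c0 P0 u (k + b + r) ε0) (hV : q * V = P) (hq : 3 ≤ q) (hP : q ^ 12 ≤ P)
    (hk2 : k + b + r + 1 ≤ 2 * k) (hb : 1 ≤ b) (hk : 6 ≤ k)
    (hu : 2 ≤ u) (hc0 : c0 ≤ (u + 1) ^ 2) (hu15 : u ^ 15 ≤ 3 * P) (hc1 : 1 ≤ c0) (hh : 1 ≤ h) (hε : ε = 1 ∨ ε = -1)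
    (hε' : ε' = 1 ∨ ε' = -1)
    (hδ : δ = 1 ∨ δ = -1) (hκ1 : 1 ≤ κ) (hκ : κ ≤ q + 1) (h4 : (T : ℤ) ∣ κ * ((V : ℤ) - δ)) {c : ℕ} (hc : c ≤ d)
    (hT : T * c = Nat.lcm (AN ε k u) (AN ε' b u)) (hγ : 1 ≤ γ)
    (hg : Nat.gcd (AN ε k u) (AN ε' b u) ≤ u ^ γ + 1) :
    u ^ b ≤ 48 * d * (q + 1) * (h * (u ^ r * u ^ γ)) := by
  have hu1 : 1 ≤ u := by omega
  have hmid := D.midA (k := k) hV hq hP hk2 hu hc0 hu15
  have hH : 1 ≤ 2 * h * 1 := Nat.mul_pos (Nat.mul_pos two_pos hh) one_pos
  rcases D.e2 hε hε' hδ (Dvd.intro _ hT) h4 hκ1 with h5 | h5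
  · exfalso
    refine e2_ne (H := 2 * h * 1) (c0 := c0) (q := q) (u := u) (k := k) (b := b) (r := r) (C0 := ε0 * c0)
      (τ := ε0 * ε * ε') (a := ε) (a' := ε') (δ := δ) (pm_mul (pm_mul D.pm hε) hε') hε hε' hδ ?_ hu (by omega) hk hH
      (by omega) hc1 hmid (by push_cast; push_cast at h5; exact h5)
    rw [abs_mul, abs_pm D.pm, one_mul, Nat.abs_cast]
  · have a1 := AN_ge hε k hu1
    have a2 := AN_ge hε' b hu1
    have b1 : u ^ k ≤ 2 * AN ε k u := by
      have : 2 ≤ u ^ k := le_trans hu (Nat.le_self_pow (by omega) u)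
      omega
    have b2 : u ^ b ≤ 2 * AN ε' b u := by
      have : 2 ≤ u ^ b := le_trans hu (Nat.le_self_pow (by omega) u)
      omega
    have b0 : 2 * (u ^ γ + 1) ≤ 3 * u ^ γ := by
      have : 2 ≤ u ^ γ := le_trans hu (Nat.le_self_pow (by omega) u)
      omega
    have b3 : 2 * (AN ε k u * AN ε' b u) ≤ 3 * u ^ γ * d * T := by
      rw [← Nat.gcd_mul_lcm (AN ε k u) (AN ε' b u), ← hT]
      calc 2 * (Nat.gcd (AN ε k u) (AN ε' b u) * (T * c)) ≤ 2 * ((u ^ γ + 1) * (T * d)) := by gcongr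
        _ = 2 * (u ^ γ + 1) * (T * d) := by ring
        _ ≤ 3 * u ^ γ * (T * d) := Nat.mul_le_mul_right _ b0
        _ = _ := by ring
    have b4 : u ^ b + 1 ≤ u ^ k := by
      have h3 : u ^ b * 2 ≤ u ^ k := by
        calc u ^ b * 2 ≤ u ^ b * u := by gcongr
          _ = u ^ (b + 1) := by ring
          _ ≤ u ^ k := Nat.pow_le_pow_right (by omega) (by omega)
      have := Nat.one_le_pow b u hu1
      omega
    have b5 : 1 ≤ u ^ r * u ^ k := Nat.mul_pos (Nat.pow_pos hu1) (Nat.pow_pos hu1)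
    have b6 : T ≤ (q + 1) * (2 * h * 1 * (4 * (u ^ r * u ^ k))) := by
      calc T ≤ κ * (2 * h * 1 * (u ^ r * (u ^ k + u ^ b + 1) + 1) + c0 * (q + 1)) := h5
        _ ≤ (q + 1) * (2 * h * 1 * (u ^ r * (u ^ k + u ^ k) + u ^ r * u ^ k) + 2 * h * 1 * (u ^ r * u ^ k)) := by
          have g1 : c0 * (q + 1) ≤ 2 * h * 1 * (u ^ r * u ^ k) := by
            calc c0 * (q + 1) ≤ 8 * c0 * (q + 1) := by nlinarith only []
              _ ≤ 2 * h * 1 * u ^ k := hmid
              _ ≤ _ := by
                gcongr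
                exact Nat.le_mul_of_pos_left _ (Nat.pow_pos hu1)
          rw [add_assoc (u ^ k) (u ^ b) 1]
          gcongr
        _ = (q + 1) * (2 * h * 1 * (4 * (u ^ r * u ^ k))) := by ring
    have b7 : u ^ k * u ^ b ≤ u ^ k * (48 * d * (q + 1) * (h * (u ^ r * u ^ γ))) := by
      calc u ^ k * u ^ b ≤ (2 * AN ε k u) * (2 * AN ε' b u) := Nat.mul_le_mul b1 b2
        _ = 2 * (2 * (AN ε k u * AN ε' b u)) := by ring
        _ ≤ 2 * (3 * u ^ γ * d * ((q + 1) * (2 * h * 1 * (4 * (u ^ r * u ^ k))))) := by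
          refine Nat.mul_le_mul_left _ (b3.trans (Nat.mul_le_mul_left _ b6))
        _ = u ^ k * (48 * d * (q + 1) * (h * (u ^ r * u ^ γ))) := by ring
    exact Nat.le_of_mul_le_mul_left b7 (Nat.pow_pos hu1)

/-- **The bound of `P`.** -/
theorem Dat.size_two_A (D : Dat q V h 1 c0 P0 u (k + b + r) ε0) (hV : q * V = P) (hq : 3 ≤ q) (hn : 12 ≤ n)
    (hPn : P = q ^ n) (hu : 2 ≤ u) (hd : 1 ≤ d) (hdw : d ≤ w) (hw : w ≤ u + 1)
    (hr : (r = 1 ∧ c0 = w * d) ∨ (r = 0 ∧ c0 = d)) (hu15 : u ^ 15 ≤ 3 * P) (hh : 1 ≤ h) (hε : ε = 1 ∨ ε = -1)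
    (hk1 : 1 ≤ k) (hγ : γ + b ≤ k)
    (h3 : AN ε k u ≤ (q + 1) * (2 * h * 1 * (u ^ (b + r) + 1) + c0 * (q + 1)))
    (h2 : u ^ b ≤ 48 * d * (q + 1) * (h * (u ^ r * u ^ γ))) (hb : 1 ≤ b) : P ^ 11 ≤ 3 ^ 24 * ((2 ^ 23) ^ 12) ^ 5 * h ^ 360 := by
  have hu1 : 1 ≤ u := by omega
  have hcP := D.cP hV
  have a1 := AN_le D.pm (k + b + r) u
  have a3 := AN_ge hε k hu1
  have hq12 : q ^ 12 ≤ P := by rw [hPn]; exact Nat.pow_le_pow_right (by omega) hn
  have hP3 : 3 ^ 12 ≤ P := (Nat.pow_le_pow_left hq 12).trans hq12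
  have hc0 : 1 ≤ c0 := by
    rcases hr with ⟨-, h⟩ | ⟨-, h⟩ <;> rw [h]
    · exact Nat.mul_pos (hd.trans hdw) hd
    · exact hd
  have hc0' : c0 ≤ (u + 1) ^ 2 := by
    rcases hr with ⟨-, h⟩ | ⟨-, h⟩ <;> rw [h]
    · rw [sq]; exact Nat.mul_le_mul hw (hdw.trans hw)
    · exact (hdw.trans hw).trans (Nat.le_self_pow two_ne_zero _)
  have hue : 2 * (u ^ (b + r) + 1) ≤ 3 * u ^ (b + r) := by
    have : 2 ≤ u ^ (b + r) := le_trans hu (Nat.le_self_pow (by omega) u)
    omega
  have e0 : u ^ (k + b + r) = u ^ k * u ^ (b + r) := by rw [add_assoc, pow_add]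
  rcases le_or_gt (c0 * (q + 1)) (3 * h * u ^ (b + r)) with hI | hI
  · -- case I
    obtain ⟨Y, hY⟩ : ∃ Y, Y = u ^ (b + r) := ⟨_, rfl⟩
    rw [← hY] at hI h3 hue e0
    have hY1 : 1 ≤ Y := by rw [hY]; exact Nat.one_le_pow _ _ hu1
    have f1 : u ^ k ≤ 1 + (q + 1) * (6 * h * Y) := by
      calc u ^ k ≤ AN ε k u + 1 := a3
        _ ≤ (q + 1) * (2 * h * 1 * (Y + 1) + c0 * (q + 1)) + 1 := by gcongr
        _ = (q + 1) * (h * (2 * (Y + 1)) + c0 * (q + 1)) + 1 := by ring
        _ ≤ (q + 1) * (h * (3 * Y) + 3 * h * Y) + 1 := by gcongr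
        _ = _ := by ring
    have f2 : u ^ k ≤ 7 * (q + 1) * (h * Y) := by
      have : 1 ≤ (q + 1) * (h * Y) := Nat.mul_pos (by omega) (Nat.mul_pos hh hY1)
      calc u ^ k ≤ 1 + (q + 1) * (6 * h * Y) := f1
        _ ≤ (q + 1) * (h * Y) + (q + 1) * (6 * h * Y) := by gcongr
        _ = _ := by ring
    have f3 : u ^ γ ≤ 7 * (q + 1) * (h * u ^ r) := by
      have g1 : u ^ b * u ^ γ ≤ u ^ b * (7 * (q + 1) * (h * u ^ r)) := by
        calc u ^ b * u ^ γ = u ^ (γ + b) := by rw [← pow_add, add_comm]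
          _ ≤ u ^ k := Nat.pow_le_pow_right hu1 hγ
          _ ≤ 7 * (q + 1) * (h * Y) := f2
          _ = _ := by rw [hY, pow_add]; ring
      exact Nat.le_of_mul_le_mul_left g1 (Nat.pow_pos hu1)
    obtain ⟨G, hG⟩ : ∃ G, G = 2 * h * Y := ⟨_, rfl⟩
    have f4 : G ≤ 672 * d * h ^ 3 * (q + 1) ^ 2 * (u ^ r) ^ 3 := by
      calc G = 2 * h * (u ^ b * u ^ r) := by rw [hG, hY, pow_add]
        _ ≤ 2 * h * ((48 * d * (q + 1) * (h * (u ^ r * (7 * (q + 1) * (h * u ^ r))))) * u ^ r) := by
          gcongr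
          refine h2.trans ?_
          gcongr
        _ = _ := by ring
    have f5 : u ^ k + 1 ≤ 4 * (q + 1) * G := by
      have : 2 ≤ (q + 1) * (2 * (h * Y)) := by
        have : 1 ≤ h * Y := Nat.mul_pos hh hY1
        nlinarith only [hq, hc0, hI, _root_.sq_nonneg (↑q + 1 : ℤ), _root_.Nat.cast_nonneg (α := ℤ) (q)]
      calc u ^ k + 1 ≤ (1 + (q + 1) * (6 * h * Y)) + 1 := by gcongr
        _ ≤ (q + 1) * (2 * (h * Y)) + (q + 1) * (6 * h * Y) := by omega
        _ = _ := by rw [hG]; ring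
    have f6 : c0 * (P + 1) ≤ 4 * (q + 1) * G ^ 2 := by
      calc c0 * (P + 1) = 2 * h * 1 * AN ε0 (k + b + r) u := hcP
        _ ≤ 2 * h * 1 * (u ^ k * Y + 1) := by gcongr; rw [← e0]; exact a1
        _ ≤ 2 * h * 1 * (u ^ k * Y + Y) := by gcongr
        _ = G * (u ^ k + 1) := by rw [hG]; ring
        _ ≤ G * (4 * (q + 1) * G) := Nat.mul_le_mul_left _ f5
        _ = _ := by ring
    have f7 : c0 * (P + 1) ≤ c0 * (4 * 672 ^ 2 * ((q + 1) ^ 5 * (h ^ 6 * u ^ 6))) := by
      refine f6.trans ?_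
      rcases hr with ⟨rfl, hc⟩ | ⟨rfl, hc⟩
      · calc 4 * (q + 1) * G ^ 2 ≤ 4 * (q + 1) * (672 * d * h ^ 3 * (q + 1) ^ 2 * (u ^ 1) ^ 3) ^ 2 := by gcongr
          _ = (d * d) * (4 * 672 ^ 2 * ((q + 1) ^ 5 * (h ^ 6 * u ^ 6))) := by ring
          _ ≤ _ := by rw [hc]; gcongr
      · calc 4 * (q + 1) * G ^ 2 ≤ 4 * (q + 1) * (672 * d * h ^ 3 * (q + 1) ^ 2 * (u ^ 0) ^ 3) ^ 2 := by gcongr
          _ = d * (4 * 672 ^ 2 * ((q + 1) ^ 5 * (h ^ 6 * d))) := by ring
          _ ≤ _ := by
            rw [hc]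
            gcongr
            calc d ≤ u + 1 := hdw.trans hw
              _ ≤ 2 * u := by omega
              _ ≤ u * u := by gcongr
              _ = u ^ 2 := by ring
              _ ≤ u ^ 6 := Nat.pow_le_pow_right hu1 (by norm_num)
    have f8 := Nat.le_of_mul_le_mul_left f7 hc0
    have f9 : 243 * P ≤ 243 * (2 ^ 23 * (q ^ 5 * (h ^ 6 * u ^ 6))) := by
      calc 243 * P ≤ 243 * (4 * 672 ^ 2 * ((q + 1) ^ 5 * (h ^ 6 * u ^ 6))) := by omega
        _ = 4 * 672 ^ 2 * ((3 * (q + 1)) ^ 5 * (h ^ 6 * u ^ 6)) := by ring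
        _ ≤ 4 * 672 ^ 2 * ((4 * q) ^ 5 * (h ^ 6 * u ^ 6)) := by gcongr 4 * 672 ^ 2 * (?_ ^ 5 * _); omega
        _ = 4 * 672 ^ 2 * 4 ^ 5 * (q ^ 5 * (h ^ 6 * u ^ 6)) := by ring
        _ ≤ 243 * 2 ^ 23 * (q ^ 5 * (h ^ 6 * u ^ 6)) := by gcongr ?_ * _; norm_num
        _ = _ := by ring
    have f10 : P ≤ 2 ^ 23 * (q ^ 5 * (h ^ 6 * u ^ 6)) := by omega
    have f11 : q ^ (n - 5) ≤ 2 ^ 23 * (h ^ 6 * u ^ 6) := by
      have g1 : q ^ 5 * q ^ (n - 5) ≤ q ^ 5 * (2 ^ 23 * (h ^ 6 * u ^ 6)) := by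
        calc q ^ 5 * q ^ (n - 5) = q ^ n := by rw [← pow_add]; congr 1; (clear * - hn; omega)
          _ ≤ 2 ^ 23 * (q ^ 5 * (h ^ 6 * u ^ 6)) := by rw [← hPn]; exact f10
          _ = _ := by ring
      exact Nat.le_of_mul_le_mul_left g1 (Nat.pow_pos (by omega))
    have f12 : P ^ 7 ≤ (2 ^ 23) ^ 12 * (h ^ 72 * u ^ 72) := by
      calc P ^ 7 = q ^ (7 * n) := by rw [hPn, ← pow_mul, mul_comm]
        _ ≤ q ^ (12 * (n - 5)) := Nat.pow_le_pow_right (by omega) (by (clear * - hn; omega))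
        _ = (q ^ (n - 5)) ^ 12 := by rw [← pow_mul, mul_comm]
        _ ≤ (2 ^ 23 * (h ^ 6 * u ^ 6)) ^ 12 := Nat.pow_le_pow_left f11 12
        _ = _ := by ring
    have hP0 : 0 < P := by omega
    have f13 : P ^ 24 * P ^ 11 ≤ P ^ 24 * (3 ^ 24 * ((2 ^ 23) ^ 12) ^ 5 * h ^ 360) := by
      obtain ⟨C, hC⟩ : ∃ C, C = (2 ^ 23) ^ 12 := ⟨_, rfl⟩
      rw [← hC] at f12 ⊢
      calc P ^ 24 * P ^ 11 = (P ^ 7) ^ 5 := by ring
        _ ≤ (C * (h ^ 72 * u ^ 72)) ^ 5 := Nat.pow_le_pow_left f12 5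
        _ = C ^ 5 * h ^ 360 * (u ^ 15) ^ 24 := by ring
        _ ≤ C ^ 5 * h ^ 360 * (3 * P) ^ 24 := by gcongr
        _ = _ := by ring
    exact Nat.le_of_mul_le_mul_left f13 (Nat.pow_pos hP0)
  · -- case II
    exfalso
    obtain ⟨Y, hY⟩ : ∃ Y, Y = u ^ (b + r) := ⟨_, rfl⟩
    rw [← hY] at hI h3 hue e0
    have hY1 : 1 ≤ Y := by rw [hY]; exact Nat.one_le_pow _ _ hu1
    have f1 : u ^ k ≤ 3 * c0 * (q + 1) ^ 2 := by
      calc u ^ k ≤ AN ε k u + 1 := a3
        _ ≤ (q + 1) * (2 * h * 1 * (Y + 1) + c0 * (q + 1)) + 1 := by gcongr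
        _ = (q + 1) * (h * (2 * (Y + 1)) + c0 * (q + 1)) + 1 := by ring
        _ ≤ (q + 1) * (h * (3 * Y) + c0 * (q + 1)) + c0 * (q + 1) * (q + 1) := by
          have : 1 ≤ c0 * (q + 1) * (q + 1) := Nat.mul_pos (Nat.mul_pos hc0 (by omega)) (by omega)
          gcongr
        _ = (q + 1) * (3 * h * Y + c0 * (q + 1)) + c0 * (q + 1) * (q + 1) := by ring
        _ ≤ (q + 1) * (c0 * (q + 1) + c0 * (q + 1)) + c0 * (q + 1) * (q + 1) := by gcongr
        _ = _ := by ring
    have f2 : c0 * (P + 1) ≤ c0 * (3 * c0 * (q + 1) ^ 3) := by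
      calc c0 * (P + 1) = 2 * h * 1 * AN ε0 (k + b + r) u := hcP
        _ ≤ 2 * h * 1 * (u ^ k * Y + 1) := by gcongr; rw [← e0]; exact a1
        _ = 2 * h * (u ^ k * Y) + 2 * h := by ring
        _ ≤ 2 * h * (u ^ k * Y) + h * (u ^ k * Y) := by
          have g1 : 2 ≤ u ^ k := le_trans hu (Nat.le_self_pow (by omega) u)
          have g2 : 2 ≤ u ^ k * Y := by nlinarith only [hue, g1]
          nlinarith only [g2]
        _ = (3 * h * Y) * u ^ k := by ring
        _ ≤ (c0 * (q + 1)) * (3 * c0 * (q + 1) ^ 2) := Nat.mul_le_mul hI.le f1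
        _ = _ := by ring
    have f3 := Nat.le_of_mul_le_mul_left f2 hc0
    have f4 : 108 * (3 * c0 * (q + 1) ^ 3) ≤ 108 * (16 * (u ^ 2 * q ^ 3)) := by
      calc 108 * (3 * c0 * (q + 1) ^ 3) ≤ 108 * (3 * (u + 1) ^ 2 * (q + 1) ^ 3) := by gcongr
        _ = 3 * (2 * (u + 1)) ^ 2 * (3 * (q + 1)) ^ 3 := by ring
        _ ≤ 3 * (3 * u) ^ 2 * (4 * q) ^ 3 := by gcongr ?_ * ?_ ^ 2 * ?_ ^ 3 <;> (clear * - hu hq; omega)
        _ = _ := by ring
    have f5 := small_uq' hu15 hq12 hP3
    omega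

theorem pow_le_pow19 (j : ℕ) : (19 + j) ^ 4 ≤ 19 ^ 4 * 2 ^ j := by
  induction j with
  | zero => norm_num
  | succ n ih =>
    have h1 : (19 + (n + 1)) ^ 4 ≤ 2 * (19 + n) ^ 4 := by
      ring_nf
      linarith [Nat.zero_le n, Nat.zero_le (n ^ 2), Nat.zero_le (n ^ 3), Nat.zero_le (n ^ 4)]
    calc (19 + (n + 1)) ^ 4 ≤ 2 * (19 + n) ^ 4 := h1
      _ ≤ 2 * (19 ^ 4 * 2 ^ n) := Nat.mul_le_mul_left _ ih
      _ = 19 ^ 4 * 2 ^ (n + 1) := by ring

set_option exponentiation.threshold 4000 in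
/-- **The finite domain.** -/
theorem fin_two_A (h7 : P ^ 11 ≤ 3 ^ 24 * ((2 ^ 23) ^ 12) ^ 5 * h ^ 360) (hu : 2 ^ h ≤ u) (hu15 : u ^ 15 ≤ 3 * P)
    (hh : Odd h) : (h = 1 ∧ P < 2 ^ 130) ∨ (3 ≤ h ∧ P < 2 ^ 264) := by
  obtain ⟨C, hC⟩ : ∃ C, C = ((2 ^ 23) ^ 12) ^ 5 := ⟨_, rfl⟩
  rw [← hC] at h7
  rcases Nat.lt_or_ge h 3 with h3 | h3
  · have h1 : h = 1 := by
      obtain ⟨j, hj⟩ := hh
      omega
    subst h1
    refine Or.inl ⟨rfl, ?_⟩
    by_contra hcon
    rw [not_lt] at hcon
    have h4 := (Nat.pow_le_pow_left hcon 11).trans h7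
    rw [hC] at h4
    norm_num at h4
  · refine Or.inr ⟨h3, ?_⟩
    have h9 : h < 19 := by
      by_contra hcon
      rw [not_lt] at hcon
      obtain ⟨j, rfl⟩ := Nat.exists_eq_add_of_le hcon
      have h4 := pow_le_pow19 j
      have h5 : (2 ^ 15) ^ (19 + j) ≤ 3 * P := by
        calc (2 ^ 15) ^ (19 + j) = (2 ^ (19 + j)) ^ 15 := by rw [← pow_mul, ← pow_mul, mul_comm]
          _ ≤ u ^ 15 := Nat.pow_le_pow_left hu 15
          _ ≤ 3 * P := hu15
      obtain ⟨Z, hZ⟩ : ∃ Z, Z = 2 ^ j := ⟨_, rfl⟩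
      have hZ1 : 1 ≤ Z := by rw [hZ]; exact Nat.one_le_pow _ _ two_pos
      have e3 : (2 ^ 15) ^ (19 + j) = (2 ^ 15) ^ 19 * Z ^ 15 := by
        rw [hZ, pow_add, ← pow_mul 2 15 j, ← pow_mul 2 j 15, mul_comm 15 j]
      rw [e3] at h5
      rw [← hZ] at h4
      obtain ⟨D, hD⟩ : ∃ D, D = (2 ^ 15) ^ 19 := ⟨_, rfl⟩
      rw [← hD] at h5
      have h6 : Z ^ 90 * (D ^ 11 * Z ^ 75) ≤ Z ^ 90 * (3 ^ 35 * C * (19 ^ 4) ^ 90) := by
        calc Z ^ 90 * (D ^ 11 * Z ^ 75) = (D * Z ^ 15) ^ 11 := by ring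
          _ ≤ (3 * P) ^ 11 := Nat.pow_le_pow_left h5 11
          _ = 3 ^ 11 * P ^ 11 := by ring
          _ ≤ 3 ^ 11 * (3 ^ 24 * C * (19 + j) ^ 360) := Nat.mul_le_mul_left _ h7
          _ = 3 ^ 35 * C * ((19 + j) ^ 4) ^ 90 := by
            rw [← pow_mul (19 + j) 4 90]
            obtain ⟨W, hW⟩ : ∃ W, W = (19 + j) ^ (4 * 90) := ⟨_, rfl⟩
            rw [show (360 : ℕ) = 4 * 90 by norm_num, ← hW]
            ring
          _ ≤ 3 ^ 35 * C * (19 ^ 4 * Z) ^ 90 := Nat.mul_le_mul_left _ (Nat.pow_le_pow_left h4 90)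
          _ = Z ^ 90 * (3 ^ 35 * C * (19 ^ 4) ^ 90) := by
            obtain ⟨W, hW⟩ : ∃ W, W = 19 ^ 4 := ⟨_, rfl⟩
            rw [← hW]
            ring
      have h8 := Nat.le_of_mul_le_mul_left h6 (Nat.pow_pos hZ1)
      have h10 : D ^ 11 * 1 ≤ D ^ 11 * Z ^ 75 := Nat.mul_le_mul_left _ (Nat.one_le_pow _ _ hZ1)
      have h11 := h10.trans h8
      rw [hC, hD] at h11
      norm_num at h11
    by_contra hcon
    rw [not_lt] at hcon
    have h9' : h ≤ 17 := by
      obtain ⟨j, hj⟩ := hh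
      omega
    have h4 : P ^ 11 ≤ 3 ^ 24 * C * 17 ^ 360 := h7.trans (Nat.mul_le_mul_left _ (Nat.pow_le_pow_left h9' 360))
    have h5 := (Nat.pow_le_pow_left hcon 11).trans h4
    rw [hC] at h5
    norm_num at h5

end

end Cfsg.Agent.R2.Spec.X5
end

-- part: R2/Spec/X5/Zero
section
prune_inst 0x10060440000020000000002400000040000053000000801580001080006d2600080280048801802126c120118010000000000d000000000000034000003002080aa4000331003040e008f803007580c00000000020000000000000000041004000000000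
set_option linter.all false
open scoped Cfsg.Agent.FastGrp

/-!
# S3435, box X5 (helper12): the equality cases
-/

set_option autoImplicit false

namespace Cfsg.Agent.R2.Spec.X5

open Cfsg.Agent.R2.Spec.P1.Eig

variable {q V h F c0 P0 u k0 e1 e2 v : ℕ} {ε0 σ1 σ2 : ℤ}

/-- `v` divides `V - δ` -/
theorem Dat.v_dvd (D : Dat q V h F c0 P0 u k0 ε0) {e : ℕ} {σ δ : ℤ} (hv : v.Prime) (hvu : v ∣ u) (hvq : ¬ v ∣ q)
    (hvc : ¬ v ∣ c0) (he : 1 ≤ e) (hek : 1 ≤ k0)
    (h1 : (2 * h * F * (σ * (u : ℤ) ^ e - 1) = ε0 * c0 * (1 + δ * q))) : (v : ℤ) ∣ V - δ := by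
  have hl : (2 * h : ℤ) * P0 = q * V + 1 := by exact_mod_cast D.l
  have h2 : (ε0 * c0 : ℤ) * P0 = F * (ε0 * (u : ℤ) ^ k0 - 1) := by
    have h5 : (c0 : ℤ) * P0 = F * ((u : ℤ) ^ k0 - ε0) := by
      rw [← AN_int D.pm D.upos]
      exact_mod_cast D.s
    have h6 : ε0 * ε0 = 1 := by rcases D.pm with h | h <;> rw [h] <;> norm_num
    linear_combination ε0 * h5 + (F : ℤ) * (-1) * h6
  have h3 : (ε0 * c0 : ℤ) * (q * (V - δ)) = 2 * h * F * (ε0 * (u : ℤ) ^ k0 - σ * (u : ℤ) ^ e) := by
    linear_combination (-(ε0 * c0 : ℤ)) * hl + (2 * h : ℤ) * h2 + h1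
  have hvi : Prime (v : ℤ) := Nat.prime_iff_prime_int.1 hv
  have h4 : (v : ℤ) ∣ (ε0 * c0 : ℤ) * (q * (V - δ)) := by
    rw [h3]
    have hu : (v : ℤ) ∣ u := by exact_mod_cast hvu
    exact (dvd_sub ((hu.trans (dvd_pow_self _ (by omega))).mul_left _)
      ((hu.trans (dvd_pow_self _ (by omega))).mul_left _)).mul_left _
  rcases hvi.dvd_or_dvd h4 with h5 | h5
  · rcases hvi.dvd_or_dvd h5 with h6 | h6
    · exfalso
      rcases D.pm with h | h <;> rw [h] at h6
      · exact hvi.not_isUnit (isUnit_of_dvd_one h6)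
      · exact hvi.not_isUnit (isUnit_of_dvd_one (by simpa only [_root_.Int.reduceNeg, _root_.dvd_neg] using h6))
    · exact absurd (by exact_mod_cast h6) hvc
  · rcases hvi.dvd_or_dvd h5 with h6 | h6
    · exact absurd (by exact_mod_cast h6) hvq
    · exact h6

/-- both equalities, `e ≥ 1` -/
theorem Dat.zero_pos (D : Dat q V h F c0 P0 u k0 ε0) (hv : v.Prime) (hvu : v ∣ u) (hvq : ¬ v ∣ q)
    (hvc : ¬ v ∣ c0) (hk : 1 ≤ k0) (hqo : Odd q) (hho : Odd h) (hFo : v = 2 → Odd F) (he1 : 1 ≤ e1) (he2 : 1 ≤ e2)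
    (h1 : (2 * h * F * (σ1 * (u : ℤ) ^ e1 - 1) = ε0 * c0 * (1 + 1 * q)))
    (h2 : (2 * h * F * (σ2 * (u : ℤ) ^ e2 - 1) = ε0 * c0 * (1 + (-1) * q))) : False := by
  have h3 := D.v_dvd hv hvu hvq hvc he1 hk h1
  have h4 := D.v_dvd hv hvu hvq hvc he2 hk h2
  have h5 : (v : ℤ) ∣ 2 := by
    have := dvd_sub h4 h3
    rwa [show ((V : ℤ) - -1) - ((V : ℤ) - 1) = 2 by ring] at this
  have hv2 : v = 2 := (Nat.prime_dvd_prime_iff_eq hv Nat.prime_two).1 (by exact_mod_cast h5)
  subst hv2
  have hFo := hFo rfl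
  have hco : Odd c0 := by
    rw [← Nat.not_even_iff_odd, even_iff_two_dvd]
    exact hvc
  have hue : Even (u : ℤ) := by
    rw [even_iff_two_dvd]
    exact_mod_cast hvu
  have key : ∀ (e : ℕ) (σ : ℤ), 1 ≤ e → Odd ((h : ℤ) * F * (σ * (u : ℤ) ^ e - 1)) := by
    intro e σ he
    have h6 : Even (σ * (u : ℤ) ^ e) := (hue.pow_of_ne_zero (by omega)).mul_left _
    have h7 : Odd (σ * (u : ℤ) ^ e - 1) := h6.sub_odd odd_one
    have h8 : Odd (h : ℤ) := by exact_mod_cast hho
    have h9 : Odd (F : ℤ) := by exact_mod_cast hFo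
    exact (h8.mul h9).mul h7
  obtain ⟨m, hm⟩ := hqo
  have hq : (q : ℤ) = 2 * m + 1 := by exact_mod_cast hm
  have hε : Odd (ε0 * c0 : ℤ) := by
    have h8 : Odd (c0 : ℤ) := by exact_mod_cast hco
    rcases D.pm with h | h <;> rw [h]
    · rwa [one_mul]
    · rw [neg_one_mul]; exact h8.neg
  have e1' : (h : ℤ) * F * (σ1 * (u : ℤ) ^ e1 - 1) = ε0 * c0 * (m + 1) := by
    rw [hq] at h1
    linarith only [h1]
  have e2' : (h : ℤ) * F * (σ2 * (u : ℤ) ^ e2 - 1) = ε0 * c0 * (-m) := by
    rw [hq] at h2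
    linarith only [h2]
  have k1 := key e1 σ1 he1
  have k2 := key e2 σ2 he2
  rw [e1', Int.odd_mul] at k1
  rw [e2', Int.odd_mul] at k2
  have k3 := k1.2
  have k4 := k2.2
  rw [Int.odd_iff] at k3 k4
  omega

/-- `3 ^ n - 1` is not a power of two, `n ≥ 4` even -/
theorem three_pow {n k : ℕ} (hn : Even n) (hn4 : 4 ≤ n) (h : 3 ^ n = 2 ^ k + 1) : False := by
  obtain ⟨j, hj⟩ := hn
  have h1 : (3 ^ j - 1) * (3 ^ j + 1) = 2 ^ k := by
    have h2 : 1 ≤ 3 ^ j := Nat.one_le_pow _ _ (by norm_num)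
    obtain ⟨x, hx⟩ : ∃ x, 3 ^ j = x + 1 := ⟨3 ^ j - 1, by omega⟩
    rw [hj, pow_add] at h
    rw [hx] at h ⊢
    have : x + 1 - 1 = x := by omega
    rw [this]
    linarith only [h]
  have h2 : 3 ^ j - 1 ∣ 2 ^ k := ⟨_, h1.symm⟩
  have h3 : 3 ^ j + 1 ∣ 2 ^ k := ⟨_, by rw [mul_comm]; exact h1.symm⟩
  obtain ⟨a, -, ha⟩ := (Nat.dvd_prime_pow Nat.prime_two).1 h2
  obtain ⟨b, -, hb⟩ := (Nat.dvd_prime_pow Nat.prime_two).1 h3
  have h9 : 3 ^ 2 ≤ 3 ^ j := Nat.pow_le_pow_right (by norm_num) (by omega)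
  have h4 : 2 ^ b = 2 ^ a + 2 := by omega
  have ha2 : 2 ≤ a := by
    by_contra hcon
    interval_cases a <;> omega
  have hb2 : 2 ≤ b := by
    by_contra hcon
    interval_cases b <;> omega
  obtain ⟨a', rfl⟩ := Nat.exists_eq_add_of_le ha2
  obtain ⟨b', rfl⟩ := Nat.exists_eq_add_of_le hb2
  rw [pow_add, pow_add] at h4
  omega

/-- both equalities, the classes of weight `k0` allowed -/
theorem Dat.zero_all (D : Dat q V h F c0 P0 u k0 ε0) {n : ℕ} (hn : Even n) (hn6 : 6 ≤ n) (hV : q * V = q ^ n)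
    (hv : v.Prime) {f' : ℕ} (hvu : u = v ^ f') (hf' : 1 ≤ f') (hvq : ¬ v ∣ q)
    (hk : 2 ≤ k0) (hqo : Odd q) (hq3 : 3 ≤ q) (hho : Odd h) (hFo : v = 2 → Odd F) (hF : 1 ≤ F)
    (hc : c0 ∣ 4) (hc2 : v = 2 → c0 = 1) (hFu : F = 1 ∨ F = u - 1 ∨ F = u + 1)
    (hσ1 : σ1 = 1 ∨ σ1 = -1) (hσ2 : σ2 = 1 ∨ σ2 = -1)
    (h1 : (2 * h * F * (σ1 * (u : ℤ) ^ e1 - 1) = ε0 * c0 * (1 + 1 * q)))
    (h2 : (2 * h * F * (σ2 * (u : ℤ) ^ e2 - 1) = ε0 * c0 * (1 + (-1) * q))) : False := by
  have hvu' : v ∣ u := by rw [hvu]; exact dvd_pow_self v (by omega)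
  have hc4 : c0 = 1 ∨ c0 = 2 ∨ c0 = 4 := by
    have h3 := Nat.le_of_dvd (by norm_num) hc
    interval_cases c0 <;> omega
  have hvc : ¬ v ∣ c0 := by
    intro hd
    have h3 : v ∣ 2 ^ 2 := hd.trans hc
    have h4 := (Nat.prime_dvd_prime_iff_eq hv Nat.prime_two).1 (hv.dvd_of_dvd_pow h3)
    rw [hc2 h4] at hd
    exact hv.one_lt.ne' (Nat.dvd_one.1 hd)
  have hu2 : 2 ≤ u := by rw [hvu]; exact hv.two_le.trans (Nat.le_self_pow (by omega) v)
  have hhpos : 1 ≤ h := hho.pos
  have hHF : 1 ≤ h * F := Nat.mul_pos hhpos hF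
  have hl := D.l
  have hs := D.s
  rw [hV] at hl
  have hue : v = 2 → Even u := fun h3 => by rw [hvu, h3]; exact (even_two).pow_of_ne_zero (by omega)
  have huo : v ≠ 2 → Odd u := fun h3 => by rw [hvu]; exact (hv.odd_of_ne_two h3).pow
  have hcz : (1 : ℤ) ≤ c0 := by rcases hc4 with h3 | h3 | h3 <;> rw [h3] <;> norm_num
  have hqz : (3 : ℤ) ≤ q := by exact_mod_cast hq3
  have hHFz : (1 : ℤ) ≤ h * F := by exact_mod_cast hHF
  rcases Nat.eq_zero_or_pos e1 with he1 | he1
  swap
  · rcases Nat.eq_zero_or_pos e2 with he2 | he2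
    swap
    · exact D.zero_pos hv hvu' hvq hvc (by omega) hqo hho hFo he1 he2 h1 h2
    · -- `e2 = 0`
      subst he2
      rw [pow_zero, mul_one] at h2
      have hσ : σ2 = -1 := by
        rcases hσ2 with h3 | h3
        · exfalso
          rw [h3] at h2
          rcases D.pm with h4 | h4 <;> rw [h4] at h2 <;> nlinarith only [hq3, hcz, h2]
        · exact h3
      rw [hσ] at h2
      have hε : ε0 = 1 := by
        rcases D.pm with h4 | h4
        · exact h4
        · exfalso
          rw [h4] at h2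
          nlinarith only [hq3, hcz, h2]
      rw [hε] at h1 h2 hs
      have h3 : (h : ℤ) * F * (σ1 * (u : ℤ) ^ e1 - 3) = c0 := by linarith only [h1, h2]
      have hσ' : σ1 = 1 := by
        rcases hσ1 with h4 | h4
        · exact h4
        · exfalso
          rw [h4] at h3
          have : (0 : ℤ) ≤ (u : ℤ) ^ e1 := by positivity
          nlinarith only [hHF, h3, this]
      rw [hσ', one_mul] at h3
      have h4 : h * F * (u ^ e1) = c0 + 3 * (h * F) := by
        zify
        linarith only [h3]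
      have h5 : c0 ≤ 4 := by (clear * - hc4; omega)
      have h6 : u ^ e1 ≤ 7 := by
        by_contra hcon
        have : h * F * 8 ≤ h * F * u ^ e1 := Nat.mul_le_mul_left _ (by omega)
        omega
      have h7 : 4 ≤ u ^ e1 := by
        by_contra hcon
        have : h * F * u ^ e1 ≤ h * F * 3 := Nat.mul_le_mul_left _ (by omega)
        omega
      have hcq : c0 * (q - 1) = 4 * (h * F) := by
        have : (c0 : ℤ) * (q - 1) = 4 * (h * F) := by linarith only [h2]
        zify [show 1 ≤ q by omega]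
        exact this
      rw [AN_one] at hs
      obtain ⟨y, hy⟩ : ∃ y, y = u ^ e1 := ⟨_, rfl⟩
      rw [← hy] at h4 h6 h7
      have hup : ∀ z, y = z → z.Prime → u = z := by
        intro z hz hzp
        have h8 : u ∣ z := by rw [← hz, hy]; exact dvd_pow_self u (by omega)
        rcases (Nat.dvd_prime hzp).1 h8 with h9 | h9
        · omega
        · exact h9
      interval_cases y
      · -- `4`
        have hv2 : v = 2 := by
          by_contra h8
          have h9 := (huo h8).pow (n := e1)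
          rw [← hy] at h9
          exact absurd h9 (by decide)
        have hc1 := hc2 hv2
        have hHF1 : h * F = 1 := by omega
        have hh1 : h = 1 := Nat.eq_one_of_mul_eq_one_right hHF1
        have hF1 : F = 1 := Nat.eq_one_of_mul_eq_one_left hHF1
        have hq5 : q = 5 := by
          rw [hc1, hHF1] at hcq
          omega
        subst hq5 hh1 hF1
        rw [hc1] at hs
        obtain ⟨a, ha⟩ : (4 : ℕ) ∣ u ^ k0 := by
          obtain ⟨a, ha⟩ := (hue hv2).two_dvd
          obtain ⟨k, rfl⟩ := Nat.exists_eq_add_of_le hk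
          rw [ha, pow_add]
          exact ⟨a ^ 2 * (2 * a) ^ k, by ring⟩
        have h8 : 5 ^ n % 8 = 1 := by
          obtain ⟨j, hj⟩ := hn
          rw [hj, ← two_mul, pow_mul, Nat.pow_mod]
          norm_num
        have h9 : 0 < u ^ k0 := Nat.pow_pos (by omega)
        (clear * - hl hs ha h8; omega)
      · -- `5`
        have hu5 := hup 5 rfl (by norm_num)
        have hc2' : c0 = 2 * (h * F) := by omega
        have hF1 : F = 1 := by
          rcases hFu with h8 | h8 | h8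
          · exact h8
          · exfalso
            rw [hu5] at h8
            rw [h8] at hc2'
            (clear * - hcz h5 hc2'; omega)
          · exfalso
            rw [hu5] at h8
            rw [h8] at hc2'
            (clear * - hcz h5 hc2'; omega)
        rw [hF1, mul_one] at hc2'
        have hh1 : h = 1 := by
          obtain ⟨m, hm⟩ := hho
          (clear * - h5 hc2' hm; omega)
        subst hF1 hh1
        have hc2'' : c0 = 2 := by omega
        have hq3' : q = 3 := by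
          rw [hc2''] at hcq
          omega
        subst hq3'
        rw [hc2'', hu5] at hs
        have h8 : 3 ^ n % 4 = 1 := by
          obtain ⟨j, hj⟩ := hn
          rw [hj, ← two_mul, pow_mul, Nat.pow_mod]
          norm_num
        have h9 : 5 ^ k0 % 4 = 1 := by
          rw [Nat.pow_mod]
          norm_num
        (clear * - hs hl h8 h9; omega)
      · -- `6`
        rcases hc4 with h8 | h8 | h8 <;> (clear * - h4 h8; omega)
      · -- `7`
        have hc4' : c0 = 4 := by omega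
        rw [hc4'] at hcq
        have : q = 2 := by omega
        rw [this] at hqo
        exact absurd hqo (by decide)
  · -- `e1 = 0`
    subst he1
    rw [pow_zero, mul_one] at h1
    have hσ : σ1 = -1 := by
      rcases hσ1 with h3 | h3
      · exfalso
        rw [h3] at h1
        rcases D.pm with h4 | h4 <;> rw [h4] at h1 <;> nlinarith only [hcz, h1]
      · exact h3
    rw [hσ] at h1
    have hε : ε0 = -1 := by
      rcases D.pm with h4 | h4
      · exfalso
        rw [h4] at h1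
        nlinarith only [hcz, h1]
      · exact h4
    rw [hε] at h1 h2 hs
    have h3 : (h : ℤ) * F * (3 - σ2 * (u : ℤ) ^ e2) = c0 := by linarith only [h2, h1]
    have h3' : 2 * ((h : ℤ) * F) * (σ2 * (u : ℤ) ^ e2 - 1) = c0 * (q - 1) := by linarith only [h2]
    have hpos : (1 : ℤ) < σ2 * (u : ℤ) ^ e2 := by
      by_contra hcon
      push Not at hcon
      have : (0 : ℤ) < c0 * (q - 1) := by nlinarith only [hq3, hHF, h1]
      rw [← h3'] at this
      nlinarith only [hHF, hcon, this]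
    have hlt : σ2 * (u : ℤ) ^ e2 < 3 := by
      by_contra hcon
      push Not at hcon
      nlinarith only [h2, hHF, hcz, h1, hcon]
    have h4 : σ2 * (u : ℤ) ^ e2 = 2 := by omega
    have h5 : u ^ e2 = 2 := by
      rcases hσ2 with h6 | h6
      · rw [h6, one_mul] at h4
        exact_mod_cast h4
      · exfalso
        rw [h6] at h4
        have : (0 : ℤ) ≤ (u : ℤ) ^ e2 := by positivity
        linarith only [h4, this]
    have hu : u = 2 := by
      have he2 : e2 ≠ 0 := by
        rintro rfl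
        rw [pow_zero] at h5
        omega
      have h8 : u ∣ 2 := by rw [← h5]; exact dvd_pow_self u he2
      rcases (Nat.dvd_prime Nat.prime_two).1 h8 with h9 | h9
      · omega
      · exact h9
    have hv2 : v = 2 := by
      have h8 : v ∣ 2 := by rw [← hu]; exact hvu'
      exact (Nat.prime_dvd_prime_iff_eq hv Nat.prime_two).1 h8
    have hc1 := hc2 hv2
    rw [h4, hc1] at h3
    have hHF1 : h * F = 1 := by
      zify
      push_cast at h3
      linarith only [h3]
    have hh1 : h = 1 := Nat.eq_one_of_mul_eq_one_right hHF1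
    have hF1 : F = 1 := Nat.eq_one_of_mul_eq_one_left hHF1
    subst hh1 hF1
    rw [hc1] at h1
    have hq3' : q = 3 := by
      zify
      push_cast at h1
      linarith only [h1]
    subst hq3'
    rw [hc1, hu, AN_neg] at hs
    exact three_pow hn (by omega) (k := k0 + 1) (by rw [pow_succ]; (clear * - hs hl; omega))

end Cfsg.Agent.R2.Spec.X5
end

-- part: R2/Spec/X5/FinB
section
set_option linter.all false
open scoped Cfsg.Agent.FastGrp

-- part: R2/Spec/X5/Sq
section
/-!
# S3435, box X5 (helper12): a test for squares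
-/

set_option autoImplicit false

namespace Cfsg.Agent.R2.Spec.X5.Sq

/-- moduli and masks of the squares -/
def L : List (ℕ × ℕ) := [
  (8, 19),
  (63, 288872697407275667),
  (65, 20863489977805260307),
  (11, 571),
  (17, 107287),
  (19, 199411),
  (23, 340831),
  (29, 332473075),
  (31, 303908791),
  (37, 96068509339),
  (41, 1870503675703),
  (43, 3678700564051),
  (47, 4626135339999),
  (53, 5310023542746835),
  (59, 156326468341437115),
  (61, 1662926210933060155),
  (67, 61808106872519771731),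
  (71, 20052041432995567487),
  (73, 9059857384996697084767),
  (79, 89932533647391829339959)]

/-- `true` only if `N` is not a square -/
def ns (N : ℕ) : Bool := L.any fun p => !(p.2.testBit (N % p.1))

theorem L_ok : ∀ p ∈ L, ∀ r < p.1, p.2.testBit ((r * r) % p.1) = true := by decide +kernel

theorem L_pos : ∀ p ∈ L, 0 < p.1 := by decide +kernel

theorem ns_sq (s : ℕ) : ns (s * s) = false := by
  rw [ns, List.any_eq_false]
  intro p hp
  rw [Nat.mul_mod]
  have h := L_ok p hp (s % p.1) (Nat.mod_lt _ (L_pos p hp))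
  simpa using h

theorem ns_ne {N : ℕ} (h : ns N = true) (s : ℕ) : s * s ≠ N := by
  rintro rfl
  rw [ns_sq] at h
  exact Bool.noConfusion h

/-- one test: `true` if bit `r` of `m` is zero, else `e` -/
theorem tb_eq (m r : ℕ) (e : Bool) :
    (Nat.rec true (fun _ _ => e) (Nat.land 1 (Nat.shiftRight m r)) : Bool) = (!(m.testBit r) || e) := by
  have h : m.testBit r = (Nat.land 1 (Nat.shiftRight m r) != 0) := rfl
  rw [h]
  cases Nat.land 1 (Nat.shiftRight m r) <;> rfl

/-- the last moduli -/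
noncomputable def ns4 (N p : ℕ) : Bool :=
  Nat.rec true (fun _ _ =>
    Nat.rec true (fun _ _ =>
    Nat.rec true (fun _ _ =>
    Nat.rec true (fun _ _ =>
    Nat.rec true (fun _ _ =>
    Nat.rec true (fun _ _ =>
    Nat.rec true (fun _ _ =>
    Nat.rec true (fun _ _ =>
    Nat.rec true (fun _ _ =>
    Nat.rec true (fun _ _ =>
    Nat.rec true (fun _ _ =>
    Nat.rec true (fun _ _ =>
    Nat.rec true (fun _ _ =>
    Nat.rec true (fun _ _ =>
    Nat.rec true (fun _ _ =>
    (Bool.rec (Nat.blt N 729) true (Nat.beq N p))) (Nat.land 1 (Nat.shiftRight 89932533647391829339959 (Nat.mod N 79)))) (Nat.land 1 (Nat.shiftRight 9059857384996697084767 (Nat.mod N 73)))) (Nat.land 1 (Nat.shiftRight 20052041432995567487 (Nat.mod N 71)))) (Nat.land 1 (Nat.shiftRight 61808106872519771731 (Nat.mod N 67)))) (Nat.land 1 (Nat.shiftRight 1662926210933060155 (Nat.mod N 61)))) (Nat.land 1 (Nat.shiftRight 156326468341437115 (Nat.mod N 59)))) (Nat.land 1 (Nat.shiftRight 5310023542746835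 (Nat.mod N 53)))) (Nat.land 1 (Nat.shiftRight 4626135339999 (Nat.mod N 47)))) (Nat.land 1 (Nat.shiftRight 3678700564051 (Nat.mod N 43)))) (Nat.land 1 (Nat.shiftRight 1870503675703 (Nat.mod N 41)))) (Nat.land 1 (Nat.shiftRight 96068509339 (Nat.mod N 37)))) (Nat.land 1 (Nat.shiftRight 303908791 (Nat.mod N 31)))) (Nat.land 1 (Nat.shiftRight 332473075 (Nat.mod N 29)))) (Nat.land 1 (Nat.shiftRight 340831 (Nat.mod N 23)))) (Nat.land 1 (Nat.shiftRight 199411 (Nat.mod N 19)))

/-- the next moduli -/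
noncomputable def ns3 (N p : ℕ) : Bool :=
  Nat.rec true (fun _ _ =>
    Nat.rec true (fun _ _ =>
    Nat.rec true (fun _ _ =>
    ns4 N p) (Nat.land 1 (Nat.shiftRight 107287 (Nat.mod N 17)))) (Nat.land 1 (Nat.shiftRight 571 (Nat.mod N 11)))) (Nat.land 1 (Nat.shiftRight 20863489977805260307 (Nat.mod N 65)))

/-- the second modulus -/
noncomputable def ns2 (N p : ℕ) : Bool :=
  Nat.rec true (fun _ _ =>
    ns3 N p) (Nat.land 1 (Nat.shiftRight 288872697407275667 (Nat.mod N 63)))

/-- `ns N || N = p || N < 729` by direct steps -/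
noncomputable def nsF (N p : ℕ) : Bool :=
  Nat.rec true (fun _ _ =>
    ns2 N p) (Nat.land 1 (Nat.shiftRight 19 (Nat.mod N 8)))

theorem nsF_eq (N p : ℕ) : nsF N p = (ns N || Bool.rec (Nat.blt N 729) true (Nat.beq N p)) := by
  rw [nsF, ns2, ns3, ns4, ns, L]
  simp only [tb_eq, List.any_cons, List.any_nil, Bool.or_false, Bool.or_assoc]
  rfl

end Cfsg.Agent.R2.Spec.X5.Sq
end

-- part: R2/Spec/X5/FinB
section
/-!
# S3435, box X5 (helper12): finite check for `B, C, D`
-/

set_option autoImplicit false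

namespace Cfsg.Agent.R2.Spec.X5.Sq

open Cfsg.Agent.R2.Spec.P1.Eig

/-- one case: `t = 2 h F (u ^ k0 - ε0)`, `p = u ^ k0` -/
def c1 (t c p : ℕ) : Bool := (t % c != 0) || (t / c - 1 == p) || (t / c - 1).blt 729 || ns (t / c - 1)

/-- all cases -/
def cB (h u p : ℕ) : Bool :=
  let cs := if u % 2 = 0 then [1] else [1, 2, 4]
  [p - 1, p + 1].all fun b => [1, u - 1, u + 1].all fun F => cs.all fun c => c1 (2 * h * F * b) c p

theorem c1_spec {t c p s : ℕ} (hc : 0 < c) (h : c1 t c p = true) (he : c * (s * s + 1) = t) (hs : 729 ≤ s * s) :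
    s * s = p := by
  subst he
  have h1 : c * (s * s + 1) / c - 1 = s * s := by rw [Nat.mul_div_cancel_left _ hc]; rfl
  rw [c1, h1, Nat.mul_mod_right] at h
  simp only [bne_self_eq_false, Bool.false_or, Bool.or_eq_true, beq_iff_eq, Nat.blt_eq] at h
  rcases h with (h | h) | h
  · exact h
  · omega
  · exact absurd rfl (ns_ne h s)

theorem cB_spec {h u k0 F c s : ℕ} {ε0 : ℤ} (hε : ε0 = 1 ∨ ε0 = -1) (hF : F = 1 ∨ F = u - 1 ∨ F = u + 1)
    (hc : c = 1 ∨ c = 2 ∨ c = 4) (hcu : u % 2 = 0 → c = 1) (hb : cB h u (u ^ k0) = true)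
    (he : c * (s * s + 1) = 2 * h * F * AN ε0 k0 u) (hs : 729 ≤ s * s) : s * s = u ^ k0 := by
  have hc0 : 0 < c := by omega
  rw [cB] at hb
  simp only [List.all_eq_true] at hb
  have hmem : c ∈ (if u % 2 = 0 then [1] else [1, 2, 4]) := by
    split_ifs with h1
    · rw [hcu h1]; simp
    · rcases hc with rfl | rfl | rfl <;> simp
  have hFm : F ∈ [1, u - 1, u + 1] := by
    rcases hF with rfl | rfl | rfl <;> simp
  have hA : AN ε0 k0 u ∈ [u ^ k0 - 1, u ^ k0 + 1] := by
    rcases hε with rfl | rfl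
    · rw [AN_one]; simp
    · rw [AN_neg]; simp
  exact c1_spec hc0 (hb _ hA _ hFm _ hmem) he hs

/-- inner loop -/
def go (B B' h u : ℕ) : ℕ → ℕ → ℕ → Bool
  | 0, _, _ => false
  | f + 1, k, p => if B < p then true else (((k.blt 8) && B'.blt p) || cB h u p) && go B B' h u f (k + 1) (p * u)

theorem go_spec {B B' h u : ℕ} (hu : 1 ≤ u) : ∀ {f k p : ℕ}, go B B' h u f k p = true → p = u ^ k →
    ∀ j, k ≤ j → u ^ j ≤ B → (j < 8 → u ^ j ≤ B') → cB h u (u ^ j) = true := by
  intro f
  induction f with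
  | zero => intro k p hg; exact absurd hg (by simp [go])
  | succ f ih =>
    intro k p hg hp j hkj hB hB'
    rw [go] at hg
    have hle : p ≤ B := by
      rw [hp]
      exact (Nat.pow_le_pow_right hu hkj).trans hB
    rw [if_neg (by omega), Bool.and_eq_true] at hg
    rcases Nat.eq_or_lt_of_le hkj with rfl | hlt
    · have h1 := hg.1
      rw [← hp]
      rcases Bool.or_eq_true_iff.1 h1 with h2 | h2
      · exfalso
        rw [Bool.and_eq_true, Nat.blt_eq, Nat.blt_eq] at h2
        have := hB' h2.1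
        rw [← hp] at this
        omega
      · exact h2
    · exact ih hg.2 (by rw [hp, pow_succ]) j hlt hB hB'

/-- outer loop -/
def out (B B' fuel a : ℕ) : ℕ → Bool
  | 0 => true
  | n + 1 => go B B' 1 (a + n) fuel 5 ((a + n) ^ 5) && out B B' fuel a n

theorem out_spec {B B' fuel a : ℕ} : ∀ {n : ℕ}, out B B' fuel a n = true → ∀ i < n, go B B' 1 (a + i) fuel 5 ((a + i) ^ 5) = true := by
  intro n
  induction n with
  | zero => intro _ i hi; omega
  | succ n ih =>
    intro h i hi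
    rw [out, Bool.and_eq_true] at h
    rcases Nat.lt_succ_iff_lt_or_eq.1 hi with h1 | h1
    · exact ih h.2 i h1
    · rw [h1]; exact h.1

/-- `c1` by direct steps -/
noncomputable def c1F (t c p : ℕ) : Bool :=
  Nat.rec (Nat.rec true (fun n _ => nsF n p) (Nat.div t c))
    (fun _ _ => true) (Nat.mod t c)

theorem c1F_eq : c1 = c1F := by
  funext t c p
  rw [c1, c1F]
  show _ = (Nat.rec (Nat.rec true _ (t / c)) (fun _ _ => true) (t % c) : Bool)
  cases t % c with
  | succ n => rfl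
  | zero =>
    cases t / c with
    | zero => cases (0 - 1 == p) <;> rfl
    | succ n =>
      show ((false || n == p) || n.blt 729 || ns n) = nsF n p
      have h : (n == p) = Nat.beq n p := by
        rw [Bool.eq_iff_iff]
        simp
      rw [nsF_eq, h]
      cases Nat.beq n p <;> cases ns n <;> cases n.blt 729 <;> rfl

/-- the cases of one value `t = n + 1` -/
noncomputable def ctF (o p t : ℕ) (e : Bool) : Bool :=
  Nat.rec e (fun n _ => Bool.rec false
    (Nat.rec e (fun _ _ => Bool.rec false (Bool.rec false e (c1F (Nat.succ n) 4 p)) (c1F (Nat.succ n) 2 p)) o)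
    (nsF n p)) t

theorem ctF_spec {o p t : ℕ} {e : Bool} (h : ctF o p t e = true) :
    ((if o = 0 then [1] else [1, 2, 4]).all fun c => c1 t c p) = true ∧ e = true := by
  rw [c1F_eq]
  cases t with
  | zero =>
    refine ⟨List.all_eq_true.2 fun c _ => ?_, h⟩
    show (Nat.rec (Nat.rec true _ (0 / c)) (fun _ _ => true) (0 % c) : Bool) = true
    rw [Nat.zero_div, Nat.zero_mod]
    rfl
  | succ n =>
    have h1 : c1F (n + 1) 1 p = nsF n p := by
      show (Nat.rec (Nat.rec true _ ((n + 1) / 1)) (fun _ _ => true) ((n + 1) % 1) : Bool) = _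
      rw [Nat.div_one, Nat.mod_one]
      rfl
    replace h : (Bool.rec false (Nat.rec e (fun _ _ => Bool.rec false (Bool.rec false e (c1F (n + 1) 4 p))
      (c1F (n + 1) 2 p)) o) (nsF n p) : Bool) = true := h
    rw [← h1] at h
    cases o with
    | zero =>
      rw [if_pos rfl, List.all_cons, List.all_nil]
      replace h : (Bool.rec false e (c1F (n + 1) 1 p) : Bool) = true := h
      revert h
      cases c1F (n + 1) 1 p <;> cases e <;> decide
    | succ m =>
      rw [if_neg (Nat.succ_ne_zero m), List.all_cons, List.all_cons, List.all_cons, List.all_nil]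
      replace h : (Bool.rec false (Bool.rec false (Bool.rec false e (c1F (n + 1) 4 p))
        (c1F (n + 1) 2 p)) (c1F (n + 1) 1 p) : Bool) = true := h
      revert h
      cases c1F (n + 1) 1 p <;> cases c1F (n + 1) 2 p <;> cases c1F (n + 1) 4 p <;> cases e <;> decide

/-- `cB 1 u p && e`, with `a = 2 (u - 1)`, `b = 2 (u + 1)`, `o = u % 2` -/
noncomputable def cBF (o a b p : ℕ) (e : Bool) : Bool :=
  ctF o p (Nat.mul 2 (Nat.sub p 1)) (ctF o p (Nat.mul a (Nat.sub p 1)) (ctF o p (Nat.mul b (Nat.sub p 1))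
    (ctF o p (Nat.mul 2 (Nat.succ p)) (ctF o p (Nat.mul a (Nat.succ p)) (ctF o p (Nat.mul b (Nat.succ p)) e)))))

theorem cBF_spec {u p : ℕ} {e : Bool} (h : cBF (u % 2) (2 * 1 * (u - 1)) (2 * 1 * (u + 1)) p e = true) :
    cB 1 u p = true ∧ e = true := by
  obtain ⟨h1, h⟩ := ctF_spec h
  obtain ⟨h2, h⟩ := ctF_spec h
  obtain ⟨h3, h⟩ := ctF_spec h
  obtain ⟨h4, h⟩ := ctF_spec h
  obtain ⟨h5, h⟩ := ctF_spec h
  obtain ⟨h6, h⟩ := ctF_spec h
  refine ⟨?_, h⟩
  rw [cB]
  simp only [List.all_cons, List.all_nil, Bool.and_true, Bool.and_eq_true]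
  exact ⟨⟨h1, h2, h3⟩, h4, h5, h6⟩

/-- `go` by direct steps -/
noncomputable def goF (B B' u o a b f : ℕ) : ℕ → ℕ → Bool :=
  Nat.rec (fun _ _ => false) (fun _ ih k p => Bool.rec
    (Bool.rec (cBF o a b p (ih (Nat.succ k) (Nat.mul p u))) (ih (Nat.succ k) (Nat.mul p u))
      (Bool.rec false (Nat.blt B' p) (Nat.blt k 8))) true (Nat.blt B p)) f

theorem goF_spec {B B' u : ℕ} : ∀ {f k p : ℕ}, goF B B' u (u % 2) (2 * 1 * (u - 1)) (2 * 1 * (u + 1)) f k p = true →
    go B B' 1 u f k p = true := by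
  intro f
  induction f with
  | zero => intro k p h; exact Bool.noConfusion h
  | succ f ih =>
    intro k p h
    replace h : (Bool.rec (Bool.rec (cBF (u % 2) (2 * 1 * (u - 1)) (2 * 1 * (u + 1)) p
      (goF B B' u (u % 2) (2 * 1 * (u - 1)) (2 * 1 * (u + 1)) f (k + 1) (p * u)))
      (goF B B' u (u % 2) (2 * 1 * (u - 1)) (2 * 1 * (u + 1)) f (k + 1) (p * u))
      (Bool.rec false (Nat.blt B' p) (Nat.blt k 8))) true (Nat.blt B p) : Bool) = true := h
    rw [go]
    split_ifs with hB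
    · rfl
    have h0 : Nat.blt B p = false := by
      rw [← Bool.not_eq_true, Nat.blt_eq]
      exact hB
    rw [h0] at h
    have h1 : (Bool.rec false (Nat.blt B' p) (Nat.blt k 8) : Bool) = (k.blt 8 && B'.blt p) := by
      cases k.blt 8 <;> rfl
    rw [h1] at h
    cases h2 : (k.blt 8 && B'.blt p) with
    | true =>
      rw [h2] at h
      exact ih h
    | false =>
      rw [h2] at h
      obtain ⟨h3, h4⟩ := cBF_spec h
      rw [h3, ih h4]
      rfl

/-- `out` by direct steps -/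
noncomputable def outF (B B' n : ℕ) : Bool :=
  Nat.rec true (fun m ih => Bool.rec false ih (Nat.rec false (fun v _ =>
    goF B B' (Nat.succ v) (Nat.mod (Nat.succ v) 2) (Nat.mul 2 v) (Nat.mul 2 (Nat.add v 2)) 90 5 (Nat.pow (Nat.succ v) 5))
      (Nat.add 2 m))) n

theorem outF_spec {B B' : ℕ} : ∀ {n : ℕ}, outF B B' n = true → out B B' 90 2 n = true := by
  intro n
  induction n with
  | zero => intro _; rfl
  | succ n ih =>
    intro h
    replace h : (Bool.rec false (outF B B' n) (Nat.rec false (fun v _ => goF B B' (v + 1) ((v + 1) % 2) (2 * 1 * (v + 1 - 1))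
      (2 * 1 * (v + 1 + 1)) 90 5 ((v + 1) ^ 5)) (2 + n)) : Bool) = true := h
    rw [out]
    generalize 2 + n = w at h
    cases w with
    | zero => exact Bool.noConfusion h
    | succ v =>
      replace h : (Bool.rec false (outF B B' n) (goF B B' (v + 1) ((v + 1) % 2) (2 * 1 * (v + 1 - 1))
        (2 * 1 * (v + 1 + 1)) 90 5 ((v + 1) ^ 5)) : Bool) = true := h
      cases h1 : goF B B' (v + 1) ((v + 1) % 2) (2 * 1 * (v + 1 - 1)) (2 * 1 * (v + 1 + 1)) 90 5 ((v + 1) ^ 5) with
      | false => rw [h1] at h; exact Bool.noConfusion h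
      | true =>
        rw [h1] at h
        rw [goF_spec h1, ih h]
        rfl

set_option maxRecDepth 100000 in
theorem out0 : out (2 ^ 85) (2 ^ 62) 90 2 5403 = true :=
  outF_spec (B := 38685626227668133590597632) (B' := 4611686018427387904) (by decide +kernel)

theorem out_all (u : ℕ) (hu : 2 ≤ u) (hu' : u < 5405) : go (2 ^ 85) (2 ^ 62) 1 u 90 5 (u ^ 5) = true := by
  have := out_spec out0 (u - 2) (by omega)
  rwa [show 2 + (u - 2) = u by omega] at this

/-- **The finite check, `h = 1`.** -/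
theorem finB1 {u k0 F c s : ℕ} {ε0 : ℤ} (hu : 2 ≤ u) (hk : 5 ≤ k0) (hB : u ^ k0 ≤ 2 ^ 85)
    (hB' : k0 < 8 → u ^ k0 ≤ 2 ^ 62) (hε : ε0 = 1 ∨ ε0 = -1) (hF : F = 1 ∨ F = u - 1 ∨ F = u + 1)
    (hc : c = 1 ∨ c = 2 ∨ c = 4) (hcu : u % 2 = 0 → c = 1)
    (he : c * (s * s + 1) = 2 * 1 * F * AN ε0 k0 u) (hs : 729 ≤ s * s) : s * s = u ^ k0 := by
  have hu' : u < 5405 := by
    by_contra hcon
    have h1 : 5405 ^ k0 ≤ u ^ k0 := Nat.pow_le_pow_left (by omega) k0
    rcases Nat.lt_or_ge k0 8 with h2 | h2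
    · have h3 := hB' h2
      have h4 : 5405 ^ 5 ≤ 5405 ^ k0 := Nat.pow_le_pow_right (by norm_num) hk
      have h5 : 2 ^ 62 < 5405 ^ 5 := by norm_num
      omega
    · have h4 : 5405 ^ 8 ≤ 5405 ^ k0 := Nat.pow_le_pow_right (by norm_num) h2
      have h5 : 2 ^ 85 < 5405 ^ 8 := by norm_num
      omega
  exact cB_spec hε hF hc hcu (go_spec (by omega) (out_all u hu hu') rfl k0 hk hB hB') he hs

end Cfsg.Agent.R2.Spec.X5.Sq
end

private theorem dce_b80944a8d75d : _root_.True := by
  try have : _root_.True := by simp only [_root_.Cfsg.Agent.R2.Spec.X5.Sq.out.eq_1]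
  try have : _root_.True := by simp only [_root_.Cfsg.Agent.R2.Spec.X5.Sq.go.eq_2]
  try have : _root_.True := by simp only [_root_.Cfsg.Agent.R2.Spec.X5.Sq.go.eq_def]
  try have : _root_.True := by simp only [_root_.Cfsg.Agent.R2.Spec.X5.Sq.go.eq_1]
  try have : _root_.True := by simp only [_root_.Cfsg.Agent.R2.Spec.X5.Sq.out.eq_def]
  try have : _root_.True := by simp only [_root_.Cfsg.Agent.R2.Spec.X5.Sq.ns.eq_1]
  try have : _root_.True := by simp only [_root_.Cfsg.Agent.R2.Spec.X5.Sq.out.eq_2]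
  try have : _root_.True := by simp only [_root_.Cfsg.Agent.R2.Spec.X5.Sq.cB.eq_1]
  try have : _root_.True := by simp only [_root_.Cfsg.Agent.R2.Spec.X5.Sq.c1.eq_1]
  exact _root_.True.intro
end

-- part: R2/Spec/X5/NumB
section
prune_inst 0x10040400000020000000002400000040000053000000801584001080806d2220080280048801800122c328118010008110000d002000000000034000003002080aa4000f3990f042e008f803007580c00000000020000000000000000041004000000000
set_option linter.all false
open scoped Cfsg.Agent.FastGrp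

-- part: R2/Spec/X5/FinBh
section
/-!
# S3435, box X5 (helper12): finite check for `B, C, D`, `h ≥ 3`
-/

set_option autoImplicit false

namespace Cfsg.Agent.R2.Spec.X5.Sq

open Cfsg.Agent.R2.Spec.P1.Eig

/-- outer loop -/
def outh (B B' fuel h a : ℕ) : ℕ → Bool
  | 0 => true
  | n + 1 => go B B' h ((a + n) ^ h) fuel 5 (((a + n) ^ h) ^ 5) && outh B B' fuel h a n

theorem outh_spec {B B' fuel h a : ℕ} : ∀ {n : ℕ}, outh B B' fuel h a n = true → ∀ i < n,
    go B B' h ((a + i) ^ h) fuel 5 (((a + i) ^ h) ^ 5) = true := by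
  intro n
  induction n with
  | zero => intro _ i hi; omega
  | succ n ih =>
    intro h i hi
    rw [outh, Bool.and_eq_true] at h
    rcases Nat.lt_succ_iff_lt_or_eq.1 hi with h1 | h1
    · exact ih h.2 i h1
    · rw [h1]; exact h.1

theorem outh3 : outh (2 ^ 105) (2 ^ 62) 60 3 2 22 = true := by decide +kernel
theorem outh5 : outh (2 ^ 105) (2 ^ 62) 60 5 2 7 = true := by decide +kernel
theorem outh7 : outh (2 ^ 105) (2 ^ 62) 60 7 2 4 = true := by decide +kernel
theorem outh9 : outh (2 ^ 105) (2 ^ 62) 60 9 2 3 = true := by decide +kernel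
theorem outh11 : outh (2 ^ 105) (2 ^ 62) 60 11 2 2 = true := by decide +kernel
theorem outh13 : outh (2 ^ 105) (2 ^ 62) 60 13 2 2 = true := by decide +kernel

theorem outh_all (h w : ℕ) (hh : Odd h) (h3 : 3 ≤ h) (hw : 2 ≤ w) (hB : (w ^ h) ^ 8 ≤ 2 ^ 105 ∨ (w ^ h) ^ 5 ≤ 2 ^ 62) :
    ∃ fuel, go (2 ^ 105) (2 ^ 62) h (w ^ h) fuel 5 ((w ^ h) ^ 5) = true := by
  refine ⟨60, ?_⟩
  have key : ∀ a, a ≤ w → (2 ^ 105 < (a ^ h) ^ 8 ∧ 2 ^ 62 < (a ^ h) ^ 5) → False := by
    rintro a ha ⟨h1, h2⟩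
    have h4 : (a ^ h) ^ 8 ≤ (w ^ h) ^ 8 := Nat.pow_le_pow_left (Nat.pow_le_pow_left ha h) 8
    have h5 : (a ^ h) ^ 5 ≤ (w ^ h) ^ 5 := Nat.pow_le_pow_left (Nat.pow_le_pow_left ha h) 5
    rcases hB with hB | hB
    · omega
    · omega
  have hh13 : h ≤ 13 := by
    by_contra hcon
    refine key 2 hw ⟨?_, ?_⟩
    · rw [← pow_mul]
      exact (Nat.pow_lt_pow_iff_right (by norm_num)).2 (by omega)
    · rw [← pow_mul]
      exact (Nat.pow_lt_pow_iff_right (by norm_num)).2 (by omega)
  obtain ⟨j, hj⟩ := hh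
  have hcases : h = 3 ∨ h = 5 ∨ h = 7 ∨ h = 9 ∨ h = 11 ∨ h = 13 := by omega
  rcases hcases with rfl | rfl | rfl | rfl | rfl | rfl
  · have hlt : w < 24 := by
      by_contra hcon
      exact key 24 (by omega) ⟨by norm_num, by norm_num⟩
    have := outh_spec outh3 (w - 2) (by omega)
    rwa [show 2 + (w - 2) = w by omega] at this
  · have hlt : w < 9 := by
      by_contra hcon
      exact key 9 (by omega) ⟨by norm_num, by norm_num⟩
    have := outh_spec outh5 (w - 2) (by omega)
    rwa [show 2 + (w - 2) = w by omega] at this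
  · have hlt : w < 6 := by
      by_contra hcon
      exact key 6 (by omega) ⟨by norm_num, by norm_num⟩
    have := outh_spec outh7 (w - 2) (by omega)
    rwa [show 2 + (w - 2) = w by omega] at this
  · have hlt : w < 5 := by
      by_contra hcon
      exact key 5 (by omega) ⟨by norm_num, by norm_num⟩
    have := outh_spec outh9 (w - 2) (by omega)
    rwa [show 2 + (w - 2) = w by omega] at this
  · have hlt : w < 4 := by
      by_contra hcon
      exact key 4 (by omega) ⟨by norm_num, by norm_num⟩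
    have := outh_spec outh11 (w - 2) (by omega)
    rwa [show 2 + (w - 2) = w by omega] at this
  · have hlt : w < 4 := by
      by_contra hcon
      exact key 4 (by omega) ⟨by norm_num, by norm_num⟩
    have := outh_spec outh13 (w - 2) (by omega)
    rwa [show 2 + (w - 2) = w by omega] at this

/-- **The finite check, all odd `h`.** -/
theorem finB {h w k0 F c s : ℕ} {ε0 : ℤ} (hh : Odd h) (hw : 2 ≤ w) (hk : 5 ≤ k0) (hB : (w ^ h) ^ k0 ≤ 2 ^ 85)
    (hB' : k0 < 8 → (w ^ h) ^ k0 ≤ 2 ^ 62) (hε : ε0 = 1 ∨ ε0 = -1) (hF : F = 1 ∨ F = w ^ h - 1 ∨ F = w ^ h + 1)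
    (hc : c = 1 ∨ c = 2 ∨ c = 4) (hcu : w ^ h % 2 = 0 → c = 1)
    (he : c * (s * s + 1) = 2 * h * F * AN ε0 k0 (w ^ h)) (hs : 729 ≤ s * s) : s * s = (w ^ h) ^ k0 := by
  have hu : 2 ≤ w ^ h := hw.trans (Nat.le_self_pow hh.pos.ne' w)
  rcases Nat.lt_or_ge h 3 with h3 | h3
  · have h1 : h = 1 := by
      obtain ⟨j, hj⟩ := hh
      omega
    subst h1
    exact finB1 hu hk hB hB' hε hF hc hcu he hs
  · obtain ⟨fuel, hg⟩ := outh_all h w hh h3 hw (by
      rcases Nat.lt_or_ge k0 8 with h2 | h2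
      · right
        exact (Nat.pow_le_pow_right (by omega) hk).trans (hB' h2)
      · left
        exact (Nat.pow_le_pow_right (by omega) h2).trans (hB.trans (by norm_num)))
    exact cB_spec hε hF hc hcu (go_spec (by omega) hg rfl k0 hk (hB.trans (by norm_num)) hB') he hs

/-- the same for `k0 ≥ 10`, `h ≥ 3`, a larger bound -/
theorem finB' {h w k0 F c s : ℕ} {ε0 : ℤ} (hh : Odd h) (h3 : 3 ≤ h) (hw : 2 ≤ w) (hk : 8 ≤ k0)
    (hB : (w ^ h) ^ k0 ≤ 2 ^ 105) (hε : ε0 = 1 ∨ ε0 = -1) (hF : F = 1 ∨ F = w ^ h - 1 ∨ F = w ^ h + 1)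
    (hc : c = 1 ∨ c = 2 ∨ c = 4) (hcu : w ^ h % 2 = 0 → c = 1)
    (he : c * (s * s + 1) = 2 * h * F * AN ε0 k0 (w ^ h)) (hs : 729 ≤ s * s) : s * s = (w ^ h) ^ k0 := by
  have hu : 2 ≤ w ^ h := hw.trans (Nat.le_self_pow hh.pos.ne' w)
  obtain ⟨fuel, hg⟩ := outh_all h w hh h3 hw (Or.inl ((Nat.pow_le_pow_right (by omega) hk).trans hB))
  exact cB_spec hε hF hc hcu (go_spec (by omega) hg rfl k0 (by omega) hB (by omega)) he hs

end Cfsg.Agent.R2.Spec.X5.Sq
end

-- part: R2/Spec/X5/NumB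
section
/-!
# S3435, box X5 (helper12): the numbers, families `B`, `C`, `D`
-/

set_option autoImplicit false

namespace Cfsg.Agent.R2.Spec.X5

open Cfsg.Agent.R2.Spec.P1.Eig

section

variable {q V h F c0 P0 u k0 T κ c1 P k b r n v : ℕ} {ε0 ε ε' δ : ℤ}

/-- the equality of `e3` is impossible -/
theorem e3_ne (hv : v.Prime) (hvu : v ∣ u) (hvh : ¬ v ∣ h) (hvF : ¬ v ∣ F) (hqo : Odd q) (hho : Odd h)
    (hδ : δ = 1 ∨ δ = -1)
    (h1 : (2 * h * F * (1 - ε0 * ε * u) = ε0 * ε * u * (ε0 * c0) * (1 + δ * q) : Prop)) : False := by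
  have hvi : Prime (v : ℤ) := Nat.prime_iff_prime_int.1 hv
  have hvz : (v : ℤ) ∣ u := by exact_mod_cast hvu
  have h2 : (v : ℤ) ∣ 2 * h * F * (1 - ε0 * ε * u) := by
    rw [h1]
    exact (((hvz.mul_left _).mul_right _).mul_right _)
  have h3 : ¬ (v : ℤ) ∣ (1 - ε0 * ε * u) := by
    intro h3
    have h4 := dvd_add h3 (hvz.mul_left (ε0 * ε))
    rw [sub_add_cancel] at h4
    exact hvi.not_isUnit (isUnit_of_dvd_one h4)
  have h4 := (hvi.dvd_or_dvd h2).resolve_right h3
  have h5 := (hvi.dvd_or_dvd h4).resolve_right (by exact_mod_cast hvF)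
  have h6 := (hvi.dvd_or_dvd h5).resolve_right (by exact_mod_cast hvh)
  have hv2 : v = 2 := (Nat.prime_dvd_prime_iff_eq hv Nat.prime_two).1 (by exact_mod_cast h6)
  subst hv2
  have hFo : Odd F := by
    rw [← Nat.not_even_iff_odd, even_iff_two_dvd]
    exact hvF
  obtain ⟨a, ha⟩ := hvz
  obtain ⟨b, hb⟩ := hqo
  obtain ⟨c, hc⟩ := hho.mul hFo
  have hc' : (h : ℤ) * F = 2 * c + 1 := by exact_mod_cast hc
  have hb' : (q : ℤ) = 2 * b + 1 := by exact_mod_cast hb
  have e1 : (2 * h * F * (1 - ε0 * ε * u) : ℤ) = 2 * (2 * c + 1) * (1 - ε0 * ε * u) := by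
    linear_combination 2 * (1 - ε0 * ε * u) * hc'
  rw [e1, ha] at h1
  push_cast at h1
  have hδq : ∃ e : ℤ, 1 + δ * (q : ℤ) = 2 * e := by
    rcases hδ with rfl | rfl
    · exact ⟨b + 1, by rw [hb']; ring⟩
    · exact ⟨-b, by rw [hb']; ring⟩
  obtain ⟨e, he⟩ := hδq
  rw [he] at h1
  have e2 : (2 * (2 * (c : ℤ) + 1) * (1 - ε0 * ε * (2 * a))) - ε0 * ε * (2 * a) * (ε0 * c0) * (2 * e) = 0 := by
    linear_combination h1
  have e3 : (2 : ℤ) = 4 * (-(c : ℤ) + (2 * c + 1) * (ε0 * ε * a) + ε0 * ε * a * (ε0 * c0) * e) := by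
    linear_combination e2
  omega

/-- **The data of one sign `δ`, families `B`, `C`, `D`** (`m` the rank of `S`). -/
structure SgB (q n u m k0 : ℕ) (δ : ℤ) (k : ℕ) (ε : ℤ) : Prop where
  ppm : ε = 1 ∨ ε = -1
  odd : ε = 1 → Odd k
  big : m + 1 ≤ 2 * k
  le : k ≤ m
  one : k ≤ k0 → ∃ T κ c1, c1 ∣ 2 ∧ T * c1 = AN ε k u ∧ 1 ≤ κ ∧ κ ≤ q + 1 ∧ (T : ℤ) ∣ κ * ((q ^ (n - 1) : ℕ) - δ)
  top : k = k0 + 1 → ∃ T κ c1, c1 ∣ 4 ∧ T * c1 = AN ε k u ∧ 1 ≤ κ ∧ κ ≤ q + 1 ∧ (T : ℤ) ∣ κ * ((q ^ (n - 1) : ℕ) - δ)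
  two : ∀ b ε', (ε' = 1 ∨ ε' = -1) → 1 ≤ b → k + b + 1 = m → ∃ T κ c, c ∣ 2 ∧ T * c = Nat.lcm (AN ε k u) (AN ε' b u) ∧
    1 ≤ κ ∧ κ ≤ q + 1 ∧ (T : ℤ) ∣ κ * ((q ^ (n - 1) : ℕ) - δ)
  sc6 : n = 6 → 2 * q ^ 4 ≤ 15 * (u ^ k + 1)
  sc8 : n = 8 → 2 * q ^ 6 ≤ 21 * (u ^ k + 1)
  sc10 : n = 10 → ∃ R : ℕ, q ^ 6 ≤ 4 * R ∧ R ∣ AN ε k u ∧ (R : ℤ) ∣ ((q ^ (n - 1) : ℕ) - δ)

/-- **The data, families `B`, `C`, `D`.** -/
structure NB (q n v u w h F c0 P0 m k0 : ℕ) (ε0 : ℤ) : Prop where
  D : Dat q (q ^ (n - 1)) h F c0 P0 u k0 ε0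
  n6 : 6 ≤ n
  ne : n % 2 = 0
  q3 : 3 ≤ q
  qo : Odd q
  vp : v.Prime
  vq : ¬ v ∣ q
  vu : ∃ f', 1 ≤ f' ∧ u = v ^ f'
  uw : u = w ^ h
  w2 : 2 ≤ w
  ho : Odd h
  vh : ¬ v ∣ h
  F1 : F = 1 ∨ F = u - 1 ∨ F = u + 1
  k0m : k0 = m ∧ F = 1 ∨ k0 + 1 = m
  c0d : c0 ∣ 4
  c2 : v = 2 → c0 = 1
  k5 : 5 ≤ k0
  m11 : 12 ≤ n → 11 ≤ m

theorem NB.small {w m : ℕ} (N : NB q n v u w h F c0 P0 m k0 ε0) :
    ¬ (u ^ k0 ≤ 2 ^ 85 ∧ (k0 < 8 → u ^ k0 ≤ 2 ^ 62)) ∧ ¬ (3 ≤ h ∧ 8 ≤ k0 ∧ u ^ k0 ≤ 2 ^ 105) := by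
  have hn := N.n6
  have hne := N.ne
  have hq3 := N.q3
  have hu1 := N.D.upos
  have hV : q * q ^ (n - 1) = q ^ n := by rw [← pow_succ']; congr 1; omega
  have hcP := N.D.cP hV
  obtain ⟨s, hs⟩ : ∃ s, s = q ^ (n / 2) := ⟨_, rfl⟩
  have hss : s * s = q ^ n := by
    rw [hs, ← pow_add]; congr 1; omega
  rw [← hss] at hcP
  have h729 : 729 ≤ s * s := by
    rw [hss]
    calc 729 = 3 ^ 6 := by norm_num
      _ ≤ q ^ 6 := Nat.pow_le_pow_left hq3 6
      _ ≤ q ^ n := Nat.pow_le_pow_right (by omega) hn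
  obtain ⟨f', hf', hvu⟩ := N.vu
  have hne' : s * s ≠ u ^ k0 := by
    rw [hss]
    intro h1
    apply N.vq
    apply N.vp.dvd_of_dvd_pow (n := n)
    rw [h1, hvu]
    exact dvd_pow (dvd_pow_self v (by omega)) (by have := N.k5; omega)
  have hc4 : c0 = 1 ∨ c0 = 2 ∨ c0 = 4 := by
    have h3 := Nat.le_of_dvd (by norm_num) N.c0d
    have h4 := N.c0d
    interval_cases c0 <;> omega
  have hcu : u % 2 = 0 → c0 = 1 := by
    intro h1
    apply N.c2
    have h2 : 2 ∣ v ^ f' := by rw [← hvu]; omega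
    exact ((Nat.prime_dvd_prime_iff_eq Nat.prime_two N.vp).1 (Nat.prime_two.dvd_of_dvd_pow h2)).symm
  have huw := N.uw
  constructor
  · rintro ⟨h1, h2⟩
    apply hne'
    have h3 := Sq.finB (F := F) (c := c0) (s := s) (ε0 := ε0) N.ho N.w2 N.k5 (by rw [← huw]; exact h1)
      (by rw [← huw]; exact h2) N.D.pm (by rw [← huw]; exact N.F1) hc4 (by rw [← huw]; exact hcu)
      (by rw [← huw]; exact hcP) h729
    rw [h3, huw]
  · rintro ⟨h1, h2, h3⟩
    apply hne'
    have h4 := Sq.finB' (F := F) (c := c0) (s := s) (ε0 := ε0) N.ho h1 N.w2 h2 (by rw [← huw]; exact h3)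
      N.D.pm (by rw [← huw]; exact N.F1) hc4 (by rw [← huw]; exact hcu)
      (by rw [← huw]; exact hcP) h729
    rw [h4, huw]

theorem NB.facts {w m : ℕ} (N : NB q n v u w h F c0 P0 m k0 ε0) :
    2 ≤ u ∧ 1 ≤ h ∧ 1 ≤ F ∧ F ≤ u + 1 ∧ 1 ≤ c0 ∧ c0 ≤ 4 ∧ q * q ^ (n - 1) = q ^ n ∧ q ^ 6 ≤ q ^ n ∧ ¬ v ∣ F ∧ v ∣ u ∧
      2 ^ h ≤ u := by
  obtain ⟨f', hf', hvu⟩ := N.vu
  have hn := N.n6
  have hq3 := N.q3
  have hu2 : 2 ≤ u := by rw [hvu]; exact N.vp.two_le.trans (Nat.le_self_pow (by omega) v)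
  have hvu' : v ∣ u := by rw [hvu]; exact dvd_pow_self v (by omega)
  refine ⟨hu2, N.ho.pos, ?_, ?_, ?_, Nat.le_of_dvd (by norm_num) N.c0d, by rw [← pow_succ']; congr 1; omega,
    Nat.pow_le_pow_right (by omega) hn, ?_, hvu', ?_⟩
  · rcases N.F1 with h | h | h <;> omega
  · rcases N.F1 with h | h | h <;> omega
  · exact Nat.pos_of_dvd_of_pos N.c0d (by norm_num)
  · intro hd
    have h2 := N.vp.two_le
    rcases N.F1 with h | h | h
    · rw [h] at hd
      exact N.vp.one_lt.ne' (Nat.dvd_one.1 hd)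
    · rw [h] at hd
      have h3 := Nat.dvd_sub hvu' hd
      rw [show u - (u - 1) = 1 by omega] at h3
      exact N.vp.one_lt.ne' (Nat.dvd_one.1 h3)
    · rw [h] at hd
      have h3 := (Nat.dvd_add_right hvu').1 hd
      exact N.vp.one_lt.ne' (Nat.dvd_one.1 h3)
  · rw [N.uw]
    exact Nat.pow_le_pow_left N.w2 h

theorem NB.bigP {w m : ℕ} (N : NB q n v u w h F c0 P0 m k0 ε0) :
    u ^ k0 ≤ 2 * (q ^ n + 1) + 1 ∧ (3 ≤ h → u ^ k0 ≤ q ^ n) ∧ 2 ^ 61 ≤ q ^ n + 1 ∧ (8 ≤ k0 → 2 ^ 84 ≤ q ^ n + 1) := by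
  obtain ⟨hu2, hh, hF, hFu, hc, hc4, hV, hq6, hvF, hvu, h2h⟩ := N.facts
  have hcP := N.D.cP hV
  have a2 := AN_ge N.D.pm k0 (by omega : 1 ≤ u)
  have h1 : u ^ k0 ≤ 2 * (q ^ n + 1) + 1 := by
    have e2 : 2 * AN ε0 k0 u ≤ 4 * (q ^ n + 1) := by
      calc 2 * AN ε0 k0 u ≤ 2 * h * F * AN ε0 k0 u := by
            refine Nat.mul_le_mul_right _ ?_
            nlinarith only [hh, hF]
        _ = c0 * (q ^ n + 1) := hcP.symm
        _ ≤ 4 * (q ^ n + 1) := by gcongr
    omega
  have h729 : 729 ≤ q ^ n := by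
    calc 729 = 3 ^ 6 := by norm_num
      _ ≤ q ^ 6 := Nat.pow_le_pow_left N.q3 6
      _ ≤ q ^ n := hq6
  refine ⟨h1, ?_, ?_, ?_⟩
  · intro h3
    have e2 : 6 * AN ε0 k0 u ≤ 4 * (q ^ n + 1) := by
      calc 6 * AN ε0 k0 u ≤ 2 * h * F * AN ε0 k0 u := by
            refine Nat.mul_le_mul_right _ ?_
            nlinarith only [hF, h3]
        _ = c0 * (q ^ n + 1) := hcP.symm
        _ ≤ 4 * (q ^ n + 1) := by gcongr
    omega
  · have h2 := N.small.1
    by_contra hcon
    apply h2
    refine ⟨?_, fun _ => ?_⟩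
    · calc u ^ k0 ≤ 2 ^ 62 := by omega
        _ ≤ _ := by norm_num
    · omega
  · intro h8
    have h2 := N.small.1
    by_contra hcon
    apply h2
    refine ⟨by omega, fun h9 => by omega⟩

/-- **The equality.** -/
theorem NB.eq {w m : ℕ} (N : NB q n v u w h F c0 P0 m k0 ε0) (hδ : δ = 1 ∨ δ = -1) (S : SgB q n u m k0 δ k ε) :
    k ≤ k0 ∧ (2 * h * F * (ε0 * ε * (u : ℤ) ^ (k0 - k) - 1) = ε0 * c0 * (1 + δ * q)) := by
  obtain ⟨hu2, hh, hF, hFu, hc, h88⟩ := N.facts
  revert h88; rintro ⟨hc4, hV, hq6, hvF, hvu, h2h⟩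
  obtain ⟨b1, b2, b3, b4⟩ := N.bigP
  have hq3 := N.q3
  have hn := N.n6
  have hsq := sq_le_two_mul h2h N.ho
  have hcP := N.D.cP hV
  have hkm := S.le
  have hk0 := N.k0m
  have hu1 : 1 ≤ u := by omega
  rcases Nat.lt_or_ge k0 k with hlt | hle
  · exfalso
    have hk : k = k0 + 1 := by omega
    obtain ⟨T, κ, c1, h1, h2, h3, h4, h5⟩ := S.top hk
    rw [hk] at h2
    rcases N.D.e3 S.ppm hδ (Dvd.intro _ h2) h5 h3 with h6 | h6
    · exact e3_ne N.vp hvu N.vh hvF N.qo N.ho hδ h6
    · exact N.D.e3_size hV (by omega) hq6 N.k5 hsq hh hF hFu hc hc4 (by omega) h4 S.ppm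
        (Nat.le_of_dvd (by norm_num) h1) h2 h6
  · refine ⟨hle, ?_⟩
    obtain ⟨e, he⟩ : ∃ e, k0 = k + e := ⟨k0 - k, by omega⟩
    obtain ⟨T, κ, c1, h1, h2, h3, h4, h5⟩ := S.one hle
    have hc1 := Nat.le_of_dvd two_pos h1
    have D' : Dat q (q ^ (n - 1)) h F c0 P0 u (k + e) ε0 := by rw [← he]; exact N.D
    rw [show k0 - k = e by omega]
    obtain ⟨G, hG⟩ : ∃ G, G = 2 * h * F * u ^ e := ⟨_, rfl⟩
    have hue := Nat.one_le_pow e u hu1
    have hHG : 2 * h * F ≤ G := by rw [hG]; exact Nat.le_mul_of_pos_right _ hue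
    have g1 : G * u ^ k ≤ c0 * (q ^ n + 1) + G := by
      have a2 := AN_ge N.D.pm k0 hu1
      calc G * u ^ k = 2 * h * F * u ^ k0 := by rw [hG, he, pow_add]; ring
        _ ≤ 2 * h * F * (AN ε0 k0 u + 1) := Nat.mul_le_mul_left _ a2
        _ = c0 * (q ^ n + 1) + 2 * h * F := by rw [hcP]; ring
        _ ≤ _ := Nat.add_le_add_left hHG _
    rcases (show n ≠ 10 ∨ n = 10 by omega) with hn10 | hn10
    swap
    · obtain ⟨R, r1, r2, r3⟩ := S.sc10 hn10
      rcases D'.e1 (κ := 1) S.ppm hδ r2 (by rw [Nat.cast_one, one_mul]; exact r3) le_rfl with h6 | h6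
      · exact h6
      exfalso
      rw [one_mul] at h6
      subst hn10
      have hq : 69 ≤ q := by
        by_contra hcon
        have h7 : q ^ 10 ≤ 68 ^ 10 := Nat.pow_le_pow_left (by omega) 10
        norm_num at h7 b3
        omega
      obtain ⟨n1, n2, n3⟩ := num10R hq
      have hRX : R ≤ u ^ k + 1 := by
        have hAN : 0 < AN ε k u := by
          have a3 := AN_ge S.ppm k hu1
          have hbig := S.big
          have hk5 := N.k5
          have : 2 ≤ u ^ k := le_trans hu2 (Nat.le_self_pow (by omega) u)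
          omega
        exact (Nat.le_of_dvd hAN r2).trans (AN_le S.ppm k u)
      have hRG : R ≤ 2 * G + c0 * (q + 1) := by
        refine h6.trans ?_
        rw [hG]
        calc 2 * h * F * (u ^ e + 1) + c0 * (q + 1) ≤ 2 * h * F * (u ^ e + u ^ e) + c0 * (q + 1) := by gcongr
          _ = _ := by ring
      have := size_R g1 hRX r1 hRG n1 n2 hc4
      omega
    rcases D'.e1 S.ppm hδ (Dvd.intro _ h2) h5 h3 with h6 | h6
    · exact h6
    exfalso
    have g2 : c0 * (q ^ n + 1) ≤ G * (u ^ k + 1) := by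
      have a2 := AN_le N.D.pm k0 u
      calc c0 * (q ^ n + 1) = 2 * h * F * AN ε0 k0 u := hcP
        _ ≤ 2 * h * F * (u ^ k0 + 1) := Nat.mul_le_mul_left _ a2
        _ = G * u ^ k + 2 * h * F := by rw [hG, he, pow_add]; ring
        _ ≤ G * u ^ k + G := Nat.add_le_add_left hHG _
        _ = _ := by ring
    have g3 : u ^ k ≤ 1 + 2 * ((q + 1) * (2 * G + c0 * (q + 1))) := by
      have a3 := AN_ge S.ppm k hu1
      calc u ^ k ≤ AN ε k u + 1 := a3
        _ = 1 + c1 * T := by rw [← h2]; ring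
        _ ≤ 1 + 2 * ((q + 1) * (2 * h * F * (u ^ e + 1) + c0 * (q + 1))) := by
          gcongr
          exact h6.trans (Nat.mul_le_mul_right _ h4)
        _ ≤ 1 + 2 * ((q + 1) * (2 * h * F * (u ^ e + u ^ e) + c0 * (q + 1))) := by gcongr
        _ = _ := by rw [hG]; ring
    rcases Nat.lt_or_ge n 12 with hn12 | hn12
    · have hn3 : n = 6 ∨ n = 8 := by
        have := N.ne
        (clear * - hn hn10 hn12 this; omega)
      rcases hn3 with rfl | rfl
      · have hq : 1149 ≤ q := by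
          by_contra hcon
          have h7 : q ^ 6 ≤ 1148 ^ 6 := Nat.pow_le_pow_left (by omega) 6
          norm_num at h7 b3
          omega
        obtain ⟨n1, n2, n3⟩ := num6 hq
        have := size_one_B g1 g2 g3 (S.sc6 rfl) n1 n2 hc hc4 le_rfl
        omega
      · have hq : 197 ≤ q := by
          by_contra hcon
          have h7 : q ^ 8 ≤ 196 ^ 8 := Nat.pow_le_pow_left (by omega) 8
          norm_num at h7 b3
          omega
        obtain ⟨n1, n2, n3⟩ := num8 hq
        have := size_one_B g1 g2 g3 (S.sc8 rfl) n1 n2 hc hc4 le_rfl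
        omega
    · have hm := N.m11 hn12
      have hbig := S.big
      have hu10 : u ^ 10 ≤ 3 * q ^ n := by
        have : u ^ 10 ≤ u ^ k0 := Nat.pow_le_pow_right hu1 (by omega)
        omega
      have hGB : G ≤ 256 * (q + 1) * (h * (u + 1)) ^ 2 := by
        have gg : ∀ Z, Z ≤ 2 * (h * (u + 1)) → Z ≤ 256 * (q + 1) * (h * (u + 1)) ^ 2 := by
          intro Z hZ
          refine hZ.trans ?_
          have : 1 ≤ h * (u + 1) := Nat.mul_pos hh (by omega)
          calc 2 * (h * (u + 1)) ≤ 256 * (q + 1) * (h * (u + 1)) := Nat.mul_le_mul_right _ (by omega)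
            _ ≤ _ := Nat.mul_le_mul_left _ (Nat.le_self_pow two_ne_zero _)
        rcases Nat.lt_or_ge k (m - 1) with hkm1 | hkm1
        · obtain ⟨b, hb⟩ : ∃ b, k + b + 1 = m := ⟨m - 1 - k, by (clear * - hkm1; omega)⟩
          obtain ⟨r, hr⟩ : ∃ r, k0 = k + b + r := ⟨k0 - (k + b), by (clear * - hk0 hb; omega)⟩
          obtain ⟨ε', hε', hg⟩ := gcd_two (k := k) (b := b) (u := u) S.ppm (by (clear * - he hm hbig hb hr; omega)) (by (clear * - he hm hkm1 hb hr; omega)) hu1 S.odd
          obtain ⟨T2, κ2, c2, p1, p2, p3, p4, p5⟩ := S.two b ε' hε' (by (clear * - he hm hkm1 hb hr hε'; omega)) hb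
          have D2 : Dat q (q ^ (n - 1)) h F c0 P0 u (k + b + r) ε0 := by rw [← hr]; exact N.D
          have h7 := D2.e2_size hV hq3 (Nat.pow_le_pow_right (by omega) hn12) (by (clear * - hk0 hbig hr; omega)) (by (clear * - he hm hkm1 hb hr hε'; omega)) (by (clear * - hm hbig; omega)) hu2 hc4 hc
            hh hF S.ppm hε' hδ p3 p4 p5 p1 p2 hg
          have hFr : F * u ^ r ≤ u + 1 := by
            rcases hk0 with ⟨h8, h9⟩ | h8
            · have : r = 1 := by omega
              rw [this, h9, pow_one]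
              omega
            · have : r = 0 := by omega
              rw [this, pow_zero, mul_one]
              exact hFu
          have her : e = b + r := by omega
          calc G = 2 * h * F * u ^ r * u ^ b := by rw [hG, her, pow_add]; ring
            _ ≤ 2 * h * F * u ^ r * (64 * (q + 1) * (2 * h * F * u ^ r)) := Nat.mul_le_mul_left _ h7
            _ = 256 * (q + 1) * (h * (F * u ^ r)) ^ 2 := by ring
            _ ≤ 256 * (q + 1) * (h * (u + 1)) ^ 2 := by gcongr
        · apply gg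
          rw [hG]
          rcases hk0 with ⟨h8, h9⟩ | h8
          · rw [h9]
            calc 2 * h * 1 * u ^ e ≤ 2 * h * 1 * u ^ 1 :=
                  Nat.mul_le_mul_left _ (Nat.pow_le_pow_right hu1 (by omega))
              _ ≤ _ := by rw [pow_one]; linarith only []
          · have : e = 0 := by omega
            rw [this, pow_zero]
            calc 2 * h * F * 1 = 2 * (h * F) := by ring
              _ ≤ _ := by gcongr
      have h8 := size_two_B g2 g3 hGB hc4 hc hq3 hh hu2 hn12 rfl hu10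
      rcases fin_two_B h8 h2h hu10 N.ho with ⟨h9, h10⟩ | ⟨h9, h10⟩
      · apply N.small.1
        refine ⟨?_, fun h => by omega⟩
        calc u ^ k0 ≤ 2 * (q ^ n + 1) + 1 := b1
          _ ≤ 2 ^ 85 := by norm_num at h10 ⊢; omega
      · apply N.small.2
        refine ⟨h9, by omega, ?_⟩
        calc u ^ k0 ≤ q ^ n := b2 h9
          _ ≤ 2 ^ 105 := by norm_num at h10 ⊢; omega

/-- **The contradiction.** -/
theorem NB.false {w m k' : ℕ} {ε' : ℤ} (N : NB q n v u w h F c0 P0 m k0 ε0) (S1 : SgB q n u m k0 1 k ε)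
    (S2 : SgB q n u m k0 (-1) k' ε') : False := by
  obtain ⟨hu2, hh, hF, hFu, hc, hc4, hV, hq6, hvF, hvu, h2h⟩ := N.facts
  obtain ⟨f', hf', hvu'⟩ := N.vu
  obtain ⟨h1, h2⟩ := N.eq (Or.inl rfl) S1
  obtain ⟨h3, h4⟩ := N.eq (Or.inr rfl) S2
  refine N.D.zero_all (n := n) (Nat.even_iff.2 N.ne) N.n6 hV N.vp hvu' hf' N.vq (by have := N.k5; omega) N.qo N.q3 N.ho
    (fun hv2 => ?_) hF N.c0d N.c2 N.F1 (pm_mul N.D.pm S1.ppm) (pm_mul N.D.pm S2.ppm) h2 h4
  rw [← Nat.not_even_iff_odd, even_iff_two_dvd, ← hv2]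
  exact hvF

end

end Cfsg.Agent.R2.Spec.X5
end

private theorem dce_772f9ec087c3 : _root_.True := by
  try have : _root_.True := by simp only [_root_.Cfsg.Agent.R2.Spec.X5.Sq.outh.eq_2]
  try have : _root_.True := by simp only [_root_.Cfsg.Agent.R2.Spec.X5.Sq.outh.eq_def]
  try have : _root_.True := by simp only [_root_.Cfsg.Agent.R2.Spec.X5.Sq.outh.eq_1]
  exact _root_.True.intro
end

-- part: R2/Spec/X3/Base
section
prune_inst 0x10060440000020000180002000000040000053000000801580001080006d2202080280148a01900126c120130410000000000d000000000000034000003002080a800003110010406008f803007580c00000000020000000000000000041004000000000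
set_option linter.all false
open scoped Cfsg.Agent.FastGrp

/-!
# Cross characteristic sections of groups isospectral to `L₄(x)`, `x = ± q`: the interface (helper16, S3435, box X3)

`x` is an integer, `|x| = p ^ k` with `5 ≤ p`; `L₄(x) = PSL₄(q)` for `x = q`, `PSU₄(q)` for `x = -q`.
* type I  : `x % 4 = 1`, `5 ≤ x`, `2 M = x² + 1`;
* type II : `x % 4 = 3`, `7 ≤ x` or `x ≤ -13`, `δ M = x² + x + 1`, `δ = (3, x - 1)`.

`Cand p x M S`: all element orders of `S` are element orders of `L₄(x)`, and `M` is an element order of `S`.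
-/

set_option autoImplicit false

namespace Cfsg.Agent.R2.Spec.X3

/-- type I -/
def TI (x : ℤ) (M : ℕ) : Prop := x % 4 = 1 ∧ 5 ≤ x ∧ 2 * (M : ℤ) = x ^ 2 + 1

/-- type II -/
def TII (x : ℤ) (M : ℕ) (δ : ℤ) : Prop :=
  x % 4 = 3 ∧ (7 ≤ x ∨ x ≤ -13) ∧ ((δ = 1 ∧ x % 3 ≠ 1) ∨ (δ = 3 ∧ x % 3 = 1)) ∧ δ * M = x ^ 2 + x + 1

/-- the order of the centre of the simply connected group -/
def cc (x : ℤ) : ℤ := if x % 4 = 1 then 4 else 2

/-- the element orders of `L₄(x)` -/
def Sp (p : ℕ) (x n : ℤ) : Prop :=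
  cc x * n ∣ x ^ 3 - 1 ∨ cc x * n ∣ (x ^ 2 + 1) * (x + 1) ∨ n ∣ x ^ 2 - 1 ∨ cc x * n ∣ p * (x ^ 2 - 1) ∨ n ∣ p * (x - 1)

/-- the section -/
structure Cand (p : ℕ) (x : ℤ) (M : ℕ) (S : Type*) [Group S] : Prop where
  hp : p.Prime
  h5 : 5 ≤ p
  ex : ∃ k : ℕ, 1 ≤ k ∧ x.natAbs = p ^ k
  typ : TI x M ∨ ∃ δ, TII x M δ
  spec : ∀ g : S, Sp p x (orderOf g : ℕ)
  elt : ∃ g : S, orderOf g = M

theorem cc_one {x : ℤ} (h : x % 4 = 1) : cc x = 4 := by rw [cc, if_pos h]
theorem cc_three {x : ℤ} (h : x % 4 = 3) : cc x = 2 := by rw [cc, if_neg (by omega)]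

namespace Cand

variable {p M : ℕ} {x : ℤ} {S : Type*} [Group S]

theorem congr {S' : Type*} [Group S'] (h : Cand p x M S) (e : S ≃* S') : Cand p x M S' := by
  have key : ∀ g : S', orderOf (e.symm g) = orderOf g := fun g =>
    orderOf_injective e.symm.toMonoidHom e.symm.injective g
  obtain ⟨g, hg⟩ := h.elt
  refine ⟨h.hp, h.h5, h.ex, h.typ, fun y => ?_, ⟨e g, ?_⟩⟩
  · rw [← key]; exact h.spec _
  · rw [← key, MulEquiv.symm_apply_apply, hg]

variable (h : Cand p x M S)

include h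

theorem p_dvd : (p : ℤ) ∣ x := by
  obtain ⟨k, hk, hx⟩ := h.ex
  rw [← Int.dvd_natAbs, hx]
  push_cast
  exact dvd_pow_self _ (by omega)

theorem odd : x % 2 = 1 := by
  rcases h.typ with ⟨h1, -⟩ | ⟨δ, h1, -⟩ <;> (clear * - h1; omega)

/-- either `p = |x|` or `5 p ≤ |x|` -/
theorem p_cases : (p : ℤ) = |x| ∨ 5 * (p : ℤ) ≤ |x| := by
  obtain ⟨k, h1, h2⟩ := h.ex
  have h5 := h.h5
  rw [Int.abs_eq_natAbs, h2]
  rcases Nat.lt_or_ge k 2 with hk | hk
  · have : k = 1 := by omega
    left; rw [this, pow_one]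
  · right
    obtain ⟨m, rfl⟩ : ∃ m, k = 2 + m := ⟨k - 2, by omega⟩
    rw [pow_add]
    have h3 : 1 ≤ p ^ m := Nat.one_le_pow _ _ (by omega)
    have : 5 * p ≤ p ^ 2 * p ^ m := by
      calc 5 * p ≤ p * p := Nat.mul_le_mul_right _ h5
        _ = p ^ 2 * 1 := by ring
        _ ≤ p ^ 2 * p ^ m := Nat.mul_le_mul_left _ h3
    exact_mod_cast this

theorem x_bd : (5 ≤ x ∧ x % 4 = 1) ∨ (7 ≤ x ∧ x % 4 = 3) ∨ (x ≤ -13 ∧ x % 4 = 3) := by
  rcases h.typ with ⟨h1, h2, -⟩ | ⟨δ, h1, h2, -⟩
  · exact Or.inl ⟨h2, h1⟩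
  · rcases h2 with h2 | h2
    · exact Or.inr (Or.inl ⟨h2, h1⟩)
    · exact Or.inr (Or.inr ⟨h2, h1⟩)

theorem M_ge : 13 ≤ M := by
  rcases h.typ with ⟨h1, h2, h3⟩ | ⟨δ, h1, h2, h3, h4⟩
  · have : (26 : ℤ) ≤ 2 * M := by rw [h3]; nlinarith only [h2]
    omega
  · rcases h2 with h2 | h2
    · rcases (by omega : x = 7 ∨ 8 ≤ x) with rfl | h5
      · rcases h3 with ⟨h3, h6⟩ | ⟨h3, h6⟩
        · norm_num at h6
        · subst h3; norm_num at h4; omega
      · rcases h3 with ⟨rfl, -⟩ | ⟨rfl, -⟩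
        · have : (57 : ℤ) ≤ 1 * M := by rw [h4]; nlinarith only [h2]
          omega
        · have : (57 : ℤ) ≤ 3 * M := by rw [h4]; nlinarith only [h2]
          omega
    · rcases h3 with ⟨rfl, -⟩ | ⟨rfl, -⟩
      · have : (57 : ℤ) ≤ 1 * M := by rw [h4]; nlinarith only [h2]
        omega
      · have : (57 : ℤ) ≤ 3 * M := by rw [h4]; nlinarith
        omega

theorem M_pos : 0 < M := by have := h.M_ge; omega

theorem M_odd : M % 2 = 1 := by
  rcases h.typ with ⟨h1, h2, h3⟩ | ⟨δ, h1, h2, h3, h4⟩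
  · obtain ⟨t, rfl⟩ : ∃ t, x = 4 * t + 1 := ⟨x / 4, by omega⟩
    have : (M : ℤ) = 2 * (4 * t ^ 2 + 2 * t) + 1 := by linarith only [h3]
    omega
  · obtain ⟨t, rfl⟩ : ∃ t, x = 4 * t + 3 := ⟨x / 4, by omega⟩
    have e : (4 * t + 3) ^ 2 + (4 * t + 3) + 1 = 2 * (8 * t ^ 2 + 14 * t + 6) + 1 := by ring
    rw [e] at h4
    rcases h3 with ⟨rfl, -⟩ | ⟨rfl, -⟩ <;> omega

theorem not_three : ¬ 3 ∣ M := by
  rintro ⟨m, rfl⟩
  rcases h.typ with ⟨h1, h2, h3⟩ | ⟨δ, h1, h2, h3, h4⟩
  · push_cast at h3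
    have h5 : (x ^ 2 + 1) % 3 = 0 := by rw [← h3]; omega
    have h6 : x % 3 = 0 ∨ x % 3 = 1 ∨ x % 3 = 2 := by (clear * -; omega)
    rcases h6 with h6 | h6 | h6 <;> rw [Int.add_emod, pow_two, Int.mul_emod, h6] at h5 <;> norm_num at h5
  · push_cast at h4
    have h6 : x % 9 = 0 ∨ x % 9 = 1 ∨ x % 9 = 2 ∨ x % 9 = 3 ∨ x % 9 = 4 ∨ x % 9 = 5 ∨ x % 9 = 6 ∨ x % 9 = 7 ∨ x % 9 = 8 := by
      (clear * -; omega)
    obtain ⟨t, r, rfl, hr⟩ : ∃ t r, x = 9 * t + r ∧ (r = 0 ∨ r = 1 ∨ r = 2 ∨ r = 3 ∨ r = 4 ∨ r = 5 ∨ r = 6 ∨ r = 7 ∨ r = 8) :=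
      ⟨x / 9, x % 9, by omega, h6⟩
    have e : (9 * t + r) ^ 2 + (9 * t + r) + 1 = 9 * (9 * t ^ 2 + 2 * t * r + t) + (r ^ 2 + r + 1) := by ring
    rw [e] at h4
    generalize 9 * t ^ 2 + 2 * t * r + t = w at h4
    rcases h3 with ⟨rfl, h3⟩ | ⟨rfl, h3⟩ <;> rcases hr with rfl | rfl | rfl | rfl | rfl | rfl | rfl | rfl | rfl <;>
      norm_num only [_root_.one_mul] at h4 <;> (clear * - h4 h3; omega)

/-- the prime divisors of `M` -/
theorem prime_facts {r : ℕ} (hr : r.Prime) (hrM : r ∣ M) : r ≠ 2 ∧ r ≠ 3 ∧ r ≠ p ∧ ¬ (r : ℤ) ∣ x ∧ ¬ (r : ℤ) ∣ x ^ 2 - 1 ∧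
    (x % 4 = 1 → ¬ (r : ℤ) ∣ x ^ 3 - 1) ∧ (x % 4 = 3 → ¬ (r : ℤ) ∣ (x ^ 2 + 1) * (x + 1)) := by
  have hr2 : r ≠ 2 := by
    rintro rfl
    have := h.M_odd
    omega
  have hr3 : r ≠ 3 := by
    rintro rfl
    exact h.not_three hrM
  have hrZ : (r : ℤ) ∣ M := by exact_mod_cast hrM
  have hri : Prime (r : ℤ) := Nat.prime_iff_prime_int.1 hr
  have n2 : ¬ (r : ℤ) ∣ 2 := fun h1 => hr2 ((Nat.prime_dvd_prime_iff_eq hr Nat.prime_two).1 (by exact_mod_cast h1))
  have n3 : ¬ (r : ℤ) ∣ 3 := fun h1 => hr3 ((Nat.prime_dvd_prime_iff_eq hr Nat.prime_three).1 (by exact_mod_cast h1))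
  have n1 : ¬ (r : ℤ) ∣ 1 := fun h1 => hri.not_unit (isUnit_of_dvd_one h1)
  have main : ¬ (r : ℤ) ∣ x ∧ ¬ (r : ℤ) ∣ x ^ 2 - 1 ∧ (x % 4 = 1 → ¬ (r : ℤ) ∣ x ^ 3 - 1) ∧
      (x % 4 = 3 → ¬ (r : ℤ) ∣ (x ^ 2 + 1) * (x + 1)) := by
    rcases h.typ with ⟨h1, h2, h3⟩ | ⟨δ, h1, h2, h3, h4⟩
    · have hd : (r : ℤ) ∣ x ^ 2 + 1 := by rw [← h3]; exact hrZ.mul_left 2
      have g1 : ¬ (r : ℤ) ∣ x := fun h5 => n1 (by
        have := dvd_sub hd (Dvd.dvd.mul_right h5 x)
        rwa [show x ^ 2 + 1 - x * x = 1 by ring] at this)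
      have g2 : ¬ (r : ℤ) ∣ x ^ 2 - 1 := fun h5 => n2 (by
        have := dvd_sub hd h5
        rwa [show x ^ 2 + 1 - (x ^ 2 - 1) = 2 by ring] at this)
      refine ⟨g1, g2, fun _ h5 => g2 ?_, fun h5 => by omega⟩
      have h6 := dvd_sub (Dvd.dvd.mul_left hd x) h5
      rw [show x * (x ^ 2 + 1) - (x ^ 3 - 1) = x + 1 by ring] at h6
      have := Dvd.dvd.mul_right h6 (x - 1)
      rwa [show (x + 1) * (x - 1) = x ^ 2 - 1 by ring] at this
    · have hd : (r : ℤ) ∣ x ^ 2 + x + 1 := by rw [← h4]; exact hrZ.mul_left δ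
      have g1 : ¬ (r : ℤ) ∣ x := fun h5 => n1 (by
        have := dvd_sub hd (Dvd.dvd.mul_right h5 (x + 1))
        rwa [show x ^ 2 + x + 1 - x * (x + 1) = 1 by ring] at this)
      have g2 : ¬ (r : ℤ) ∣ x ^ 2 - 1 := fun h5 => by
        have h6 := dvd_sub hd h5
        rw [show x ^ 2 + x + 1 - (x ^ 2 - 1) = x + 2 by ring] at h6
        have h7 := dvd_sub (Dvd.dvd.mul_right h6 (x - 2)) h5
        rw [show (x + 2) * (x - 2) - (x ^ 2 - 1) = -3 by ring] at h7
        exact n3 ((dvd_neg).1 h7)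
      have g3 : ¬ (r : ℤ) ∣ x + 1 := fun h5 => g2 (by
        have := Dvd.dvd.mul_right h5 (x - 1)
        rwa [show (x + 1) * (x - 1) = x ^ 2 - 1 by ring] at this)
      have g4 : ¬ (r : ℤ) ∣ x ^ 2 + 1 := fun h5 => g1 (by
        have := dvd_sub hd h5
        rwa [show x ^ 2 + x + 1 - (x ^ 2 + 1) = x by ring] at this)
      refine ⟨g1, g2, fun h5 => by omega, fun _ h5 => ?_⟩
      rcases hri.dvd_or_dvd h5 with h6 | h6
      · exact g4 h6
      · exact g3 h6
  refine ⟨hr2, hr3, ?_, main⟩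
  rintro rfl
  exact main.1 h.p_dvd

/-- **An element order not prime to `M`.** -/
theorem abs {r : ℕ} (hr : r.Prime) (hrM : r ∣ M) {g : S} (hg : r ∣ orderOf g) :
    (x % 4 = 1 → 2 * (orderOf g : ℤ) ∣ M * (x + 1)) ∧
    (∀ δ, TII x M δ → 2 * (orderOf g : ℤ) ∣ M * (δ * (x - 1))) := by
  obtain ⟨h2, h3, hrp, h0, h1, hI, hII⟩ := h.prime_facts hr hrM
  have hgZ : (r : ℤ) ∣ (orderOf g : ℕ) := by exact_mod_cast hg
  have hri : Prime (r : ℤ) := Nat.prime_iff_prime_int.1 hr
  have np : ¬ (r : ℤ) ∣ p := fun h5 => hrp ((Nat.prime_dvd_prime_iff_eq hr h.hp).1 (by exact_mod_cast h5))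
  have nm : ¬ (r : ℤ) ∣ x - 1 := fun h5 => h1 (by
    have := Dvd.dvd.mul_right h5 (x + 1)
    rwa [show (x - 1) * (x + 1) = x ^ 2 - 1 by ring] at this)
  have k3 : ¬ ((orderOf g : ℕ) : ℤ) ∣ x ^ 2 - 1 := fun hs => h1 (hgZ.trans hs)
  have k4 : ¬ cc x * ((orderOf g : ℕ) : ℤ) ∣ p * (x ^ 2 - 1) := fun hs => by
    rcases hri.dvd_or_dvd ((hgZ.trans (dvd_mul_left _ _)).trans hs) with h5 | h5
    · exact np h5
    · exact h1 h5
  have k5 : ¬ ((orderOf g : ℕ) : ℤ) ∣ p * (x - 1) := fun hs => by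
    rcases hri.dvd_or_dvd (hgZ.trans hs) with h5 | h5
    · exact np h5
    · exact nm h5
  constructor
  · intro hx
    have hty : TI x M := by
      rcases h.typ with h4 | ⟨δ, h4, -⟩
      · exact h4
      · omega
    rcases h.spec g with hs | hs | hs | hs | hs
    · exact absurd (hgZ.trans ((dvd_mul_left _ _).trans hs)) (hI hx)
    · rw [cc_one hx, ← hty.2.2] at hs
      obtain ⟨c, hc⟩ := hs
      exact ⟨c, by linarith⟩
    · exact absurd hs k3
    · exact absurd hs k4
    · exact absurd hs k5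
  · intro δ hty
    rcases h.spec g with hs | hs | hs | hs | hs
    · rw [cc_three hty.1] at hs
      have e : x ^ 3 - 1 = M * (δ * (x - 1)) := by
        have := hty.2.2.2
        linear_combination (1 - x) * this
      rwa [e] at hs
    · exact absurd (hgZ.trans ((dvd_mul_left _ _).trans hs)) (hII hty.1)
    · exact absurd hs k3
    · exact absurd hs k4
    · exact absurd hs k5

/-- primes dividing `M` are not joined to 2 -/
theorem not_two_dvd {r : ℕ} (hr : r.Prime) (hrM : r ∣ M) {g : S} (hg : r ∣ orderOf g) : ¬ 2 ∣ orderOf g := by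
  intro h2
  obtain ⟨hI, hII⟩ := h.abs hr hrM hg
  have h2Z : (2 : ℤ) ∣ (orderOf g : ℕ) := by exact_mod_cast h2
  have hMo := h.M_odd
  obtain ⟨m, hm⟩ : ∃ m : ℤ, (M : ℤ) = 2 * m + 1 := ⟨M / 2, by omega⟩
  obtain ⟨n, hn⟩ := h2Z
  rcases h.typ with hty | ⟨δ, hty⟩
  · obtain ⟨c, hc⟩ := hI hty.1
    obtain ⟨t, ht⟩ : ∃ t, x = 4 * t + 1 := ⟨x / 4, by have := hty.1; omega⟩
    rw [hm, hn, ht] at hc
    have e : 2 * (2 * (2 * m * t + m + t - n * c) + 1) = 0 := by linear_combination hc
    omega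
  · obtain ⟨c, hc⟩ := hII δ hty
    obtain ⟨t, ht⟩ : ∃ t, x = 4 * t + 3 := ⟨x / 4, by have := hty.1; omega⟩
    rcases hty.2.2.1 with ⟨rfl, -⟩ | ⟨rfl, -⟩
    · rw [hm, hn, ht] at hc
      have e : 2 * (2 * (2 * m * t + m + t - n * c) + 1) = 0 := by linear_combination hc
      omega
    · rw [hm, hn, ht] at hc
      have e : 2 * (2 * (3 * (2 * m * t + m + t) - n * c + 1) + 1) = 0 := by linear_combination hc
      omega

theorem not_adj [Finite S] {r : ℕ} (hr : r.Prime) (hrM : r ∣ M) : ¬ H94.PG.Adj S r 2 := by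
  rintro ⟨-, -, hne, a, b, ha, hb, hc⟩
  have ho : orderOf (a * b) = r * 2 := by
    rw [hc.orderOf_mul_eq_mul_orderOf_of_coprime (by rw [ha, hb]; exact (Nat.coprime_primes hr Nat.prime_two).2 hne),
      ha, hb]
  exact h.not_two_dvd hr hrM (g := a * b) (by rw [ho]; exact dvd_mul_right _ _) (by rw [ho]; exact dvd_mul_left _ _)

theorem dvd_card [Finite S] {r : ℕ} (hrM : r ∣ M) : r ∣ Nat.card S := by
  obtain ⟨g, hg⟩ := h.elt
  exact (hg ▸ hrM).trans (orderOf_dvd_natCard g)

theorem exists_prime : ∃ r : ℕ, r.Prime ∧ r ∣ M :=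
  Nat.exists_prime_and_dvd (by have := h.M_ge; omega)

/-- an element order divisible by a prime divisor of `M` -/
theorem absN {N r : ℕ} (he : ∃ g : S, orderOf g = N) (hr : r.Prime) (hrM : r ∣ M) (hrN : r ∣ N) :
    (x % 4 = 1 → 2 * (N : ℤ) ∣ M * (x + 1)) ∧ (∀ δ, TII x M δ → 2 * (N : ℤ) ∣ M * (δ * (x - 1))) := by
  obtain ⟨g, rfl⟩ := he
  exact h.abs hr hrM hrN

/-- orders divisible by a prime divisor of `M` are odd -/
theorem odd_of_dvd {T r : ℕ} (hT : ∃ g : S, orderOf g = T) (hr : r.Prime) (hrM : r ∣ M) (hrT : r ∣ T) : T % 2 = 1 := by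
  obtain ⟨g, rfl⟩ := hT
  have h1 := h.not_two_dvd hr hrM hrT
  omega

theorem odd_of_M {T : ℕ} (hT : ∃ g : S, orderOf g = T) (hMT : M ∣ T) : T % 2 = 1 := by
  obtain ⟨r, hr, hrM⟩ := h.exists_prime
  exact h.odd_of_dvd hT hr hrM (hrM.trans hMT)

/-- an element order divisible by `M` -/
theorem tor {T : ℕ} (he : ∃ g : S, orderOf g = T) (hT : M ∣ T) : ∃ a : ℕ, T = a * M ∧ a % 2 = 1 ∧ 1 ≤ a ∧
    (x % 4 = 1 → 2 * (a : ℤ) ∣ x + 1) ∧ (∀ δ, TII x M δ → 2 * (a : ℤ) ∣ δ * (x - 1)) := by
  obtain ⟨r, hr, hrM⟩ := h.exists_prime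
  obtain ⟨hI, hII⟩ := h.absN he hr hrM (hrM.trans hT)
  have ho := h.odd_of_M he hT
  obtain ⟨a, rfl⟩ := hT
  have hM0 : (M : ℤ) ≠ 0 := by have := h.M_pos; omega
  have ha : a % 2 = 1 := by
    rcases Nat.mod_two_eq_zero_or_one a with h4 | h4
    · rw [Nat.mul_mod, h4] at ho; simp at ho
    · exact h4
  refine ⟨a, mul_comm _ _, ha, by omega, fun hx => ?_, fun δ hδ => ?_⟩
  · obtain ⟨c, hc⟩ := hI hx
    refine ⟨c, mul_left_cancel₀ hM0 ?_⟩
    rw [hc]; push_cast; ring
  · obtain ⟨c, hc⟩ := hII δ hδ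
    refine ⟨c, mul_left_cancel₀ hM0 ?_⟩
    rw [hc]; push_cast; ring

/-- `|x|` in terms of `M` -/
theorem x_sq_le : 3 * x ^ 2 ≤ 10 * M ∨ ((x ≤ -17 ∨ 7 ≤ x) ∧ 3 * (M : ℤ) = x ^ 2 + x + 1) := by
  rcases h.typ with ⟨h1, h2, h3⟩ | ⟨δ, h1, h2, h3, h4⟩
  · left; linarith only [h3]
  · rcases h3 with ⟨rfl, h5⟩ | ⟨rfl, h5⟩
    · left
      rcases h2 with h2 | h2 <;> nlinarith only [h4, h2]
    · right
      refine ⟨?_, h4⟩
      rcases h2 with h2 | h2
      · exact Or.inr h2
      · left; omega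

/-- **The cofactor.** `T = H R` an element order, `M ∣ H`; then `R² ≤ 9 M ≤ 9 H`. -/
theorem rest {T H R : ℕ} (hT : ∃ g : S, orderOf g = T) (hTR : T = H * R) (hM : M ∣ H) (hH : H ≠ 0) :
    R ^ 2 ≤ 9 * M ∧ M ≤ H ∧ (x % 4 = 1 → 2 * (R : ℤ) ∣ x + 1) ∧ (∀ δ, TII x M δ → 2 * (R : ℤ) ∣ δ * (x - 1)) := by
  obtain ⟨b, rfl⟩ := hM
  obtain ⟨a, ha, -, -, hI, hII⟩ := h.tor hT (by rw [hTR, mul_assoc]; exact dvd_mul_right _ _)
  have hM0 := h.M_pos
  have hab : a = b * R := by
    have : M * a = M * (b * R) := by rw [mul_comm M a, ← ha, hTR]; ring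
    exact Nat.eq_of_mul_eq_mul_left hM0 this
  have hb : 1 ≤ b := by
    rcases Nat.eq_zero_or_pos b with rfl | hb
    · simp at hH
    · exact hb
  have kI : x % 4 = 1 → 2 * (R : ℤ) ∣ x + 1 := fun hx => by
    refine dvd_trans ?_ (hI hx)
    rw [hab]; push_cast
    exact ⟨b, by ring⟩
  have kII : ∀ δ, TII x M δ → 2 * (R : ℤ) ∣ δ * (x - 1) := fun δ hδ => by
    refine dvd_trans ?_ (hII δ hδ)
    rw [hab]; push_cast
    exact ⟨b, by ring⟩
  refine ⟨?_, Nat.le_mul_of_pos_right _ hb, kI, kII⟩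
  have hR0 : (0 : ℤ) ≤ R := Int.natCast_nonneg _
  rcases h.typ with hty | ⟨δ, hty⟩
  · obtain ⟨h1, h2, h3⟩ := hty
    have h4 := Int.le_of_dvd (by omega) (kI h1)
    have h5 : (2 * (R : ℤ)) ^ 2 ≤ (x + 1) ^ 2 := pow_le_pow_left₀ (by omega) h4 2
    have : ((R ^ 2 : ℕ) : ℤ) ≤ ((9 * M : ℕ) : ℤ) := by push_cast; nlinarith only [h3, h5]
    exact_mod_cast this
  · have hk := kII δ hty
    obtain ⟨h1, h2, h3, h4⟩ := hty
    have hne : δ * (x - 1) ≠ 0 := by
      rcases h3 with ⟨rfl, -⟩ | ⟨rfl, -⟩ <;> omega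
    have h5 : (2 * (R : ℤ)) ^ 2 ≤ (δ * (x - 1)) ^ 2 := by
      have := Int.le_of_dvd (abs_pos.2 hne) ((dvd_abs _ _).2 hk)
      rw [← sq_abs (δ * (x - 1))]
      exact pow_le_pow_left₀ (by omega) this 2
    have : ((R ^ 2 : ℕ) : ℤ) ≤ ((9 * M : ℕ) : ℤ) := by
      push_cast
      rcases h3 with ⟨rfl, -⟩ | ⟨rfl, h6⟩
      · rcases h2 with h2 | h2 <;> nlinarith only [h4, h5, h2]
      · rcases h2 with h2 | h2
        · linarith only [h4, h5, h2]
        · nlinarith only [h4, h5, h2]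
    exact_mod_cast this

/-- **An element order prime to `M`**, type I -/
theorem freeI {N : ℕ} (he : ∃ g : S, orderOf g = N) (hN : Nat.Coprime N M) (hx : x % 4 = 1) :
    4 * (N : ℤ) ∣ x ^ 3 - 1 ∨ (N : ℤ) ∣ x ^ 2 - 1 ∨ 4 * (N : ℤ) ∣ p * (x ^ 2 - 1) ∨ (N : ℤ) ∣ p * (x - 1) := by
  obtain ⟨g, rfl⟩ := he
  have hty : TI x M := by
    rcases h.typ with h4 | ⟨δ, h4, -⟩
    · exact h4
    · omega
  have hc := cc_one hx
  rcases h.spec g with hs | hs | hs | hs | hs
  · rw [hc] at hs; exact Or.inl hs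
  · right; left
    rw [hc, ← hty.2.2] at hs
    have h1 : 2 * ((orderOf g : ℕ) : ℤ) ∣ M * (x + 1) := by
      obtain ⟨c, hc⟩ := hs
      exact ⟨c, by linarith only [hc]⟩
    have h2 : ((orderOf g : ℕ) : ℤ) ∣ M * (x + 1) := (dvd_mul_left _ _).trans h1
    have h3 : IsCoprime ((orderOf g : ℕ) : ℤ) (M : ℤ) := Nat.isCoprime_iff_coprime.2 hN
    have h4 := h3.dvd_of_dvd_mul_left h2
    have := Dvd.dvd.mul_right h4 (x - 1)
    rwa [show (x + 1) * (x - 1) = x ^ 2 - 1 by ring] at this
  · exact Or.inr (Or.inl hs)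
  · rw [hc] at hs; exact Or.inr (Or.inr (Or.inl hs))
  · exact Or.inr (Or.inr (Or.inr hs))

/-- **An element order prime to `M`**, type II -/
theorem freeII {N : ℕ} (he : ∃ g : S, orderOf g = N) (hN : Nat.Coprime N M) {δ : ℤ} (hty : TII x M δ) :
    2 * (N : ℤ) ∣ (x ^ 2 + 1) * (x + 1) ∨ (N : ℤ) ∣ x ^ 2 - 1 ∨ 2 * (N : ℤ) ∣ p * (x ^ 2 - 1) ∨ (N : ℤ) ∣ p * (x - 1) ∨
      2 * (N : ℤ) ∣ δ * (x - 1) := by
  obtain ⟨g, rfl⟩ := he
  have hc := cc_three hty.1
  rcases h.spec g with hs | hs | hs | hs | hs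
  · right; right; right; right
    rw [hc] at hs
    have e : x ^ 3 - 1 = M * (δ * (x - 1)) := by
      have := hty.2.2.2
      linear_combination (1 - x) * this
    rw [e] at hs
    have h3 : IsCoprime (2 * ((orderOf g : ℕ) : ℤ)) (M : ℤ) := by
      have h4 : Nat.Coprime (2 * orderOf g) M :=
        Nat.Coprime.mul_left (Nat.coprime_two_left.2 (Nat.odd_iff.2 h.M_odd)) hN
      have := Nat.isCoprime_iff_coprime.2 h4
      push_cast at this
      exact this
    exact h3.dvd_of_dvd_mul_left hs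
  · rw [hc] at hs; exact Or.inl hs
  · exact Or.inr (Or.inl hs)
  · rw [hc] at hs; exact Or.inr (Or.inr (Or.inl hs))
  · exact Or.inr (Or.inr (Or.inr (Or.inl hs)))

omit [Group S] h in
/-- prime to `M` -/
theorem cop_of {N : ℕ} (hN : ∀ r : ℕ, r.Prime → r ∣ M → ¬ r ∣ N) : Nat.Coprime N M := by
  rw [Nat.coprime_comm]
  exact Nat.coprime_of_dvd fun r hr h1 h2 => hN r hr h1 h2

/-- there is an element of order `r` with `M` dividing the order of its centralizer -/
theorem exists_cent [Finite S] {r : ℕ} (hrM : r ∣ M) :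
    ∃ g : S, orderOf g = r ∧ M ∣ Nat.card ↥(Subgroup.centralizer {g}) := by
  obtain ⟨g, hg⟩ := h.elt
  obtain ⟨k, hk⟩ := hrM
  have hM := h.M_pos
  have hk0 : k ≠ 0 := by
    rintro rfl
    omega
  refine ⟨g ^ k, ?_, ?_⟩
  · rw [orderOf_pow_of_dvd hk0 (by rw [hg, hk]; exact dvd_mul_left _ _), hg, hk,
      Nat.mul_div_cancel _ (Nat.pos_of_ne_zero hk0)]
  · have h3 : g ∈ Subgroup.centralizer {g ^ k} := by
      rw [Subgroup.mem_centralizer_singleton_iff]
      exact (Commute.self_pow g k).eq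
    have h4 : orderOf (⟨g, h3⟩ : ↥(Subgroup.centralizer {g ^ k})) ∣ Nat.card ↥(Subgroup.centralizer {g ^ k}) :=
      orderOf_dvd_natCard _
    rwa [Subgroup.orderOf_mk, hg] at h4

theorem dvd_of_cent [Finite S] {r N : ℕ} (hrM : r ∣ M)
    (hc : ∀ g : S, orderOf g = r → Nat.card ↥(Subgroup.centralizer {g}) ∣ N) : M ∣ N := by
  obtain ⟨g, hg, h1⟩ := h.exists_cent hrM
  exact h1.trans (hc g hg)

end Cand

end Cfsg.Agent.R2.Spec.X3

private theorem dce_5b5626712370 : _root_.True := by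
  try have : _root_.True := by simp only [_root_.Cfsg.Agent.R2.Spec.X3.cc.eq_1]
  exact _root_.True.intro
end

-- part: R2/Spec/X3/PairDef
section
prune_inst 0x10070440000020000180002200000040000053000408801584003080a06d2622080280048a01902122c1a8118010000000000d000000000000034000003002080a80000f1bd0c0c86008f803007180c00000000020000000000000000041004000000000
set_option linter.all false
open scoped Cfsg.Agent.FastGrp

-- part: R2/Spec/X3/Size
section
/-!
# Size estimates for `Cand p x M S` (helper16, S3435, box X3)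

* `exists_E` : the element orders prime to `M` divide a number `E` with `E² < 800 M⁵`;
* `prod2`, `prod3`, `prod4`, `prod5` : pairwise coprime element orders prime to `M` have product `P` with `P² < 800 M⁵`;
* `le_free` : an element order `N` prime to `M` satisfies `N² ≤ 9 M³`.
-/

set_option autoImplicit false

namespace Cfsg.Agent.R2.Spec.X3

namespace Cand

variable {p M : ℕ} {x : ℤ} {S : Type*} [Group S] (h : Cand p x M S)

include h

theorem p_le : (p : ℤ) ≤ |x| := by
  have h5 := h.h5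
  rcases h.p_cases with h1 | h1 <;> omega

theorem abs_facts : 5 ≤ |x| ∧ |x| * |x| = x ^ 2 := by
  refine ⟨?_, by rw [← sq, sq_abs]⟩
  rw [le_abs]
  rcases h.x_bd with h1 | h1 | h1 <;> omega

theorem exists_E : ∃ E : ℕ, 0 < E ∧ E ^ 2 < 800 * M ^ 5 ∧
    ∀ N, (∃ g : S, orderOf g = N) → Nat.Coprime N M → N ∣ E := by
  have hp0 : (0 : ℤ) < p := by exact_mod_cast h.hp.pos
  have hpx := h.p_le
  obtain ⟨hx5, hxx⟩ := h.abs_facts
  have hx25 : 25 ≤ x ^ 2 := by rw [← hxx]; nlinarith only [hx5]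
  rcases h.typ with hty | ⟨δ, hty⟩
  · obtain ⟨h1, h2, h3⟩ := hty
    have hax : |x| = x := abs_of_nonneg (by omega)
    rw [hax] at hpx
    obtain ⟨E, hE⟩ : ∃ E : ℕ, (E : ℤ) = p * (x ^ 2 - 1) * (x ^ 2 + x + 1) := by
      refine ⟨(p * (x ^ 2 - 1) * (x ^ 2 + x + 1)).toNat, Int.toNat_of_nonneg ?_⟩
      have : 0 < x ^ 2 - 1 := by linarith
      have : 0 < x ^ 2 + x + 1 := by linarith
      positivity
    refine ⟨E, ?_, ?_, ?_⟩
    · have : (0 : ℤ) < E := by
        rw [hE]
        have : 0 < x ^ 2 - 1 := by linarith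
        have : 0 < x ^ 2 + x + 1 := by linarith
        positivity
      exact_mod_cast this
    · have hb : 4 * (E : ℤ) ≤ 5 * x ^ 5 := by
        rw [hE]
        have a1 : p * (x ^ 2 - 1) ≤ x ^ 3 := by
          calc p * (x ^ 2 - 1) ≤ x * (x ^ 2 - 1) := mul_le_mul_of_nonneg_right hpx (by linarith)
            _ ≤ x ^ 3 := by linarith only [h2]
        have a2 : 4 * (x ^ 2 + x + 1) ≤ 5 * x ^ 2 := by nlinarith only [h2]
        have a3 : 0 ≤ p * (x ^ 2 - 1) := mul_nonneg hp0.le (by linarith)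
        calc 4 * (p * (x ^ 2 - 1) * (x ^ 2 + x + 1)) = (p * (x ^ 2 - 1)) * (4 * (x ^ 2 + x + 1)) := by ring
          _ ≤ x ^ 3 * (5 * x ^ 2) := mul_le_mul a1 a2 (by linarith) (by positivity)
          _ = 5 * x ^ 5 := by ring
      have hb2 : 16 * (E : ℤ) ^ 2 ≤ 25 * x ^ 10 := by
        have := pow_le_pow_left₀ (by positivity) hb 2
        linarith only [this]
      have hb3 : (x ^ 2) ^ 5 < (2 * (M : ℤ)) ^ 5 := by
        rw [h3]
        exact pow_lt_pow_left₀ (by linarith) (by positivity) (by norm_num)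
      have : ((E ^ 2 : ℕ) : ℤ) < ((800 * M ^ 5 : ℕ) : ℤ) := by
        push_cast
        linarith only [hb2, hb3, _root_.sq_nonneg (↑E : ℤ)]
      exact_mod_cast this
    · intro N hN hc
      have key : (N : ℤ) ∣ E := by
        rw [hE]
        rcases h.freeI hN hc h1 with k | k | k | k
        · refine ((dvd_mul_left _ _).trans k).trans ⟨p * (x + 1), by ring⟩
        · exact k.trans ⟨p * (x ^ 2 + x + 1), by ring⟩
        · exact ((dvd_mul_left _ _).trans k).trans ⟨x ^ 2 + x + 1, by ring⟩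
        · exact k.trans ⟨(x + 1) * (x ^ 2 + x + 1), by ring⟩
      exact_mod_cast key
  · have hty' := hty
    obtain ⟨h1, h2, h3, h4⟩ := hty
    have hδ : 0 < δ := by rcases h3 with ⟨rfl, -⟩ | ⟨rfl, -⟩ <;> norm_num
    have h2d : (2 : ℤ) ∣ x ^ 2 - 1 := by
      obtain ⟨t, rfl⟩ : ∃ t, x = 4 * t + 3 := ⟨x / 4, by omega⟩
      exact ⟨8 * t ^ 2 + 12 * t + 4, by ring⟩
    obtain ⟨y, hy⟩ := h2d
    have hy0 : 0 < y := by omega
    obtain ⟨E, hE⟩ : ∃ E : ℕ, (E : ℤ) = δ * p * y * (x ^ 2 + 1) :=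
      ⟨(δ * p * y * (x ^ 2 + 1)).toNat, Int.toNat_of_nonneg (by (clear * - hp0 hx25 hδ hy0; positivity))⟩
    have hE2 : 2 * (E : ℤ) = δ * p * (x ^ 2 - 1) * (x ^ 2 + 1) := by rw [hE, hy]; ring
    refine ⟨E, ?_, ?_, ?_⟩
    · have : (0 : ℤ) < E := by rw [hE]; (clear * - hp0 hx25 hδ hy0; positivity)
      exact_mod_cast this
    · have hb : 2 * (E : ℤ) ≤ δ * |x| ^ 5 := by
        rw [hE2]
        have a1 : p * ((x ^ 2 - 1) * (x ^ 2 + 1)) ≤ |x| * (x ^ 2 * x ^ 2) := by
          refine mul_le_mul hpx ?_ ?_ (abs_nonneg x)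
          · linarith only []
          · have : 0 ≤ x ^ 2 - 1 := by linarith
            (clear * - hx25 this; positivity)
        calc δ * p * (x ^ 2 - 1) * (x ^ 2 + 1) = δ * (p * ((x ^ 2 - 1) * (x ^ 2 + 1))) := by ring
          _ ≤ δ * (|x| * (x ^ 2 * x ^ 2)) := mul_le_mul_of_nonneg_left a1 hδ.le
          _ = δ * |x| ^ 5 := by rw [← hxx]; ring
      have hb2 : 4 * (E : ℤ) ^ 2 ≤ δ ^ 2 * x ^ 10 := by
        have := pow_le_pow_left₀ (by (clear * -; positivity)) hb 2
        have e : (δ * |x| ^ 5) ^ 2 = δ ^ 2 * x ^ 10 := by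
          rw [mul_pow, ← pow_mul]
          have : |x| ^ (5 * 2) = x ^ 10 := by
            rw [show 5 * 2 = 2 * 5 by norm_num, pow_mul, sq_abs, ← pow_mul]
          rw [this]
        rw [e] at this
        linarith only [this]
      have : ((E ^ 2 : ℕ) : ℤ) < ((800 * M ^ 5 : ℕ) : ℤ) := by
        push_cast
        have hx10 : (0 : ℤ) < (x ^ 2) ^ 5 := by positivity
        have e10 : x ^ 10 = (x ^ 2) ^ 5 := by ring
        rw [e10] at hb2
        rcases h3 with ⟨rfl, -⟩ | ⟨rfl, h5⟩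
        · have a1 : x ^ 2 ≤ 2 * M := by
            rcases h2 with h2 | h2 <;> nlinarith only [h4, h2]
          have a2 : (x ^ 2) ^ 5 ≤ (2 * (M : ℤ)) ^ 5 := pow_le_pow_left₀ (by positivity) a1 5
          have a3 : (2 * (M : ℤ)) ^ 5 = 32 * (M : ℤ) ^ 5 := by ring
          rw [a3] at a2
          have a4 : (0 : ℤ) < (M : ℤ) ^ 5 := by
            have := h.M_pos
            positivity
          linarith only [hb2, a2, a4]
        · have h17 : x ≤ -17 ∨ 7 ≤ x := by
            rcases h2 with h2 | h2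
            · exact Or.inr h2
            · left; omega
          have a1 : 16 * x ^ 2 ≤ 51 * M := by
            rcases h17 with h2 | h2 <;> nlinarith only [h4, h2]
          have a2 : (16 * x ^ 2) ^ 5 ≤ (51 * (M : ℤ)) ^ 5 := pow_le_pow_left₀ (by positivity) a1 5
          have a3 : (16 * x ^ 2) ^ 5 = 1048576 * (x ^ 2) ^ 5 := by ring
          have a5 : (51 * (M : ℤ)) ^ 5 = 345025251 * (M : ℤ) ^ 5 := by ring
          rw [a3, a5] at a2
          have a4 : (0 : ℤ) < (M : ℤ) ^ 5 := by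
            have := h.M_pos
            positivity
          linarith only [hb2, a2, a4]
      exact_mod_cast this
    · intro N hN hc
      have key : 2 * (N : ℤ) ∣ 2 * E := by
        rw [hE2]
        rcases h.freeII hN hc hty' with k | k | k | k | k
        · exact k.trans ⟨δ * p * (x - 1), by ring⟩
        · obtain ⟨c, hc⟩ := k
          obtain ⟨t, ht⟩ : ∃ t, x ^ 2 + 1 = 2 * t := ⟨y + 1, by linarith only [hy]⟩
          rw [ht, hc]
          exact ⟨δ * p * c * t, by ring⟩
        · exact k.trans ⟨δ * (x ^ 2 + 1), by ring⟩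
        · obtain ⟨c, hc⟩ := k
          obtain ⟨t, ht⟩ : ∃ t, x ^ 2 + 1 = 2 * t := ⟨y + 1, by linarith only [hy]⟩
          have e : δ * p * (x ^ 2 - 1) * (x ^ 2 + 1) = δ * (p * (x - 1)) * (x + 1) * (x ^ 2 + 1) := by ring
          rw [e, ht, hc]
          exact ⟨δ * c * (x + 1) * t, by ring⟩
        · exact k.trans ⟨p * (x + 1) * (x ^ 2 + 1), by ring⟩
      have key2 : (N : ℤ) ∣ E := (mul_dvd_mul_iff_left (by norm_num : (2 : ℤ) ≠ 0)).1 key
      exact_mod_cast key2

theorem sq_lt_of_dvd {E P : ℕ} (hE0 : 0 < E) (hE : E ^ 2 < 800 * M ^ 5) (hP : P ∣ E) : P ^ 2 < 800 * M ^ 5 :=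
  (Nat.pow_le_pow_left (Nat.le_of_dvd hE0 hP) 2).trans_lt hE

/-- **three coprime element orders prime to `M`** -/
theorem prod3 {N₁ N₂ N₃ : ℕ} (h1 : ∃ g : S, orderOf g = N₁) (h2 : ∃ g : S, orderOf g = N₂)
    (h3 : ∃ g : S, orderOf g = N₃) (c1 : Nat.Coprime N₁ M) (c2 : Nat.Coprime N₂ M)
    (c3 : Nat.Coprime N₃ M) (c12 : Nat.Coprime N₁ N₂) (c13 : Nat.Coprime N₁ N₃) (c23 : Nat.Coprime N₂ N₃) :
    (N₁ * N₂ * N₃) ^ 2 < 800 * M ^ 5 := by
  obtain ⟨E, hE0, hE, hd⟩ := h.exists_E
  exact h.sq_lt_of_dvd hE0 hE (Nat.Coprime.mul_dvd_of_dvd_of_dvd (Nat.Coprime.mul_left c13 c23)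
      (c12.mul_dvd_of_dvd_of_dvd (hd _ h1 c1) (hd _ h2 c2)) (hd _ h3 c3))

/-- **four coprime element orders prime to `M`** -/
theorem prod4 {N₁ N₂ N₃ N₄ : ℕ} (h1 : ∃ g : S, orderOf g = N₁) (h2 : ∃ g : S, orderOf g = N₂)
    (h3 : ∃ g : S, orderOf g = N₃) (h4 : ∃ g : S, orderOf g = N₄) (c1 : Nat.Coprime N₁ M) (c2 : Nat.Coprime N₂ M)
    (c3 : Nat.Coprime N₃ M) (c4 : Nat.Coprime N₄ M)
    (c12 : Nat.Coprime N₁ N₂) (c13 : Nat.Coprime N₁ N₃) (c14 : Nat.Coprime N₁ N₄) (c23 : Nat.Coprime N₂ N₃)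
    (c24 : Nat.Coprime N₂ N₄) (c34 : Nat.Coprime N₃ N₄) :
    (N₁ * N₂ * N₃ * N₄) ^ 2 < 800 * M ^ 5 := by
  obtain ⟨E, hE0, hE, hd⟩ := h.exists_E
  exact h.sq_lt_of_dvd hE0 hE (Nat.Coprime.mul_dvd_of_dvd_of_dvd (Nat.Coprime.mul_left (Nat.Coprime.mul_left c14 c24) c34)
      (Nat.Coprime.mul_dvd_of_dvd_of_dvd (Nat.Coprime.mul_left c13 c23)
      (c12.mul_dvd_of_dvd_of_dvd (hd _ h1 c1) (hd _ h2 c2)) (hd _ h3 c3)) (hd _ h4 c4))

/-- one element order prime to `M` -/
theorem le_free {N : ℕ} (he : ∃ g : S, orderOf g = N) (hN : Nat.Coprime N M) : N ^ 2 ≤ 9 * M ^ 3 := by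
  have hp0 : (0 : ℤ) < p := by exact_mod_cast h.hp.pos
  have hpx := h.p_le
  obtain ⟨hx5, hxx⟩ := h.abs_facts
  have hx25 : 25 ≤ x ^ 2 := by rw [← hxx]; nlinarith only [hx5]
  have hN0 : (0 : ℤ) ≤ N := Int.natCast_nonneg _
  suffices hs : ((N ^ 2 : ℕ) : ℤ) ≤ ((9 * M ^ 3 : ℕ) : ℤ) by exact_mod_cast hs
  push_cast
  have hM0 : (0 : ℤ) < M := by exact_mod_cast h.M_pos
  -- the bounds
  have b3 : ∀ n : ℤ, 0 ≤ n → n ∣ x ^ 2 - 1 → n ≤ x ^ 2 := fun n _ hd => by
    have := Int.le_of_dvd (by linarith) hd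
    linarith
  have b4 : ∀ n : ℤ, n ∣ p * (x ^ 2 - 1) → n ≤ |x| * x ^ 2 := fun n hd => by
    have h1 := Int.le_of_dvd (mul_pos hp0 (by linarith)) hd
    have h2 : p * (x ^ 2 - 1) ≤ |x| * (x ^ 2 - 1) := mul_le_mul_of_nonneg_right hpx (by linarith)
    linarith only [hx5, h1, h2]
  have b5 : ∀ n : ℤ, n ∣ p * (x - 1) → n ≤ |x| * |x - 1| := fun n hd => by
    have hne : (p : ℤ) * (x - 1) ≠ 0 := mul_ne_zero hp0.ne' (by rcases h.x_bd with k | k | k <;> omega)
    have h1 := Int.le_of_dvd (abs_pos.2 hne) ((dvd_abs _ _).2 hd)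
    rw [abs_mul, abs_of_pos hp0] at h1
    exact h1.trans (mul_le_mul_of_nonneg_right hpx (abs_nonneg _))
  have hx2 : (|x| * x ^ 2) ^ 2 = x ^ 6 := by
    rw [mul_pow, sq_abs]; ring
  rcases h.typ with hty | ⟨δ, hty⟩
  · obtain ⟨h1, h2, h3⟩ := hty
    have hax : |x| = x := abs_of_nonneg (by omega)
    have hax1 : |x - 1| = x - 1 := abs_of_nonneg (by omega)
    have hM3 : 8 * (M : ℤ) ^ 3 = (x ^ 2 + 1) ^ 3 := by rw [← h3]; ring
    have hM6 : x ^ 6 ≤ 8 * (M : ℤ) ^ 3 := by
      rw [hM3]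
      have : (x ^ 2) ^ 3 ≤ (x ^ 2 + 1) ^ 3 := pow_le_pow_left₀ (by positivity) (by linarith) 3
      calc x ^ 6 = (x ^ 2) ^ 3 := by ring
        _ ≤ _ := this
    have e4 : 25 * (x ^ 2) ^ 2 ≤ x ^ 6 := by
      have : x ^ 6 = x ^ 2 * (x ^ 2) ^ 2 := by ring
      rw [this]; exact mul_le_mul_of_nonneg_right hx25 (by positivity)
    have q1 : ∀ n : ℤ, 0 ≤ n → n ≤ x ^ 2 → n ^ 2 ≤ 9 * (M : ℤ) ^ 3 := fun n hn hle => by
      have := pow_le_pow_left₀ hn hle 2
      linarith only [hx25, hx2, hM3, this, _root_.sq_nonneg (x ^ 2 : ℤ), _root_.sq_nonneg (|x| * x ^ 2 : ℤ)]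
    have q2 : ∀ n : ℤ, 0 ≤ n → n ≤ x ^ 3 → n ^ 2 ≤ 9 * (M : ℤ) ^ 3 := fun n hn hle => by
      have h5 := pow_le_pow_left₀ hn hle 2
      have h6 : (x ^ 3) ^ 2 = x ^ 6 := by ring
      rw [h6] at h5
      linarith only [hx25, hM3, h5, _root_.sq_nonneg (x ^ 3 : ℤ), _root_.sq_nonneg (x ^ 2 : ℤ)]
    rcases h.freeI he hN h1 with k | k | k | k
    · refine q2 _ hN0 ?_
      have := Int.le_of_dvd (by nlinarith only [hx25, h2]) k
      linarith only [this]
    · exact q1 _ hN0 (b3 _ hN0 k)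
    · refine q2 _ hN0 ?_
      have := b4 _ ((dvd_mul_left _ _).trans k)
      rw [hax] at this
      linarith only [this]
    · refine q1 _ hN0 ?_
      have := b5 _ k
      rw [hax, hax1] at this
      linarith only [h2, this]
  · have hty' := hty
    obtain ⟨h1, h2, h3, h4⟩ := hty
    -- `27 (9 M³) ≥ 9 (x² + x + 1)³`
    have hδ : 0 < δ := by rcases h3 with ⟨rfl, -⟩ | ⟨rfl, -⟩ <;> norm_num
    have hM3 : (x ^ 2 + x + 1) ^ 3 ≤ 27 * (M : ℤ) ^ 3 := by
      rw [← h4]
      have : (0 : ℤ) < (M : ℤ) ^ 3 := by positivity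
      rcases h3 with ⟨rfl, -⟩ | ⟨rfl, -⟩ <;> linarith only [this]
    have q2 : ∀ n : ℤ, 0 ≤ n → 3 * n ^ 2 ≤ (x ^ 2 + x + 1) ^ 3 → n ^ 2 ≤ 9 * (M : ℤ) ^ 3 := fun n hn hle => by
      linarith only [hM3, hle]
    have hP : 12 * x ^ 2 ≤ 13 * (x ^ 2 + x + 1) := by
      rcases h2 with h2 | h2 <;> nlinarith only [hx25, h2]
    have hP3 : 1728 * x ^ 6 ≤ 2197 * (x ^ 2 + x + 1) ^ 3 := by
      have := pow_le_pow_left₀ (by positivity) hP 3
      calc 1728 * x ^ 6 = (12 * x ^ 2) ^ 3 := by ring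
        _ ≤ _ := this
        _ = _ := by ring
    have hx6 : 0 < x ^ 6 := by
      have : x ^ 6 = (x ^ 2) ^ 3 := by ring
      rw [this]; positivity
    have e4 : 25 * (x ^ 2) ^ 2 ≤ x ^ 6 := by
      have : x ^ 6 = x ^ 2 * (x ^ 2) ^ 2 := by ring
      rw [this]; exact mul_le_mul_of_nonneg_right hx25 (by positivity)
    -- `2 n ≤ |x|³`
    have q3 : ∀ n : ℤ, 0 ≤ n → (2 * n) ^ 2 ≤ x ^ 6 → n ^ 2 ≤ 9 * (M : ℤ) ^ 3 := fun n hn hle => by
      refine q2 n hn ?_
      linarith only [hP3, hx6, hle]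
    have q1 : ∀ n : ℤ, 0 ≤ n → n ≤ 2 * x ^ 2 → n ^ 2 ≤ 9 * (M : ℤ) ^ 3 := fun n hn hle => by
      refine q3 n hn ?_
      have h5 := pow_le_pow_left₀ (by omega) (mul_le_mul_of_nonneg_left hle (by norm_num : (0 : ℤ) ≤ 2)) 2
      refine h5.trans ?_
      linarith only [hx6, e4]
    rcases h.freeII he hN hty' with k | k | k | k | k
    · -- `(x² + 1)(x + 1)`
      have hne : (x ^ 2 + 1) * (x + 1) ≠ 0 := mul_ne_zero (by positivity) (by (clear * - he h2; omega))
      have h5 := Int.le_of_dvd (abs_pos.2 hne) ((dvd_abs _ _).2 k)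
      have h6 : (2 * (N : ℤ)) ^ 2 ≤ ((x ^ 2 + 1) * (x + 1)) ^ 2 := by
        rw [← sq_abs ((x ^ 2 + 1) * (x + 1))]
        exact pow_le_pow_left₀ (by omega) h5 2
      refine q2 _ hN0 ?_
      have h7 : 3 * ((x ^ 2 + 1) * (x + 1)) ^ 2 ≤ 4 * (x ^ 2 + x + 1) ^ 3 := by
        rcases h2 with h2 | h2
        · obtain ⟨t, ht⟩ : ∃ t, t = x - 7 := ⟨_, rfl⟩
          have hx' : x = t + 7 := by omega
          have ht0 : 0 ≤ t := by omega
          rw [hx']
          have e : 4 * ((t + 7) ^ 2 + (t + 7) + 1) ^ 3 - 3 * (((t + 7) ^ 2 + 1) * (t + 7 + 1)) ^ 2 =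
            t ^ 6 + 48 * t ^ 5 + 960 * t ^ 4 + 10236 * t ^ 3 + 61356 * t ^ 2 + 196020 * t + 260772 := by ring
          have : 0 ≤ t ^ 6 + 48 * t ^ 5 + 960 * t ^ 4 + 10236 * t ^ 3 + 61356 * t ^ 2 + 196020 * t + 260772 := by
            (clear * - ht0; positivity)
          linarith only [this]
        · obtain ⟨t, ht⟩ : ∃ t, t = -13 - x := ⟨_, rfl⟩
          have hx' : x = -13 - t := by omega
          have ht0 : 0 ≤ t := by omega
          rw [hx']
          have e : 4 * ((-13 - t) ^ 2 + (-13 - t) + 1) ^ 3 - 3 * (((-13 - t) ^ 2 + 1) * (-13 - t + 1)) ^ 2 =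
            t ^ 6 + 72 * t ^ 5 + 2160 * t ^ 4 + 34564 * t ^ 3 + 311196 * t ^ 2 + 1495020 * t + 2994772 := by ring
          have : 0 ≤ t ^ 6 + 72 * t ^ 5 + 2160 * t ^ 4 + 34564 * t ^ 3 + 311196 * t ^ 2 + 1495020 * t + 2994772 := by
            (clear * - ht0; positivity)
          linarith only [this]
      linarith only [h6, h7]
    · exact q1 _ hN0 (by have := b3 _ hN0 k; linarith only [hx25, this])
    · have h5 := b4 _ k
      refine q3 _ hN0 ?_
      have := pow_le_pow_left₀ (by omega) h5 2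
      rwa [hx2] at this
    · refine q1 _ hN0 ?_
      have h5 := b5 _ k
      have h6 : |x - 1| ≤ |x| + 1 := by
        have := abs_sub x 1
        simpa using this
      nlinarith only [hpx, hxx, h5, h6]
    · refine q1 _ hN0 ?_
      have hne : δ * (x - 1) ≠ 0 := mul_ne_zero hδ.ne' (by omega)
      have h5 := Int.le_of_dvd (abs_pos.2 hne) ((dvd_abs _ _).2 k)
      rw [abs_mul, abs_of_pos hδ] at h5
      have h6 : |x - 1| ≤ |x| + 1 := by
        have := abs_sub x 1
        simpa using this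
      have h7 : δ ≤ 3 := by rcases h3 with ⟨rfl, -⟩ | ⟨rfl, -⟩ <;> norm_num
      have h8 : δ * |x - 1| ≤ 3 * (|x| + 1) := mul_le_mul h7 h6 (abs_nonneg _) (by norm_num)
      nlinarith only [hxx, hx25, h5, h8]

end Cand

end Cfsg.Agent.R2.Spec.X3
end

-- part: R2/Spec/X3/PairDef
section
/-!
# The outcome of the pair lemma (helper16, S3435, box X3)
-/

set_option autoImplicit false

namespace Cfsg.Agent.R2.Spec.X3

/-- exceptional `(x, T, N)`, type I -/
def excI : List (ℤ × ℤ × ℤ) := [(5, 13, 5), (5, 13, 6), (5, 13, 8), (5, 13, 20), (5, 39, 31), (13, 595, 549),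
  (17, 1305, 1228), (25, 313, 279)]

/-- exceptional `(x, T, N)`, type II -/
def excII : List (ℤ × ℤ × ℤ) := [(7, 19, 10), (7, 19, 12), (7, 19, 20), (7, 19, 21), (7, 19, 24), (7, 19, 25),
  (7, 19, 28), (7, 171, 200), (-17, 91, 72), (-17, 91, 80), (31, 331, 296), (-41, 547, 580), (-89, 2611, 2563),
  (307, 31519, 31900), (343, 39331, 38915)]

/-- the outcome, type I -/
def OutI (p : ℕ) (x T N : ℤ) : Prop :=
  (2 * T = x ^ 2 + 1 ∧ 2 * N = x ^ 2 - 1) ∨
  ((p : ℤ) = x ∧ 2 * T = x ^ 2 + 1 ∧ 2 * N = x ^ 2 + x) ∨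
  ((p : ℤ) = x ∧ ∃ a : ℤ, 1 ≤ a ∧ a % 2 = 1 ∧ 2 * T = a * (x ^ 2 + 1) ∧ 2 * N = a * (x ^ 2 - x)) ∨
  (x, T, N) ∈ excI

/-- the outcome, type II -/
def OutII (p : ℕ) (x T N : ℤ) : Prop :=
  (∃ δ : ℤ, (δ = 1 ∨ δ = 3) ∧
    ((δ * T = x ^ 2 + x + 1 ∧ δ * N = x ^ 2 - 1) ∨
     ((p : ℤ) = |x| ∧ δ * T = x ^ 2 + x + 1 ∧ δ * N = x ^ 2 - x) ∨
     ((p : ℤ) = |x| ∧ ∃ a : ℤ, 1 ≤ a ∧ a % 2 = 1 ∧ δ * T = a * (x ^ 2 + x + 1) ∧ δ * N = a * (x ^ 2 + x)))) ∨
  (T = x ^ 2 + x + 1 ∧ N = x ^ 2 + 1) ∨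
  (x, T, N) ∈ excII

/-- the outcome of the pair lemma -/
def PairOut (p : ℕ) (x T N : ℤ) : Prop :=
  (x % 4 = 1 ∧ 5 ≤ x ∧ OutI p x T N) ∨ (x % 4 = 3 ∧ (7 ≤ x ∨ x ≤ -13) ∧ OutII p x T N)

end Cfsg.Agent.R2.Spec.X3
end
end

-- part: R2/Spec/X3/PairIF
section
prune_inst 0x10060440000020000180002200000040000053000000801584001080806d2202080280148801902126c128138010000000000d000000000000034000003002080a84400b3480c0c86008f801007180c00000000000000000000000000041004000000000
set_option linter.all false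
open scoped Cfsg.Agent.FastGrp

-- part: R2/Spec/X3/PairI
section
/-!
# The pair lemma, type I: arithmetic (helper16, S3435, box X3)

`P = x² + 1`, `2 T = a P`, `a` odd, `2 a ∣ x + 1`, `(a P - 2 N)² ≤ 10 a P`, `29 ≤ x`.
-/

set_option autoImplicit false

namespace Cfsg.Agent.R2.Spec.X3.PairI

/-- `N ∣ x² - 1` -/
theorem pC {x a m N : ℤ} (hx : 29 ≤ x) (ha : 1 ≤ a) (hm : 1 ≤ m) (h : N * m = x ^ 2 - 1) (hao : a % 2 = 1)
    (hK : (a * (x ^ 2 + 1) - 2 * N) ^ 2 ≤ 10 * (a * (x ^ 2 + 1))) : a = 1 ∧ 2 * N = x ^ 2 - 1 := by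
  obtain ⟨w, hw⟩ : ∃ w, w = x ^ 2 + 1 := ⟨_, rfl⟩
  have hw1 : 842 ≤ w := by rw [hw]; nlinarith only [hx]
  rw [← hw] at hK
  have h' : N * m = w - 2 := by rw [h, hw]; ring
  obtain ⟨s, hs⟩ : ∃ s, s = m * a - 2 := ⟨_, rfl⟩
  have h1 : m * (a * w - 2 * N) = s * w + 4 := by rw [hs]; linear_combination (-2) * h'
  have hma : 1 ≤ m * a := by nlinarith only [ha, hm]
  have h2 : (s * w + 4) ^ 2 ≤ 10 * ((s + 2) ^ 2 * w) := by
    rw [← h1, mul_pow]
    have h3 := mul_le_mul_of_nonneg_left hK (sq_nonneg m)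
    have h4 : m ^ 2 * (10 * (a * w)) ≤ 10 * ((s + 2) ^ 2 * w) := by
      have e : s + 2 = m * a := by rw [hs]; ring
      rw [e]
      have : m ^ 2 * a * 1 ≤ m ^ 2 * a * a := mul_le_mul_of_nonneg_left ha (by positivity)
      nlinarith only [ha, hK, this]
    exact h3.trans h4
  rcases lt_trichotomy s 0 with h3 | h3 | h3
  · exfalso
    have : s = -1 := by omega
    subst this
    nlinarith only [hw1, h2]
  · have hma2 : m * a = 2 := by omega
    have ha1 : a = 1 := by
      have h3 : a ∣ 2 := ⟨m, by rw [← hma2]; ring⟩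
      have h4 := Int.le_of_dvd (by norm_num) h3
      interval_cases a
      · rfl
      · omega
    subst ha1
    rw [mul_one] at hma2
    subst hma2
    exact ⟨rfl, by linarith only [h]⟩
  · exfalso
    have h4 : (s * w) ^ 2 ≤ 90 * (s ^ 2 * w) := by
      have h5 : (s + 2) ^ 2 ≤ 9 * s ^ 2 := by nlinarith only [h3]
      have h6 : (s * w) ^ 2 ≤ (s * w + 4) ^ 2 := pow_le_pow_left₀ (by positivity) (by linarith) 2
      nlinarith only [h2, h3, h5]
    have h5 : 0 < s ^ 2 * w := by positivity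
    have h6 : (s * w) ^ 2 = (s ^ 2 * w) * w := by ring
    nlinarith only [hw1, h4, h5]

/-- from `2 a ∣ x + 1` and `2 a j = x + z` -/
theorem key_dvd {x a i j z : ℤ} (hai : 2 * (a * i) = x + 1) (hj : 2 * (a * j) = x + z) : a * (j - i) * 2 = z - 1 := by
  linarith only [hai, hj]

theorem a_one {a k c : ℤ} (ha : 1 ≤ a) (hao : a % 2 = 1) (h : a * k * 2 = c) (hc : c = 2 ∨ c = -2 ∨ c = -4) : a = 1 := by
  have h3 : a ∣ 2 := by
    rcases hc with rfl | rfl | rfl
    · exact ⟨2 * k, by linarith⟩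
    · exact ⟨-(2 * k), by linarith⟩
    · exact ⟨-k, by linarith⟩
  have h4 := Int.le_of_dvd (by norm_num) h3
  omega

/-- the range of `z` : `a (z P + R)² ≤ 10 (x + z)² P`, `0 ≤ R ≤ 2 x + 2` -/
theorem z_range {x a z R : ℤ} (hx : 29 ≤ x) (ha : 1 ≤ a) (hz : z % 2 = 1) (hxz : 0 < x + z) (hR0 : 0 ≤ R) (hR : R ≤ 2 * x)
    (h : a * (z * (x ^ 2 + 1) + R) ^ 2 ≤ 10 * (x + z) ^ 2 * (x ^ 2 + 1)) : z = -3 ∨ z = -1 ∨ z = 1 ∨ z = 3 := by
  obtain ⟨w, hw⟩ : ∃ w, w = x ^ 2 + 1 := ⟨_, rfl⟩
  have hw1 : 842 ≤ w := by rw [hw]; nlinarith only [hx]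
  have hxw : 29 * x ≤ w := by rw [hw]; nlinarith only [hw, hw1]
  rw [← hw] at h
  have h0 : (z * w + R) ^ 2 ≤ 10 * (x + z) ^ 2 * w := (le_mul_of_one_le_left (sq_nonneg _) ha).trans h
  rcases le_or_gt 1 z with h1 | h1
  · have h2 : (z * w) ^ 2 ≤ 10 * (x + z) ^ 2 * w :=
      (pow_le_pow_left₀ (by positivity) (by linarith) 2).trans h0
    have h3 : z ^ 2 * w ≤ 10 * (x + z) ^ 2 := by
      have h4 : z ^ 2 * w * w ≤ 10 * (x + z) ^ 2 * w := by
        have : (z * w) ^ 2 = z ^ 2 * w * w := by ring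
        rwa [this] at h2
      exact le_of_mul_le_mul_right h4 (by omega)
    have h5 : (5 * (z * x)) ^ 2 < (16 * (x + z)) ^ 2 := by
      have h9 : z ^ 2 * x ^ 2 ≤ z ^ 2 * w := mul_le_mul_of_nonneg_left (by linarith) (sq_nonneg _)
      have h10 : 0 < (x + z) ^ 2 := by positivity
      have h11 : (5 * (z * x)) ^ 2 = 25 * (z ^ 2 * x ^ 2) := by ring
      have h12 : (16 * (x + z)) ^ 2 = 256 * (x + z) ^ 2 := by ring
      rw [h11, h12]; linarith only [h3, h9, h10]
    have h9 : 5 * (z * x) < 16 * (x + z) := lt_of_pow_lt_pow_left₀ 2 (by positivity) h5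
    have hz5 : z < 5 := by
      by_contra hcon
      push Not at hcon
      have h10 : 29 * (5 * z - 16) ≤ x * (5 * z - 16) := mul_le_mul_of_nonneg_right hx (by omega)
      linarith
    omega
  · have hz1 : z ≤ -1 := by omega
    by_contra hcon
    have hz5 : z ≤ -5 := by omega
    have h2 : 0 ≤ 14 * R - 0 := by linarith
    -- `z w + R ≤ (z + 1/14) w`
    have h3 : 14 * (z * w + R) ≤ (14 * z + 1) * w := by
      have : 14 * R ≤ w := by linarith
      linarith
    have h4 : ((14 * z + 1) * w) ^ 2 ≤ (14 * (z * w + R)) ^ 2 := by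
      have h5 : (14 * z + 1) * w ≤ 0 := mul_nonpos_of_nonpos_of_nonneg (by omega) (by omega)
      have h6 : 14 * (z * w + R) ≤ 0 := h3.trans h5
      nlinarith only [hR, hw1, hxw, h5]
    have h5 : (69 * w) ^ 2 ≤ ((14 * z + 1) * w) ^ 2 := by
      have h7 : 69 ^ 2 ≤ (14 * z + 1) ^ 2 := by nlinarith only [hz5]
      rw [mul_pow, mul_pow]
      exact mul_le_mul_of_nonneg_right h7 (sq_nonneg _)
    have h6 : (x + z) ^ 2 ≤ (x - 5) ^ 2 := pow_le_pow_left₀ hxz.le (by omega) 2
    have h7 : 4761 * w * w ≤ 1960 * (x - 5) ^ 2 * w := by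
      have h8 : (14 * (z * w + R)) ^ 2 = 196 * (z * w + R) ^ 2 := by ring
      have h9 : (69 * w) ^ 2 = 4761 * w * w := by ring
      have h10 := mul_le_mul_of_nonneg_right h6 (by omega : (0 : ℤ) ≤ w)
      linarith only [h0, h4, h5, h10]
    have h8 : 4761 * w ≤ 1960 * (x - 5) ^ 2 := le_of_mul_le_mul_right h7 (by omega)
    rw [hw] at h8
    linarith only [hx, h8, _root_.sq_nonneg (x : ℤ)]

/-- `4 N ∣ x³ - 1` -/
theorem pA {x a i j N : ℤ} (hx : 29 ≤ x) (h4 : x % 4 = 1) (ha : 1 ≤ a) (hao : a % 2 = 1)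
    (hai : 2 * (a * i) = x + 1) (hj : 1 ≤ j) (h : N * (4 * j) = x ^ 3 - 1)
    (hK : (a * (x ^ 2 + 1) - 2 * N) ^ 2 ≤ 10 * (a * (x ^ 2 + 1))) : False := by
  obtain ⟨z, hz⟩ : ∃ z, z = 2 * (a * j) - x := ⟨_, rfl⟩
  have hzj : 2 * (a * j) = x + z := by rw [hz]; ring
  have hzo : z % 2 = 1 := by omega
  have h1 : 2 * j * (a * (x ^ 2 + 1) - 2 * N) = z * (x ^ 2 + 1) + (x + 1) := by
    linear_combination (x ^ 2 + 1) * hzj - h
  have hpos : 0 < x + z := by rw [← hzj]; positivity
  have h2 : a * (z * (x ^ 2 + 1) + (x + 1)) ^ 2 ≤ 10 * (x + z) ^ 2 * (x ^ 2 + 1) := by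
    rw [← h1, ← hzj]
    have := mul_le_mul_of_nonneg_left hK (by positivity : 0 ≤ a * (4 * j ^ 2))
    linarith only [this]
  have hkd := key_dvd hai hzj
  rcases z_range hx ha hzo hpos (by linarith) (by linarith) h2 with rfl | rfl | rfl | rfl
  · have ha1 := a_one ha hao hkd (by norm_num)
    subst ha1
    have hj2 : 2 * j = x - 3 := by linarith only [hz]
    have h11 : (x - 3) ∣ 26 := by
      have h8 : (x - 3) ∣ x ^ 3 - 1 := ⟨2 * N, by rw [← h, ← hj2]; ring⟩
      have h12 : x ^ 3 - 1 = (x - 3) * (x ^ 2 + 3 * x + 9) + 26 := by ring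
      rw [h12] at h8
      exact (dvd_add_right (dvd_mul_right _ _)).1 h8
    have h13 := Int.le_of_dvd (by norm_num) h11
    have h15 : x = 29 := by omega
    subst h15
    have : j = 13 := by omega
    subst this
    have : N = 469 := by omega
    subst this
    norm_num at hK
  · have ha1 := a_one ha hao hkd (by norm_num)
    subst ha1
    have hj2 : 2 * j = x - 1 := by linarith only [hz]
    have h10 : (x - 1) * (2 * N) = (x - 1) * (x ^ 2 + x + 1) := by
      have : (x - 1) * (2 * N) = N * (4 * j) := by rw [← hj2]; ring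
      rw [this, h]; ring
    have h11 : 2 * N = x ^ 2 + x + 1 := mul_left_cancel₀ (by omega) h10
    have h12 : (x ^ 2 + x) % 2 = 0 := by
      have : x ^ 2 + x = x * (x + 1) := by ring
      rw [this]
      have : (x + 1) % 2 = 0 := by omega
      rw [Int.mul_emod, this]; simp
    omega
  · -- `z = 1`, `j = i`
    have hij : j = i := by
      have : a * (j - i) = 0 := by omega
      rcases mul_eq_zero.1 this with h | h <;> omega
    subst hij
    have h3 : j ∣ 2 := by
      have h5 : j ∣ x + 1 := ⟨2 * a, by rw [← hai]; ring⟩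
      have h6 : j ∣ x ^ 3 - 1 := ⟨4 * N, by rw [← h]; ring⟩
      have h7 : x ^ 3 - 1 = (x + 1) * (x ^ 2 - x + 1) - 2 := by ring
      rw [h7] at h6
      exact (dvd_sub_right (h5.mul_right _)).1 h6
    have h5 := Int.le_of_dvd (by norm_num) h3
    have h6 : j = 1 := by
      have : j = 1 ∨ j = 2 := by omega
      rcases this with h | h
      · exact h
      · subst h; omega
    subst h6
    have ha3 : 2 * a = x + 1 := by linarith only [hz]
    have h7 : (x ^ 2 + 1 + (x + 1)) ^ 2 * (2 * a) ≤ 20 * (x + 1) ^ 2 * (x ^ 2 + 1) := by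
      rw [one_mul] at h2
      linarith only [h2]
    rw [ha3] at h7
    have h8 : (x ^ 2 + 1 + (x + 1)) ^ 2 ≤ 20 * (x + 1) * (x ^ 2 + 1) := by
      have h9 : (x ^ 2 + 1 + (x + 1)) ^ 2 * (x + 1) ≤ 20 * (x + 1) * (x ^ 2 + 1) * (x + 1) := by linarith only [h7]
      exact le_of_mul_le_mul_right h9 (by omega)
    obtain ⟨t, rfl⟩ : ∃ t, x = t + 29 := ⟨x - 29, by ring⟩
    have ht : 0 ≤ t := by omega
    have : 0 < ((t + 29) ^ 2 + 1 + (t + 29 + 1)) ^ 2 - 20 * (t + 29 + 1) * ((t + 29) ^ 2 + 1) := by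
      ring_nf
      (clear * - ht; positivity)
    linarith only [h8, this]
  · have ha1 := a_one ha hao hkd (by norm_num)
    subst ha1
    have hj2 : 2 * j = x + 3 := by linarith only [hz]
    have h11 : (x + 3) ∣ 28 := by
      have h8 : (x + 3) ∣ x ^ 3 - 1 := ⟨2 * N, by rw [← h, ← hj2]; ring⟩
      have h12 : x ^ 3 - 1 = (x + 3) * (x ^ 2 - 3 * x + 9) - 28 := by ring
      rw [h12] at h8
      exact (dvd_sub_right (dvd_mul_right _ _)).1 h8
    have h13 := Int.le_of_dvd (by norm_num) h11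
    omega

/-- `4 N ∣ p (x² - 1)`, `x = p` -/
theorem pD {x a i j N : ℤ} (hx : 29 ≤ x) (ha : 1 ≤ a) (hao : a % 2 = 1) (hxo : x % 2 = 1)
    (hai : 2 * (a * i) = x + 1) (hj : 1 ≤ j) (h : N * (4 * j) = x * (x ^ 2 - 1))
    (hK : (a * (x ^ 2 + 1) - 2 * N) ^ 2 ≤ 10 * (a * (x ^ 2 + 1))) :
    (a = 1 ∧ 2 * N = x ^ 2 + x) ∨ 2 * N = a * (x ^ 2 - x) := by
  obtain ⟨z, hz⟩ : ∃ z, z = 2 * (a * j) - x := ⟨_, rfl⟩
  have hzj : 2 * (a * j) = x + z := by rw [hz]; ring
  have hzo : z % 2 = 1 := by (clear * - hai hz; omega)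
  have h1 : 2 * j * (a * (x ^ 2 + 1) - 2 * N) = z * (x ^ 2 + 1) + 2 * x := by
    linear_combination (x ^ 2 + 1) * hzj - h
  have hpos : 0 < x + z := by rw [← hzj]; positivity
  have h2 : a * (z * (x ^ 2 + 1) + 2 * x) ^ 2 ≤ 10 * (x + z) ^ 2 * (x ^ 2 + 1) := by
    rw [← h1, ← hzj]
    have := mul_le_mul_of_nonneg_left hK (by positivity : 0 ≤ a * (4 * j ^ 2))
    linarith only [this]
  have hkd := key_dvd hai hzj
  rcases z_range hx ha hzo hpos (by linarith) le_rfl h2 with rfl | rfl | rfl | rfl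
  · exfalso
    have ha1 := a_one ha hao hkd (by norm_num)
    subst ha1
    have hj2 : 2 * j = x - 3 := by linarith only [hz]
    have h11 : (x - 3) ∣ 24 := by
      have h8 : (x - 3) ∣ x * (x ^ 2 - 1) := ⟨2 * N, by rw [← h, ← hj2]; ring⟩
      have h12 : x * (x ^ 2 - 1) = (x - 3) * (x ^ 2 + 3 * x + 8) + 24 := by ring
      rw [h12] at h8
      exact (dvd_add_right (dvd_mul_right _ _)).1 h8
    have h13 := Int.le_of_dvd (by norm_num) h11
    omega
  · left
    have ha1 := a_one ha hao hkd (by norm_num)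
    subst ha1
    refine ⟨rfl, ?_⟩
    have hj2 : 2 * j = x - 1 := by linarith only [hz]
    have h10 : (x - 1) * (2 * N) = (x - 1) * (x ^ 2 + x) := by
      have : (x - 1) * (2 * N) = N * (4 * j) := by rw [← hj2]; ring
      rw [this, h]; ring
    exact mul_left_cancel₀ (by omega) h10
  · right
    have h10 : (x + 1) * (2 * N) = (x + 1) * (a * (x ^ 2 - x)) := by
      have : (x + 1) * (2 * N) = a * (N * (4 * j)) := by
        linear_combination (-2 * N) * hzj
      rw [this, h]; ring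
    exact mul_left_cancel₀ (by omega) h10
  · exfalso
    have ha1 := a_one ha hao hkd (by norm_num)
    subst ha1
    have hj2 : 2 * j = x + 3 := by linarith only [hz]
    have h11 : (x + 3) ∣ 24 := by
      have h8 : (x + 3) ∣ x * (x ^ 2 - 1) := ⟨2 * N, by rw [← h, ← hj2]; ring⟩
      have h12 : x * (x ^ 2 - 1) = (x + 3) * (x ^ 2 - 3 * x + 8) - 24 := by ring
      rw [h12] at h8
      exact (dvd_sub_right (dvd_mul_right _ _)).1 h8
    have h13 := Int.le_of_dvd (by norm_num) h11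
    omega

/-- `4 N ∣ p (x² - 1)`, `5 p ≤ x` -/
theorem pD' {x p a j N : ℤ} (hx : 29 ≤ x) (hp : 5 ≤ p) (hpo : p % 2 = 1) (hpx : 5 * p ≤ x) (ha : 1 ≤ a) (hj : 1 ≤ j)
    (h : N * (4 * j) = p * (x ^ 2 - 1))
    (hK : (a * (x ^ 2 + 1) - 2 * N) ^ 2 ≤ 10 * (a * (x ^ 2 + 1))) : False := by
  obtain ⟨w, hw⟩ : ∃ w, w = x ^ 2 + 1 := ⟨_, rfl⟩
  have hw1 : 842 ≤ w := by rw [hw]; nlinarith only [hx]
  have hxw : 29 * x ≤ w := by rw [hw]; nlinarith only [hw, hw1]
  have hxx : x ^ 2 ≤ w := by rw [hw]; linarith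
  obtain ⟨z, hz⟩ : ∃ z, z = 2 * (a * j) - p := ⟨_, rfl⟩
  have hzj : 2 * (a * j) = p + z := by rw [hz]; ring
  have hzo : z % 2 = 1 := by omega
  have h1 : 2 * j * (a * w - 2 * N) = z * w + 2 * p := by
    have : 2 * p = p * w - p * (x ^ 2 - 1) := by rw [hw]; ring
    rw [this]
    linear_combination w * hzj - h
  have hpos : 0 < p + z := by rw [← hzj]; positivity
  rw [← hw] at hK
  have h2 : a * (z * w + 2 * p) ^ 2 ≤ 10 * (p + z) ^ 2 * w := by
    rw [← h1, ← hzj]
    have := mul_le_mul_of_nonneg_left hK (by positivity : 0 ≤ a * (4 * j ^ 2))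
    linarith only [this]
  have h0 : (z * w + 2 * p) ^ 2 ≤ 10 * (p + z) ^ 2 * w := (le_mul_of_one_le_left (sq_nonneg _) ha).trans h2
  -- `|z w + 2 p| ≥ (9/10) |z| w`
  have h3 : (9 * (z * w)) ^ 2 ≤ (10 * (z * w + 2 * p)) ^ 2 := by
    rcases le_or_gt 1 z with h5 | h5
    · have : 0 ≤ z * w := by positivity
      exact pow_le_pow_left₀ (by positivity) (by linarith) 2
    · have hz1 : z ≤ -1 := by omega
      have h6 : z * w ≤ -w := by nlinarith only [ha, hK, hz1]
      nlinarith only [hpx, hw1, hxw, h6]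
  have h4 : 81 * (z ^ 2 * w) ≤ 1000 * (p + z) ^ 2 := by
    have h5 : 81 * (z ^ 2 * w) * w ≤ 1000 * (p + z) ^ 2 * w := by linarith only [h0, h3]
    exact le_of_mul_le_mul_right h5 (by omega)
  have h5 : (9 * (z * x)) ^ 2 ≤ 1000 * (p + z) ^ 2 := by
    have : z ^ 2 * x ^ 2 ≤ z ^ 2 * w := mul_le_mul_of_nonneg_left hxx (sq_nonneg _)
    linarith only [h4, this]
  -- `p ≤ x / 5`
  have h6 : (p + z) ^ 2 ≤ (p + |z|) ^ 2 := pow_le_pow_left₀ hpos.le (by linarith [le_abs_self z]) 2
  have h7 : (9 * (|z| * x)) ^ 2 < (32 * (p + |z|)) ^ 2 := by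
    have e : (9 * (|z| * x)) ^ 2 = (9 * (z * x)) ^ 2 := by rw [mul_pow, mul_pow, sq_abs]; ring
    rw [e]
    have : 0 < (p + |z|) ^ 2 := by (clear * - hp; positivity)
    linarith only [h5, h6, this]
  have h8 : 9 * (|z| * x) < 32 * (p + |z|) := lt_of_pow_lt_pow_left₀ 2 (by (clear * - hp; positivity)) h7
  have h9 : 1 ≤ |z| := Int.one_le_abs (by rintro rfl; omega)
  nlinarith only [hx, hpx, h8, h9]

/-- `N ∣ x (x - 1)` -/
theorem pE {x a m N : ℤ} (hx : 29 ≤ x) (ha : 1 ≤ a) (hao : a % 2 = 1) (hm : 1 ≤ m) (h : N * m = x * (x - 1))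
    (hK : (a * (x ^ 2 + 1) - 2 * N) ^ 2 ≤ 10 * (a * (x ^ 2 + 1))) : a = 1 ∧ 2 * N = x ^ 2 - x := by
  obtain ⟨s, hs⟩ : ∃ s, s = m * a - 2 := ⟨_, rfl⟩
  have hma : 1 ≤ m * a := by nlinarith only [ha, hm]
  obtain ⟨w, hw⟩ : ∃ w, w = x ^ 2 + 1 := ⟨_, rfl⟩
  have hw1 : 842 ≤ w := by rw [hw]; nlinarith only [hx]
  have hxw : 29 * x ≤ w := by rw [hw]; nlinarith only [hw, hw1]
  rw [← hw] at hK
  have h1 : m * (a * w - 2 * N) = s * w + (2 * x + 2) := by rw [hs, hw]; linear_combination (-2) * h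
  have h2 : (s * w + (2 * x + 2)) ^ 2 ≤ 10 * ((s + 2) ^ 2 * w) := by
    rw [← h1, mul_pow]
    have h3 := mul_le_mul_of_nonneg_left hK (sq_nonneg m)
    have h4 : m ^ 2 * (10 * (a * w)) ≤ 10 * ((s + 2) ^ 2 * w) := by
      have e : s + 2 = m * a := by rw [hs]; ring
      rw [e]
      have : m ^ 2 * a * 1 ≤ m ^ 2 * a * a := mul_le_mul_of_nonneg_left ha (by positivity)
      nlinarith only [ha, hK, this]
    exact h3.trans h4
  rcases lt_trichotomy s 0 with h3 | h3 | h3
  · exfalso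
    have : s = -1 := by omega
    subst this
    nlinarith only [hw1, hxw, h2]
  · have hma2 : m * a = 2 := by omega
    have ha1 : a = 1 := by
      have h3 : a ∣ 2 := ⟨m, by rw [← hma2]; ring⟩
      have h4 := Int.le_of_dvd (by norm_num) h3
      interval_cases a
      · rfl
      · omega
    subst ha1
    rw [mul_one] at hma2
    subst hma2
    exact ⟨rfl, by linarith only [h]⟩
  · exfalso
    have h4 : (s * w) ^ 2 ≤ 90 * (s ^ 2 * w) := by
      have h5 : (s + 2) ^ 2 ≤ 9 * s ^ 2 := by nlinarith only [h3]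
      have h6 : (s * w) ^ 2 ≤ (s * w + (2 * x + 2)) ^ 2 := pow_le_pow_left₀ (by positivity) (by linarith) 2
      nlinarith only [hw, h2, h5, h6]
    have h5 : 0 < s ^ 2 * w := by positivity
    have h6 : (s * w) ^ 2 = (s ^ 2 * w) * w := by ring
    nlinarith only [hw1, h4, h5]

/-- `N ∣ p (x - 1)`, `5 p ≤ x` -/
theorem pE' {x p a N : ℤ} (hx : 25 ≤ x) (hpx : 5 * p ≤ x) (ha : 1 ≤ a) (hN0 : 0 ≤ N) (hN : N ≤ p * (x - 1))
    (hK : (a * (x ^ 2 + 1) - 2 * N) ^ 2 ≤ 10 * (a * (x ^ 2 + 1))) : False := by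
  obtain ⟨w, hw⟩ : ∃ w, w = x ^ 2 + 1 := ⟨_, rfl⟩
  rw [← hw] at hK
  have h1 : 5 * N ≤ w := by
    rw [hw]
    have : 5 * p * (x - 1) ≤ x * (x - 1) := mul_le_mul_of_nonneg_right hpx (by omega)
    linarith only [hx, hN, this]
  have hw1 : 626 ≤ w := by rw [hw]; nlinarith only [hx]
  have h2 : w ≤ a * w := le_mul_of_one_le_left (by omega) ha
  have h3 : (3 * (a * w)) ≤ 5 * (a * w - 2 * N) := by linarith
  have h4 : (3 * (a * w)) ^ 2 ≤ (5 * (a * w - 2 * N)) ^ 2 := pow_le_pow_left₀ (by positivity) h3 2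
  nlinarith only [hK, hw1, h2, h4]

end Cfsg.Agent.R2.Spec.X3.PairI
end

-- part: R2/Spec/X3/PairIF
section
/-!
# The pair lemma, type I (helper16, S3435, box X3)
-/

set_option autoImplicit false

namespace Cfsg.Agent.R2.Spec.X3

/-- the finite check: one pair -/
def ChkIn (x p a T N : ℕ) : Prop := 0 < N → ((a * (x ^ 2 + 1) : ℕ) - (2 * N : ℕ) : ℤ) ^ 2 ≤ 10 * (a * (x ^ 2 + 1) : ℕ) →
  ((x ^ 3 - 1) % (4 * N) = 0 ∨ (x ^ 2 - 1) % N = 0 ∨ (p * (x ^ 2 - 1)) % (4 * N) = 0 ∨ (p * (x - 1)) % N = 0) →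
  (a = 1 ∧ 2 * N = x ^ 2 - 1) ∨ (p = x ∧ a = 1 ∧ 2 * N = x ^ 2 + x) ∨ (p = x ∧ 2 * N = a * (x ^ 2 - x)) ∨
    ((x : ℤ), (T : ℤ), (N : ℤ)) ∈ excI

instance (x p a T N : ℕ) : Decidable (ChkIn x p a T N) := by unfold ChkIn; infer_instance

/-- the finite check -/
def ChkI (x p : ℕ) : Prop := ∀ a < x, a % 2 = 1 → (x + 1) % (2 * a) = 0 → ∀ i < 400,
  ChkIn x p a (a * ((x ^ 2 + 1) / 2)) (a * ((x ^ 2 + 1) / 2) + 200 - i)

instance (x p : ℕ) : Decidable (ChkI x p) := by unfold ChkI; infer_instance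

theorem chkI5 : ChkI 5 5 := by decide +kernel
theorem chkI13 : ChkI 13 13 := by decide +kernel
theorem chkI17 : ChkI 17 17 := by decide +kernel
theorem chkI25 : ChkI 25 5 := by decide +kernel

namespace Cand

variable {p M : ℕ} {x : ℤ} {S : Type*} [Group S] (h : Cand p x M S)

include h

theorem smallI (hx : x % 4 = 1) : (x = 5 ∧ p = 5) ∨ (x = 13 ∧ p = 13) ∨ (x = 17 ∧ p = 17) ∨ (x = 25 ∧ p = 5) ∨ 29 ≤ x := by
  have hp := h.hp
  have h5 := h.h5
  have hb : 5 ≤ x := by rcases h.x_bd with k | k | k <;> omega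
  rcases lt_or_ge x 29 with h1 | h1
  · obtain ⟨k, hk, hx'⟩ := h.ex
    have hd : p ∣ x.natAbs := by rw [hx']; exact dvd_pow_self p (by omega)
    have h9 : x = 5 ∨ x = 9 ∨ x = 13 ∨ x = 17 ∨ x = 21 ∨ x = 25 := by omega
    have key : ∀ n : ℕ, n ≠ 0 → p ∣ n → p ∈ n.primeFactors := fun n hn hpn => by
      rw [Nat.mem_primeFactors]; exact ⟨hp, hpn, hn⟩
    rcases h9 with rfl | rfl | rfl | rfl | rfl | rfl
    · left; refine ⟨rfl, ?_⟩
      exact (Nat.prime_dvd_prime_iff_eq hp (by norm_num)).1 hd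
    · exfalso
      have h3 : p ∣ 3 ^ 2 := hd
      have := (Nat.prime_dvd_prime_iff_eq hp Nat.prime_three).1 (hp.dvd_of_dvd_pow h3)
      omega
    · right; left; refine ⟨rfl, ?_⟩
      exact (Nat.prime_dvd_prime_iff_eq hp (by norm_num)).1 hd
    · right; right; left; refine ⟨rfl, ?_⟩
      exact (Nat.prime_dvd_prime_iff_eq hp (by norm_num)).1 hd
    · exfalso
      have h3 : p ∣ 3 * 7 := hd
      have h4 : 21 = p ^ k := hx'
      have h6 : (3 : ℕ) ∣ p ^ k := by rw [← h4]; norm_num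
      have h7 : (7 : ℕ) ∣ p ^ k := by rw [← h4]; norm_num
      have h8 := (Nat.prime_dvd_prime_iff_eq Nat.prime_three hp).1 (Nat.prime_three.dvd_of_dvd_pow h6)
      omega
    · right; right; right; left; refine ⟨rfl, ?_⟩
      have h3 : p ∣ 5 ^ 2 := hd
      exact (Nat.prime_dvd_prime_iff_eq hp (by norm_num)).1 (hp.dvd_of_dvd_pow h3)
  · right; right; right; right; exact h1

/-- **the pair lemma, type I** -/
theorem pairI (hx : x % 4 = 1) {T N : ℕ} (hT : ∃ g : S, orderOf g = T) (hMT : M ∣ T) (hN : ∃ g : S, orderOf g = N)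
    (hN0 : N ≠ 0) (hNM : Nat.Coprime N M) (hK : ((T : ℤ) - N) ^ 2 ≤ 5 * T) : OutI p x T N := by
  obtain ⟨a, hTa, hao, ha1, haI, -⟩ := h.tor hT hMT
  have hb : 5 ≤ x := by rcases h.x_bd with k | k | k <;> omega
  have hM : 2 * (M : ℤ) = x ^ 2 + 1 := by
    rcases h.typ with h4 | ⟨δ, h4, -⟩
    · exact h4.2.2
    · omega
  obtain ⟨i, hi⟩ := haI hx
  have hfree := h.freeI hN hNM hx
  have haZ : (1 : ℤ) ≤ a := by exact_mod_cast ha1
  have haoZ : (a : ℤ) % 2 = 1 := by omega
  have hT2 : 2 * (T : ℤ) = a * (x ^ 2 + 1) := by rw [hTa, ← hM]; push_cast; ring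
  have hK' : ((a : ℤ) * (x ^ 2 + 1) - 2 * N) ^ 2 ≤ 10 * (a * (x ^ 2 + 1)) := by
    rw [← hT2]
    linarith only [hK]
  have hai : 2 * ((a : ℤ) * i) = x + 1 := by rw [hi]; ring
  have hp5 := h.h5
  have hppos : (0 : ℤ) < p := by exact_mod_cast h.hp.pos
  rcases (by rcases h.smallI hx with k | k | k | k | k <;> (clear * - k; tauto) :
    (29 ≤ x) ∨ ((x = 5 ∧ p = 5) ∨ (x = 13 ∧ p = 13) ∨ (x = 17 ∧ p = 17) ∨ (x = 25 ∧ p = 5))) with hbig | hsm
  · have hNZ : (0 : ℤ) < N := by exact_mod_cast Nat.pos_of_ne_zero hN0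
    have hpar : (p : ℤ) % 2 = 1 := by
      rcases h.hp.eq_two_or_odd with k | k <;> omega
    have jpos : ∀ j c : ℤ, 0 < c → (N : ℤ) * j = c → 1 ≤ j := by
      intro j c hc hj
      by_contra hcon
      push Not at hcon
      nlinarith only [hc, hj, hcon]
    rcases hfree with k | k | k | k
    · exfalso
      obtain ⟨j, hj⟩ := k
      have e : (N : ℤ) * (4 * j) = x ^ 3 - 1 := by rw [hj]; ring
      have hj1 : 1 ≤ j := by
        have := jpos (4 * j) (x ^ 3 - 1) (by nlinarith only [hbig, sq_nonneg x]) e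
        omega
      exact PairI.pA hbig hx haZ haoZ hai hj1 e hK'
    · obtain ⟨j, hj⟩ := k
      have hj1 := jpos j (x ^ 2 - 1) (by nlinarith only [hb, hbig]) hj.symm
      obtain ⟨h1, h2⟩ := PairI.pC hbig haZ hj1 hj.symm haoZ hK'
      left
      rw [h1, one_mul] at hT2
      exact ⟨hT2, h2⟩
    · obtain ⟨j, hj⟩ := k
      have e : (N : ℤ) * (4 * j) = p * (x ^ 2 - 1) := by rw [hj]; ring
      have hj1 : 1 ≤ j := by
        have := jpos (4 * j) (p * (x ^ 2 - 1)) (mul_pos hppos (by nlinarith only [hb, hbig])) e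
        omega
      rcases h.p_cases with hp | hp
      · rw [abs_of_nonneg (by omega)] at hp
        rw [hp] at e
        right
        rcases PairI.pD hbig haZ haoZ (by omega) hai hj1 e hK' with ⟨h1, h2⟩ | h2
        · left
          rw [h1, one_mul] at hT2
          exact ⟨hp, hT2, h2⟩
        · right; left
          exact ⟨hp, a, haZ, haoZ, hT2, h2⟩
      · exfalso
        rw [abs_of_nonneg (by omega)] at hp
        exact PairI.pD' hbig (by exact_mod_cast hp5) hpar hp haZ hj1 e hK'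
    · rcases h.p_cases with hp | hp
      · rw [abs_of_nonneg (by omega)] at hp
        obtain ⟨j, hj⟩ := k
        have e : (N : ℤ) * j = x * (x - 1) := by rw [← hj, hp]
        have hj1 := jpos j (x * (x - 1)) (by nlinarith only [hbig]) e
        obtain ⟨h1, h2⟩ := PairI.pE hbig haZ haoZ hj1 e hK'
        right; right; left
        exact ⟨hp, a, haZ, haoZ, hT2, by rw [h1, one_mul]; exact h2⟩
      · exfalso
        rw [abs_of_nonneg (by omega)] at hp
        refine PairI.pE' (by omega) hp haZ hNZ.le (Int.le_of_dvd (mul_pos hppos (by omega)) k) hK'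
  · -- the finite check
    have hclose : (T : ℤ) - N ≤ 199 ∧ (N : ℤ) - T ≤ 199 := by
      have h2T : (T : ℤ) ≤ 4069 := by
        have h1 : (2 * (a : ℤ)) ≤ x + 1 := Int.le_of_dvd (by omega) ⟨i, hi⟩
        have : 4 * (T : ℤ) ≤ (x + 1) * (x ^ 2 + 1) := by nlinarith only [hT2, h1, sq_nonneg x]
        rcases hsm with ⟨rfl, -⟩ | ⟨rfl, -⟩ | ⟨rfl, -⟩ | ⟨rfl, -⟩ <;> norm_num only [_root_.Nat.cast_le_ofNat, _root_.ge_iff_le] at this ⊢ <;> linarith only [hT2, h1]
      constructor <;> nlinarith only [hK, h2T]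
    obtain ⟨y, hy⟩ : ∃ y : ℕ, x = y := ⟨x.toNat, by omega⟩
    subst hy
    have hMy : M = (y ^ 2 + 1) / 2 := by
      have h1 : 2 * M = y ^ 2 + 1 := by exact_mod_cast hM
      omega
    have hy5 : 5 ≤ y := by exact_mod_cast hb
    have hchk : ChkI y p := by
      rcases hsm with ⟨h1, rfl⟩ | ⟨h1, rfl⟩ | ⟨h1, rfl⟩ | ⟨h1, rfl⟩
      · have : y = 5 := by exact_mod_cast h1
        subst this; exact chkI5
      · have : y = 13 := by exact_mod_cast h1
        subst this; exact chkI13
      · have : y = 17 := by exact_mod_cast h1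
        subst this; exact chkI17
      · have : y = 25 := by exact_mod_cast h1
        subst this; exact chkI25
    have hyo : y % 2 = 1 := by omega
    have hi0 : 0 < i := by
      by_contra hcon
      push Not at hcon
      nlinarith only [hi, hcon]
    have haN : (y + 1) % (2 * a) = 0 := by
      have : (((2 * a : ℕ)) : ℤ) ∣ ((y + 1 : ℕ) : ℤ) := by push_cast; exact ⟨i, hi⟩
      exact Nat.mod_eq_zero_of_dvd (by exact_mod_cast this)
    have haY : a < y := by
      have h1 : (2 * (a : ℤ)) ≤ y + 1 := Int.le_of_dvd (by omega) ⟨i, hi⟩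
      omega
    have hTy : T = a * ((y ^ 2 + 1) / 2) := by rw [hTa, hMy]
    -- `N = T + 200 - i'`
    obtain ⟨i', hi', hNi⟩ : ∃ i' < 400, a * ((y ^ 2 + 1) / 2) + 200 - i' = N := by
      refine ⟨T + 200 - N, by omega, by rw [← hTy]; (clear * - hclose; omega)⟩
    have hsq1 : 1 ≤ y ^ 2 := Nat.one_le_pow _ _ (by omega)
    have hcu1 : 1 ≤ y ^ 3 := Nat.one_le_pow _ _ (by omega)
    have hc2 : ((y ^ 2 - 1 : ℕ) : ℤ) = (y : ℤ) ^ 2 - 1 := by push_cast [hsq1]; rfl
    have hc3 : ((y ^ 3 - 1 : ℕ) : ℤ) = (y : ℤ) ^ 3 - 1 := by push_cast [hcu1]; rfl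
    have hc1 : ((y - 1 : ℕ) : ℤ) = (y : ℤ) - 1 := by push_cast [show 1 ≤ y by omega]; rfl
    have hcx : ((y ^ 2 - y : ℕ) : ℤ) = (y : ℤ) ^ 2 - y := by
      push_cast [Nat.le_self_pow two_ne_zero y]; rfl
    have hres0 := hchk a haY hao haN i' hi'
    rw [hNi, ← hTy] at hres0
    have hres := hres0 (by (clear * - hN0; omega)) (by push_cast; exact hK')
      (by
        rcases hfree with k | k | k | k
        · left
          apply Nat.mod_eq_zero_of_dvd
          rw [← hc3] at k
          exact_mod_cast k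
        · right; left
          apply Nat.mod_eq_zero_of_dvd
          rw [← hc2] at k
          exact_mod_cast k
        · right; right; left
          apply Nat.mod_eq_zero_of_dvd
          rw [← hc2] at k
          exact_mod_cast k
        · right; right; right
          apply Nat.mod_eq_zero_of_dvd
          rw [← hc1] at k
          exact_mod_cast k)
    rcases hres with ⟨h1, h2⟩ | ⟨h1, h2, h3⟩ | ⟨h1, h2⟩ | h1
    · left
      rw [h1] at hT2
      refine ⟨by simpa using hT2, ?_⟩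
      rw [← hc2]; exact_mod_cast h2
    · right; left
      rw [h2] at hT2
      refine ⟨by exact_mod_cast h1, by simpa using hT2, by exact_mod_cast h3⟩
    · right; right; left
      refine ⟨by exact_mod_cast h1, a, haZ, haoZ, hT2, ?_⟩
      rw [← hcx]; exact_mod_cast h2
    · right; right; right
      exact h1

end Cand

end Cfsg.Agent.R2.Spec.X3
end
end

-- part: R2/Spec/X3/PairZ
section
set_option linter.all false
open scoped Cfsg.Agent.FastGrp

-- part: R2/Spec/X3/PairS
section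
/-!
# The pair lemma, type II: the finite check (helper16, S3435, box X3)
-/

set_option autoImplicit false

namespace Cfsg.Agent.R2.Spec.X3

/-- the finite check: one pair; `P = x² + x + 1`, `ys = |x + 1|`, `ym = |x - 1|` -/
def okN (P ys ym y p d a T N : ℕ) (L : List (ℕ × ℕ)) : Bool :=
  (!(Nat.beq ((y * y + 1) * ys % (2 * N)) 0 || Nat.beq ((y * y - 1) % N) 0 || Nat.beq (p * (y * y - 1) % (2 * N)) 0 ||
    Nat.beq (p * ym % N) 0 || Nat.beq (d * ym % (2 * N)) 0)) ||
  (!(Nat.ble ((a * P - d * N) * (a * P - d * N) + (d * N - a * P) * (d * N - a * P)) (5 * d * (a * P)))) ||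
  (Nat.beq a 1 && Nat.beq (d * N) (y * y - 1)) || (Nat.beq a d && Nat.beq N (y * y - 1)) ||
  (Nat.beq a d && Nat.beq N (y * y + 1)) ||
  (Nat.beq p y && Nat.beq a 1 && Nat.beq (d * N) (y * ym)) || (Nat.beq p y && Nat.beq a d && Nat.beq N (y * ym)) ||
  (Nat.beq p y && Nat.beq (d * N) (a * (y * ys))) ||
  L.any fun q => Nat.beq q.1 T && Nat.beq q.2 N

/-- the finite check for one `a` -/
def okA (P ys ym y p d a : ℕ) (L : List (ℕ × ℕ)) : Bool :=
  (List.range 400).all fun i => okN P ys ym y p d a (a * P / d) (a * P / d + 200 - i) L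

theorem okX7 : ∀ a : ℕ, a = 1 ∨ a = 3 ∨ a = 9 → okA 57 8 6 7 7 3 a
    [(19, 10), (19, 12), (19, 20), (19, 21), (19, 24), (19, 25), (19, 28), (171, 200)] = true := by
  rintro a (rfl | rfl | rfl)
  · decide +kernel
  · decide +kernel
  · decide +kernel
theorem okX11 : ∀ a : ℕ, a = 1 ∨ a = 5 → okA 133 12 10 11 11 1 a [] = true := by
  rintro a (rfl | rfl)
  · decide +kernel
  · decide +kernel
theorem okX19 : ∀ a : ℕ, a = 1 ∨ a = 3 ∨ a = 9 ∨ a = 27 → okA 381 20 18 19 19 3 a [] = true := by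
  rintro a (rfl | rfl | rfl | rfl)
  · decide +kernel
  · decide +kernel
  · decide +kernel
  · decide +kernel
theorem okX23 : ∀ a : ℕ, a = 1 ∨ a = 11 → okA 553 24 22 23 23 1 a [] = true := by
  rintro a (rfl | rfl)
  · decide +kernel
  · decide +kernel
theorem okX13 : ∀ a : ℕ, a = 1 ∨ a = 7 → okA 157 12 14 13 13 1 a [] = true := by
  rintro a (rfl | rfl)
  · decide +kernel
  · decide +kernel
theorem okX17 : ∀ a : ℕ, a = 1 ∨ a = 3 ∨ a = 9 ∨ a = 27 → okA 273 16 18 17 17 3 a [(91, 72), (91, 80)] = true := by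
  rintro a (rfl | rfl | rfl | rfl)
  · decide +kernel
  · decide +kernel
  · decide +kernel
  · decide +kernel
theorem okX25 : ∀ a : ℕ, a = 1 ∨ a = 13 → okA 601 24 26 25 5 1 a [] = true := by
  rintro a (rfl | rfl)
  · decide +kernel
  · decide +kernel

/-- the use of the finite check -/
theorem fin {P ys ym y p d a T N : ℕ} {L : List (ℕ × ℕ)} (h2 : okA P ys ym y p d a L = true) (hd0 : 0 < d)
    (h2a : 2 * a ∣ d * ym) (hym0 : 0 < d * ym) (hym : d * ym < 80) (hb : ym * P ≤ 15626)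
    (hdT : d * T = a * P) (hN : 0 < N) (hKT : ((T : ℤ) - N) ^ 2 ≤ 5 * T)
    (hK : ((a * P : ℕ) - (d * N : ℕ) : ℤ) ^ 2 ≤ (5 * d * (a * P) : ℕ))
    (hfree : 2 * N ∣ (y * y + 1) * ys ∨ N ∣ y * y - 1 ∨ 2 * N ∣ p * (y * y - 1) ∨ N ∣ p * ym ∨ 2 * N ∣ d * ym) :
    (a = 1 ∧ d * N = y * y - 1) ∨ (a = d ∧ N = y * y - 1) ∨ (a = d ∧ N = y * y + 1) ∨
      (p = y ∧ a = 1 ∧ d * N = y * ym) ∨ (p = y ∧ a = d ∧ N = y * ym) ∨
      (p = y ∧ d * N = a * (y * ys)) ∨ (T, N) ∈ L := by
  have h2a' := Nat.le_of_dvd hym0 h2a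
  have hTle : T ≤ 7813 := by
    have h1 : d * (2 * T) ≤ d * (ym * P) := by
      calc d * (2 * T) = 2 * (d * T) := by ring
        _ = (2 * a) * P := by rw [hdT]; ring
        _ ≤ (d * ym) * P := Nat.mul_le_mul_right _ h2a'
        _ = _ := by ring
    have h2 := Nat.le_of_mul_le_mul_left h1 hd0
    omega
  have hTZ : (T : ℤ) ≤ 7813 := by exact_mod_cast hTle
  have hT1 : (T : ℤ) - N ≤ 199 := by
    by_contra hcon
    push Not at hcon
    nlinarith only [hcon, hKT, hTZ]
  have hT2 : (N : ℤ) - T ≤ 199 := by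
    by_contra hcon
    push Not at hcon
    nlinarith only [hcon, hKT, hTZ]
  have hTdiv : a * P / d = T := by rw [← hdT]; exact Nat.mul_div_cancel_left _ hd0
  obtain ⟨i, hi, hNi⟩ : ∃ i < 400, T + 200 - i = N := ⟨T + 200 - N, by omega, by omega⟩
  unfold okA at h2
  rw [List.all_eq_true] at h2
  have h3 := h2 i (List.mem_range.2 hi)
  rw [hTdiv, hNi] at h3
  have hclose : Nat.ble ((a * P - d * N) * (a * P - d * N) + (d * N - a * P) * (d * N - a * P)) (5 * d * (a * P)) = true := by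
    apply Nat.ble_eq_true_of_le
    have h4 : (((a * P - d * N) * (a * P - d * N) + (d * N - a * P) * (d * N - a * P) : ℕ) : ℤ) =
        ((a * P : ℕ) - (d * N : ℕ) : ℤ) ^ 2 := by
      rcases Nat.le_total (a * P) (d * N) with h5 | h5
      · rw [Nat.sub_eq_zero_of_le h5, Nat.zero_mul, Nat.zero_add]
        rw [Nat.cast_mul, Nat.cast_sub h5]; ring
      · rw [Nat.sub_eq_zero_of_le h5, Nat.zero_mul, Nat.add_zero]
        rw [Nat.cast_mul, Nat.cast_sub h5]; ring
    have h6 : (((a * P - d * N) * (a * P - d * N) + (d * N - a * P) * (d * N - a * P) : ℕ) : ℤ) ≤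
        (5 * d * (a * P) : ℕ) := by rw [h4]; exact hK
    exact_mod_cast h6
  have hdv : (Nat.beq ((y * y + 1) * ys % (2 * N)) 0 || Nat.beq ((y * y - 1) % N) 0 || Nat.beq (p * (y * y - 1) % (2 * N)) 0 ||
    Nat.beq (p * ym % N) 0 || Nat.beq (d * ym % (2 * N)) 0) = true := by
    simp only [Bool.or_eq_true, Nat.beq_eq]
    rcases hfree with k | k | k | k | k
    · exact Or.inl (Or.inl (Or.inl (Or.inl (Nat.mod_eq_zero_of_dvd k))))
    · exact Or.inl (Or.inl (Or.inl (Or.inr (Nat.mod_eq_zero_of_dvd k))))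
    · exact Or.inl (Or.inl (Or.inr (Nat.mod_eq_zero_of_dvd k)))
    · exact Or.inl (Or.inr (Nat.mod_eq_zero_of_dvd k))
    · exact Or.inr (Nat.mod_eq_zero_of_dvd k)
  unfold okN at h3
  rw [hdv, hclose] at h3
  simp only [Bool.not_true, Bool.false_or, Bool.or_eq_true, Bool.and_eq_true, Nat.beq_eq, List.any_eq_true] at h3
  rcases h3 with (((((h3 | h3) | h3) | h3) | h3) | h3) | h3
  · exact Or.inl h3
  · exact Or.inr (Or.inl h3)
  · exact Or.inr (Or.inr (Or.inl h3))
  · exact Or.inr (Or.inr (Or.inr (Or.inl ⟨h3.1.1, h3.1.2, h3.2⟩)))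
  · exact Or.inr (Or.inr (Or.inr (Or.inr (Or.inl ⟨h3.1.1, h3.1.2, h3.2⟩))))
  · exact Or.inr (Or.inr (Or.inr (Or.inr (Or.inr (Or.inl h3)))))
  · obtain ⟨⟨t, n⟩, hm, h4, h5⟩ := h3
    simp only at h4 h5
    rw [h4, h5] at hm
    exact Or.inr (Or.inr (Or.inr (Or.inr (Or.inr (Or.inr hm)))))

/-- the small cases -/
theorem tuple {x s y d : ℤ} {p : ℕ} (hs : s = 1 ∨ s = -1) (hy : 7 ≤ y) (hxy : x = s * y)
    (hd : (d = 1 ∧ x % 3 ≠ 1) ∨ (d = 3 ∧ x % 3 = 1))
    (h : (x = 7 ∧ p = 7) ∨ (x = 11 ∧ p = 11) ∨ (x = 19 ∧ p = 19) ∨ (x = 23 ∧ p = 23) ∨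
      (x = -13 ∧ p = 13) ∨ (x = -17 ∧ p = 17) ∨ (x = -25 ∧ p = 5)) :
    (s = 1 ∧ y = 7 ∧ p = 7 ∧ d = 3) ∨ (s = 1 ∧ y = 11 ∧ p = 11 ∧ d = 1) ∨ (s = 1 ∧ y = 19 ∧ p = 19 ∧ d = 3) ∨
    (s = 1 ∧ y = 23 ∧ p = 23 ∧ d = 1) ∨ (s = -1 ∧ y = 13 ∧ p = 13 ∧ d = 1) ∨ (s = -1 ∧ y = 17 ∧ p = 17 ∧ d = 3) ∨
    (s = -1 ∧ y = 25 ∧ p = 5 ∧ d = 1) := by
  have key : ∀ {n e : ℤ}, x = n → 0 < n → n % 3 = e → (s = 1 ∧ y = n ∧ (e ≠ 1 → d = 1) ∧ (e = 1 → d = 3)) := by
    intro n e hx hn he
    rcases hs with rfl | rfl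
    · refine ⟨rfl, by linarith, fun h => ?_, fun h => ?_⟩
      · rcases hd with h1 | h1
        · exact h1.1
        · exact absurd (by rw [← he, ← hx]; exact h1.2) h
      · rcases hd with h1 | h1
        · exact absurd (by rw [hx, he]; exact h) h1.2
        · exact h1.1
    · exfalso; linarith
  have key' : ∀ {n e : ℤ}, x = -n → 0 < n → (-n) % 3 = e → (s = -1 ∧ y = n ∧ (e ≠ 1 → d = 1) ∧ (e = 1 → d = 3)) := by
    intro n e hx hn he
    rcases hs with rfl | rfl
    · exfalso; linarith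
    · refine ⟨rfl, by linarith, fun h => ?_, fun h => ?_⟩
      · rcases hd with h1 | h1
        · exact h1.1
        · exact absurd (by rw [← he, ← hx]; exact h1.2) h
      · rcases hd with h1 | h1
        · exact absurd (by rw [hx, he]; exact h) h1.2
        · exact h1.1
  rcases h with h | h | h | h | h | h | h
  · obtain ⟨h1, h2, -, h4⟩ := key h.1 (by norm_num) (e := 1) (by norm_num)
    exact Or.inl ⟨h1, h2, h.2, h4 rfl⟩
  · obtain ⟨h1, h2, h4, -⟩ := key h.1 (by norm_num) (e := 2) (by norm_num)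
    exact Or.inr (Or.inl ⟨h1, h2, h.2, h4 (by norm_num)⟩)
  · obtain ⟨h1, h2, -, h4⟩ := key h.1 (by norm_num) (e := 1) (by norm_num)
    exact Or.inr (Or.inr (Or.inl ⟨h1, h2, h.2, h4 rfl⟩))
  · obtain ⟨h1, h2, h4, -⟩ := key h.1 (by norm_num) (e := 2) (by norm_num)
    exact Or.inr (Or.inr (Or.inr (Or.inl ⟨h1, h2, h.2, h4 (by norm_num)⟩)))
  · obtain ⟨h1, h2, h4, -⟩ := key' h.1 (by norm_num) (e := 2) (by norm_num)
    exact Or.inr (Or.inr (Or.inr (Or.inr (Or.inl ⟨h1, h2, h.2, h4 (by norm_num)⟩))))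
  · obtain ⟨h1, h2, -, h4⟩ := key' h.1 (by norm_num) (e := 1) (by norm_num)
    exact Or.inr (Or.inr (Or.inr (Or.inr (Or.inr (Or.inl ⟨h1, h2, h.2, h4 rfl⟩)))))
  · obtain ⟨h1, h2, h4, -⟩ := key' h.1 (by norm_num) (e := 2) (by norm_num)
    exact Or.inr (Or.inr (Or.inr (Or.inr (Or.inr (Or.inr ⟨h1, h2, h.2, h4 (by norm_num)⟩)))))

end Cfsg.Agent.R2.Spec.X3
end

-- part: R2/Spec/X3/PairZ
section
/-!
# The finite check over the integers (helper16, S3435, box X3)
-/

set_option autoImplicit false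

namespace Cfsg.Agent.R2.Spec.X3

/-- the outcomes, `x = s y` -/
def OutS (s y : ℤ) (p : ℕ) (d : ℤ) (a T N : ℕ) : Prop :=
  ((a : ℤ) = 1 ∧ d * N = y ^ 2 - 1) ∨ ((a : ℤ) = d ∧ (N : ℤ) = y ^ 2 - 1) ∨ ((a : ℤ) = d ∧ (N : ℤ) = y ^ 2 + 1) ∨
    ((p : ℤ) = y ∧ (a : ℤ) = 1 ∧ d * N = y ^ 2 - s * y) ∨ ((p : ℤ) = y ∧ (a : ℤ) = d ∧ (N : ℤ) = y ^ 2 - s * y) ∨
    ((p : ℤ) = y ∧ d * N = a * (y ^ 2 + s * y)) ∨ (s * y, (T : ℤ), (N : ℤ)) ∈ excII

/-- the finite check over the integers -/
theorem finZ {s y d : ℤ} {p a T N Y D P ys ym : ℕ} {L : List (ℕ × ℕ)} (hok : okA P ys ym Y p D a L = true)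
    (hL : ∀ q ∈ L, (s * y, (q.1 : ℤ), (q.2 : ℤ)) ∈ excII)
    (hD0 : 0 < D) (hY1 : 1 ≤ Y) (hY : (Y : ℤ) = y) (hD : (D : ℤ) = d) (hys : (ys : ℤ) = y + s) (hym : (ym : ℤ) = y - s)
    (hP : (P : ℤ) = y ^ 2 + s * y + 1) (h2a : 2 * a ∣ D * ym) (hym0 : 0 < D * ym) (hym8 : D * ym < 80)
    (hb : ym * P ≤ 15626)
    (hdT : d * (T : ℤ) = a * (y ^ 2 + s * y + 1)) (hN : 0 < N) (hK : ((T : ℤ) - N) ^ 2 ≤ 5 * T)
    (hK' : ((a : ℤ) * (y ^ 2 + s * y + 1) - d * N) ^ 2 ≤ 5 * d * (a * (y ^ 2 + s * y + 1)))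
    (hfree : 2 * (N : ℤ) ∣ (y ^ 2 + 1) * (y + s) ∨ (N : ℤ) ∣ y ^ 2 - 1 ∨ 2 * (N : ℤ) ∣ p * (y ^ 2 - 1) ∨
      (N : ℤ) ∣ p * (y - s) ∨ 2 * (N : ℤ) ∣ d * (y - s)) : OutS s y p d a T N := by
  have hYY : ((Y * Y - 1 : ℕ) : ℤ) = y ^ 2 - 1 := by
    rw [Nat.cast_sub (Nat.mul_pos hY1 hY1), Nat.cast_mul, hY, Nat.cast_one]; ring
  have hYY' : ((Y * Y + 1 : ℕ) : ℤ) = y ^ 2 + 1 := by
    rw [Nat.cast_add, Nat.cast_mul, hY, Nat.cast_one]; ring
  have hf : 2 * N ∣ (Y * Y + 1) * ys ∨ N ∣ Y * Y - 1 ∨ 2 * N ∣ p * (Y * Y - 1) ∨ N ∣ p * ym ∨ 2 * N ∣ D * ym := by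
    rcases hfree with k | k | k | k | k
    · left
      rw [← hYY', ← hys] at k
      exact_mod_cast k
    · right; left
      rw [← hYY] at k
      exact_mod_cast k
    · right; right; left
      rw [← hYY] at k
      exact_mod_cast k
    · right; right; right; left
      rw [← hym] at k
      exact_mod_cast k
    · right; right; right; right
      rw [← hym, ← hD] at k
      exact_mod_cast k
  have h1 : D * T = a * P := by
    rw [← hP, ← hD] at hdT
    exact_mod_cast hdT
  have h2 : ((a * P : ℕ) - (D * N : ℕ) : ℤ) ^ 2 ≤ (5 * D * (a * P) : ℕ) := by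
    rw [← hP, ← hD] at hK'
    push_cast
    exact hK'
  rcases fin hok hD0 h2a hym0 hym8 hb h1 hN hK h2 hf with g | g | g | g | g | g | g
  · left
    refine ⟨by exact_mod_cast g.1, ?_⟩
    rw [← hYY, ← hD]
    exact_mod_cast g.2
  · right; left
    refine ⟨by rw [← hD]; exact_mod_cast g.1, ?_⟩
    rw [← hYY]
    exact_mod_cast g.2
  · right; right; left
    refine ⟨by rw [← hD]; exact_mod_cast g.1, ?_⟩
    rw [← hYY']
    exact_mod_cast g.2
  · right; right; right; left
    refine ⟨by rw [← hY]; exact_mod_cast g.1, by exact_mod_cast g.2.1, ?_⟩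
    have h3 : ((D * N : ℕ) : ℤ) = ((Y * ym : ℕ) : ℤ) := by rw [g.2.2]
    rw [Nat.cast_mul, Nat.cast_mul, hD, hY, hym] at h3
    rw [h3]; ring
  · right; right; right; right; left
    refine ⟨by rw [← hY]; exact_mod_cast g.1, by rw [← hD]; exact_mod_cast g.2.1, ?_⟩
    have h3 : ((N : ℕ) : ℤ) = ((Y * ym : ℕ) : ℤ) := by rw [g.2.2]
    rw [Nat.cast_mul, hY, hym] at h3
    rw [h3]; ring
  · right; right; right; right; right; left
    refine ⟨by rw [← hY]; exact_mod_cast g.1, ?_⟩
    have h3 : ((D * N : ℕ) : ℤ) = ((a * (Y * ys) : ℕ) : ℤ) := by rw [g.2]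
    rw [Nat.cast_mul, Nat.cast_mul, Nat.cast_mul, hD, hY, hys] at h3
    rw [h3]; ring
  · right; right; right; right; right; right
    exact hL _ g

theorem dv18 : ∀ a < 10, 2 * a ∣ 18 → a % 2 = 1 → a = 1 ∨ a = 3 ∨ a = 9 := by decide
theorem dv10 : ∀ a < 6, 2 * a ∣ 10 → a % 2 = 1 → a = 1 ∨ a = 5 := by decide
theorem dv54 : ∀ a < 28, 2 * a ∣ 54 → a % 2 = 1 → a = 1 ∨ a = 3 ∨ a = 9 ∨ a = 27 := by decide
theorem dv22 : ∀ a < 12, 2 * a ∣ 22 → a % 2 = 1 → a = 1 ∨ a = 11 := by decide
theorem dv14 : ∀ a < 8, 2 * a ∣ 14 → a % 2 = 1 → a = 1 ∨ a = 7 := by decide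
theorem dv26 : ∀ a < 14, 2 * a ∣ 26 → a % 2 = 1 → a = 1 ∨ a = 13 := by decide


/-- the small cases -/
theorem finAll {x s y d : ℤ} {p a T N : ℕ} (hs : s = 1 ∨ s = -1) (hy : 7 ≤ y) (hxy : x = s * y)
    (hd : (d = 1 ∧ x % 3 ≠ 1) ∨ (d = 3 ∧ x % 3 = 1))
    (hsm : (x = 7 ∧ p = 7) ∨ (x = 11 ∧ p = 11) ∨ (x = 19 ∧ p = 19) ∨ (x = 23 ∧ p = 23) ∨
      (x = -13 ∧ p = 13) ∨ (x = -17 ∧ p = 17) ∨ (x = -25 ∧ p = 5)) (hao : a % 2 = 1)
    (h2a : 2 * (a : ℤ) ∣ d * (y - s))
    (hdT : d * (T : ℤ) = a * (y ^ 2 + s * y + 1)) (hNn : 0 < N) (hK : ((T : ℤ) - N) ^ 2 ≤ 5 * T)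
    (hK' : ((a : ℤ) * (y ^ 2 + s * y + 1) - d * N) ^ 2 ≤ 5 * d * (a * (y ^ 2 + s * y + 1)))
    (hfree' : 2 * (N : ℤ) ∣ (y ^ 2 + 1) * (y + s) ∨ (N : ℤ) ∣ y ^ 2 - 1 ∨ 2 * (N : ℤ) ∣ p * (y ^ 2 - 1) ∨
      (N : ℤ) ∣ p * (y - s) ∨ 2 * (N : ℤ) ∣ d * (y - s)) : OutS s y p d a T N := by
  have hdvd : ∀ (n : ℕ), ((n : ℕ) : ℤ) = d * (y - s) → 2 * a ∣ n := fun n hn => by
    rw [← hn] at h2a
    exact_mod_cast h2a
  have hlt : ∀ (n : ℕ), 2 * a ∣ n → 0 < n → a < n / 2 + 1 := fun n hn h0 => by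
    have := Nat.le_of_dvd h0 hn
    clear * - this
    omega
  rcases tuple hs hy hxy hd hsm with ⟨e1, e2, e3, e4⟩ | ⟨e1, e2, e3, e4⟩ | ⟨e1, e2, e3, e4⟩ |
    ⟨e1, e2, e3, e4⟩ | ⟨e1, e2, e3, e4⟩ | ⟨e1, e2, e3, e4⟩ | ⟨e1, e2, e3, e4⟩
  · have hv := hdvd 18 (by rw [e1, e2, e4]; norm_num)
    have hok : okA 57 8 6 7 p 3 a [(19, 10), (19, 12), (19, 20), (19, 21), (19, 24), (19, 25), (19, 28), (171, 200)] = true := by
      rw [e3]; exact okX7 a (dv18 a (hlt 18 hv (by norm_num)) hv hao)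
    refine finZ hok ?_ (by norm_num) (by norm_num) (by rw [e2]; norm_num)
      (by rw [e4]; norm_num) (by rw [e1, e2]; norm_num) (by rw [e1, e2]; norm_num) (by rw [e1, e2]; norm_num)
      hv (by norm_num) (by norm_num) (by norm_num) hdT hNn hK hK' hfree'
    rw [e1, e2]
    decide
  · have hv := hdvd 10 (by rw [e1, e2, e4]; norm_num)
    have hok : okA 133 12 10 11 p 1 a [] = true := by
      rw [e3]; exact okX11 a (dv10 a (hlt 10 hv (by norm_num)) hv hao)
    refine finZ hok ?_ (by norm_num) (by norm_num) (by rw [e2]; norm_num)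
      (by rw [e4]; norm_num) (by rw [e1, e2]; norm_num) (by rw [e1, e2]; norm_num) (by rw [e1, e2]; norm_num)
      hv (by norm_num) (by norm_num) (by norm_num) hdT hNn hK hK' hfree'
    rw [e1, e2]
    decide
  · have hv := hdvd 54 (by rw [e1, e2, e4]; norm_num)
    have hok : okA 381 20 18 19 p 3 a [] = true := by
      rw [e3]; exact okX19 a (dv54 a (hlt 54 hv (by norm_num)) hv hao)
    refine finZ hok ?_ (by norm_num) (by norm_num) (by rw [e2]; norm_num)
      (by rw [e4]; norm_num) (by rw [e1, e2]; norm_num) (by rw [e1, e2]; norm_num) (by rw [e1, e2]; norm_num)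
      hv (by norm_num) (by norm_num) (by norm_num) hdT hNn hK hK' hfree'
    rw [e1, e2]
    decide
  · have hv := hdvd 22 (by rw [e1, e2, e4]; norm_num)
    have hok : okA 553 24 22 23 p 1 a [] = true := by
      rw [e3]; exact okX23 a (dv22 a (hlt 22 hv (by norm_num)) hv hao)
    refine finZ hok ?_ (by norm_num) (by norm_num) (by rw [e2]; norm_num)
      (by rw [e4]; norm_num) (by rw [e1, e2]; norm_num) (by rw [e1, e2]; norm_num) (by rw [e1, e2]; norm_num)
      hv (by norm_num) (by norm_num) (by norm_num) hdT hNn hK hK' hfree'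
    rw [e1, e2]
    decide
  · have hv := hdvd 14 (by rw [e1, e2, e4]; norm_num)
    have hok : okA 157 12 14 13 p 1 a [] = true := by
      rw [e3]; exact okX13 a (dv14 a (hlt 14 hv (by norm_num)) hv hao)
    refine finZ hok ?_ (by norm_num) (by norm_num) (by rw [e2]; norm_num)
      (by rw [e4]; norm_num) (by rw [e1, e2]; norm_num) (by rw [e1, e2]; norm_num) (by rw [e1, e2]; norm_num)
      hv (by norm_num) (by norm_num) (by norm_num) hdT hNn hK hK' hfree'
    rw [e1, e2]
    decide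
  · have hv := hdvd 54 (by rw [e1, e2, e4]; norm_num)
    have hok : okA 273 16 18 17 p 3 a [(91, 72), (91, 80)] = true := by
      rw [e3]; exact okX17 a (dv54 a (hlt 54 hv (by norm_num)) hv hao)
    refine finZ hok ?_ (by norm_num) (by norm_num) (by rw [e2]; norm_num)
      (by rw [e4]; norm_num) (by rw [e1, e2]; norm_num) (by rw [e1, e2]; norm_num) (by rw [e1, e2]; norm_num)
      hv (by norm_num) (by norm_num) (by norm_num) hdT hNn hK hK' hfree'
    rw [e1, e2]
    decide
  · have hv := hdvd 26 (by rw [e1, e2, e4]; norm_num)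
    have hok : okA 601 24 26 25 p 1 a [] = true := by
      rw [e3]; exact okX25 a (dv26 a (hlt 26 hv (by norm_num)) hv hao)
    refine finZ hok ?_ (by norm_num) (by norm_num) (by rw [e2]; norm_num)
      (by rw [e4]; norm_num) (by rw [e1, e2]; norm_num) (by rw [e1, e2]; norm_num) (by rw [e1, e2]; norm_num)
      hv (by norm_num) (by norm_num) (by norm_num) hdT hNn hK hK' hfree'
    rw [e1, e2]
    decide

end Cfsg.Agent.R2.Spec.X3
end
end

-- part: R2/Spec/SD/Chk
section
set_option linter.all false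

-- part: R2/Spec/SD/Tree
section
/-!
# Small ranks (helper10): the trees of the finite search
-/

set_option autoImplicit false
set_option maxRecDepth 100000

namespace Cfsg.Agent.R2.Spec.SD

/-- trees of products -/
inductive PT : Type
  | leaf (c q : Nat) : PT
  | node (n : Nat) (l r : PT) : PT

/-- the tree of the dimension five -/
def tree5 : PT :=
  .node
  51979489829976445934386368493148905920296338129065230787882321546392631688584399975294799246045837088604562555428255571159885936319830716328160476752032705470170055989934782142289825591744439890029290281935396123410464420458901802863571595368172285264271499675623668423166039440497056259090147317789390852822359978544420042956694993785151239714361437517836453092146761103028373358064552882785816337152929152996070432258717493728694137858253051521769379526996045535769525391017103021779314719674697735952174411010501148761874371918203394915223289265387333027388764250507028868808765864313192235368428282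207652308648336632314786536991006719252066366052797576210252365740454613793837716207253414979291663659503311869909214076014894261026678311931630306179173247096740756424098708380888136644095946409271874502622469305544208234700045416527991467491385974060654110192110580063713714202821623414010910702168953170980715893411403276511995524818355664216141500346551909725585464942030822784925063048843177045869835751080222016369980106094863913243766698835686097499029545244666429126132483140974588975842164704882275653278568598377687427904294812258089049371651842035907595068758198633937259839032267763286613231508288952997169120785305715153756640584750851746366828444668096147468104990415735098024936796483461197593233082400781290853876362466334743876893646871823916116086463616763520812698144296418861435524960763578862453238452288345717547575841270973093009428208142701229179524262913848777429110501840149170916943538941365776791548494419593614444524160834820561369428440720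6325452802078046081845274549244322687406968102184580244030798851566161247173224574533402454279090962384246688844031354744498553286018919745894745826388681360587510581287391346081076919594878976069553797848960188014753257261617452443189000231099589534469150727261306281477721532533697392493308612653101228477098392982317431352335567629930383425879534032627366501234030204864763284139205774581595418584596256902683087317587919637899013384160725416443386450979558953820183699105813611093169862694295322961840795223827460791816410587740915235159069175649081570542744769412053432197985938453710156548836889821710687225540199963516992886675823741652542641553822277265916659810426978428095295030170364170431315450106639637920226379557544098723221774457322000401874482783861333417474434461449906669447248630484530301069178786704668143069929342848866707512979535735654860960261075253233501698019694458846236187294844756676735135806472452110583132780762049149757785270367864719769238932578465204931241484800642988634219477339325140428034482613015279153791808838680649848569681997997269028603386344855101887838409023247865545180249192163739560993250665275993571352362440341003358862391030271275413872958326297613148396328374399025313111516735188690531587796952114077320732484654814966416837351323145931570114996928464635919185340888034467906122873973879453609233887907186423924663807765701372307133589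
  (.node
  33199467901394783602266616868101182243598757609236474159946475070774070989899470392768527112835158264808306634326068817944656229685873494058787116770218152570109648690241737730458001844615067512772954824211855579915378639482995845026842112037715305321621394842385300175676636874470177485134977845702605252232281680954697555232990784121879017014233988768327962402347544292053141183794324042454042808267287591768145116049886503085341898279530963464127079970899386053706625890599904683790207851383175919413742310541709801692894823672680895572554512159614133149616584130931773805928907254648663043912995613696063294225576415749326386577512535255760195328046250140680145908129604732456900488579590686550723116671741210152493899526388176357064848909230691398434223504233680087351094561027433356222326072371292446983007622304131851545801650682107492716806683375191759852534051035070689360687313489282897224817179693805521597708332659811207503278911560606252800496514787970823553538522667083894204621247725946173979077517760536801456546365154382802656031600747783623514557389288055148429745539517952412775733307084611694431007561267875976074528473284916662048249497616388840152726578931349782140330547697338024335105571436811055240864173287616466505730321265393133323915227287626527784639191086813530035352838779667098561952964643322519125265994804751216414714705872577833408523215272685470141694503925617672064888235233081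
  (.node
  240172642571497178563140289648892677731896776475374250918571176383161864945770684009177340599625392204646389439172997589320197039675520996660772520409152654694831687388612512979882122116423025428320246875467501432284575973052233699034587426449292949693862666558002738687868977294992340605675129338935741154017093270982067979417524248315173317797104980080497525525397710301614991172970107498298380241638540940916663607677917132596543502322225684372006595156502648513158332702692899354585707526708091144890724202810048258192712824362444733134428169880815567955342665215855678254055178266715413161487574512205453560774586512670114159349205287449735634412982421886043961843672427633141344991733375339921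
  (.node
  25783068934035332289069573050234479903076672913530863473085584879789332416183824572217882475941437254950325385385783655041384324420388718638712532484804066194194071255997191794384832315710495317174414493952378786006442890363346655253679541812672557787426840655633007532533357668530007703088041
  (.node
  17716723950711435183943023744336916471357728461271084854889021629853861503082661152567074065330083052160860047171138701
  (.node 1540458200294059076573548313348166321796876781 (.node 6292966838131501 (.node 94501 (.leaf 0 3) (.leaf 0 5))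
  (.node 66591537001 (.leaf 0 7) (.node 23774201 (.leaf 0 9) (.leaf 0 11)))) (.node 244790452566797538123394425281
  (.node 148931427376721 (.leaf 0 13) (.node 4813400581 (.leaf 0 15) (.leaf 0 17))) (.node 1643645380149361 (.leaf 0
  19) (.node 11948483801 (.leaf 0 21) (.leaf 0 23))))) (.node
  11500944295229483101043587896929847837309297546142557439895560539970732321 (.node
  59314973139785597725628828708228321 (.node 164500088795244521 (.leaf 0 25) (.node 404275459621 (.leaf 0 27) (.leaf 0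
  29))) (.node 360577149679327801 (.leaf 0 31) (.node 1889213352541 (.leaf 0 33) (.leaf 0 35)))) (.node
  193896139312507069177170310857206824001 (.node 2649322520393673421 (.leaf 0 37) (.node 1375399043201 (.leaf 0 39)
  (.leaf 0 41))) (.node 73187064926959238981 (.leaf 0 43) (.node 20909389182781 (.leaf 0 45) (.leaf 0 47)))))) (.node
  1455295516584485917642625545863926306570549890952207333626586106805318968793837786631611268859972160415517408889703326447948613329307123340834551957655825389867761338623091341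
  (.node 159764446792075995851704655934237915154290568231652671710398696209303384871740650221 (.node
  80623943484068540354509953721516116947681 (.node 65316970774181897221 (.leaf 0 49) (.node 11099077244321 (.leaf 0
  51) (.leaf 0 53))) (.node 1234349090725699913261 (.leaf 0 55) (.node 132439738530781 (.leaf 0 57) (.leaf 0 59))))
  (.node 1981600500893953224517968835226578077011341 (.node 817007015964637031101 (.leaf 0 61) (.node 290200306098181
  (.leaf 0 63) (.leaf 0 65))) (.node 2425438781029664916241 (.leaf 0 67) (.node 118566019427801 (.leaf 0 69) (.leaf 0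
  71))))) (.node 9109007328010012109256272714503051391884961323345817517324295459871971672207066391205042721 (.node
  543224064114060752361706652740266537767588321 (.node 32884893100374143047241 (.leaf 0 73) (.node 1142127610239781
  (.leaf 0 75) (.leaf 0 77))) (.node 16518954842151525809881 (.leaf 0 79) (.node 418737361630841 (.leaf 0 81) (.leaf 0
  83)))) (.node 16768416441318391068266602738501569887848206401 (.node 194258716597564156828001 (.leaf 0 85) (.node
  3677605775313541 (.leaf 0 87) (.leaf 0 89))) (.node 86320020717817576178401 (.leaf 0 91) (.node 6224680833231421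
  (.leaf 0 93) (.leaf 0 95))))))) (.node
  9315130141643209465898217297915663454536203777949440068036062411707089193531271456876384878390379380101869945905143326633571628902788226268014974639520415424850999929719419843932560295935075874786449502578058619461882062491664163161356517867241977175108587670160514583191393798423308295914325857671716977072418720543137182975240837333532216619044010983076062886071813791911037109743584782340448901323424681
  (.node
  8205894527995555264456379372274174981197129125681397104839783031195758801129630715436775856646993811336004954056120922681574545999109765969616189963310835960139904580445546866200092433293967523981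
  (.node 1630534280022446054589245324995817460554604176663738463506649653211368871997520842581028434625441 (.node
  336733505031217250572682632912957917614669332961 (.node 182462743256823360671461 (.leaf 0 97) (.node
  2039796122020001 (.leaf 0 99) (.leaf 0 101))) (.node 1845491846832817987271501 (.leaf 0 103) (.node
  16237762282991581 (.leaf 0 105) (.leaf 0 107)))) (.node 4842209805856074754884683407489533578276809439681 (.node
  718017672007886146589341 (.leaf 0 109) (.node 5039951986639361 (.leaf 0 111) (.leaf 0 113))) (.node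
  6743858813829991214618741 (.leaf 0 115) (.node 38222942677347901 (.leaf 0 117) (.leaf 0 119))))) (.node
  5032641526483326874933798813036696693559870729238620111441951929640063261565958825981885495478424941 (.node
  10663492569552393523386254733599543441161996980781 (.node 2455102946672825673551701 (.leaf 0 121) (.node
  56792907959092261 (.leaf 0 123) (.leaf 0 125))) (.node 4343399360912193261193081 (.leaf 0 127) (.node
  16564628621639801 (.leaf 0 129) (.leaf 0 131)))) (.node 471950582199784381916444666682616899312374458423361 (.node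
  37437965963816404915821761 (.leaf 0 133) (.node 118748455996098181 (.leaf 0 135) (.leaf 0 137))) (.node
  12606202555339734822345601 (.leaf 0 139) (.node 33526588667793881 (.leaf 0 141) (.leaf 0 143)))))) (.node
  1135175465619664252725635704820397066554255340327563412767484457002525754865576889752034174976208939835649587257337821717368158211413566465419067086262518654028053445941102355288635376404131845890954005092994701
  (.node 76766282977167277773389939971614390288711888278458170800448786916994620569691882621943844935385904087201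
  (.node 3483018433332890008413450576957568541530541495776481 (.node 103843893638814521807755481 (.leaf 0 145) (.node
  233293932921613861 (.leaf 0 147) (.leaf 0 149))) (.node 33540907522664536549341001 (.leaf 0 151) (.node
  320443403737460701 (.leaf 0 153) (.leaf 0 155)))) (.node 22040159834500172104213891825828912134468698310493121
  (.node 53179174499597823393983101 (.leaf 0 157) (.node 86969691152435201 (.leaf 0 159) (.leaf 0 161))) (.node
  414450958328938607048048021 (.leaf 0 163) (.node 583512468800459581 (.leaf 0 165) (.leaf 0 167))))) (.node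
  14787422571408092856939557098849972417447257568857031792231597572432164169019790078679815890953311254907501 (.node
  122244055123757990176366751410193804797717638944090081 (.node 127170956068440912046596661 (.leaf 0 169) (.node
  154975731513546401 (.leaf 0 171) (.leaf 0 173))) (.node 961257655859476589116548221 (.leaf 0 175) (.node
  1019057797890531421 (.leaf 0 177) (.leaf 0 179)))) (.node 120966394287538441202984207105512695535861788145271821
  (.node 286665378236651518668744301 (.leaf 0 181) (.node 1328081966631556741 (.leaf 0 183) (.leaf 0 185))) (.node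
  421977690614863089168191521 (.leaf 0 187) (.node 343237241133482201 (.leaf 0 189) (.leaf 0 191)))))))) (.node
  138231680119485750695693222016355567547353453734311140399481623745938394566520106686587203887144476251697161792555204237849982001365283212272182902607425994366455023290703203834165642019755114284743670994833101802790994051820703725338870382567065323583215655634388832443152983224230858230935225473923124439465611131411304763033711765198044110368740296902485629802767413233970636027704361806095399951604294669279744837388538241417629171822479707118266611914990501910172414947307919477104309618908200223816271643825683679930332648430022069537998825988679609143619679892505091968990412855615256618763339963683394300752586505452750500626863833718480539780072084848045014385988129192942219932306106241170455574526768689961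
  (.node
  988139851152157061630443978959052876311966369844293059864379021683722174772306959328859238471627068482750941666737275762972691096370326362272707277194642366637582764685935041136897283069928396242944821895847986203587263058270778284210019973812660273222527985189520309841075760950556381100407673692021164729536087050926188687243818123551089547983754243285981008461
  (.node
  57395820510791143657621560397793808384598353802059174818075923838376502431008469679465859594483633942282134340350545865699779484939006383233273281324964489347016487113360303205724336606655230325223801488144906401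
  (.node 14002896399965467646042216934074214781322650419701621393712459636057477981801071762039080303079376721 (.node
  1586763425547346983339688129490258006597220281 (.node 2027013509761008221 (.leaf 0 193) (.leaf 0 195)) (.node
  782808510109255158238702861 (.leaf 0 197) (.node 517107073936080001 (.leaf 0 199) (.leaf 0 201)))) (.node
  8824816714649967961514426504000633721133169412337969241 (.node 5587949400612919146373245701 (.leaf 0 203) (.node
  3274339028917515581 (.leaf 0 205) (.leaf 0 207))) (.node 1579258522577532677005545541 (.leaf 0 209) (.node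
  823730475191417761 (.leaf 0 211) (.leaf 0 213))))) (.node
  4098853470838553566424846575287045332017936046952325568889053926635326286276590111091100712180310229345437952081
  (.node 33868200426523307809920535774492939131072056605403965241 (.node 11050642389634338881693314541 (.leaf 0 215)
  (.node 5147649858748635101 (.leaf 0 217) (.leaf 0 219))) (.node 3064817341143186911714792701 (.leaf 0 221) (.node
  6394931738012461061 (.leaf 0 223) (.leaf 0 225)))) (.node 121023656976725750688215265638970301398655021902132769241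
  (.node 4213329951328066781388822481 (.leaf 0 227) (.node 1579809146159011801 (.leaf 0 229) (.leaf 0 231))) (.node
  28723992275653220730565165961 (.leaf 0 233) (.node 9704053473804838181 (.leaf 0 235) (.leaf 0 237)))))) (.node
  17216233557744404264865574640061853592431237142028578649554260274258615922229296651449281123398156534262393138780213654819986455503310793358201226518061
  (.node 376868016225905589205506249761624340130844854933873662815512787077313027179326655323921687361 (.node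
  405571870605083655826736759462598879853075740285032033081 (.node 7771995071397074211493627801 (.leaf 0 239) (.node
  2372028860756252281 (.leaf 0 241) (.leaf 0 243))) (.node 52183752933360916342498821281 (.leaf 0 245) (.node
  14424298919872573061 (.leaf 0 247) (.leaf 0 249)))) (.node 929226219914231208810768778317303881 (.node
  13916430179857164856727172001 (.leaf 0 251) (.node 17461005560719421501 (.leaf 0 253) (.leaf 0 255))) (.node
  66771881 (.leaf 1 3) (.node 1094621 (.leaf 1 5) (.leaf 1 7))))) (.node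
  45682394940685271417332031361650399959364678069277514398701 (.node 38967463910867567194459021 (.node 420363180721
  (.leaf 1 9) (.node 355938341 (.leaf 1 11) (.leaf 1 13))) (.node 92699517222301 (.leaf 1 15) (.node 1953172441 (.leaf
  1 17) (.leaf 1 19)))) (.node 1172321479405925335735809340058081 (.node 18699441901676621 (.leaf 1 21) (.node
  100729051781 (.leaf 1 23) (.leaf 1 25))) (.node 62692859261260261 (.leaf 1 27) (.node 122336839801 (.leaf 1 29)
  (.leaf 1 31))))))) (.node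
  139890805899903309051796513402166108526022276691039864761513357365707805998721891122320896386250896398900470786718046190580580201867535644852316944863759993450393310184507333229834473744997408985042073994091382270978938318778752047124213554867625018374253402351920364796332355836309412385993642946633871541985382192840026736352170414358368377594903591501
  (.node
  6073760793244990996232898830976886400843906790864844324154075209851273091112784574966511561853741407943227864121064711882722905617065714542774861411946383687897741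
  (.node 127425965731747816714445829782849409370229298105232390062548180570838033146401 (.node
  12741078699298485012930588723767033921 (.node 3064457147491019621 (.leaf 1 33) (.node 2662335353381 (.leaf 1 35)
  (.leaf 1 37))) (.node 4157695176037968301 (.leaf 1 39) (.node 9216363627581 (.leaf 1 41) (.leaf 1 43)))) (.node
  10001191322895117374638405326218930022881 (.node 21656745191678679001 (.leaf 1 45) (.node 5398690705921 (.leaf 1 47)
  (.leaf 1 49))) (.node 461804912713196823881 (.leaf 1 51) (.node 69600283810781 (.leaf 1 53) (.leaf 1 55))))) (.node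
  47665016767706793845398782344135081020844773733477210098213771914006103777855044975341 (.node
  1822859930722937166457141421668677866906561 (.node 336777117677314141201 (.leaf 1 57) (.node 32463570967201 (.leaf 1
  59) (.leaf 1 61))) (.node 5412659694028042333361 (.leaf 1 63) (.node 349050246599741 (.leaf 1 65) (.leaf 1 67))))
  (.node 26148480179057469148268704136484965364199981 (.node 3137034089411003414281 (.leaf 1 69) (.node
  702007623628421 (.leaf 1 71) (.leaf 1 73))) (.node 8335414736907433469701 (.leaf 1 75) (.node 266952805025401 (.leaf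
  1 77) (.leaf 1 79)))))) (.node
  23031991324960412966310736023470073095494724469210732775552537444108277182185897414742312606661539234825840698652720168428708984639473336067079384309670383143947427918077050472871354643527361
  (.node 560041962656439652610408045423187595683753351916042948752917170858355685085916841278884350241 (.node
  4904433388581256689994194143976701163202415681 (.node 102877072060143271427141 (.leaf 1 81) (.node 2419398200844581
  (.leaf 1 83) (.leaf 1 85))) (.node 47672754388986316436941 (.leaf 1 87) (.node 841698695050201 (.leaf 1 89) (.leaf 1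
  91)))) (.node 114190961174099525254087397939222306576536257761 (.node 522716583272374715523101 (.leaf 1 93) (.node
  7062840344733701 (.leaf 1 95) (.leaf 1 97))) (.node 218456740857975482688661 (.leaf 1 99) (.node 11485753234640861
  (.leaf 1 101) (.leaf 1 103))))) (.node
  41125474269308450361309930240195721191454086754740487765100292329702545665705469439190134223100321 (.node
  1844255185679118697122774426917790905993258852801 (.node 437426976985714035116401 (.leaf 1 105) (.node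
  3632996113022881 (.leaf 1 107) (.leaf 1 109))) (.node 4216144139960874850776401 (.leaf 1 111) (.node
  28023254996773181 (.leaf 1 113) (.leaf 1 115)))) (.node 22299232009026248161260588739788050265715235991521 (.node
  1571078476725704837349481 (.leaf 1 117) (.node 8455719689884801 (.leaf 1 119) (.leaf 1 121))) (.node
  14193582522688635360838841 (.leaf 1 123) (.node 62515564209095261 (.leaf 1 125) (.leaf 1 127))))))))) (.node
  15656723771706194055052007241505668810178147456117009493010857633800385267977562812039968023868776388588977339391977258620481396364886136039724605225664577820271397184708484956020714616898576096263317573079748749860798308616180010967421891668237167968130584736852978706529565244508224719815103047929983540838044262255716342290591451094180692717609804911966804651779345077253238191343968250627400831025849714762638822016249709895295299144177745614477925516582832214466507814070642166597453151210437999920804923185447504690441156464643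624639813001818376551161461777050871151915816765520145919548138700187638831787055490033720876743345720914521451425876940186909215746788787403946241508926557697673188736530584686972030795008848708546937367248439145555676841065828125998183832164659696614620746357916190320868973416008219079281256300334240836313856050080563002419539534847637728687273631640951958702613790271458485910874823183167019268654780352362790993628101198724940100167316668129887991165649333115727035178154853027367368899490353740720271249916286623331048597325063280096803242329637145926567213374550988614018701425681693491775671345638687702536896986782972488589243124151270479082206985916453091800073122705124131972844686724212700400007526404688580771606348410222946976806096806784946035665798132723904607159211306503818421582231632891556298766507557385678520453177912279753818943613692370850787808351083447925202510736227315530382641728609860349451940717198229438580104767450854149980542598798090050311337664494661418977724447468748563371069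
  (.node
  107929296594581731206850516522017810785339849568270299184842015880631376087640652058120593361696410630775024934939742801988954464954817543130540807174641132628160155582613254631128760517054814093248007564141482942739506001517759424619609619859499720918686823283029401338225581446999509998558297148184961244631775110607241325389175606121174397713266508156069405640662923802829290128647586510557810015076836951295812887750974724869518415474015771651892397629386227975410214817393701484127521621283245593785581500442971700713201574430222042307701368173058110885208280375709362903811487798568021374355120022478226756274306209868441694075371411976978844787708755492990801138900920590174623507099862330062840593472765712510196445884348534366835389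
  (.node
  379465507136382960875353113181275519765273279322035483879551508315022800156816669424493463579256372901351584767217686483663347776017891449692139137229324380507201882202177582000290226053116682910714621489323025501755710674134123917075952059377961057330177588026436904260746288165537525011120988982662879259882217483570581294679412751654140995683588618986703438197639494437232380780753424794229646411058511948138261
  (.node
  56143230721986009311453851930672817665595205759792805941269123979726850448969602690840860126789599508831850158271092509413223074942651985334232894658755727163183228790569262681801983831970415373641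
  (.node 138550436949321004802200054742009546081402910899798431885206451594941802899951876414612160121 (.node
  575207886553267426214098007470062093453221 (.node 16062670180291801 (.leaf 1 129) (.leaf 1 131)) (.node
  35810228318017917851605421 (.leaf 1 133) (.node 115306471774248581 (.leaf 1 135) (.leaf 1 137)))) (.node
  240870196998751458106779295903413455924178172248901 (.node 12080944116837170215200901 (.leaf 1 139) (.node
  162976472701964381 (.leaf 1 141) (.leaf 1 143))) (.node 19938027580398413893848001 (.leaf 1 145) (.node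
  45414552277967521 (.leaf 1 147) (.leaf 1 149))))) (.node
  405218720042882916916139035379920478970031465623394512682013147901875409900329120863421601987101977719121 (.node
  8257767473407387703159618027287684644880540381697081 (.node 161254363101293077096958081 (.leaf 1 151) (.node
  312226906220158781 (.leaf 1 153) (.leaf 1 155))) (.node 51209575447085498265219001 (.leaf 1 157) (.node
  84822291374131201 (.leaf 1 159) (.leaf 1 161)))) (.node 49071219472795138793789513809951742352259678020154841 (.node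
  399649138408255164798189161 (.leaf 1 163) (.node 569619314799486941 (.leaf 1 165) (.leaf 1 167))) (.node
  122785750691816134757264881 (.leaf 1 169) (.node 757065355115037221 (.leaf 1 171) (.leaf 1 173)))))) (.node
  6758882633873474337699400872991131208857271345356560066280399001369681100625493388590967083149487557165330658468168327625194276136500594699518488940965785455597125981208816019681165980814806891676743691052978139219821
  (.node 313559748939265865182716835271428008135657220642931589200464600195223168525868472397217449773810458640739281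
  (.node 257781270838884706655412208471413739904157130551018041 (.node 185843146805925476350628701 (.leaf 1 175)
  (.node 199282413814167001 (.leaf 1 177) (.leaf 1 179))) (.node 1387090539895364785466931341 (.leaf 1 181) (.node
  1299521064148008581 (.leaf 1 183) (.leaf 1 185)))) (.node 1216379095032249801798292757102804347100056263641175641
  (.node 408790887793330538941240741 (.leaf 1 187) (.node 336086465281966201 (.leaf 1 189) (.leaf 1 191))) (.node
  2975553348555082785249748901 (.leaf 1 193) (.node 2155673217535012901 (.leaf 1 195) (.leaf 1 197))))) (.node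
  21555326079759741158161307226708424576390436663163493232686181094764518215140668669876948538574947516677125341
  (.node 1044664725858070586515777459499824343199871980034026661 (.node 856533437802092023214737261 (.leaf 1 199)
  (.node 2744599246658521661 (.leaf 1 201) (.leaf 1 203))) (.node 1219642666302360514505285401 (.leaf 1 205) (.node
  693953744974164481 (.leaf 1 207) (.leaf 1 209)))) (.node 20633726348953294549032372400735455832694261188662417881
  (.node 8596055440726294706090350601 (.leaf 1 211) (.node 4357353477948553181 (.leaf 1 213) (.leaf 1 215))) (.node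
  2400371483319553537924499281 (.leaf 1 217) (.node 1087517572122352801 (.leaf 1 219) (.leaf 1 221))))))) (.node
  284424524929985460711013750376837194953391523247553576561077224292841674196020579618576354399211393694387062347730022490121919943322603212729812056923644680392932603771694163877961776220058281580840059107003429112547390595558011335741611916110131666053519736627931335408161450080227731299976511134626374535940484363516352464649
  (.node
  506949783763387096595634785092361458047065822347940214669495444292415298279294238735258165477234967768856126221008593607350842253545881352171087339165446820144967382761961273279738409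
  (.node
  19637995865900806143148919299808993849768701330636824514772411325318693331118398250961746717106156385305498425041
  (.node 75664143603226780558265876759889974623690682447364756281 (.node 16606376777377828701041334641 (.leaf 1 223)
  (.node 6745258383324966461 (.leaf 1 225) (.leaf 1 227))) (.node 4556330656444027764264596041 (.leaf 1 229) (.node
  8320236330381357701 (.leaf 1 231) (.leaf 1 233)))) (.node 259541639285312973891144606711734133232307976776394319961
  (.node 6200123497136239353179708101 (.leaf 1 235) (.node 2041611163146339961 (.leaf 1 237) (.leaf 1 239))) (.node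
  41860720904219417413891145861 (.leaf 1 241) (.node 12460539790741452581 (.leaf 1 243) (.leaf 1 245))))) (.node
  25814741342503741229426470030827444542201614212845036812807630588095449 (.node
  7908635455219270681036136637498914841437034315041 (.node 11222455049932301000190964621 (.leaf 1 247) (.node
  3027295317156375001 (.leaf 1 249) (.leaf 1 251))) (.node 704715271304827298021 (.leaf 1 253) (.node 172681094861
  (.leaf 1 255) (.leaf 2 3)))) (.node 3264120781476583464889 (.node 1233370553 (.leaf 2 5) (.node 3940481 (.leaf 2 7)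
  (.leaf 2 9))) (.node 2646504550913 (.leaf 2 11) (.node 361494953 (.leaf 2 13) (.leaf 2 15)))))) (.node
  561050687937046823834557275623582807300715794093219901530193732344798351025163264891352867475221753895329378629176734060329993102458233311611361
  (.node 151322040730850438400106483452082862532757967188836419613185329009 (.node 1921533569058202906226075568313
  (.node 264611092970561 (.leaf 2 17) (.node 6336320801 (.leaf 2 19) (.leaf 2 21))) (.node 7261727191731833 (.leaf 2
  23) (.node 51898765673 (.leaf 2 25) (.leaf 2 27)))) (.node 78750662058439906964267944236214393 (.node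
  96829121120742761 (.leaf 2 29) (.node 273806264321 (.leaf 2 31) (.leaf 2 33))) (.node 813295227168698513 (.leaf 2
  35) (.node 1083941271401 (.leaf 2 37) (.leaf 2 39))))) (.node
  3707660068733555516183031165765460555492565546884803038950537554300511713218929 (.node
  117797589006828998930133398356014452473 (.node 4951875349676859953 (.leaf 2 41) (.node 3504807092513 (.leaf 2 43)
  (.leaf 2 45))) (.node 23788480260214144841 (.leaf 2 47) (.node 9750012505001 (.leaf 2 49) (.leaf 2 51)))) (.node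
  31474838322188528654475975876193604770873 (.node 95271678284927809433 (.leaf 2 53) (.node 24148506589313 (.leaf 2
  55) (.leaf 2 57))) (.node 330369306899970059681 (.leaf 2 59) (.node 54528255721001 (.leaf 2 61) (.leaf 2 63))))))))
  (.node
  145064632733761309694137645192116213251870548164851666876280041347868940831751435958520926751813768222244083126552979713435799588387026827912045019240958961434109798436950305527069818157009860511122223192293577001933272457998114163316172963604448410373984803268844502526224042437946872272068325369268899301016066224354611708160104296905685229711664005025506494812686712960361433801963052273050241340254071491027314778731670136475223914774430544674067139048645008688490457435895741018300534567646424303729814222259753739297985691207082596773346447171950048470687591215560932627946256817822678807316219512664505075673890200889362914639450065185315617744011332105869229272446238851081956150966945140532315314407230124523878635767708270455709208697186330956000240569170473775493160792347369510749931825218101121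
  (.node
  19712185194271307254984017456336998629218776027372736791733509592578896877564990248041298246183778090753593426929098457977727557954461594008718370881730260070305640128305042475954194156758778208010229425279460723419843566901494761034149717196571118195162104607821263514913257255593589965872481520493625063139793997618993205075387414707137768511200825242196327090196957106931649
  (.node
  82752243456388819902873519948256180226154394335580673425356936231919502874993131372653391887800703205952269568171538611929163336643228644695476608340899715624033976608716983273953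
  (.node 380220505830817321344401825721131496944396689783998518790734028827817576345009114308977 (.node
  2908968553151173162889557870077888573816889 (.node 1019199210025653376673 (.leaf 2 65) (.node 114191985202721 (.leaf
  2 67) (.leaf 2 69))) (.node 2854170729859527703193 (.leaf 2 71) (.node 224634538544873 (.leaf 2 73) (.leaf 2 75))))
  (.node 130706296367122686153356970239921320009644793 (.node 7367521094210973365321 (.leaf 2 77) (.node
  419168337932801 (.leaf 2 79) (.leaf 2 81))) (.node 17740878471298182525233 (.leaf 2 83) (.node 747640359947753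
  (.leaf 2 85) (.leaf 2 87))))) (.node
  217642768307741420014829350275605249558864810311454689524608648869297141287916900745124575089 (.node
  3483369833983812986845133185448255139438861433 (.node 40231610880930246758801 (.leaf 2 89) (.node 1282440971138081
  (.leaf 2 91) (.leaf 2 93))) (.node 86582907263972561021033 (.leaf 2 95) (.node 2126021898566441 (.leaf 2 97) (.leaf
  2 99)))) (.node 62480522792732203771848551381816019132328936633 (.node 177951484309273095584633 (.leaf 2 101) (.node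
  3420157540988033 (.leaf 2 103) (.leaf 2 105))) (.node 351109871520618321544001 (.leaf 2 107) (.node 5357200756844201
  (.leaf 2 109) (.leaf 2 111)))))) (.node
  238207260261890144195406477252497052578983813916232155833945531920296520384345434577682659103581617201191219005327250073551840615428601594761850066759048033853274266707316061651125751772832694270433
  (.node 6910015590260665462666651120663245616496329726248122037198922619342721111698392714143000951198577 (.node
  821520479802593461807968092239554796818983691193 (.node 667972530126394313919233 (.leaf 2 113) (.node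
  8193601195784993 (.leaf 2 115) (.leaf 2 117))) (.node 1229871653026127703208121 (.leaf 2 119) (.node
  12265971170963561 (.leaf 2 121) (.leaf 2 123)))) (.node 8411251770523239489473522316780345181828226496889 (.node
  2198486459185000622007593 (.leaf 2 125) (.node 18010000999874561 (.leaf 2 127) (.leaf 2 129))) (.node
  3825928395138430259768273 (.leaf 2 131) (.node 25982542672037993 (.leaf 2 133) (.leaf 2 135))))) (.node
  34472752941054404784726885497757624193652925363279412483934654936202138064658130879278044619952502129 (.node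
  70100876880291179955990569367611257145430464468473 (.node 6497225449552440223152881 (.leaf 2 137) (.node
  36887197632359201 (.leaf 2 139) (.leaf 2 141))) (.node 10789355768025574919191433 (.leaf 2 143) (.node
  51603761399525033 (.leaf 2 145) (.leaf 2 147)))) (.node 491759225778620736063561638097615187399177141033273 (.node
  17552080481698728865335641 (.leaf 2 149) (.node 71221894669325441 (.leaf 2 151) (.leaf 2 153))) (.node
  28017147385540429055472353 (.leaf 2 155) (.node 97079407483319081 (.leaf 2 157) (.leaf 2 159))))))) (.node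
  7359135037749114349558967992735418070373886850731245757720812690509384876641366421111776037583758185371802984993761537107394005643237140769505412517704516879540130875719198815562742245126995176629935862408466298126347210739119313505916621922352614935678551204873900297870068217629481763612418910228714901608379284330812157925595652795177366225494201726578248206238168695831278009819766818250258769829502978381560763057687554721729
  (.node
  1199973171892951806953824702625056570806317375395475353982592442189333660348052965711455326964883039677900013913396683016599623890455992279245602019061945942421783812875498904060432628598140445067470923511273953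
  (.node 47444661922655034272869541122468859142110934781397519708190782243626677406028454471614073181200964541809
  (.node 2979935559683984653788134101837256235814844882465593 (.node 43944012895107786508278113 (.leaf 2 161) (.node
  130805559973790753 (.leaf 2 163) (.leaf 2 165))) (.node 67812094603124784216223961 (.leaf 2 167) (.node
  174369800126477801 (.leaf 2 169) (.leaf 2 171)))) (.node 15921371778820086998029313801270210402708842556318713
  (.node 103071758862948627034701833 (.leaf 2 173) (.node 230136375933071873 (.leaf 2 175) (.leaf 2 177))) (.node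
  154468808473427229272629361 (.leaf 2 179) (.node 300925276236031721 (.leaf 2 181) (.leaf 2 183))))) (.node
  25292058648224013404696286853331962758694467851579062805558592274530143719828068226038718576153749670824817 (.node
  76246819915699459037638736439827238929233363624704889 (.node 228460209402574370801311313 (.leaf 2 185) (.node
  390079971498772001 (.leaf 2 187) (.leaf 2 189))) (.node 333742230715298831305898153 (.leaf 2 191) (.node
  501542442664822313 (.leaf 2 193) (.leaf 2 195)))) (.node 331712964241493556511374395423907299319203688445991353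
  (.node 481916120218457817492349241 (.leaf 2 197) (.node 639936003200080001 (.leaf 2 199) (.leaf 2 201))) (.node
  688320955296379093695970433 (.leaf 2 203) (.node 810656436342809513 (.leaf 2 205) (.leaf 2 207)))))) (.node
  6132749639844126545946532277546789673240785845813163170720639173587380072509808890098953200748585635015533130397213366557703270001389480184982727639543426800104808436290306566693048434423634702901573242304935329671309793
  (.node 6511102994032671896358010329802201563796637625709764273701353207607278875905669975642601326458807092910866289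
  (.node 1325630968020811642641440255228137199116945998261513913 (.node 973068453339939515638137281 (.leaf 2 209)
  (.node 1019971986516570401 (.leaf 2 211) (.leaf 2 213))) (.node 1362320362427477770152180473 (.leaf 2 215) (.node
  1275132760791785321 (.leaf 2 217) (.leaf 2 219)))) (.node 4911701032266810569646318232362974192297863096981535353
  (.node 1889855647978717455262172393 (.leaf 2 221) (.node 1584490113212188673 (.leaf 2 223) (.leaf 2 225))) (.node
  2598982116713563682096680721 (.leaf 2 227) (.node 1957626601732925801 (.leaf 2 229) (.leaf 2 231))))) (.node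
  941891050635307026009491820793834897878070337463045823189881802807442825685920665380424009659076514815854573937
  (.node 17005656895557062212554759722214376342507732756620381433 (.node 3544855451534146979857677233 (.leaf 2 233)
  (.node 2405497124447601953 (.leaf 2 235) (.leaf 2 237))) (.node 4797277950557146902328467401 (.leaf 2 239) (.node
  2940581858712109481 (.leaf 2 241) (.leaf 2 243)))) (.node 55386925446048937398246283839996280077369113474101560889
  (.node 6444059655749183739585495833 (.leaf 2 245) (.node 3577051643703591041 (.leaf 2 247) (.leaf 2 249))) (.node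
  8595036111534829685299404833 (.leaf 2 251) (.node 4330946463883425833 (.leaf 2 253) (.leaf 2 255)))))))))

/-- the tree of the dimension six -/
def tree6 : PT :=
  .node
  89593302016229207731980788690050724342955741506978570640538952107841958684726538613640154067766393994891611947457845807489513165657655597478900287160145037639892504699201991855246625329704131928027709554664098341771714169640453433780175114767793212178125456635910206434496927661102766629018258088885971697869282560406149970213020952600253553054460913687137645014448227542696422142349785088250934278314173909904124835445014759812890976404416646277292797314946061487904016703306701439352892540436484777026741054190686735510351552270914358340274881378524432365505884478809734086392714498935779799451443966880976085543757648288420172864020255288706448721502231944053885415821116709831478804369637841505501984864965950767601856596305753731765260720631907132648231621853215914523510892669019630328915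5855037196104554938973291701494275243749104999272472246489547087075058120634077920309466134161270916293745876768162881909756963053648349334587699453231012955660718678361020263173552137494648432045276646890024549280975748385505597550720863188853871694305717363549580336874898698224858019026046384442184712443173496748719262233420569210050730924548920872830129662620948435766837989524058326441215299303025570723247079551699326653826975168424706022495018337874491974919017025423739018857044580740464305520504029625111596982691341900845774954435423765033986053365381186376394389348048326235428229959520743158556382719615772819004530679545110576520930058259806722677928157583505159664808259909497658358308983898046410544024439931337123730656901748719039614650981639228809802039846140253469267798195678227129202323244207778462852692590300242587040381985105020555403300047307721073476815102171237495826780305506069065697004055201313166374962108382718868272669763603471588741539702227371107278769677150464429532414827184160858395391205539432064930598299628873936181186132042574458219959084360764088343612068195441452887827530519086765387463358287172778681490034365460619123580905779004025833772901325353993407963211437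
  (.node
  1460685526154241296993554815696893207645825296621076034032372066048562733515104967991571295630837773237619703894065851088977297851521379923855691173125456764991260262876557405309787021886272238665969307551980966909934605411268728666586359227917003952006881895240659158501620886533611125571402545083802542756391585321315056558748566769971481942406419550337804208127729738169066773100495127492377873751800852827339448233040855332719582955149278951126418724031085698427984255043578431945442187708381545178708342724583168960776366148739252702946664421211394163709192477511027142174890967926930886241521787047511010338321360367437492596677072708474027312749634075263537821181090500808221328436892168698143720059450433363902016269224289197462296990956801477562045772823150172358606449254913062975142221190937735573629728382663900242131760660649875785791596597974870135141335753785501726348381899546864074822113754628561067291454404377578382040787107942356789858437086005866625733696617359290317876798326393702201893377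
  (.node
  590359825778354549668584552427804468464047788642622093074913220679461498611567798334050202251481975722967776760932218419062778415664562977058320218527208418179607724906094524152587818757082566706537867134450170064118716778951841405284251244386779596469486462608041947207176362806417891159327567205924517997454565212192383394132499792126460224085156282117889100989116948311692665426531161501313403778872248181219540475037871051009
  (.node
  127838055950836103160045991351700871492683694565156324129535709146603522608457340819202462906513190354606847917485833146946421963356667852489589284350147419078267836547113314433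
  (.node 1099506808252205851902403013272109936619287040012829809009354272697409 (.node 13902991009663076189584417
  (.node 103233169 (.leaf 3 3) (.node 1414153 (.leaf 3 5) (.leaf 3 7))) (.node 134675619709621393 (.node 94110601
  (.leaf 3 9) (.leaf 3 11)) (.node 1431035593 (.leaf 3 13) (.leaf 3 15)))) (.node
  79084191846776659834944105845540085731666977 (.node 586264026355968528529 (.node 10817043913 (.leaf 3 17) (.leaf 3
  19)) (.node 54198173833 (.leaf 3 21) (.leaf 3 23))) (.node 134895180825504413280913 (.node 206978600713 (.leaf 3 25)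
  (.leaf 3 27)) (.node 651734915401 (.leaf 3 29) (.leaf 3 31))))) (.node
  116268544215792155346663318272313107799658211296763632934163629955363521335378674934262463534728054785436737 (.node
  1483830777096671643488022662542088381841452458544161 (.node 7691972184424965301461649 (.node 1776539785033 (.leaf 3
  33) (.leaf 3 35)) (.node 4329749465353 (.leaf 3 37) (.leaf 3 39))) (.node 192906414833531996916332689 (.node
  9649752045193 (.leaf 3 41) (.leaf 3 43)) (.node 19990815715273 (.leaf 3 45) (.leaf 3 47)))) (.node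
  78357010792893975897431818710361404248301150461322026017 (.node 2811728302927738948391267473 (.node 38968818765001
  (.leaf 3 49) (.leaf 3 51)) (.node 72153285422473 (.leaf 3 53) (.leaf 3 55))) (.node 27867916936107941180894314129
  (.node 127834794064393 (.leaf 3 57) (.leaf 3 59)) (.node 217999466734153 (.leaf 3 61) (.leaf 3 63)))))) (.node
  4618028812995989565381490511453281537302641348403673482214947426197659459738086452539968084411574563157257786362640444516804379081404540648355013461396530980870351314907330547302426441540573616021601954586735157307647974338789710024714221648370412447873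
  (.node
  40720813057419246277215992419460126947862811610472691707263147967611154517654677346542393067218276869658947115454554369089
  (.node 254514055979212991830382915396586470211500147363977663028257 (.node 207016769289853814518107238033 (.node
  359544891317833 (.leaf 3 65) (.leaf 3 67)) (.node 575774470139401 (.leaf 3 69) (.leaf 3 71))) (.node
  1229436904325639510885531434129 (.node 898209831147913 (.leaf 3 73) (.leaf 3 75)) (.node 1368763580281033 (.leaf 3
  77) (.leaf 3 79)))) (.node 159994358271297402567401205927814938227537763858235376944466977 (.node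
  6106023238828652993143876184209 (.node 2042317316000713 (.leaf 3 81) (.leaf 3 83)) (.node 2989752469408393 (.leaf 3
  85) (.leaf 3 87))) (.node 26202710342450296487660986987153 (.node 4301484175758601 (.leaf 3 89) (.leaf 3 91)) (.node
  6091551025601353 (.leaf 3 93) (.leaf 3 95))))) (.node
  113407087586493915867318065237889384581368001558991019614815349314579546021958263373521077169892988991207735455845237648973825928257
  (.node 33980458379514056109013726128168410700695476967713576899539528737 (.node 99560745388266691708313293085329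
  (.node 8502316186195273 (.leaf 3 97) (.leaf 3 99)) (.node 11709838026244873 (.leaf 3 101) (.leaf 3 103))) (.node
  341303776372878366761540994244753 (.node 15929971019426953 (.leaf 3 105) (.leaf 3 107)) (.node 21425260344582601
  (.leaf 3 109) (.leaf 3 111)))) (.node 3337420770488020565141870874755245421090427426169288091344180476961 (.node
  1071290338059171111664261497406609 (.node 28512696242862793 (.leaf 3 113) (.leaf 3 115)) (.node 37572396834527113
  (.leaf 3 117) (.leaf 3 119))) (.node 3115327985254062045928397026051729 (.node 49057290740506633 (.leaf 3 121)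
  (.leaf 3 123)) (.node 63503873496253513 (.leaf 3 125) (.leaf 3 127))))))) (.node
  2474229211360061185411011471237789365751621253565613472499370381416323978570826694361620521265022426971953749397392675444616976032952591228390654950274258388562943455350508892114205236680528450601592802720065553836430373462002097257991843571774558751119577580851396152748458719331809402980420854925807791313689112292227698892236535544157322224047018719615797125048428101914181592318823865063080607254701003630013332935453091102857898300006001169346795688077736961189392214895440252509495374985873334052118870114154310779605207190750889888018473443139297069521439969231350467751121153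
  (.node
  564985676734767179153198013266154858494614667346679062368969029143617392322948917451200110571378484920805424628519320591519627544582579189202618213564604625447068003491141541372242727190981437899572723200586739703355129158366925340281478476637968461269439370463660315913316355172481
  (.node
  1195865393111160020529516555917257235116287153612173722528215110970115139398635502610641709255770399621974419813537896567837605351268772929
  (.node 184144711745399999429772165313117176945555929626850547049476122573857 (.node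
  8473949633181500021780130895308433 (.node 81544114387811401 (.leaf 3 129) (.leaf 3 131)) (.node 103918592982452233
  (.leaf 3 133) (.leaf 3 135))) (.node 21730682824021439404266418739242129 (.node 131490947268636553 (.leaf 3 137)
  (.leaf 3 139)) (.node 165263717962465993 (.leaf 3 141) (.leaf 3 143)))) (.node
  6494160933410748161364766016021591836321402022480379521586959199038497 (.node 52882849647178952339826179538813073
  (.node 206395676180208073 (.leaf 3 145) (.leaf 3 147)) (.node 256220724318885001 (.leaf 3 149) (.leaf 3 151)))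
  (.node 122802779667475439376375187795475089 (.node 316268462629329673 (.leaf 3 153) (.leaf 3 155)) (.node
  388286516608523593 (.leaf 3 157) (.leaf 3 159))))) (.node
  472449223791736327750187216439280107192470508333693831019876304587306024012882242351651598086418725328776332356081773515210667646096065385524289
  (.node 160176971442245060691013433138561638841006520254783045868721243099515937 (.node
  273395246743664452674180669949039249 (.node 474264722980442953 (.leaf 3 161) (.leaf 3 163)) (.node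
  576461274677050633 (.leaf 3 165) (.leaf 3 167))) (.node 585880600888526365593158062320519313 (.node
  697430927873483401 (.leaf 3 169) (.leaf 3 171)) (.node 840055376773895113 (.leaf 3 173) (.leaf 3 175)))) (.node
  2949545240728234983001639540895664398005378924181089535412865711212043297 (.node
  1212746994926308704674412346794384529 (.node 1007575904486828233 (.leaf 3 177) (.leaf 3 179)) (.node
  1203628420971397513 (.leaf 3 181) (.leaf 3 183))) (.node 2432119191445583418333257123331214993 (.node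
  1432281001677981193 (.leaf 3 185) (.leaf 3 187)) (.node 1698074043149526601 (.leaf 3 189) (.leaf 3 191)))))) (.node
  4379277764454884367182032698006153794680856078436100163012684087997163663557318301671519830869010209569858533131556529525780052649168481289362262112005833187810742728898604626474746097268802784252419556467331198589817303604437049804289810847989697812030246151220588923021677991677433134997081902966913
  (.node
  21307853279640133265034289988960501830013750038306884202535038492669335743180834702809361538007554361200850879821458829225832695796578735462436170817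
  (.node 42581710631924265490317072505657789699660319408544628499493959805532822561 (.node
  4738050164345550675556406421201575569 (.node 2006063154491988553 (.leaf 3 193) (.leaf 3 195)) (.node
  2361864906264830473 (.leaf 3 197) (.leaf 3 199))) (.node 8987180201754136451193084011880090769 (.node
  2771705560984929673 (.leaf 3 201) (.leaf 3 203)) (.node 3242472912079639753 (.leaf 3 205) (.leaf 3 207)))) (.node
  500399184612965192720834551374674374849397594590360471235949850141007678497 (.node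
  16632156181952679918456768629408667793 (.node 3781771360767174601 (.leaf 3 209) (.leaf 3 211)) (.node
  4397980362984889993 (.leaf 3 213) (.leaf 3 215))) (.node 30086248537994210885229550632447312529 (.node
  5100316381128450313 (.leaf 3 217) (.leaf 3 219)) (.node 5898898478007279433 (.leaf 3 221) (.leaf 3 223))))) (.node
  205524118595247135130339589577175134795178321908216081669019718896679159194717107973284023366109173043653792052328404999393116806005367024156384864922689
  (.node 4929908353039570901726347401855671042844609762319764141135753777042165935137 (.node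
  53283153886194635022867384553151482513 (.node 6804817693064106313 (.leaf 3 225) (.leaf 3 227)) (.node
  7830210343548827401 (.leaf 3 229) (.leaf 3 231))) (.node 92522833080961492805465108869439484049 (.node
  8988335395979319433 (.leaf 3 233) (.leaf 3 235)) (.node 10293656055864247753 (.leaf 3 237) (.leaf 3 239)))) (.node
  41689237177914218808790492241565876389591704208418803043042567325399984651297 (.node
  157730699553616996799306094015897990289 (.node 11761925726305326793 (.leaf 3 241) (.leaf 3 243)) (.node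
  13410278488738900873 (.leaf 3 245) (.leaf 3 247))) (.node 264306424151392938639882327690583561873 (.node
  15257324261719125001 (.leaf 3 249) (.leaf 3 251)) (.node 17323248796287436873 (.leaf 3 253) (.leaf 3 255))))))))
  (.node
  613364755192135656137691233609257404333515367323699477344250320400351601730087518446436360822455030079572009016104134675659372411440035541672236677900950626513149333164075993408344679473571683308011670224806961807253809085898332677981168014685255143053665429467848293204313104858741606060857251606126253651302205936349515611267544282572384403776184454549715524606071655616552995096593640824382774158435969819751545020464691303910980419666546344532708090539042183854703534440858018893681958847405201706485117688012383278653569506044127612782626846787039991847373904295431544704652874561455218166029742804092353666488454404076665789513338892442649584905434202811982477957306297368907058989540613696515520728020551147805500348213811229158843325868842084447454181740607107503276565655325125367368558172724704282344341422746177571968347349940927748584337603580439815623430459649664019601023396699261218342356407048146668975668080666227461269656157358532238488197815142659414096140437282067559492781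
  (.node
  426708846726179043899494685596548132360131274526125888422400299675921142072284339615872988528062472314081888821846675700564960195744188024223131979962150820451778292163575935627858943758714572851243013043793699439574687008885107286586099315049800213812237204570118450482962838160341906599452862297721948801837346109530856619377557210679854362515832728183683321687142821215138227384597067709871327791304947436735765388081
  (.node
  2029858468797550207715436523570758078383427428439630157025368740579833852503991261317987462542431795519688775777772301708440836838162611404312178386613751550331206717876601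
  (.node 3050299438774439001530795735568388469689103119645107947405849726581 (.node 1332156244123579564405661 (.node
  66771881 (.leaf 4 3) (.node 1094621 (.leaf 4 5) (.leaf 4 7))) (.node 19950856920199381 (.node 15850201 (.leaf 4 9)
  (.leaf 4 11)) (.node 1258713181 (.leaf 4 13) (.leaf 4 15)))) (.node 2289746005568002417862855259831841148545721
  (.node 97239449800281170261 (.node 1953172441 (.leaf 4 17) (.leaf 4 19)) (.node 49785389021 (.leaf 4 21) (.leaf 4
  23))) (.node 23547500631388615291861 (.node 192480864061 (.leaf 4 25) (.leaf 4 27)) (.node 122336839801 (.leaf 4 29)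
  (.leaf 4 31))))) (.node
  665462033987428631771449002771539422831938735144912040829065917357408526007064337183133868068356393506421 (.node
  244207496814174076260373586154565526811940780165021 (.node 1382440972833296262445141 (.node 1679300907581 (.leaf 4
  33) (.leaf 4 35)) (.node 823224096761 (.leaf 4 37) (.leaf 4 39))) (.node 176649492899269129926064681 (.node
  9216363627581 (.leaf 4 41) (.leaf 4 43)) (.node 19166940459101 (.leaf 4 45) (.leaf 4 47)))) (.node
  2724986098579118112485933674759340354727922731404873401 (.node 521793832679553804499965781 (.node 7497007255001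
  (.leaf 4 49) (.leaf 4 51)) (.node 69600283810781 (.leaf 4 53) (.leaf 4 55))) (.node 5222342480718046148372632021
  (.node 24722084677081 (.leaf 4 57) (.leaf 4 59)) (.node 211241994715741 (.leaf 4 61) (.leaf 4 63)))))) (.node
  210216058550600968666817669444399064307765406985318119476108057475608847630615584591022023023519438517507869762283191597450740000116270073321336863426643710791254011936668014346617837736174782944984209148413461521337258455379264693364632335632943481
  (.node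
  267028074289907211791659441152666300468217213957433079436489021310886710567307771512860978023873418315090263033004465781
  (.node 9127133454708449305408707257393115623195112573735986804921 (.node 39086304061842327140705107541 (.node
  349050246599741 (.leaf 4 65) (.leaf 4 67)) (.node 111979018615801 (.leaf 4 69) (.leaf 4 71))) (.node
  233512317774213293695702740181 (.node 874732587102781 (.leaf 4 73) (.leaf 4 75)) (.node 266952805025401 (.leaf 4 77)
  (.leaf 4 79)))) (.node 29256510339744667149991764515175449066655378823279025353653661 (.node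
  5826827839252791173254539469481 (.node 1993987438493501 (.leaf 4 81) (.leaf 4 83)) (.node 2922198869845981 (.leaf 4
  85) (.leaf 4 87))) (.node 5021001331574677803428129869781 (.node 841698695050201 (.leaf 4 89) (.leaf 4 91)) (.node
  5965319135103581 (.leaf 4 93) (.leaf 4 95))))) (.node
  787243285596904925950647094144306402069079110790174377004830644052804628417516642655641432838399165272246892153468119755259651701
  (.node 1259796740799575518457446003270712372371951370852431252500233401 (.node 19142473116338431866013476381781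
  (.node 1666627579861721 (.leaf 4 97) (.leaf 4 99)) (.node 11485753234640861 (.leaf 4 101) (.leaf 4 103))) (.node
  65811597756630370425713454136021 (.node 15636363684597821 (.leaf 4 105) (.leaf 4 107)) (.node 4208881238894201
  (.leaf 4 109) (.leaf 4 111)))) (.node 624897064821149268384152530639738446852221679005205848768076198301 (.node
  207085378781957047270293713134421 (.node 28023254996773181 (.leaf 4 113) (.leaf 4 115)) (.node 7389768918914041
  (.leaf 4 117) (.leaf 4 119))) (.node 3017581774709028147492036900906281 (.node 48269288022677821 (.leaf 4 121)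
  (.leaf 4 123)) (.node 62515564209095261 (.leaf 4 125) (.leaf 4 127))))))) (.node
  1437431541197303872814617020741854103901618861446343114067570660941258032052791063831428287782510996809953128623804323898144164759333771812497058260118322941872329285919698172861024025176649294968662776385681040503284177000600058987104473275631546687928661464596909609387018797750792362986409870119824516471840957306356951707423642251583374147590019584508182047753249107951741786507501227041467680572359847093883700799962870013498336900098207322008502897902835365629109002746049233182915283411535136926531323655562793572894863621968584942595446487205058664701443785413808701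
  (.node
  5916296993422675715370983873863928489871663010087734246784164503197826397144316289657328269777048371300715176537812745422379148563787193924161382060244379600452962373998271901833691077127008942051822638041991962967625777979288236284292111824089549325603169989161394355789685221
  (.node
  1713389826001377072525586640091555119357660575793156319619852264491018914109112304850791405916283776359772966082347298576065096195010481
  (.node 6949054333014038543466725819365361738196954353835962061649360552121 (.node 1644754497188151527810571485047381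
  (.node 16062670180291801 (.leaf 4 129) (.leaf 4 131)) (.node 102396082265711581 (.leaf 4 133) (.leaf 4 135))) (.node
  4224979682313707734626597443299541 (.node 25923862581318361 (.leaf 4 137) (.leaf 4 139)) (.node 162976472701964381
  (.leaf 4 141) (.leaf 4 143)))) (.node 246564459549738804242969770983324986993585658521005611409070965439161 (.node
  10297299415656768531608789884713301 (.node 203616099485418301 (.leaf 4 145) (.leaf 4 147)) (.node 50572127850795001
  (.leaf 4 149) (.leaf 4 151))) (.node 23944575135383956473145566840187861 (.node 312226906220158781 (.leaf 4 153)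
  (.leaf 4 155)) (.node 76689659534018681 (.leaf 4 157) (.leaf 4 159))))) (.node
  3452977777526455742210115687941032833133756215293742070412326231130182332447827795817042189954891198823328822804471990569619621228156987815541
  (.node 30557568363714943031212346880007423729946591714793604264420258627164061 (.node
  266866000319141178645964631752135081 (.node 468498861231700541 (.leaf 4 161) (.leaf 4 163)) (.node
  569619314799486941 (.leaf 4 165) (.leaf 4 167))) (.node 114505288523721981408480159532922581 (.node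
  137869024400963801 (.leaf 4 169) (.leaf 4 171)) (.node 830536728762994781 (.leaf 4 173) (.leaf 4 175)))) (.node
  112999101774951261748171566915851734880232152109539028147305260667690681 (.node 237261945371931274110255217577193301
  (.node 199282413814167001 (.leaf 4 177) (.leaf 4 179)) (.node 1190581450870926301 (.leaf 4 181) (.leaf 4 183)))
  (.node 476263066956709523911661445615143381 (.node 1417084935441061181 (.leaf 4 185) (.leaf 4 187)) (.node
  336086465281966201 (.leaf 4 189) (.leaf 4 191)))))) (.node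
  242961356198875665161482339000578850038056745348374785410428058648060074992615337168458668278635749804328433324877943659348180200772068039390875760665992262996957837414815504106000163458334226943050655934397472824904002491531870235358246925118809532185742387701018207135374199630063066480179349881
  (.node
  157906000999570154446569413426792661680350321899167689586827616525658560528036180945550830539584778687846542591118835696615912055674920072599944821
  (.node 8184695753675671404861241747749039852344685627947685676338548273510804381 (.node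
  928609501771284162142710322374268501 (.node 1985645887141739581 (.leaf 4 193) (.leaf 4 195)) (.node
  467661181575523321 (.leaf 4 197) (.leaf 4 199))) (.node 8813926346934533041330880042062755881 (.node
  2744599246658521661 (.leaf 4 201) (.leaf 4 203)) (.node 3211370970703741021 (.leaf 4 205) (.leaf 4 207)))) (.node
  19292836991363548877032506089435113840445614873319660102207928669269869241 (.node
  3264685417241857221072807530616407381 (.node 749235845511178201 (.leaf 4 209) (.leaf 4 211)) (.node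
  4357353477948553181 (.leaf 4 213) (.leaf 4 215))) (.node 5909554681584893545032974237604399061 (.node
  1010811244998855641 (.leaf 4 217) (.leaf 4 219)) (.node 5846348376933206621 (.leaf 4 221) (.leaf 4 223))))) (.node
  1538645489474064035624832230561161400854809100039239618699433955255822645721416725407955616255673226095137874628706995687957133991586357204741866079861
  (.node 190552286371983288504087757413025776288173721367405915401910506757833379001 (.node
  10472492940916900240156737978338098261 (.node 6745258383324966461 (.leaf 4 225) (.leaf 4 227)) (.node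
  1552571057441783801 (.leaf 4 229) (.leaf 4 231))) (.node 18195503921275484439610173480314352341 (.node
  8912325838400235581 (.leaf 4 233) (.leaf 4 235)) (.node 2041611163146339961 (.leaf 4 237) (.leaf 4 239)))) (.node
  8074662964003613961957945336424568194039454702247686461995136771485286760861 (.node
  155181443991609537401702528045110208681 (.node 11665715708693541181 (.leaf 4 241) (.leaf 4 243)) (.node
  13302350911566017501 (.leaf 4 245) (.leaf 4 247))) (.node 52033688798772878293847422138777101781 (.node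
  3027295317156375001 (.leaf 4 249) (.leaf 4 251)) (.node 17188177348898226781 (.leaf 4 253) (.leaf 4 255))))))))

end Cfsg.Agent.R2.Spec.SD
end

-- part: R2/Spec/SD/Chk
section
/-!
# Small ranks (helper10): the finite search, the boolean functions
-/

set_option autoImplicit false

namespace Cfsg.Agent.R2.Spec.SD

/-- the primitive part -/
def KK (c q : ℕ) : ℕ :=
  match c with
  | 0 => (q ^ 4 + q ^ 3 + q ^ 2 + q + 1) / Nat.gcd 5 (q - 1)
  | 1 => (q ^ 4 - q ^ 3 + q ^ 2 - q + 1) / Nat.gcd 5 (q + 1)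
  | 2 => (q ^ 4 + 1) / 2
  | 3 => q ^ 4 - q ^ 2 + 1
  | _ => (q ^ 4 - q ^ 3 + q ^ 2 - q + 1) / Nat.gcd 5 (q + 1)

/-- the isolated number -/
def MM (c q : ℕ) : ℕ :=
  match c with
  | 0 => (q ^ 5 - 1) / 2
  | 1 => (q ^ 5 + 1) / 2
  | 2 => (q ^ 4 + 1) * (q + 1) / 2
  | 3 => (q ^ 6 + 1) / 2
  | _ => (q ^ 5 + 1) * (q - 1) / 2

/-- the second isolated number of the class `8` -/
def MN (c q : ℕ) : ℕ :=
  match c with
  | 2 => (q ^ 4 + 1) * (q - 1) / 2
  | _ => 0

/-- a leaf -/
def lf (u P c q : ℕ) : Bool :=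
  (P % KK c q != 0) || (MM c q % P != 0 && (Nat.beq (MN c q) 0 || MN c q % P != 0)) || (Nat.gcd u q != 1) ||
    (Nat.beq q 3 && Nat.beq P 41 && Nat.beq u 4)

/-- the search in a tree -/
def PT.ok (R u P : ℕ) : PT → Bool
  | .leaf c q => lf u P c q
  | .node n l r => Nat.blt (R * Nat.gcd P n) P || (PT.ok R u P l && PT.ok R u P r)

/-- all leaves -/
def PT.all (g : ℕ → ℕ → Bool) : PT → Bool
  | .leaf c q => g c q
  | .node _ l r => PT.all g l && PT.all g r

/-- the nodes are multiples of the leaves -/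
def PT.good : PT → Bool
  | .leaf _ _ => true
  | .node n l r => PT.all (fun c q => Nat.beq (n % KK c q) 0) l && PT.all (fun c q => Nat.beq (n % KK c q) 0) r &&
      PT.good l && PT.good r

/-- a leaf of a tree -/
def PT.mem (c q : ℕ) : PT → Bool
  | .leaf c' q' => Nat.beq c c' && Nat.beq q q'
  | .node _ l r => PT.mem c q l || PT.mem c q r

/-- the values of the isolated numbers of `S` -/
def V (d u : ℕ) : List ℕ :=
  [(u ^ d - 1) / Nat.gcd 2 (u - 1), (u ^ d - 1) / Nat.gcd 4 (u ^ d - 1), (u ^ d - 1) / Nat.gcd (d + 1) (u - 1),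
  (u ^ d - 1) / Nat.gcd (d + 1) (u + 1), (u ^ d + 1) / Nat.gcd 2 (u - 1), (u ^ d + 1) / Nat.gcd 4 (u ^ d + 1),
  (u ^ d + 1) / Nat.gcd (d + 1) (u + 1), (u ^ (d + 1) - 1) / (Nat.gcd (d + 1) (u - 1) * (u - 1)),
  (u ^ (d + 1) - 1) / (Nat.gcd (d + 1) (u + 1) * (u + 1)), (u ^ (d + 1) + 1) / (Nat.gcd (d + 1) (u + 1) * (u + 1)),
  (u ^ (d - 1) + 1) * (u + 1) / Nat.gcd 4 (u ^ d - 1), (u ^ (d - 1) + 1) * (u - 1) / Nat.gcd 4 (u ^ d + 1),
  (u ^ (d - 1) - 1) * (u + 1) / Nat.gcd 4 (u ^ d + 1)]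

/-- the values of rank three -/
def V3 (u : ℕ) : List ℕ :=
  [(u ^ 3 - 1) / Nat.gcd 2 (u - 1), (u ^ 3 + 1) / Nat.gcd 2 (u - 1), (u ^ 3 - 1) / Nat.gcd 4 (u - 1),
  (u ^ 3 + 1) / Nat.gcd 4 (u + 1), (u ^ 4 - 1) / (Nat.gcd 4 (u - 1) * (u - 1)),
  (u ^ 4 - 1) / (Nat.gcd 4 (u + 1) * (u + 1))]

/-- the loop over `u = 2, ..., n + 1` -/
def lp (R : ℕ) (t : PT) (d : ℕ) : ℕ → Bool
  | 0 => true
  | n + 1 => (V d (n + 2)).all (fun P => t.ok R (n + 2) P) && lp R t d n

/-- the loop in rank three -/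
def lp3 (R : ℕ) (t : PT) (s : ℕ) : ℕ → Bool
  | 0 => true
  | n + 1 => (V3 (n + 2 + s)).all (fun P => t.ok R (n + 2 + s) P) && lp3 R t s n

end Cfsg.Agent.R2.Spec.SD
end

private theorem dce_06063dd37a59 : _root_.True := by
  try have : _root_.True := by simp only [_root_.Cfsg.Agent.R2.Spec.SD.PT.ok.eq_1]
  try have : _root_.True := by simp only [_root_.Cfsg.Agent.R2.Spec.SD.PT.ok.eq_def]
  try have : _root_.True := by simp only [_root_.Cfsg.Agent.R2.Spec.SD.PT.all.eq_1]
  try have : _root_.True := by simp only [_root_.Cfsg.Agent.R2.Spec.SD.PT.all.eq_def]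
  try have : _root_.True := by simp only [_root_.Cfsg.Agent.R2.Spec.SD.PT.good.eq_1]
  try have : _root_.True := by simp only [_root_.Cfsg.Agent.R2.Spec.SD.PT.good.eq_def]
  try have : _root_.True := by simp only [_root_.Cfsg.Agent.R2.Spec.SD.PT.mem.eq_1]
  try have : _root_.True := by simp only [_root_.Cfsg.Agent.R2.Spec.SD.PT.mem.eq_def]
  try have : _root_.True := by simp only [_root_.Cfsg.Agent.R2.Spec.SD.lp.eq_1]
  try have : _root_.True := by simp only [_root_.Cfsg.Agent.R2.Spec.SD.lp.eq_def]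
  try have : _root_.True := by simp only [_root_.Cfsg.Agent.R2.Spec.SD.lp3.eq_1]
  try have : _root_.True := by simp only [_root_.Cfsg.Agent.R2.Spec.SD.lp3.eq_def]
  exact _root_.True.intro
end

-- part: R2/Spec/SD/Tab_mg
section
set_option linter.all false
open scoped Cfsg.Agent.FastGrp

-- part: R2/Spec/SD/Tab
section
/-!
# Small ranks (helper10): the finite search, the tables
-/

set_option autoImplicit false

namespace Cfsg.Agent.R2.Spec.SD

/-- the bounds of `u`, dimension five -/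
def tab5 : List (ℕ × ℕ) := [(4, 1525), (5, 365), (6, 140), (7, 70), (8, 42), (9, 28), (10, 20), (11, 15), (12, 12), (13, 10), (14, 8),
  (15, 7), (16, 6), (17, 6), (18, 5), (19, 5), (20, 4), (21, 4), (22, 4), (23, 3), (24, 3), (25, 3), (26, 3),
  (27, 3), (28, 3), (29, 2), (30, 2), (31, 2), (32, 2), (33, 2), (34, 2), (35, 2), (36, 2), (37, 2), (38, 2),
  (39, 2), (40, 2), (41, 2), (42, 2), (43, 2), (44, 2), (45, 2)]

/-- the bounds of `u`, dimension six -/
def tab6 : List (ℕ × ℕ) := [(5, 1105), (6, 352), (7, 155), (8, 83), (9, 51), (10, 35), (11, 25), (12, 19), (13, 15), (14, 13), (15, 11),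
  (16, 9), (17, 8), (18, 7), (19, 6), (20, 6), (21, 5), (22, 5), (23, 4), (24, 4), (25, 4), (26, 4), (27, 3),
  (28, 3), (29, 3), (30, 3), (31, 3), (32, 3), (33, 3), (34, 2), (35, 2), (36, 2), (37, 2), (38, 2), (39, 2),
  (40, 2), (41, 2), (42, 2), (43, 2), (44, 2), (45, 2), (46, 2), (47, 2), (48, 2), (49, 2), (50, 2), (51, 2),
  (52, 2), (53, 2)]

theorem tab5_bd : tab5.all (fun p => Nat.blt (2 * (p.1 + 1) * 541216080128) ((p.2 + 1) ^ p.1)) = true := by
  decide +kernel

theorem tab6_bd : tab6.all (fun p => Nat.blt (2 * (p.1 + 1) * 137470998445313) ((p.2 + 1) ^ p.1)) = true := by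
  decide +kernel

theorem good5 : tree5.good = true := by decide +kernel

theorem good6 : tree6.good = true := by decide +kernel

namespace Fa

/-- the bound at the root -/
def bd : PT → ℕ
  | .leaf k _ => k
  | .node m _ _ => m

/-- `s` is a tree of lower bounds for `KK` -/
def rel : PT → PT → Bool
  | .leaf c q, .leaf k _ => Nat.beq k (KK c q)
  | .node _ l r, .node m x y => Nat.ble m (bd x) && Nat.ble m (bd y) && rel l x && rel r y
  | _, _ => false

/-- the search, `g` is the part of `P` that matters -/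
noncomputable def go (u P : ℕ) (t : PT) : PT → ℕ → Bool :=
  PT.rec (motive := fun _ => PT → ℕ → Bool)
    (fun c q s g => PT.rec (motive := fun _ => Bool)
      (fun k _ => Bool.rec (motive := fun _ => Bool) true (lf u P c q) (Nat.beq (Nat.mod g k) 0)) (fun _ _ _ _ _ => false) s)
    (fun n _ _ a b s g => PT.rec (motive := fun _ => Bool) (fun _ _ => false)
      (fun m x y _ _ => Bool.rec (motive := fun _ => Bool) true
        (Bool.rec (motive := fun _ => Bool) false (b y (Nat.gcd g n)) (a x (Nat.gcd g n))) (Nat.ble m (Nat.gcd g n))) s) t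

/-- one value -/
noncomputable def one (R : ℕ) (t s : PT) (u P : ℕ) : Bool :=
  Bool.rec (motive := fun _ => Bool) true (go u P t s P) (Nat.ble P (Nat.mul R (Nat.gcd P (bd t))))

/-- one value, evaluated first -/
noncomputable def tst (R : ℕ) (t s : PT) (u P : ℕ) (b : Bool) : Bool :=
  Nat.rec (motive := fun _ => Bool) false (fun m _ => Bool.rec (motive := fun _ => Bool) false b (one R t s u (Nat.succ m))) P

theorem all_imp {f g h : ℕ → ℕ → Bool} (H : ∀ c q, f c q = true → g c q = true → h c q = true) :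
    ∀ {t : PT}, t.all f = true → t.all g = true → t.all h = true
  | .leaf c q, h1, h2 => H c q h1 h2
  | .node _ l r, h1, h2 => by
    simp only [PT.all, Bool.and_eq_true] at h1 h2 ⊢
    exact ⟨all_imp H h1.1 h2.1, all_imp H h1.2 h2.2⟩

theorem ok_of_all {R u P : ℕ} : ∀ {t : PT}, t.all (lf u P) = true → t.ok R u P = true
  | .leaf _ _, h => h
  | .node _ l r, h => by
    simp only [PT.all, PT.ok, Bool.and_eq_true, Bool.or_eq_true] at h ⊢
    exact .inr ⟨ok_of_all h.1, ok_of_all h.2⟩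

theorem all_bd : ∀ {t s : PT} {m : ℕ}, rel t s = true → m ≤ bd s → t.all (fun c q => Nat.ble m (KK c q)) = true
  | .leaf _ _, .leaf _ _, _, h, h1 => Nat.ble_eq.mpr (Nat.eq_of_beq_eq_true h ▸ h1)
  | .node _ l r, .node _ _ _, _, h, h1 => by
    simp only [rel, PT.all, Bool.and_eq_true, Nat.ble_eq] at h ⊢
    exact ⟨all_bd h.1.2 (Nat.le_trans h1 h.1.1.1), all_bd h.2 (Nat.le_trans h1 h.1.1.2)⟩
  | .leaf _ _, .node _ _ _, _, h, _ => nomatch h
  | .node _ _ _, .leaf _ _, _, h, _ => nomatch h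

theorem lf_of {u P c q : ℕ} (h : ¬ KK c q ∣ P) : lf u P c q = true := by
  simp only [lf, Bool.or_eq_true, bne_iff_ne]
  exact .inl (.inl (.inl fun e => h (Nat.dvd_of_mod_eq_zero e)))

theorem go_all {u P : ℕ} : ∀ {t s : PT} {g : ℕ}, rel t s = true → t.good = true → 0 < g →
    t.all (fun c q => decide (KK c q ∣ P → KK c q ∣ g)) = true → go u P t s g = true → t.all (lf u P) = true
  | .leaf c q, .leaf k _, g, h, _, _, h1, h2 => by
    have h3 : Bool.rec (motive := fun _ => Bool) true (lf u P c q) (Nat.beq (g % k) 0) = true := h2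
    cases h4 : Nat.beq (g % k) 0
    · exact lf_of fun e => Nat.ne_of_beq_eq_false h4 (Nat.mod_eq_zero_of_dvd (Nat.eq_of_beq_eq_true h ▸ of_decide_eq_true h1 e))
    · rwa [h4] at h3
  | .node n l r, .node m x y, g, h, hg, h0, h1, h2 => by
    have h3 : Bool.rec (motive := fun _ => Bool) true (Bool.rec (motive := fun _ => Bool) false (go u P r y (Nat.gcd g n))
      (go u P l x (Nat.gcd g n))) (Nat.ble m (Nat.gcd g n)) = true := h2
    have h4 := Nat.gcd_pos_of_pos_left n h0
    have h5 : (PT.node n l r).all (fun c q => decide (KK c q ∣ P → KK c q ∣ Nat.gcd g n)) = true :=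
      all_imp (f := fun c q => Nat.beq (n % KK c q) 0) (g := fun c q => decide (KK c q ∣ P → KK c q ∣ g)) (fun c q a b => decide_eq_true fun e =>
        Nat.dvd_gcd (of_decide_eq_true b e) (Nat.dvd_of_mod_eq_zero (Nat.eq_of_beq_eq_true a))) (by
          simp only [PT.good, PT.all, Bool.and_eq_true] at hg ⊢
          exact hg.1.1) h1
    cases h6 : Nat.ble m (Nat.gcd g n)
    · refine all_imp (fun c q a b => lf_of fun e => ?_) (all_bd h (Nat.le_refl m)) h5
      rw [Nat.ble_eq.mpr (Nat.le_trans (Nat.le_of_ble_eq_true a) (Nat.le_of_dvd h4 (of_decide_eq_true b e)))] at h6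
      exact nomatch h6
    · rw [h6] at h3
      simp only [rel, PT.good, PT.all, Bool.and_eq_true] at h hg h5 ⊢
      cases h7 : go u P l x (Nat.gcd g n)
      · rw [h7] at h3
        exact nomatch h3
      · rw [h7] at h3
        exact ⟨go_all h.1.2 hg.1.2 h4 h5.1 h7, go_all h.2 hg.2 h4 h5.2 h3⟩
  | .leaf _ _, .node _ _ _, _, h, _, _, _, _ => nomatch h
  | .node _ _ _, .leaf _ _, _, h, _, _, _, _ => nomatch h

theorem all_self {P : ℕ} : ∀ t : PT, t.all (fun c q => decide (KK c q ∣ P → KK c q ∣ P)) = true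
  | .leaf _ _ => decide_eq_true id
  | .node _ l r => by simp only [PT.all, all_self l, all_self r, Bool.and_self]

theorem tst_ok {R n u P : ℕ} {l r s : PT} {b : Bool} (h : rel (.node n l r) s = true) (hg : (PT.node n l r).good = true)
    (h1 : tst R (.node n l r) s u P b = true) : (PT.node n l r).ok R u P = true ∧ b = true := by
  cases P with
  | zero => exact nomatch h1
  | succ m =>
    have h2 : Bool.rec (motive := fun _ => Bool) false b (one R (.node n l r) s u (m + 1)) = true := h1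
    cases h3 : one R (.node n l r) s u (m + 1)
    · rw [h3] at h2
      exact nomatch h2
    rw [h3] at h2
    refine ⟨?_, h2⟩
    have h4 : Bool.rec (motive := fun _ => Bool) true (go u (m + 1) (.node n l r) s (m + 1))
      (Nat.ble (m + 1) (R * Nat.gcd (m + 1) n)) = true := h3
    cases h5 : Nat.ble (m + 1) (R * Nat.gcd (m + 1) n)
    · simp only [PT.ok, Bool.or_eq_true, Nat.blt_eq]
      exact .inl (Nat.lt_of_not_le fun e => by rw [Nat.ble_eq.mpr e] at h5; exact nomatch h5)
    · rw [h5] at h4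
      exact ok_of_all (go_all h hg (Nat.succ_pos m) (all_self _) h4)

/-- the values `V d u`; `a = u ^ d`, `b = u - 1`, `c = u + 1` -/
noncomputable def row (f : ℕ → Bool → Bool) (a a1 a2 b c e z1 z2 g1 g2 : ℕ) (x : Bool) : Bool :=
  f (Nat.div (Nat.sub a 1) e) (f (Nat.div (Nat.sub a 1) z1) (f (Nat.div (Nat.sub a 1) g1) (f (Nat.div (Nat.sub a 1) g2)
  (f (Nat.div (Nat.add a 1) e) (f (Nat.div (Nat.add a 1) z2) (f (Nat.div (Nat.add a 1) g2)
  (f (Nat.div (Nat.sub a1 1) (Nat.mul g1 b)) (f (Nat.div (Nat.sub a1 1) (Nat.mul g2 c)) (f (Nat.div (Nat.add a1 1) (Nat.mul g2 c))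
  (f (Nat.div (Nat.mul (Nat.add a2 1) c) z1) (f (Nat.div (Nat.mul (Nat.add a2 1) b) z2)
  (f (Nat.div (Nat.mul (Nat.sub a2 1) c) z2) x))))))))))))

/-- the loop -/
noncomputable def lq (R : ℕ) (t s : PT) (d N : ℕ) : Bool :=
  Nat.rec (motive := fun _ => Bool) true (fun n x => (fun u => row (tst R t s u) (Nat.pow u d) (Nat.pow u (Nat.add d 1))
    (Nat.pow u (Nat.sub d 1)) (Nat.sub u 1) (Nat.add u 1) (Nat.gcd 2 (Nat.sub u 1)) (Nat.gcd 4 (Nat.sub (Nat.pow u d) 1))
    (Nat.gcd 4 (Nat.add (Nat.pow u d) 1)) (Nat.gcd (Nat.add d 1) (Nat.sub u 1)) (Nat.gcd (Nat.add d 1) (Nat.add u 1)) x)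
    (Nat.add n 2)) N

/-- the values `V3 u` -/
noncomputable def row3 (f : ℕ → Bool → Bool) (a a1 b c e g1 g2 : ℕ) (x : Bool) : Bool :=
  f (Nat.div (Nat.sub a 1) e) (f (Nat.div (Nat.add a 1) e) (f (Nat.div (Nat.sub a 1) g1) (f (Nat.div (Nat.add a 1) g2)
  (f (Nat.div a1 (Nat.mul g1 b)) (f (Nat.div a1 (Nat.mul g2 c)) x)))))

/-- the loop in rank three -/
noncomputable def lq3 (R : ℕ) (t s : PT) (z N : ℕ) : Bool :=
  Nat.rec (motive := fun _ => Bool) true (fun n x => (fun u => row3 (tst R t s u) (Nat.pow u 3) (Nat.sub (Nat.pow u 4) 1)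
    (Nat.sub u 1) (Nat.add u 1) (Nat.gcd 2 (Nat.sub u 1)) (Nat.gcd 4 (Nat.sub u 1)) (Nat.gcd 4 (Nat.add u 1)) x)
    (Nat.add (Nat.add n 2) z)) N

variable {R n : ℕ} {l r s : PT} (h : rel (.node n l r) s = true) (hg : (PT.node n l r).good = true)

include h hg

theorem lp_of {d : ℕ} : ∀ {N : ℕ}, lq R (.node n l r) s d N = true → lp R (.node n l r) d N = true
  | 0, _ => rfl
  | N + 1, h0 => by
    obtain ⟨a1, h0⟩ := tst_ok h hg h0
    obtain ⟨a2, h0⟩ := tst_ok h hg h0
    obtain ⟨a3, h0⟩ := tst_ok h hg h0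
    obtain ⟨a4, h0⟩ := tst_ok h hg h0
    obtain ⟨a5, h0⟩ := tst_ok h hg h0
    obtain ⟨a6, h0⟩ := tst_ok h hg h0
    obtain ⟨a7, h0⟩ := tst_ok h hg h0
    obtain ⟨a8, h0⟩ := tst_ok h hg h0
    obtain ⟨a9, h0⟩ := tst_ok h hg h0
    obtain ⟨a10, h0⟩ := tst_ok h hg h0
    obtain ⟨a11, h0⟩ := tst_ok h hg h0
    obtain ⟨a12, h0⟩ := tst_ok h hg h0
    obtain ⟨a13, h0⟩ := tst_ok h hg h0
    simp only [lp, V, List.all_cons, List.all_nil, Bool.and_eq_true, Bool.and_true]
    exact ⟨⟨a1, a2, a3, a4, a5, a6, a7, a8, a9, a10, a11, a12, a13⟩, lp_of h0⟩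

theorem lp3_of' {z : ℕ} : ∀ {N : ℕ}, lq3 R (.node n l r) s z N = true → lp3 R (.node n l r) z N = true
  | 0, _ => rfl
  | N + 1, h0 => by
    obtain ⟨a1, h0⟩ := tst_ok h hg h0
    obtain ⟨a2, h0⟩ := tst_ok h hg h0
    obtain ⟨a3, h0⟩ := tst_ok h hg h0
    obtain ⟨a4, h0⟩ := tst_ok h hg h0
    obtain ⟨a5, h0⟩ := tst_ok h hg h0
    obtain ⟨a6, h0⟩ := tst_ok h hg h0
    simp only [lp3, V3, List.all_cons, List.all_nil, Bool.and_eq_true, Bool.and_true]
    exact ⟨⟨a1, a2, a3, a4, a5, a6⟩, lp3_of' h0⟩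

omit h hg

/-- the root is a node -/
def nd : PT → Bool
  | .leaf _ _ => false
  | .node _ _ _ => true

theorem lp3_of {z N : ℕ} : ∀ {t : PT}, (nd t && rel t s) = true → t.good = true → lq3 R t s z N = true → lp3 R t z N = true
  | .node _ _ _, h, hg, h0 => lp3_of' h hg h0
  | .leaf _ _, h, _, _ => nomatch h

theorem tab_of {L : List (ℕ × ℕ)} : ∀ {t : PT}, (nd t && rel t s) = true → t.good = true →
    L.all (fun p => lq R t s p.1 (p.2 - 1)) = true → L.all (fun p => lp R t p.1 (p.2 - 1)) = true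
  | .node _ _ _, h, hg, h0 => List.all_eq_true.2 fun p hp => lp_of h hg (List.all_eq_true.1 h0 p hp)
  | .leaf _ _, h, _, _ => nomatch h

/-- the leaves -/
def lv : PT → List (ℕ × ℕ) → List (ℕ × ℕ)
  | .leaf c q, L => (c, q) :: L
  | .node _ l r, L => lv l (lv r L)

theorem mem_lv {c q : ℕ} : ∀ {t : PT} {L : List (ℕ × ℕ)}, (c, q) ∈ lv t L → t.mem c q = true ∨ (c, q) ∈ L
  | .leaf _ _, _, h => (List.mem_cons.1 h).imp_left fun e => by
    cases e
    simp only [PT.mem, Nat.beq_refl, Bool.and_self]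
  | .node _ l r, L, h => by
    simp only [PT.mem, Bool.or_eq_true, or_assoc]
    exact (mem_lv (t := l) (L := lv r L) h).imp_right mem_lv

theorem mem_of {t : PT} {a b : ℕ} (h : lv t [] = (List.range a).flatMap fun c => (List.range 127).map fun k => (c + b, 2 * k + 3)) :
    ∀ c < a, ∀ k < 127, t.mem (c + b) (2 * k + 3) = true := fun c hc k hk =>
  (mem_lv (L := []) (h ▸ List.mem_flatMap.2 ⟨c, List.mem_range.2 hc, List.mem_map.2 ⟨k, List.mem_range.2 hk, rfl⟩⟩)).resolve_right
    List.not_mem_nil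

/-- the bounds for `tree5` -/
def m5 : PT :=
  .node 41 (.node 61 (.node 121 (.node 121 (.node 121 (.node 121 (.node 121 (.node 121 (.leaf 121 0) (.leaf 781 0)) (.node
  2801 (.leaf 2801 0) (.node 3221 (.leaf 7381 0) (.leaf 3221 0)))) (.node 30941 (.node 30941 (.leaf 30941 0) (.node 54241
  (.leaf 54241 0) (.leaf 88741 0))) (.node 40841 (.leaf 137561 0) (.node 40841 (.leaf 40841 0) (.leaf 292561 0))))) (.node
  190861 (.node 190861 (.node 406901 (.leaf 406901 0) (.node 551881 (.leaf 551881 0) (.leaf 732541 0))) (.node 190861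
  (.leaf 190861 0) (.node 1222981 (.leaf 1222981 0) (.leaf 1544761 0)))) (.node 579281 (.node 579281 (.leaf 1926221 0)
  (.node 579281 (.leaf 2374321 0) (.leaf 579281 0))) (.node 3500201 (.leaf 3500201 0) (.node 4193821 (.leaf 4193821 0)
  (.leaf 4985761 0)))))) (.node 1380101 (.node 1380101 (.node 1380101 (.node 1380101 (.leaf 5884901 0) (.node 1380101
  (.leaf 1380101 0) (.leaf 8042221 0))) (.node 9320081 (.leaf 9320081 0) (.node 10744501 (.leaf 10744501 0) (.leaf
  12326281 0)))) (.node 2815321 (.node 2815321 (.leaf 2815321 0) (.node 16007041 (.leaf 16007041 0) (.leaf 18129541 0)))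
  (.node 5154941 (.leaf 20456441 0) (.node 5154941 (.leaf 23000461 0) (.leaf 5154941 0))))) (.node 8716961 (.node 8716961
  (.node 28792661 (.leaf 28792661 0) (.node 32068201 (.leaf 32068201 0) (.leaf 35615581 0))) (.node 8716961 (.leaf
  39449441 0) (.node 8716961 (.leaf 8716961 0) (.leaf 48037081 0)))) (.node 13867381 (.node 52822061 (.leaf 52822061 0)
  (.node 57955921 (.leaf 57955921 0) (.leaf 63455221 0))) (.node 13867381 (.leaf 13867381 0) (.node 75618301 (.leaf
  75618301 0) (.leaf 82317121 0))))))) (.node 21020201 (.node 21020201 (.node 21020201 (.node 21020201 (.node 21020201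
  (.leaf 89451461 0) (.node 21020201 (.leaf 97039801 0) (.leaf 21020201 0))) (.node 113654321 (.leaf 113654321 0) (.node
  122719381 (.leaf 122719381 0) (.leaf 132316201 0)))) (.node 30637421 (.node 30637421 (.leaf 142465181 0) (.node 30637421
  (.leaf 30637421 0) (.leaf 164503141 0))) (.node 176434841 (.leaf 176434841 0) (.node 189004141 (.leaf 189004141 0)
  (.leaf 202233361 0))))) (.node 43229041 (.node 43229041 (.node 43229041 (.leaf 43229041 0) (.node 230762761 (.leaf
  230762761 0) (.leaf 246109501 0))) (.node 59353061 (.leaf 262209281 0) (.node 59353061 (.leaf 279086341 0) (.leaf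
  59353061 0)))) (.node 79615481 (.node 315271181 (.leaf 315271181 0) (.node 334629361 (.leaf 334629361 0) (.leaf
  354865621 0))) (.node 79615481 (.leaf 376006121 0) (.node 79615481 (.leaf 79615481 0) (.leaf 421106401 0)))))) (.node
  104670301 (.node 104670301 (.node 104670301 (.node 445120421 (.leaf 445120421 0) (.node 470147161 (.leaf 470147161 0)
  (.leaf 496214701 0))) (.node 104670301 (.leaf 104670301 0) (.node 551586421 (.leaf 551586421 0) (.leaf 580948681 0))))
  (.node 135219521 (.node 135219521 (.leaf 611467901 0) (.node 135219521 (.leaf 643174081 0) (.leaf 135219521 0))) (.node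
  710269241 (.leaf 710269241 0) (.node 745720141 (.leaf 745720141 0) (.leaf 782481841 0))))) (.node 172013141 (.node
  172013141 (.node 172013141 (.leaf 820586261 0) (.node 172013141 (.leaf 172013141 0) (.leaf 900952861 0))) (.node
  943280801 (.leaf 943280801 0) (.node 987082981 (.leaf 987082981 0) (.leaf 1032393241 0)))) (.node 215849161 (.node
  215849161 (.leaf 215849161 0) (.node 1127675281 (.leaf 1127675281 0) (.leaf 1177716661 0))) (.node 267573581 (.leaf
  1229405321 0) (.node 267573581 (.leaf 1282777021 0) (.leaf 267573581 0)))))))) (.node 61 (.node 61 (.node 328080401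
  (.node 328080401 (.node 328080401 (.node 1394714501 (.leaf 1394714501 0) (.leaf 1453353721 0)) (.node 328080401 (.leaf
  1513822861 0) (.node 328080401 (.leaf 1576159601 0) (.leaf 328080401 0)))) (.node 398311621 (.node 1706588521 (.leaf
  1706588521 0) (.node 1774757981 (.leaf 1774757981 0) (.leaf 1844949601 0))) (.node 398311621 (.leaf 1917202981 0) (.node
  398311621 (.leaf 398311621 0) (.leaf 2068055341 0))))) (.node 479257241 (.node 479257241 (.node 2146735441 (.leaf
  2146735441 0) (.node 2227639541 (.leaf 2227639541 0) (.leaf 2310809161 0))) (.node 479257241 (.leaf 479257241 0) (.node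
  2484112961 (.leaf 2484112961 0) (.leaf 2574332101 0)))) (.node 571955261 (.node 571955261 (.leaf 2666986681 0) (.node
  571955261 (.leaf 2762120141 0) (.leaf 571955261 0))) (.node 2959999381 (.leaf 2959999381 0) (.node 3062833961 (.leaf
  3062833961 0) (.leaf 3168325021 0)))))) (.node 61 (.node 61 (.node 677491681 (.node 677491681 (.leaf 3276517921 0)
  (.node 677491681 (.leaf 677491681 0) (.leaf 3501192601 0))) (.node 3617767021 (.leaf 3617767021 0) (.node 3737228561
  (.leaf 3737228561 0) (.leaf 3859624501 0)))) (.node 61 (.node 797000501 (.leaf 797000501 0) (.node 4113410621 (.leaf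
  4113410621 0) (.leaf 4244897281 0))) (.node 61 (.leaf 61 0) (.node 521 (.leaf 521 0) (.leaf 2101 0))))) (.node 1181
  (.node 1181 (.node 1181 (.leaf 1181 0) (.node 13421 (.leaf 13421 0) (.leaf 26521 0))) (.node 24761 (.leaf 47461 0)
  (.node 24761 (.leaf 78881 0) (.leaf 24761 0)))) (.node 136741 (.node 185641 (.leaf 185641 0) (.node 268181 (.leaf 268181
  0) (.leaf 375601 0))) (.node 136741 (.leaf 512461 0) (.node 136741 (.leaf 136741 0) (.leaf 894661 0))))))) (.node 451121
  (.node 451121 (.node 451121 (.node 451121 (.node 1151041 (.leaf 1151041 0) (.node 1458941 (.leaf 1458941 0) (.leaf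
  1824841 0))) (.node 451121 (.leaf 451121 0) (.node 2758481 (.leaf 2758481 0) (.leaf 3341101 0)))) (.node 1129901 (.node
  1129901 (.leaf 4011481 0) (.node 1129901 (.leaf 4778021 0) (.leaf 1129901 0))) (.node 6635101 (.leaf 6635101 0) (.node
  7744361 (.leaf 7744361 0) (.leaf 8987221 0))))) (.node 2383081 (.node 2383081 (.node 2383081 (.leaf 10374001 0) (.node
  2383081 (.leaf 2383081 0) (.leaf 13622521 0))) (.node 15506821 (.leaf 15506821 0) (.node 17580161 (.leaf 17580161 0)
  (.leaf 19854781 0)))) (.node 4468661 (.node 4468661 (.leaf 4468661 0) (.node 25058741 (.leaf 25058741 0) (.leaf 28014481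
  0))) (.node 7692641 (.leaf 31224301 0) (.node 7692641 (.leaf 34702361 0) (.leaf 7692641 0)))))) (.node 12409021 (.node
  12409021 (.node 12409021 (.node 42521761 (.leaf 42521761 0) (.node 46893341 (.leaf 46893341 0) (.leaf 51593641 0)))
  (.node 12409021 (.leaf 56638741 0) (.node 12409021 (.leaf 12409021 0) (.leaf 67829581 0)))) (.node 19019801 (.node
  74009401 (.leaf 74009401 0) (.node 80602181 (.leaf 80602181 0) (.leaf 87625921 0))) (.node 19019801 (.leaf 19019801 0)
  (.node 103040201 (.leaf 103040201 0) (.leaf 111468661 0))))) (.node 27974981 (.node 27974981 (.node 27974981 (.leaf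
  120403921 0) (.node 27974981 (.leaf 129865901 0) (.leaf 27974981 0))) (.node 150451621 (.leaf 150451621 0) (.node
  161617121 (.leaf 161617121 0) (.leaf 173392861 0)))) (.node 39772561 (.node 39772561 (.leaf 185800681 0) (.node 39772561
  (.leaf 39772561 0) (.leaf 212601841 0))) (.node 227040781 (.leaf 227040781 0) (.node 242203001 (.leaf 242203001 0)
  (.leaf 258112261 0))))))))) (.node 41 (.node 41 (.node 54958541 (.node 54958541 (.node 54958541 (.node 54958541 (.node
  54958541 (.leaf 54958541 0) (.leaf 292268861 0)) (.node 310565641 (.leaf 310565641 0) (.node 329708341 (.leaf 329708341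
  0) (.leaf 349722641 0)))) (.node 74126921 (.node 74126921 (.leaf 74126921 0) (.node 392470681 (.leaf 392470681 0) (.leaf
  415257701 0))) (.node 97919701 (.leaf 439022881 0) (.node 97919701 (.leaf 463793821 0) (.leaf 97919701 0))))) (.node
  127026881 (.node 127026881 (.node 516465301 (.leaf 516465301 0) (.node 544422961 (.leaf 544422961 0) (.leaf 573500621
  0))) (.node 127026881 (.leaf 603727801 0) (.node 127026881 (.leaf 127026881 0) (.leaf 667750721 0)))) (.node 162186461
  (.node 701607421 (.leaf 701607421 0) (.node 736735561 (.leaf 736735561 0) (.leaf 773166581 0))) (.node 162186461 (.leaf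
  162186461 0) (.node 850064941 (.leaf 850064941 0) (.leaf 890597081 0)))))) (.node 204184441 (.node 204184441 (.node
  204184441 (.node 204184441 (.leaf 932561701 0) (.node 204184441 (.leaf 975992161 0) (.leaf 204184441 0))) (.node
  1067385961 (.leaf 1067385961 0) (.node 1115417941 (.leaf 1115417941 0) (.leaf 1165053041 0)))) (.node 253854821 (.node
  253854821 (.leaf 1216326541 0) (.node 253854821 (.leaf 253854821 0) (.leaf 1323931781 0))) (.node 1380336001 (.leaf
  1380336001 0) (.node 1438523581 (.leaf 1438523581 0) (.leaf 1498531721 0))))) (.node 312079601 (.node 312079601 (.node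
  312079601 (.leaf 312079601 0) (.node 1624160401 (.leaf 1624160401 0) (.leaf 1689857261 0))) (.node 379788781 (.leaf
  1757527321 0) (.node 379788781 (.leaf 1827209701 0) (.leaf 379788781 0)))) (.node 457960361 (.node 1972769821 (.leaf
  1972769821 0) (.node 2048727721 (.leaf 2048727721 0) (.leaf 2126858261 0))) (.node 457960361 (.leaf 2207202481 0) (.node
  457960361 (.leaf 457960361 0) (.leaf 2374698041 0))))))) (.node 41 (.node 41 (.node 547620341 (.node 547620341 (.node
  2461933381 (.leaf 2461933381 0) (.node 2551550401 (.leaf 2551550401 0) (.leaf 2643592061 0))) (.node 547620341 (.leaf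
  547620341 0) (.node 2835123061 (.leaf 2835123061 0) (.leaf 2934700241 0)))) (.node 649842721 (.node 649842721 (.leaf
  3036877741 0) (.node 649842721 (.leaf 3141700441 0) (.leaf 649842721 0))) (.node 3359462881 (.leaf 3359462881 0) (.node
  3472494301 (.leaf 3472494301 0) (.leaf 3588354281 0))))) (.node 41 (.node 41 (.node 765749501 (.leaf 3707089621 0)
  (.node 765749501 (.leaf 765749501 0) (.leaf 3953375501 0))) (.node 41 (.leaf 4081021561 0) (.node 41 (.leaf 4211734021
  0) (.leaf 41 0)))) (.node 313 (.node 313 (.leaf 313 0) (.node 1201 (.leaf 1201 0) (.leaf 3281 0))) (.node 7321 (.leaf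
  7321 0) (.node 14281 (.leaf 14281 0) (.leaf 25313 0)))))) (.node 41761 (.node 41761 (.node 41761 (.node 41761 (.leaf
  41761 0) (.node 65161 (.leaf 65161 0) (.leaf 97241 0))) (.node 139921 (.leaf 139921 0) (.node 195313 (.leaf 195313 0)
  (.leaf 265721 0)))) (.node 353641 (.node 353641 (.leaf 353641 0) (.node 461761 (.leaf 461761 0) (.leaf 592961 0)))
  (.node 750313 (.leaf 750313 0) (.node 937081 (.leaf 937081 0) (.leaf 1156721 0))))) (.node 1412881 (.node 1412881 (.node
  1412881 (.leaf 1412881 0) (.node 1709401 (.leaf 1709401 0) (.leaf 2050313 0))) (.node 2439841 (.leaf 2439841 0) (.node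
  2882401 (.leaf 2882401 0) (.leaf 3382601 0)))) (.node 3945241 (.node 3945241 (.leaf 3945241 0) (.node 4575313 (.leaf
  4575313 0) (.leaf 5278001 0))) (.node 6058681 (.leaf 6058681 0) (.node 6922921 (.leaf 6922921 0) (.leaf 7876481
  0)))))))) (.node 8925313 (.node 8925313 (.node 8925313 (.node 8925313 (.node 8925313 (.node 8925313 (.leaf 8925313 0)
  (.node 10075561 (.leaf 10075561 0) (.leaf 11333561 0))) (.node 12705841 (.leaf 12705841 0) (.node 14199121 (.leaf
  14199121 0) (.leaf 15820313 0)))) (.node 17576521 (.node 17576521 (.leaf 17576521 0) (.node 19475041 (.leaf 19475041 0)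
  (.leaf 21523361 0))) (.node 23729161 (.leaf 23729161 0) (.node 26100313 (.leaf 26100313 0) (.leaf 28644881 0))))) (.node
  31371121 (.node 31371121 (.node 31371121 (.leaf 31371121 0) (.node 34287481 (.leaf 34287481 0) (.leaf 37402601 0)))
  (.node 40725313 (.leaf 40725313 0) (.node 44264641 (.leaf 44264641 0) (.leaf 48029801 0)))) (.node 52030201 (.node
  52030201 (.leaf 52030201 0) (.node 56275441 (.leaf 56275441 0) (.leaf 60775313 0))) (.node 65539801 (.leaf 65539801 0)
  (.node 70579081 (.leaf 70579081 0) (.leaf 75903521 0)))))) (.node 81523681 (.node 81523681 (.node 81523681 (.node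
  81523681 (.leaf 81523681 0) (.node 87450313 (.leaf 87450313 0) (.leaf 93694361 0))) (.node 100266961 (.leaf 100266961 0)
  (.node 107179441 (.leaf 107179441 0) (.leaf 114443321 0)))) (.node 122070313 (.node 122070313 (.leaf 122070313 0) (.node
  130072321 (.leaf 130072321 0) (.leaf 138461441 0))) (.node 147249961 (.leaf 147249961 0) (.node 156450361 (.leaf
  156450361 0) (.leaf 166075313 0))))) (.node 176137681 (.node 176137681 (.node 176137681 (.leaf 176137681 0) (.node
  186650521 (.leaf 186650521 0) (.leaf 197627081 0))) (.node 209080801 (.leaf 209080801 0) (.node 221025313 (.leaf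
  221025313 0) (.leaf 233474441 0)))) (.node 246442201 (.node 246442201 (.leaf 246442201 0) (.node 259942801 (.leaf
  259942801 0) (.leaf 273990641 0))) (.node 288600313 (.leaf 288600313 0) (.node 303786601 (.leaf 303786601 0) (.leaf
  319564481 0))))))) (.node 335949121 (.node 335949121 (.node 335949121 (.node 335949121 (.node 335949121 (.leaf 335949121
  0) (.node 352955881 (.leaf 352955881 0) (.leaf 370600313 0))) (.node 388898161 (.leaf 388898161 0) (.node 407865361
  (.leaf 407865361 0) (.leaf 427518041 0)))) (.node 447872521 (.node 447872521 (.leaf 447872521 0) (.node 468945313 (.leaf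
  468945313 0) (.leaf 490753121 0))) (.node 513312841 (.leaf 513312841 0) (.node 536641561 (.leaf 536641561 0) (.leaf
  560756561 0))))) (.node 585675313 (.node 585675313 (.node 585675313 (.leaf 585675313 0) (.node 611415481 (.leaf
  611415481 0) (.leaf 637994921 0))) (.node 665431681 (.leaf 665431681 0) (.node 693744001 (.leaf 693744001 0) (.leaf
  722950313 0)))) (.node 753069241 (.node 753069241 (.leaf 753069241 0) (.node 784119601 (.leaf 784119601 0) (.leaf
  816120401 0))) (.node 849090841 (.leaf 849090841 0) (.node 883050313 (.leaf 883050313 0) (.leaf 918018401 0)))))) (.node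
  954014881 (.node 954014881 (.node 954014881 (.node 954014881 (.leaf 954014881 0) (.node 991059721 (.leaf 991059721 0)
  (.leaf 1029173081 0))) (.node 1068375313 (.leaf 1068375313 0) (.node 1108686961 (.leaf 1108686961 0) (.leaf 1150128761
  0)))) (.node 1192721641 (.node 1192721641 (.leaf 1192721641 0) (.node 1236486721 (.leaf 1236486721 0) (.leaf 1281445313
  0))) (.node 1327618921 (.leaf 1327618921 0) (.node 1375029241 (.leaf 1375029241 0) (.leaf 1423698161 0))))) (.node
  1473647761 (.node 1473647761 (.node 1473647761 (.leaf 1473647761 0) (.node 1524900313 (.leaf 1524900313 0) (.leaf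
  1577478281 0))) (.node 1631404321 (.leaf 1631404321 0) (.node 1686701281 (.leaf 1686701281 0) (.leaf 1743392201 0))))
  (.node 1801500313 (.node 1801500313 (.leaf 1801500313 0) (.node 1861049041 (.leaf 1861049041 0) (.leaf 1922062001 0)))
  (.node 1984563001 (.leaf 1984563001 0) (.node 2048576041 (.leaf 2048576041 0) (.leaf 2114125313 0)))))))))

/-- the bounds for `tree6` -/
def m6 : PT :=
  .node 61 (.node 73 (.node 73 (.node 73 (.node 73 (.node 73 (.node 73 (.leaf 73 0) (.node 601 (.leaf 601 0) (.leaf 2353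
  0))) (.node 6481 (.node 6481 (.leaf 6481 0) (.leaf 14521 0)) (.node 28393 (.leaf 28393 0) (.leaf 50401 0)))) (.node
  83233 (.node 83233 (.node 83233 (.leaf 83233 0) (.leaf 129961 0)) (.node 194041 (.leaf 194041 0) (.leaf 279313 0)))
  (.node 390001 (.node 390001 (.leaf 390001 0) (.leaf 530713 0)) (.node 706441 (.leaf 706441 0) (.leaf 922561 0)))))
  (.node 1184833 (.node 1184833 (.node 1184833 (.node 1184833 (.leaf 1184833 0) (.leaf 1499401 0)) (.node 1872793 (.leaf
  1872793 0) (.leaf 2311921 0))) (.node 2824081 (.node 2824081 (.leaf 2824081 0) (.leaf 3416953 0)) (.node 4098601 (.leaf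
  4098601 0) (.leaf 4877473 0)))) (.node 5762401 (.node 5762401 (.node 5762401 (.leaf 5762401 0) (.leaf 6762601 0)) (.node
  7887673 (.leaf 7887673 0) (.leaf 9147601 0))) (.node 10552753 (.node 10552753 (.leaf 10552753 0) (.leaf 12113881 0))
  (.node 13842121 (.leaf 13842121 0) (.leaf 15748993 0)))))) (.node 17846401 (.node 17846401 (.node 17846401 (.node
  17846401 (.node 17846401 (.leaf 17846401 0) (.leaf 20146633 0)) (.node 22662361 (.leaf 22662361 0) (.leaf 25406641 0)))
  (.node 28392913 (.node 28392913 (.leaf 28392913 0) (.leaf 31635001 0)) (.node 35147113 (.leaf 35147113 0) (.leaf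
  38943841 0)))) (.node 43040161 (.node 43040161 (.node 43040161 (.leaf 43040161 0) (.leaf 47451433 0)) (.node 52193401
  (.leaf 52193401 0) (.leaf 57282193 0))) (.node 62734321 (.node 62734321 (.leaf 62734321 0) (.leaf 68566681 0)) (.node
  74796553 (.leaf 74796553 0) (.leaf 81441601 0))))) (.node 88519873 (.node 88519873 (.node 88519873 (.node 88519873
  (.leaf 88519873 0) (.leaf 96049801 0)) (.node 104050201 (.leaf 104050201 0) (.leaf 112540273 0))) (.node 121539601
  (.node 121539601 (.leaf 121539601 0) (.leaf 131068153 0)) (.node 141146281 (.leaf 141146281 0) (.leaf 151794721 0))))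
  (.node 163034593 (.node 163034593 (.node 163034593 (.leaf 163034593 0) (.leaf 174887401 0)) (.node 187375033 (.leaf
  187375033 0) (.leaf 200519761 0))) (.node 214344241 (.node 214344241 (.leaf 214344241 0) (.leaf 228871513 0)) (.node
  244125001 (.leaf 244125001 0) (.leaf 260128513 0))))))) (.node 276906241 (.node 276906241 (.node 276906241 (.node
  276906241 (.node 276906241 (.node 276906241 (.leaf 276906241 0) (.leaf 294482761 0)) (.node 312883033 (.leaf 312883033
  0) (.leaf 332132401 0))) (.node 352256593 (.node 352256593 (.leaf 352256593 0) (.leaf 373281721 0)) (.node 395234281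
  (.leaf 395234281 0) (.leaf 418141153 0)))) (.node 442029601 (.node 442029601 (.node 442029601 (.leaf 442029601 0) (.leaf
  466927273 0)) (.node 492862201 (.leaf 492862201 0) (.leaf 519862801 0))) (.node 547957873 (.node 547957873 (.leaf
  547957873 0) (.leaf 577176601 0)) (.node 607548553 (.leaf 607548553 0) (.leaf 639103681 0))))) (.node 671872321 (.node
  671872321 (.node 671872321 (.node 671872321 (.leaf 671872321 0) (.leaf 705885193 0)) (.node 741173401 (.leaf 741173401
  0) (.leaf 777768433 0))) (.node 815702161 (.node 815702161 (.leaf 815702161 0) (.leaf 855006841 0)) (.node 895715113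
  (.leaf 895715113 0) (.leaf 937860001 0)))) (.node 981474913 (.node 981474913 (.node 981474913 (.leaf 981474913 0) (.leaf
  1026593641 0)) (.node 1073250361 (.leaf 1073250361 0) (.leaf 1121479633 0))) (.node 1171316401 (.node 1171316401 (.leaf
  1171316401 0) (.leaf 1222795993 0)) (.node 1275954121 (.leaf 1275954121 0) (.leaf 1330826881 0)))))) (.node 1387450753
  (.node 1387450753 (.node 1387450753 (.node 1387450753 (.node 1387450753 (.leaf 1387450753 0) (.leaf 1445862601 0))
  (.node 1506099673 (.leaf 1506099673 0) (.leaf 1568199601 0))) (.node 1632200401 (.node 1632200401 (.leaf 1632200401 0)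
  (.leaf 1698140473 0)) (.node 1766058601 (.leaf 1766058601 0) (.leaf 1835993953 0)))) (.node 1907986081 (.node 1907986081
  (.node 1907986081 (.leaf 1907986081 0) (.leaf 1982074921 0)) (.node 2058300793 (.leaf 2058300793 0) (.leaf 2136704401
  0))) (.node 2217326833 (.node 2217326833 (.leaf 2217326833 0) (.leaf 2300209561 0)) (.node 2385394441 (.leaf 2385394441
  0) (.leaf 2472923713 0))))) (.node 2562840001 (.node 2562840001 (.node 2562840001 (.node 2562840001 (.leaf 2562840001 0)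
  (.leaf 2655186313 0)) (.node 2750006041 (.leaf 2750006041 0) (.leaf 2847342961 0))) (.node 2947241233 (.node 2947241233
  (.leaf 2947241233 0) (.leaf 3049745401 0)) (.node 3154900393 (.leaf 3154900393 0) (.leaf 3262751521 0)))) (.node
  3373344481 (.node 3373344481 (.node 3373344481 (.leaf 3373344481 0) (.leaf 3486725353 0)) (.node 3602940601 (.leaf
  3602940601 0) (.leaf 3722037073 0))) (.node 3844062001 (.node 3844062001 (.leaf 3844062001 0) (.leaf 3969063001 0))
  (.node 4097088073 (.leaf 4097088073 0) (.leaf 4228185601 0)))))))) (.node 61 (.node 61 (.node 61 (.node 61 (.node 61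
  (.node 61 (.leaf 61 0) (.node 521 (.leaf 521 0) (.leaf 2101 0))) (.node 1181 (.node 1181 (.leaf 1181 0) (.leaf 13421 0))
  (.node 26521 (.leaf 26521 0) (.leaf 47461 0)))) (.node 24761 (.node 24761 (.node 24761 (.leaf 78881 0) (.leaf 24761 0))
  (.node 185641 (.leaf 185641 0) (.leaf 268181 0))) (.node 136741 (.node 375601 (.leaf 375601 0) (.leaf 512461 0)) (.node
  136741 (.leaf 136741 0) (.leaf 894661 0))))) (.node 451121 (.node 451121 (.node 451121 (.node 1151041 (.leaf 1151041 0)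
  (.leaf 1458941 0)) (.node 451121 (.leaf 1824841 0) (.leaf 451121 0))) (.node 2758481 (.node 2758481 (.leaf 2758481 0)
  (.leaf 3341101 0)) (.node 4011481 (.leaf 4011481 0) (.leaf 4778021 0)))) (.node 1129901 (.node 1129901 (.node 1129901
  (.leaf 1129901 0) (.leaf 6635101 0)) (.node 7744361 (.leaf 7744361 0) (.leaf 8987221 0))) (.node 2383081 (.node 2383081
  (.leaf 10374001 0) (.leaf 2383081 0)) (.node 13622521 (.leaf 13622521 0) (.leaf 15506821 0)))))) (.node 4468661 (.node
  4468661 (.node 4468661 (.node 4468661 (.node 17580161 (.leaf 17580161 0) (.leaf 19854781 0)) (.node 4468661 (.leaf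
  4468661 0) (.leaf 25058741 0))) (.node 7692641 (.node 28014481 (.leaf 28014481 0) (.leaf 31224301 0)) (.node 7692641
  (.leaf 34702361 0) (.leaf 7692641 0)))) (.node 12409021 (.node 42521761 (.node 42521761 (.leaf 42521761 0) (.leaf
  46893341 0)) (.node 51593641 (.leaf 51593641 0) (.leaf 56638741 0))) (.node 12409021 (.node 12409021 (.leaf 12409021 0)
  (.leaf 67829581 0)) (.node 74009401 (.leaf 74009401 0) (.leaf 80602181 0))))) (.node 19019801 (.node 19019801 (.node
  19019801 (.node 19019801 (.leaf 87625921 0) (.leaf 19019801 0)) (.node 103040201 (.leaf 103040201 0) (.leaf 111468661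
  0))) (.node 27974981 (.node 120403921 (.leaf 120403921 0) (.leaf 129865901 0)) (.node 27974981 (.leaf 27974981 0) (.leaf
  150451621 0)))) (.node 39772561 (.node 39772561 (.node 161617121 (.leaf 161617121 0) (.leaf 173392861 0)) (.node
  39772561 (.leaf 185800681 0) (.leaf 39772561 0))) (.node 212601841 (.node 212601841 (.leaf 212601841 0) (.leaf 227040781
  0)) (.node 242203001 (.leaf 242203001 0) (.leaf 258112261 0))))))) (.node 54958541 (.node 54958541 (.node 54958541
  (.node 54958541 (.node 54958541 (.node 54958541 (.leaf 54958541 0) (.leaf 292268861 0)) (.node 310565641 (.leaf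
  310565641 0) (.leaf 329708341 0))) (.node 74126921 (.node 74126921 (.leaf 349722641 0) (.leaf 74126921 0)) (.node
  392470681 (.leaf 392470681 0) (.leaf 415257701 0)))) (.node 97919701 (.node 97919701 (.node 439022881 (.leaf 439022881
  0) (.leaf 463793821 0)) (.node 97919701 (.leaf 97919701 0) (.leaf 516465301 0))) (.node 127026881 (.node 544422961
  (.leaf 544422961 0) (.leaf 573500621 0)) (.node 127026881 (.leaf 603727801 0) (.leaf 127026881 0))))) (.node 162186461
  (.node 162186461 (.node 667750721 (.node 667750721 (.leaf 667750721 0) (.leaf 701607421 0)) (.node 736735561 (.leaf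
  736735561 0) (.leaf 773166581 0))) (.node 162186461 (.node 162186461 (.leaf 162186461 0) (.leaf 850064941 0)) (.node
  890597081 (.leaf 890597081 0) (.leaf 932561701 0)))) (.node 204184441 (.node 204184441 (.node 204184441 (.leaf 975992161
  0) (.leaf 204184441 0)) (.node 1067385961 (.leaf 1067385961 0) (.leaf 1115417941 0))) (.node 253854821 (.node 1165053041
  (.leaf 1165053041 0) (.leaf 1216326541 0)) (.node 253854821 (.leaf 253854821 0) (.leaf 1323931781 0)))))) (.node
  312079601 (.node 312079601 (.node 312079601 (.node 312079601 (.node 1380336001 (.leaf 1380336001 0) (.leaf 1438523581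
  0)) (.node 312079601 (.leaf 1498531721 0) (.leaf 312079601 0))) (.node 1624160401 (.node 1624160401 (.leaf 1624160401 0)
  (.leaf 1689857261 0)) (.node 1757527321 (.leaf 1757527321 0) (.leaf 1827209701 0)))) (.node 379788781 (.node 379788781
  (.node 379788781 (.leaf 379788781 0) (.leaf 1972769821 0)) (.node 2048727721 (.leaf 2048727721 0) (.leaf 2126858261 0)))
  (.node 457960361 (.node 457960361 (.leaf 2207202481 0) (.leaf 457960361 0)) (.node 2374698041 (.leaf 2374698041 0)
  (.leaf 2461933381 0))))) (.node 547620341 (.node 547620341 (.node 547620341 (.node 2551550401 (.leaf 2551550401 0)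
  (.leaf 2643592061 0)) (.node 547620341 (.leaf 547620341 0) (.leaf 2835123061 0))) (.node 649842721 (.node 2934700241
  (.leaf 2934700241 0) (.leaf 3036877741 0)) (.node 649842721 (.leaf 3141700441 0) (.leaf 649842721 0)))) (.node 765749501
  (.node 3359462881 (.node 3359462881 (.leaf 3359462881 0) (.leaf 3472494301 0)) (.node 3588354281 (.leaf 3588354281 0)
  (.leaf 3707089621 0))) (.node 765749501 (.node 765749501 (.leaf 765749501 0) (.leaf 3953375501 0)) (.node 4081021561
  (.leaf 4081021561 0) (.leaf 4211734021 0))))))))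

theorem rel5 : (nd tree5 && rel tree5 m5) = true := by decide +kernel

theorem rel6 : (nd tree6 && rel tree6 m6) = true := by decide +kernel

end Fa

theorem tab5_run : tab5.all (fun p => lp 640 tree5 p.1 (p.2 - 1)) = true := Fa.tab_of Fa.rel5 good5 (by decide +kernel)

theorem tab6_run : tab6.all (fun p => lp 162560 tree6 p.1 (p.2 - 1)) = true := Fa.tab_of Fa.rel6 good6 (by decide +kernel)

theorem mem5 : ∀ c < 3, ∀ k < 127, tree5.mem c (2 * k + 3) = true := Fa.mem_of (b := 0) (by decide +kernel)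

theorem mem6 : ∀ c < 2, ∀ k < 127, tree6.mem (c + 3) (2 * k + 3) = true := Fa.mem_of (by decide +kernel)

theorem rat5 : ∀ c < 3, ∀ k < 127, MM c (2 * k + 3) ≤ 640 * KK c (2 * k + 3) ∧
    MN c (2 * k + 3) ≤ 640 * KK c (2 * k + 3) ∧ MM c (2 * k + 3) ≤ 541216080128 ∧ MN c (2 * k + 3) ≤ 541216080128 ∧
    0 < MM c (2 * k + 3) ∧ 0 < KK c (2 * k + 3) := by decide +kernel

theorem rat6 : ∀ c < 2, ∀ k < 127, MM (c + 3) (2 * k + 3) ≤ 162560 * KK (c + 3) (2 * k + 3) ∧
    MM (c + 3) (2 * k + 3) ≤ 137470998445313 ∧ 0 < MM (c + 3) (2 * k + 3) ∧ 0 < KK (c + 3) (2 * k + 3) := by decide +kernel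

end Cfsg.Agent.R2.Spec.SD
end

-- part: R2/Spec/SD/Run3
section
/-!
# Small ranks (helper10): the finite search in rank three
-/

set_option autoImplicit false

namespace Cfsg.Agent.R2.Spec.SD

theorem run3 : lp3 640 tree5 10950 5350 = true := Fa.lp3_of Fa.rel5 good5 (by decide +kernel)

theorem Fa.run1 : lp3 640 tree5 0 5600 = true := Fa.lp3_of Fa.rel5 good5 (by decide +kernel)

theorem Fa.run2 : lp3 640 tree5 5600 5350 = true := Fa.lp3_of Fa.rel5 good5 (by decide +kernel)

end Cfsg.Agent.R2.Spec.SD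
end
end

-- part: R2/Spec/SD/Srch
section
set_option linter.all false
open scoped Cfsg.Agent.FastGrp

-- part: R2/Spec/SD/Run1
section
/-!
# Small ranks (helper10): the finite search in rank three
-/

set_option autoImplicit false

namespace Cfsg.Agent.R2.Spec.SD

theorem run1 : lp3 640 tree5 0 5600 = true := Fa.run1

end Cfsg.Agent.R2.Spec.SD
end

-- part: R2/Spec/SD/Srch
section
/-!
# Small ranks (helper10): the finite search, soundness

`small5`, `small6` : for `q` odd, `3 ≤ q < 256`, `u` prime to `q`, no isolated number `P` of `S` is a multiple of the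
primitive part `KK c q` and a divisor of the isolated number `MM c q` (or `MN c q`) of `L`, except `q = 3`, `P = 41`,
`u = 4`.
-/

set_option autoImplicit false

namespace Cfsg.Agent.R2.Spec.SD

theorem PT.all_of_mem {g : ℕ → ℕ → Bool} {c q : ℕ} : ∀ {t : PT}, t.all g = true → t.mem c q = true → g c q = true
  | .leaf c' q', h1, h2 => by
    simp only [PT.mem, Bool.and_eq_true] at h2
    obtain ⟨e1, e2⟩ := h2
    rw [Nat.eq_of_beq_eq_true e1, Nat.eq_of_beq_eq_true e2]
    exact h1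
  | .node n l r, h1, h2 => by
    simp only [PT.all, Bool.and_eq_true] at h1
    simp only [PT.mem, Bool.or_eq_true] at h2
    rcases h2 with h2 | h2
    · exact PT.all_of_mem h1.1 h2
    · exact PT.all_of_mem h1.2 h2

/-- a leaf which is reached -/
theorem PT.ok_lf {R u P c q : ℕ} (hP : 0 < P) (hK : KK c q ∣ P) (hR : P ≤ R * KK c q) :
    ∀ {t : PT}, t.good = true → t.mem c q = true → t.ok R u P = true → lf u P c q = true
  | .leaf c' q', _, h2, h3 => by
    simp only [PT.mem, Bool.and_eq_true] at h2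
    obtain ⟨e1, e2⟩ := h2
    rw [Nat.eq_of_beq_eq_true e1, Nat.eq_of_beq_eq_true e2]
    exact h3
  | .node n l r, h1, h2, h3 => by
    simp only [PT.good, Bool.and_eq_true] at h1
    obtain ⟨⟨⟨g1, g2⟩, g3⟩, g4⟩ := h1
    simp only [PT.mem, Bool.or_eq_true] at h2
    simp only [PT.ok, Bool.or_eq_true, Bool.and_eq_true] at h3
    have hn : KK c q ∣ n := by
      have h4 : Nat.beq (n % KK c q) 0 = true := by
        rcases h2 with h2 | h2
        · exact PT.all_of_mem (g := fun c q => Nat.beq (n % KK c q) 0) g1 h2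
        · exact PT.all_of_mem (g := fun c q => Nat.beq (n % KK c q) 0) g2 h2
      exact Nat.dvd_of_mod_eq_zero (Nat.eq_of_beq_eq_true h4)
    rcases h3 with h3 | ⟨h3, h4⟩
    · exfalso
      have h5 : R * Nat.gcd P n < P := by rwa [Nat.blt_eq] at h3
      have h6 := Nat.le_of_dvd (Nat.gcd_pos_of_pos_left n hP) (Nat.dvd_gcd hK hn)
      have h7 := Nat.mul_le_mul_left R h6
      omega
    · rcases h2 with h2 | h2
      · exact PT.ok_lf hP hK hR g3 h2 h3
      · exact PT.ok_lf hP hK hR g4 h2 h4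

/-- what a leaf says -/
theorem lf_spec {u P c q : ℕ} (h : lf u P c q = true) (hK : KK c q ∣ P)
    (hM : P ∣ MM c q ∨ (MN c q ≠ 0 ∧ P ∣ MN c q)) (hc : Nat.Coprime u q) : q = 3 ∧ P = 41 ∧ u = 4 := by
  have h1 : P % KK c q = 0 := Nat.mod_eq_zero_of_dvd hK
  have h2 : Nat.gcd u q = 1 := hc
  simp only [lf, h1, h2, Bool.or_eq_true, Bool.and_eq_true, bne_self_eq_false, Bool.false_eq_true, false_or,
    or_false] at h
  rcases h with ⟨h3, h4⟩ | ⟨⟨h3, h4⟩, h5⟩
  · exfalso
    rcases hM with hM | ⟨hM0, hM⟩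
    · rw [Nat.mod_eq_zero_of_dvd hM] at h3
      simp at h3
    · rw [Nat.mod_eq_zero_of_dvd hM] at h4
      rcases h4 with h4 | h4
      · exact hM0 (Nat.eq_of_beq_eq_true h4)
      · simp at h4
  · exact ⟨Nat.eq_of_beq_eq_true h3, Nat.eq_of_beq_eq_true h4, Nat.eq_of_beq_eq_true h5⟩

theorem lp_mem {R d : ℕ} {t : PT} : ∀ {n u P : ℕ}, lp R t d n = true → 2 ≤ u → u ≤ n + 1 → P ∈ V d u →
    t.ok R u P = true
  | 0, u, P, _, h2, h3, _ => by omega
  | n + 1, u, P, h1, h2, h3, h4 => by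
    simp only [lp, Bool.and_eq_true, List.all_eq_true] at h1
    by_cases h5 : u = n + 2
    · subst h5
      exact h1.1 P h4
    · exact lp_mem h1.2 h2 (by omega) h4

theorem lp3_mem {R s : ℕ} {t : PT} : ∀ {n u P : ℕ}, lp3 R t s n = true → 2 + s ≤ u → u ≤ n + 1 + s → P ∈ V3 u →
    t.ok R u P = true
  | 0, u, P, _, h2, h3, _ => by omega
  | n + 1, u, P, h1, h2, h3, h4 => by
    simp only [lp3, Bool.and_eq_true, List.all_eq_true] at h1
    by_cases h5 : u = n + 2 + s
    · subst h5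
      exact h1.1 P h4
    · exact lp3_mem h1.2 h2 (by omega) h4

theorem two_pow_large {M : ℕ} {d0 : ℕ} (h0 : 2 * (d0 + 1) * M < 2 ^ d0) : ∀ {d : ℕ}, d0 ≤ d → 1 ≤ d0 →
    2 * (d + 1) * M < 2 ^ d := by
  intro d hd hd0
  induction d, hd using Nat.le_induction with
  | base => exact h0
  | succ n hn ih =>
    have h1 : 2 * (n + 1 + 1) * M ≤ 2 * (2 * (n + 1) * M) := by
      have : 2 * (n + 1 + 1) * M ≤ (2 * (2 * (n + 1))) * M := Nat.mul_le_mul_right _ (by omega)
      calc 2 * (n + 1 + 1) * M ≤ (2 * (2 * (n + 1))) * M := this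
        _ = _ := by ring
    rw [pow_succ]
    omega

theorem ok_five {d u P : ℕ} (hu : 2 ≤ u) (hd : 4 ≤ d) (hb : u ^ d ≤ 2 * (d + 1) * P) (hP : P ≤ 541216080128)
    (hV : P ∈ V d u) : tree5.ok 640 u P = true := by
  have hb' : u ^ d ≤ 2 * (d + 1) * 541216080128 := hb.trans (Nat.mul_le_mul_left _ hP)
  by_cases h46 : 46 ≤ d
  · exfalso
    have h1 := two_pow_large (M := 541216080128) (d0 := 46) (by norm_num) h46 (by norm_num)
    have h2 := Nat.pow_le_pow_left hu d
    omega
  · have hex : ∀ d < 46, 4 ≤ d → ∃ p ∈ tab5, p.1 = d := by decide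
    obtain ⟨p, hp, rfl⟩ := hex d (by omega) hd
    have h1 := List.all_eq_true.1 tab5_run p hp
    have h2 := List.all_eq_true.1 tab5_bd p hp
    have h3 : 2 * (p.1 + 1) * 541216080128 < (p.2 + 1) ^ p.1 := by rwa [Nat.blt_eq] at h2
    have h4 : u < p.2 + 1 := by
      by_contra hcon
      have := Nat.pow_le_pow_left (show p.2 + 1 ≤ u by omega) p.1
      omega
    exact lp_mem h1 hu (by omega) hV

theorem ok_three {u P : ℕ} (hu : 2 ≤ u) (hb : u ^ 3 ≤ 8 * P) (hP : P ≤ 541216080128)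
    (hV : P ∈ V3 u) : tree5.ok 640 u P = true := by
  have h4 : u < 16299 := by
    by_contra hcon
    have := Nat.pow_le_pow_left (show 16299 ≤ u by omega) 3
    omega
  by_cases h1 : u ≤ 5601
  · exact lp3_mem run1 (by omega) (by omega) hV
  · by_cases h2 : u ≤ 10951
    · exact lp3_mem Fa.run2 (by omega) (by omega) hV
    · exact lp3_mem run3 (by omega) (by omega) hV

theorem ok_six {d u P : ℕ} (hu : 2 ≤ u) (hd : 5 ≤ d) (hb : u ^ d ≤ 2 * (d + 1) * P) (hP : P ≤ 137470998445313)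
    (hV : P ∈ V d u) : tree6.ok 162560 u P = true := by
  have hb' : u ^ d ≤ 2 * (d + 1) * 137470998445313 := hb.trans (Nat.mul_le_mul_left _ hP)
  by_cases h46 : 54 ≤ d
  · exfalso
    have h1 := two_pow_large (M := 137470998445313) (d0 := 54) (by norm_num) h46 (by norm_num)
    have h2 := Nat.pow_le_pow_left hu d
    omega
  · have hex : ∀ d < 54, 5 ≤ d → ∃ p ∈ tab6, p.1 = d := by decide
    obtain ⟨p, hp, rfl⟩ := hex d (by omega) hd
    have h1 := List.all_eq_true.1 tab6_run p hp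
    have h2 := List.all_eq_true.1 tab6_bd p hp
    have h3 : 2 * (p.1 + 1) * 137470998445313 < (p.2 + 1) ^ p.1 := by rwa [Nat.blt_eq] at h2
    have h4 : u < p.2 + 1 := by
      by_contra hcon
      have := Nat.pow_le_pow_left (show p.2 + 1 ≤ u by omega) p.1
      omega
    exact lp_mem h1 hu (by omega) hV

/-- the values of the isolated numbers of `S` -/
def Val (u P : ℕ) : Prop :=
  (∃ d, 4 ≤ d ∧ P ∈ V d u ∧ u ^ d ≤ 2 * (d + 1) * P) ∨ (P ∈ V3 u ∧ u ^ 3 ≤ 8 * P)

/-- the values of the isolated numbers of `S`, degree at least five -/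
def Val5 (u P : ℕ) : Prop := ∃ d, 5 ≤ d ∧ P ∈ V d u ∧ u ^ d ≤ 2 * (d + 1) * P

/-- **The finite search, dimension five.** -/
theorem small5 {c q u P : ℕ} (hc : c < 3) (hq3 : 3 ≤ q) (hq2 : q % 2 = 1) (hq : q < 256) (hu : 2 ≤ u)
    (hco : Nat.Coprime u q) (hV : Val u P) (hK : KK c q ∣ P) (hM : P ∣ MM c q ∨ (MN c q ≠ 0 ∧ P ∣ MN c q)) :
    q = 3 ∧ P = 41 ∧ u = 4 := by
  obtain ⟨k, rfl⟩ : ∃ k, q = 2 * k + 3 := ⟨(q - 3) / 2, by omega⟩
  obtain ⟨r1, r2, r3, r4, r5, r6⟩ := rat5 c hc k (by omega)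
  have hP0 : 0 < P := by
    rcases hM with hM | ⟨h0, hM⟩
    · exact Nat.pos_of_dvd_of_pos hM r5
    · exact Nat.pos_of_dvd_of_pos hM (Nat.pos_of_ne_zero h0)
  have hPR : P ≤ 640 * KK c (2 * k + 3) ∧ P ≤ 541216080128 := by
    rcases hM with hM | ⟨h0, hM⟩
    · have := Nat.le_of_dvd r5 hM
      omega
    · have := Nat.le_of_dvd (Nat.pos_of_ne_zero h0) hM
      omega
  have hok : tree5.ok 640 u P = true := by
    rcases hV with ⟨d, hd, h1, h2⟩ | ⟨h1, h2⟩
    · exact ok_five hu hd h2 hPR.2 h1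
    · exact ok_three hu h2 hPR.2 h1
  exact lf_spec (PT.ok_lf hP0 hK hPR.1 good5 (mem5 c hc k (by omega)) hok) hK hM hco

/-- **The finite search, dimension six.** -/
theorem small6 {c q u P : ℕ} (hc : c < 2) (hq3 : 3 ≤ q) (hq2 : q % 2 = 1) (hq : q < 256) (hu : 2 ≤ u)
    (hco : Nat.Coprime u q) (hV : Val5 u P) (hK : KK (c + 3) q ∣ P) (hM : P ∣ MM (c + 3) q) :
    q = 3 ∧ P = 41 ∧ u = 4 := by
  obtain ⟨k, rfl⟩ : ∃ k, q = 2 * k + 3 := ⟨(q - 3) / 2, by omega⟩
  obtain ⟨r1, r2, r5, r6⟩ := rat6 c hc k (by omega)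
  have hP0 : 0 < P := Nat.pos_of_dvd_of_pos hM r5
  have hPR := Nat.le_of_dvd r5 hM
  have hok : tree6.ok 162560 u P = true := by
    obtain ⟨d, hd, h1, h2⟩ := hV
    exact ok_six hu hd h2 (by omega) h1
  exact lf_spec (PT.ok_lf hP0 hK (by omega) good6 (mem6 c hc k (by omega)) hok) hK (Or.inl hM) hco

end Cfsg.Agent.R2.Spec.SD
end

private theorem dce_b59a8d76c69a : _root_.True := by
  try have : _root_.True := by simp only [_root_.Cfsg.Agent.R2.Spec.SD.PT.good.eq_1]
  try have : _root_.True := by simp only [_root_.Cfsg.Agent.R2.Spec.SD.PT.mem.eq_def]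
  try have : _root_.True := by simp only [_root_.Cfsg.Agent.R2.Spec.SD.lp3.eq_1]
  try have : _root_.True := by simp only [_root_.Cfsg.Agent.R2.Spec.SD.lp.eq_1]
  try have : _root_.True := by simp only [_root_.Cfsg.Agent.R2.Spec.SD.lp.eq_def]
  try have : _root_.True := by simp only [_root_.Cfsg.Agent.R2.Spec.SD.PT.all.eq_def]
  try have : _root_.True := by simp only [_root_.Cfsg.Agent.R2.Spec.SD.PT.ok.eq_1]
  try have : _root_.True := by simp only [_root_.Cfsg.Agent.R2.Spec.SD.PT.ok.eq_2]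
  try have : _root_.True := by simp only [_root_.Cfsg.Agent.R2.Spec.SD.PT.good.eq_def]
  try have : _root_.True := by simp only [_root_.Cfsg.Agent.R2.Spec.SD.lp3.eq_2]
  try have : _root_.True := by simp only [_root_.Cfsg.Agent.R2.Spec.SD.PT.good.eq_2]
  try have : _root_.True := by simp only [_root_.Cfsg.Agent.R2.Spec.SD.PT.ok.eq_def]
  try have : _root_.True := by simp only [_root_.Cfsg.Agent.R2.Spec.SD.PT.all.eq_1]
  try have : _root_.True := by simp only [_root_.Cfsg.Agent.R2.Spec.SD.PT.all.eq_2]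
  try have : _root_.True := by simp only [_root_.Cfsg.Agent.R2.Spec.SD.lp.eq_2]
  try have : _root_.True := by simp only [_root_.Cfsg.Agent.R2.Spec.SD.lf.eq_1]
  try have : _root_.True := by simp only [_root_.Cfsg.Agent.R2.Spec.SD.lp3.eq_def]
  try have : _root_.True := by simp only [_root_.Cfsg.Agent.R2.Spec.SD.PT.mem.eq_1]
  try have : _root_.True := by simp only [_root_.Cfsg.Agent.R2.Spec.SD.PT.mem.eq_2]
  exact _root_.True.intro
end

-- part: R2/Spec/X7/N6/SChk
section
prune_inst 0x401007044000002000818000260001e4682000532000b8801594003080e86de6320812e21f8f01b1293fcb2e5787bc048110001d9021000002000b600411b00a084af6ee2f7fdbf0cbf008fc0f807580c00000000020000000000000000041004000000000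
set_option linter.all false
open scoped Cfsg.Agent.FastGrp

/-!
# S3435, box X7, `n = 6`, packet N6-S (helper8): finite checks
-/

set_option autoImplicit false

namespace Cfsg.Agent.R2.Spec.X7.N6

/-- `M` divides none of `u ^ 2 + u + 1`, `u ^ 2 - u + 1`, `u ^ 2 - 1` -/
def okA (M u : ℕ) : Bool := (u ^ 2 + u + 1) % M != 0 && (u ^ 2 - u + 1) % M != 0 && (u ^ 2 - 1) % M != 0

/-- `M` divides none of `u (u + 1)`, `u (u - 1)` -/
def okB (M u : ℕ) : Bool := (u * (u + 1)) % M != 0 && (u * (u - 1)) % M != 0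

/-- the range `2 ≤ u < b` -/
def okR (f : ℕ → Bool) (b : ℕ) : Bool := (List.range b).all fun u => Nat.ble u 1 || f u

theorem okR_spec {f : ℕ → Bool} {b : ℕ} (h : okR f b = true) {u : ℕ} (h2 : 2 ≤ u) (hb : u < b) : f u = true := by
  have h1 := List.all_eq_true.1 h u (List.mem_range.2 hb)
  rcases Bool.or_eq_true_iff.1 h1 with h3 | h3
  · have := Nat.le_of_ble_eq_true h3
    omega
  · exact h3

theorem okA_spec {M u : ℕ} (h : okA M u = true) :
    ¬ M ∣ u ^ 2 + u + 1 ∧ ¬ M ∣ u ^ 2 - u + 1 ∧ ¬ M ∣ u ^ 2 - 1 := by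
  have h1 := Bool.and_eq_true_iff.1 h
  have h2 := Bool.and_eq_true_iff.1 h1.1
  have e : ∀ n : ℕ, (n % M != 0) = true → ¬ M ∣ n := fun n hn hd => by
    rw [Nat.mod_eq_zero_of_dvd hd] at hn
    exact absurd hn (by decide)
  exact ⟨e _ h2.1, e _ h2.2, e _ h1.2⟩

theorem okB_spec {M u : ℕ} (h : okB M u = true) : ¬ M ∣ u * (u + 1) ∧ ¬ M ∣ u * (u - 1) := by
  have h1 := Bool.and_eq_true_iff.1 h
  have e : ∀ n : ℕ, (n % M != 0) = true → ¬ M ∣ n := fun n hn hd => by
    rw [Nat.mod_eq_zero_of_dvd hd] at hn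
    exact absurd hn (by decide)
  exact ⟨e _ h1.1, e _ h1.2⟩

theorem okA_1181 : okR (okA 1181) 260 = true := by decide +kernel
theorem okA_3221 : okR (okA 3221) 260 = true := by decide +kernel
theorem okA_24761 : okR (okA 24761) 260 = true := by decide +kernel
theorem okA_40841 : okR (okA 40841) 260 = true := by decide +kernel
theorem okA_121 : okR (okA 121) 18 = true := by decide +kernel
theorem okA_61 : okR (fun u => u == 13 || (u == 14 || okA 61 u)) 18 = true := by decide +kernel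

theorem okB_all : (okR (okB 1181) 850 && okR (okB 3221) 850 && okR (okB 24761) 850 && okR (okB 40841) 850 &&
    okR (okB 136741) 850 && okR (okB 190861) 850 && okR (okB 451121) 850 && okR (okB 579281) 850) = true := by
  decide +kernel

theorem okB_small : (okR (okB 121) 32 && okR (okB 61) 32 && okR (okB 781) 32 && okR (okB 521) 32) = true := by
  decide +kernel

/-- `M ∤ u ^ 2 ± u + 1, u ^ 2 - 1` -/
theorem chk_a {M u : ℕ} (hM : M = 1181 ∨ M = 3221 ∨ M = 24761 ∨ M = 40841) (h2 : 2 ≤ u) (hu : u < 260) :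
    ¬ M ∣ u ^ 2 + u + 1 ∧ ¬ M ∣ u ^ 2 - u + 1 ∧ ¬ M ∣ u ^ 2 - 1 := by
  rcases hM with rfl | rfl | rfl | rfl
  · exact okA_spec (okR_spec okA_1181 h2 hu)
  · exact okA_spec (okR_spec okA_3221 h2 hu)
  · exact okA_spec (okR_spec okA_24761 h2 hu)
  · exact okA_spec (okR_spec okA_40841 h2 hu)

theorem chk_a3 {M u : ℕ} (hM : M = 121 ∨ M = 61) (h2 : 2 ≤ u) (hu : u < 18) :
    (M = 61 ∧ u = 13) ∨ (M = 61 ∧ u = 14) ∨ (¬ M ∣ u ^ 2 + u + 1 ∧ ¬ M ∣ u ^ 2 - u + 1 ∧ ¬ M ∣ u ^ 2 - 1) := by
  rcases hM with rfl | rfl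
  · exact Or.inr (Or.inr (okA_spec (okR_spec okA_121 h2 hu)))
  · have h1 := okR_spec okA_61 h2 hu
    rcases Bool.or_eq_true_iff.1 h1 with h3 | h3
    · exact Or.inl ⟨rfl, by simpa using h3⟩
    · rcases Bool.or_eq_true_iff.1 h3 with h4 | h4
      · exact Or.inr (Or.inl ⟨rfl, by simpa using h4⟩)
      · exact Or.inr (Or.inr (okA_spec h4))

/-- `M ∤ u (u ± 1)` -/
theorem chk_b {M u : ℕ} (hM : M = 1181 ∨ M = 3221 ∨ M = 24761 ∨ M = 40841 ∨ M = 136741 ∨ M = 190861 ∨ M = 451121 ∨
    M = 579281) (h2 : 2 ≤ u) (hu : u < 850) : ¬ M ∣ u * (u + 1) ∧ ¬ M ∣ u * (u - 1) := by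
  have h0 := okB_all
  simp only [Bool.and_eq_true] at h0
  obtain ⟨⟨⟨⟨⟨⟨⟨h1, h3⟩, h4⟩, h5⟩, h6⟩, h7⟩, h8⟩, h9⟩ := h0
  rcases hM with rfl | rfl | rfl | rfl | rfl | rfl | rfl | rfl
  · exact okB_spec (okR_spec h1 h2 hu)
  · exact okB_spec (okR_spec h3 h2 hu)
  · exact okB_spec (okR_spec h4 h2 hu)
  · exact okB_spec (okR_spec h5 h2 hu)
  · exact okB_spec (okR_spec h6 h2 hu)
  · exact okB_spec (okR_spec h7 h2 hu)
  · exact okB_spec (okR_spec h8 h2 hu)
  · exact okB_spec (okR_spec h9 h2 hu)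

theorem chk_b3 {M u : ℕ} (hM : M = 121 ∨ M = 61 ∨ M = 781 ∨ M = 521) (h2 : 2 ≤ u) (hu : u < 32) :
    ¬ M ∣ u * (u + 1) ∧ ¬ M ∣ u * (u - 1) := by
  have h0 := okB_small
  simp only [Bool.and_eq_true] at h0
  obtain ⟨⟨⟨h1, h3⟩, h4⟩, h5⟩ := h0
  rcases hM with rfl | rfl | rfl | rfl
  · exact okB_spec (okR_spec h1 h2 hu)
  · exact okB_spec (okR_spec h3 h2 hu)
  · exact okB_spec (okR_spec h4 h2 hu)
  · exact okB_spec (okR_spec h5 h2 hu)

end Cfsg.Agent.R2.Spec.X7.N6
end

-- part: R2/Spec/EE/ReeNum2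
section
prune_inst 0x4010070440000020000180002200002040000053200008801584003080a46d2622084280148a01912122c929138010000000000d000100000000034000003002080ad0e02f5d90e0c8e008f803007580c00000000020000000000000000041004000000000
set_option linter.all false
open scoped Cfsg.Agent.FastGrp

-- part: R2/Spec/EE/ReeNum
section
/-!
# The Ree groups against the isolated classes: numbers (helper29)

`3 u = w ^ 2`, the four numbers `u - 1`, `u + 1`, `u + w + 1`, `u - w + 1`.
-/

set_option autoImplicit false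

namespace Cfsg.Agent.R2.Spec.EE.ReeNum

/-- one of the four numbers -/
def RX (u w X : ℤ) : Prop := X = u - 1 ∨ X = u + 1 ∨ X = u + w + 1 ∨ X = u - w + 1

theorem RX.size {u w X : ℤ} (h : RX u w X) (hw : 9 ≤ w) (hu : 3 * u = w ^ 2) : 2 * w ^ 2 ≤ 9 * X ∧ 2 * X ≤ w ^ 2 := by
  have h1 : 0 ≤ w * (w - 9) := mul_nonneg (by omega) (by omega)
  have h2 : w * (w - 9) = 3 * u - 9 * w := by rw [hu]; ring
  rcases h with rfl | rfl | rfl | rfl <;> constructor <;> rw [← hu] <;> linarith

theorem RX.diff {u w X Y : ℤ} (h : RX u w X) (h' : RX u w Y) (hw : 9 ≤ w) : |Y - X| ≤ 2 * w := by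
  rw [abs_le]
  rcases h with rfl | rfl | rfl | rfl <;> rcases h' with rfl | rfl | rfl | rfl <;> constructor <;> linarith only [hw]

/-- the bracket -/
theorem brk {u w X Y Z a h P b B : ℤ} (hX : RX u w X) (hY : RX u w Y) (hw : 9 ≤ w) (hu : 3 * u = w ^ 2)
    (hZ : Z ≠ 0) (ha : 0 ≤ a) (hh : 0 ≤ h) (hP : h * Y = P) (he : X * Z = a * h * (Y - X) + b ∨ X * Z = -(a * h * (Y - X)) + b)
    (hb : |b| ≤ B) : 2 * w ^ 3 ≤ 81 * (a * P) + 9 * B * w := by
  have hd := hX.diff hY hw
  obtain ⟨x1, -⟩ := hX.size hw hu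
  obtain ⟨y1, -⟩ := hY.size hw hu
  have hX0 : 0 < X := by nlinarith only [hw, x1]
  have h1 : X ≤ |X * Z| := by
    rw [abs_mul, abs_of_pos hX0]
    exact le_mul_of_one_le_right hX0.le (Int.one_le_abs hZ)
  have h2 : |X * Z| ≤ a * h * (2 * w) + B := by
    have h3 : |a * h * (Y - X)| ≤ a * h * (2 * w) := by
      rw [abs_mul, abs_of_nonneg (mul_nonneg ha hh)]
      exact mul_le_mul_of_nonneg_left hd (mul_nonneg ha hh)
    rcases he with he | he
    · rw [he]
      exact (abs_add_le _ _).trans (add_le_add h3 hb)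
    · rw [he]
      refine (abs_add_le _ _).trans (add_le_add ?_ hb)
      rw [abs_neg]
      exact h3
  have h3 : h * (2 * w ^ 2) ≤ 9 * P := by
    rw [← hP]
    nlinarith only [hh, y1]
  have h4 : a * (h * (2 * w ^ 2)) ≤ a * (9 * P) := mul_le_mul_of_nonneg_left h3 ha
  have h5 : 2 * w ^ 2 ≤ 9 * (a * h * (2 * w) + B) := by linarith
  have h6 : 2 * w ^ 2 * w ≤ 9 * (a * h * (2 * w) + B) * w := mul_le_mul_of_nonneg_right h5 (by omega)
  linarith only [h4, h6]

/-- `L_8`, `U_8` : large `q` -/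
theorem big8 {q w a P B : ℤ} (hq : 1200 ≤ q) (hw : 9 ≤ w) (hc : 2 * w ^ 3 ≤ 81 * (a * P) + 9 * B * w)
    (hP : a * P ≤ 2 * q ^ 8) (hB : B ≤ 2 * (q + 1)) (hs : 4 * q ^ 6 ≤ 21 * w ^ 2) : False := by
  have hq6 : (378 : ℤ) * (q + 1) ≤ q ^ 6 := by
    have h1 : (1200 : ℤ) ^ 5 ≤ q ^ 5 := pow_le_pow_left₀ (by norm_num) hq 5
    have h2 : q ^ 6 = q ^ 5 * q := by ring
    rw [h2]
    nlinarith only [hq, h1]
  have h1 : 42 * w ^ 3 ≤ 3402 * q ^ 8 + 378 * (q + 1) * w := by nlinarith only [hw, hc, hP, hB]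
  have h2 : 8 * q ^ 6 * w ≤ 42 * w ^ 3 := by
    have := mul_le_mul_of_nonneg_right hs (show (0 : ℤ) ≤ 2 * w by omega)
    linarith only [this]
  have h3 : 378 * (q + 1) * w ≤ q ^ 6 * w := mul_le_mul_of_nonneg_right hq6 (by omega)
  have h4 : 7 * q ^ 6 * w ≤ 3402 * q ^ 8 := by linarith
  have h5 : w ≤ 486 * q ^ 2 := by
    have h6 : q ^ 6 * (7 * w) ≤ q ^ 6 * (3402 * q ^ 2) := by
      have : q ^ 6 * (3402 * q ^ 2) = 3402 * q ^ 8 := by ring
      rw [this]; linarith
    have := le_of_mul_le_mul_left h6 (by positivity)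
    linarith
  have h6 : w ^ 2 ≤ (486 * q ^ 2) ^ 2 := pow_le_pow_left₀ (by omega) h5 2
  have h7 : q ^ 4 * (4 * q ^ 2) ≤ q ^ 4 * (21 * 486 ^ 2) := by
    have e1 : q ^ 4 * (4 * q ^ 2) = 4 * q ^ 6 := by ring
    have e2 : q ^ 4 * (21 * 486 ^ 2) = 21 * (486 * q ^ 2) ^ 2 := by ring
    rw [e1, e2]; linarith
  have h8 := le_of_mul_le_mul_left h7 (by positivity)
  nlinarith only [hq, h8]

/-- `PΩ⁺₁₂` : large `q` -/
theorem big6 {q w a P B : ℤ} (hq : 500 ≤ q) (hw : 9 ≤ w) (hc : 2 * w ^ 3 ≤ 81 * (a * P) + 9 * B * w)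
    (hP : a * P ≤ 2 * (q ^ 5 + 1)) (hB : B ≤ 4) (hs : 2 * q ^ 4 ≤ 5 * w ^ 2) : False := by
  have hq4 : (180 : ℤ) ≤ q ^ 4 := by
    have h1 : (500 : ℤ) ^ 4 ≤ q ^ 4 := pow_le_pow_left₀ (by norm_num) hq 4
    linarith
  have h1 : 10 * w ^ 3 ≤ 810 * (q ^ 5 + 1) + 180 * w := by nlinarith only [hw, hc, hP, hB]
  have h2 : 4 * q ^ 4 * w ≤ 10 * w ^ 3 := by
    have := mul_le_mul_of_nonneg_right hs (show (0 : ℤ) ≤ 2 * w by omega)
    linarith only [this]
  have h3 : 180 * w ≤ q ^ 4 * w := mul_le_mul_of_nonneg_right hq4 (by omega)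
  have hq5 : (810 : ℤ) ≤ q ^ 5 := by
    have h1 : (500 : ℤ) ^ 5 ≤ q ^ 5 := pow_le_pow_left₀ (by norm_num) hq 5
    linarith
  have h4 : 3 * q ^ 4 * w ≤ 811 * q ^ 5 := by linarith
  have h5 : 3 * w ≤ 811 * q := by
    have h6 : q ^ 4 * (3 * w) ≤ q ^ 4 * (811 * q) := by
      have : q ^ 4 * (811 * q) = 811 * q ^ 5 := by ring
      rw [this]; linarith
    exact le_of_mul_le_mul_left h6 (by positivity)
  have h6 : (3 * w) ^ 2 ≤ (811 * q) ^ 2 := pow_le_pow_left₀ (by omega) h5 2
  have h7 : q ^ 2 * (18 * q ^ 2) ≤ q ^ 2 * (5 * 811 ^ 2) := by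
    have e1 : q ^ 2 * (18 * q ^ 2) = 18 * q ^ 4 := by ring
    have e2 : q ^ 2 * (5 * 811 ^ 2) = 5 * (811 * q) ^ 2 := by ring
    rw [e1, e2]; linarith only [hs, h6]
  have h8 := le_of_mul_le_mul_left h7 (by positivity)
  nlinarith only [hq, h8]

/-- `PΩ^±₁₀` : the bound of `w` -/
theorem bound5 {q w a P B : ℤ} (hq : 5 ≤ q) (hc : 2 * w ^ 3 ≤ 81 * (a * P) + 9 * B * w)
    (hP : a * P ≤ 2 * (q * (q + 1) * (q ^ 4 + 1))) (hB : B ≤ 2 * (q + 1) ^ 2) : w < 5 * q ^ 2 := by
  by_contra hcon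
  push_neg at hcon
  have hw : 0 < w := by nlinarith only [hq, hcon]
  have h1 : w * (2 * w ^ 2 - 18 * (q + 1) ^ 2) ≤ 162 * (q * (q + 1) * (q ^ 4 + 1)) := by nlinarith only [hc, hP, hB, hcon]
  have h2 : (5 * q ^ 2) ^ 2 ≤ w ^ 2 := pow_le_pow_left₀ (by positivity) hcon 2
  have h3 : 50 * q ^ 4 - 18 * (q + 1) ^ 2 ≤ 2 * w ^ 2 - 18 * (q + 1) ^ 2 := by linarith only [h2]
  have h4 : 0 ≤ 50 * q ^ 4 - 18 * (q + 1) ^ 2 := by
    have : (q + 1) ^ 2 ≤ (2 * q) ^ 2 := pow_le_pow_left₀ (by omega) (by omega) 2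
    nlinarith only [hq, this]
  have h5 : 5 * q ^ 2 * (50 * q ^ 4 - 18 * (q + 1) ^ 2) ≤ w * (2 * w ^ 2 - 18 * (q + 1) ^ 2) :=
    mul_le_mul hcon h3 h4 hw.le
  have h6 : 5 * q ^ 2 * (50 * q ^ 4 - 18 * (q + 1) ^ 2) ≤ 162 * (q * (q + 1) * (q ^ 4 + 1)) := h5.trans h1
  obtain ⟨d, rfl⟩ : ∃ d, q = d + 5 := ⟨q - 5, by ring⟩
  have hd : 0 ≤ d := by omega
  have : 0 < 5 * (d + 5) ^ 2 * (50 * (d + 5) ^ 4 - 18 * (d + 5 + 1) ^ 2) - 162 * ((d + 5) * (d + 5 + 1) * ((d + 5) ^ 4 + 1)) := by
    ring_nf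
    (clear * - hd; positivity)
  linarith

end Cfsg.Agent.R2.Spec.EE.ReeNum
end

-- part: R2/Spec/EE/ReeNum2
section
/-!
# The Ree groups against the isolated classes: the second bracket and the finite check (helper29)
-/

set_option autoImplicit false

namespace Cfsg.Agent.R2.Spec.EE.ReeNum

/-- the second bracket, `Φ₅(q)` and `q⁴ + 1` -/
theorem second {q w X Y M M' e e' m m' Φ : ℤ} (hq : 200 ≤ q) (hw : 0 ≤ w) (hw5 : w < 5 * q ^ 2) (hX : X = e * M)
    (hY : Y = e' * M') (hM : m * M = Φ) (hM' : m' * M' = q ^ 4 + 1) (hm : 1 ≤ m) (hm5 : m ≤ 5) (hm' : 1 ≤ m') (hm2 : m' ≤ 2)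
    (hd : |Y - X| ≤ 2 * w) (hs : 2 * X ≤ w ^ 2) (hX0 : 0 < X) (hY0 : 0 < Y)
    (hΦ : Φ = q ^ 4 + q ^ 3 + q ^ 2 + q + 1 ∨ Φ = q ^ 4 - q ^ 3 + q ^ 2 - q + 1) : False := by
  have hΦ0 : 0 < Φ := by
    rcases hΦ with h | h <;> rw [h]
    · positivity
    · nlinarith only [hq, pow_pos (show (0:ℤ) < q by omega) 3]
  set A := m' * e with hA
  set B := m * e' with hB
  have e1 : A * Φ = m * m' * X := by rw [hA, hX, ← hM]; ring
  have e2 : B * (q ^ 4 + 1) = m * m' * Y := by rw [hB, hY, ← hM']; ring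
  have hmm : m * m' ≤ 10 := by nlinarith only [hm, hm5, hm2]
  have hmm0 : 0 < m * m' := by positivity
  have hA0 : 0 < A := by
    have : 0 < A * Φ := by rw [e1]; positivity
    exact (pos_iff_pos_of_mul_pos this).2 hΦ0
  have hB0 : 0 < B := by
    have : 0 < B * (q ^ 4 + 1) := by rw [e2]; positivity
    exact (pos_iff_pos_of_mul_pos this).2 (by positivity)
  have hAΦ : A * Φ ≤ 125 * q ^ 4 := by
    have h1 : w ^ 2 ≤ (5 * q ^ 2) ^ 2 := pow_le_pow_left₀ hw hw5.le 2
    have h2 : m * m' * X ≤ 10 * X := mul_le_mul_of_nonneg_right hmm hX0.le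
    rw [e1]
    linarith only [hs, h1, h2]
  have hdiff : |A * Φ - B * (q ^ 4 + 1)| ≤ 100 * q ^ 2 := by
    rw [e1, e2, show m * m' * X - m * m' * Y = -(m * m' * (Y - X)) by ring, abs_neg, abs_mul, abs_of_pos hmm0]
    calc m * m' * |Y - X| ≤ 10 * (2 * w) := mul_le_mul hmm hd (abs_nonneg _) (by norm_num)
      _ ≤ 100 * q ^ 2 := by linarith
  rw [abs_le] at hdiff
  obtain ⟨d1, d2⟩ := hdiff
  have hq2 : (200 : ℤ) * q ≤ q ^ 2 := by nlinarith only [hq]
  have hq3 : 200 * q ^ 2 ≤ q ^ 3 := by nlinarith only [hq]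
  have hq4 : 200 * q ^ 3 ≤ q ^ 4 := by nlinarith only [hq2]
  rcases hΦ with h | h
  · rw [h] at hAΦ d1 d2
    have hA125 : A ≤ 125 := by
      by_contra hcon
      have h3 : 126 * (q ^ 4 + q ^ 3 + q ^ 2 + q + 1) ≤ A * (q ^ 4 + q ^ 3 + q ^ 2 + q + 1) :=
        mul_le_mul_of_nonneg_right (by omega) (by positivity)
      linarith only [hq, hAΦ, hq2, hq3, hq4, h3]
    rcases le_or_gt B A with hBA | hBA
    · have h3 : B * (q ^ 4 + 1) ≤ A * (q ^ 4 + 1) := mul_le_mul_of_nonneg_right hBA (by positivity)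
      have h4 : 1 * (q ^ 3 + q ^ 2 + q) ≤ A * (q ^ 3 + q ^ 2 + q) := mul_le_mul_of_nonneg_right (by omega) (by positivity)
      linarith only [hq, d2, hq2, hq3, h3, h4]
    · have h3 : (A + 1) * (q ^ 4 + 1) ≤ B * (q ^ 4 + 1) := mul_le_mul_of_nonneg_right (by omega) (by positivity)
      have h4 : A * (q ^ 3 + q ^ 2 + q) ≤ 125 * (q ^ 3 + q ^ 2 + q) := mul_le_mul_of_nonneg_right (by omega) (by positivity)
      linarith only [hq, d1, hq2, hq3, hq4, h3, h4]
  · rw [h] at hAΦ d1 d2
    have hA126 : A ≤ 126 := by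
      by_contra hcon
      have h3 : 127 * (q ^ 4 - q ^ 3 + q ^ 2 - q + 1) ≤ A * (q ^ 4 - q ^ 3 + q ^ 2 - q + 1) :=
        mul_le_mul_of_nonneg_right (by omega) (by linarith only [hq, hq2, hq3, hq4])
      linarith only [hq, hAΦ, hq2, hq3, hq4, h3]
    rcases le_or_gt A B with hBA | hBA
    · have h3 : A * (q ^ 4 + 1) ≤ B * (q ^ 4 + 1) := mul_le_mul_of_nonneg_right hBA (by positivity)
      have h4 : 1 * (q ^ 3 - q ^ 2 + q) ≤ A * (q ^ 3 - q ^ 2 + q) := mul_le_mul_of_nonneg_right (by omega) (by linarith only [hq, hq2, hq3])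
      linarith only [hq, d1, hq2, hq3, h3, h4]
    · have h3 : (B + 1) * (q ^ 4 + 1) ≤ A * (q ^ 4 + 1) := mul_le_mul_of_nonneg_right (by omega) (by positivity)
      have h4 : A * (q ^ 3 - q ^ 2 + q) ≤ 126 * (q ^ 3 - q ^ 2 + q) := mul_le_mul_of_nonneg_right (by omega) (by linarith only [hq, hq2, hq3])
      linarith only [hq, d2, hq2, hq3, hq4, h3, h4]

/-! ### the finite check -/

/-- the four numbers, natural numbers, `f = 2 g + 1` -/
def XN (g : ℕ) : ℕ → ℕ
  | 0 => 3 ^ (2 * g + 1) - 1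
  | 1 => 3 ^ (2 * g + 1) + 1
  | 2 => 3 ^ (2 * g + 1) + 3 ^ (g + 1) + 1
  | _ => 3 ^ (2 * g + 1) + 1 - 3 ^ (g + 1)

/-- no number `X` divides `N` with `Ph ≤ l X` -/
def one (N Ph l g : ℕ) : Bool :=
  !((N % XN g 0 == 0) && Nat.ble Ph (l * XN g 0)) && !((N % XN g 1 == 0) && Nat.ble Ph (l * XN g 1)) &&
    !((N % XN g 2 == 0) && Nat.ble Ph (l * XN g 2)) && !((N % XN g 3 == 0) && Nat.ble Ph (l * XN g 3))

def allg (N Ph l : ℕ) : ℕ → Bool
  | 0 => true
  | g + 1 => (Nat.beq g 0 || one N Ph l g) && allg N Ph l g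

def P5 (q : ℕ) : ℕ := q ^ 4 + q ^ 3 + q ^ 2 + q + 1
def P10 (q : ℕ) : ℕ := q ^ 4 + q ^ 2 + 1 - q ^ 3 - q
def P7 (q : ℕ) : ℕ := q ^ 6 + q ^ 5 + q ^ 4 + q ^ 3 + q ^ 2 + q + 1
def P14 (q : ℕ) : ℕ := q ^ 6 + q ^ 4 + q ^ 2 + 1 - q ^ 5 - q ^ 3 - q

/-- the odd `q = 2 x + 3`, `x < n` -/
def allq : ℕ → Bool
  | 0 => true
  | x + 1 => ((2 * x + 3) % 3 == 0 ||
      (allg (2 * ((2 * x + 3) ^ 5 - 1)) (P5 (2 * x + 3)) 5 24 && allg (2 * ((2 * x + 3) ^ 5 + 1)) (P10 (2 * x + 3)) 5 24 &&
        allg (2 * ((2 * x + 3) ^ 7 - 1)) (P7 (2 * x + 3)) 7 24 && allg (2 * ((2 * x + 3) ^ 7 + 1)) (P14 (2 * x + 3)) 7 24)) &&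
      allq x

private noncomputable def _root_.Cfsg.Agent.KOa8b8023.oEq.{ku} (α : Sort ku) (a b : Nat) (f t : α) : α := @Decidable.rec (a = b) (fun _ => α) (fun _ => f) (fun _ => t) (Nat.decEq a b)
private noncomputable def _root_.Cfsg.Agent.KOa8b8023.k0.{ku} (α : Sort ku) (a b : Nat) (f t : α) : α := @Bool.rec (fun _ => α) f t (Nat.beq a b)
private theorem _root_.Cfsg.Agent.KOa8b8023.e0.{ku} : @_root_.Cfsg.Agent.KOa8b8023.oEq.{ku} = @_root_.Cfsg.Agent.KOa8b8023.k0.{ku} := funext fun α => funext fun a => funext fun b => funext fun f => funext fun t => by delta _root_.Cfsg.Agent.KOa8b8023.oEq _root_.Cfsg.Agent.KOa8b8023.k0; cases h : Nat.beq a b <;> cases Nat.decEq a b <;> rename_i g <;> first | rfl | exact absurd g (Nat.ne_of_beq_eq_false h) | exact absurd (Nat.eq_of_beq_eq_true h) g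
private theorem _root_.Cfsg.Agent.KOa8b8023.e1.{ku} {M : Nat → Sort ku} (φ : ∀ n, M n) {z : M Nat.zero} {s : ∀ n, M n → M (Nat.succ n)} (h0 : φ Nat.zero = z) (hs : ∀ n, φ (Nat.succ n) = s n (φ n)) (n : Nat) : φ n = @Nat.rec M z s n := Nat.rec h0 (fun n ih => (hs n).trans (congrArg (s n) ih)) n
private noncomputable def _root_.Cfsg.Agent.KOa8b8023.k2 : type_of% @Nat.decEq := @(fun x0 x1 => @Bool.rec.{1} @(fun x2 => (@Eq.{1} _ (@Nat.beq @x0 @x1) @x2) → @Decidable (@Eq.{1} _ @x0 @x1)) @(fun x2 => @Decidable.isFalse _ (@Nat.ne_of_beq_eq_false _ _ @x2)) @(fun x2 => @Decidable.isTrue _ (@Nat.eq_of_beq_eq_true _ _ @x2)) (@Nat.beq @x0 @x1) (@Eq.refl.{1} _ (@Nat.beq @x0 @x1)))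
private theorem _root_.Cfsg.Agent.KOa8b8023.e2 : @Nat.decEq = @_root_.Cfsg.Agent.KOa8b8023.k2 := by delta _root_.Cfsg.Agent.KOa8b8023.k2; rfl'
private noncomputable def _root_.Cfsg.Agent.KOa8b8023.k3 : (by first | exact type_of% @Cfsg.Agent.R2.Spec.EE.ReeNum.XN | exact Unit : Sort _) := by first | (refine @Subtype.val _ (fun g => @Cfsg.Agent.R2.Spec.EE.ReeNum.XN = @g) (@Subtype.mk _ _ (@(fun x0 x1 => @Decidable.rec.{1} _ @(fun x2 => ℕ) @(fun x2 => @Decidable.rec.{1} _ @(fun x3 => ℕ) @(fun x3 => @Decidable.rec.{1} _ @(fun x4 => ℕ) @(fun x4 => @Nat.sub (@Nat.add (@Nat.pow (nat_lit 3) (@Nat.add (@Nat.mul (nat_lit 2) @x0) (nat_lit 1))) (nat_lit 1)) (@Nat.pow (nat_lit 3) (@Nat.add @x0 (nat_lit 1)))) @(fun x4 => @Eq.rec.{1, 1} ℕ (nat_lit 2) @(fun x5 x6 => ℕ) (@Nat.add (@Nat.add (@Nat.pow (nat_lit 3) (@Nat.add (@Nat.mul (nat_lit 2) @x0) (nat_lit 1))) (@Nat.pow (nat_lit 3) (@Nat.add @x0 (nat_lit 1)))) (nat_lit 1)) @x1 (@Eq.symm.{1} _ _ _ @x4)) (@Cfsg.Agent.KOa8b8023.k2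 @x1 (nat_lit 2))) @(fun x3 => @Eq.rec.{1, 1} ℕ (nat_lit 1) @(fun x4 x5 => ℕ) (@Nat.add (@Nat.pow (nat_lit 3) (@Nat.add (@Nat.mul (nat_lit 2) @x0) (nat_lit 1))) (nat_lit 1)) @x1 (@Eq.symm.{1} _ _ _ @x3)) (@Cfsg.Agent.KOa8b8023.k2 @x1 (nat_lit 1))) @(fun x2 => @Eq.rec.{1, 1} ℕ (nat_lit 0) @(fun x3 x4 => ℕ) (@Nat.sub (@Nat.pow (nat_lit 3) (@Nat.add (@Nat.mul (nat_lit 2) @x0) (nat_lit 1))) (nat_lit 1)) @x1 (@Eq.symm.{1} _ _ _ @x2)) (@Cfsg.Agent.KOa8b8023.k2 @x1 (nat_lit 0)))) ?_); rewrite [← Cfsg.Agent.KOa8b8023.e2]; rfl') | exact @Cfsg.Agent.R2.Spec.EE.ReeNum.XN | exact ()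
private theorem _root_.Cfsg.Agent.KOa8b8023.e3 : (by first | exact @Cfsg.Agent.R2.Spec.EE.ReeNum.XN = @_root_.Cfsg.Agent.KOa8b8023.k3 | exact True : Prop) := by first | (delta _root_.Cfsg.Agent.KOa8b8023.k3; exact @Subtype.property _ (fun g => @Cfsg.Agent.R2.Spec.EE.ReeNum.XN = @g) _) | rfl | trivial
private noncomputable def _root_.Cfsg.Agent.KOa8b8023.k4 : (by first | exact type_of% @Cfsg.Agent.R2.Spec.EE.ReeNum.one | exact Unit : Sort _) := by first | (refine @Subtype.val _ (fun g => @Cfsg.Agent.R2.Spec.EE.ReeNum.one = @g) (@Subtype.mk _ _ (@(fun x0 x1 x2 x3 => @Bool.rec.{1} @(fun x4 => @Bool) @Bool.false (@Bool.rec.{1} @(fun x4 => @Bool) @Bool.true @Bool.false (@Bool.rec.{1} @(fun x4 => @Bool) @Bool.false (@Nat.ble @x1 (@Nat.mul @x2 (@Cfsg.Agent.KOa8b8023.k3 @x3 (nat_lit 3)))) (@Cfsg.Agent.KOa8b8023.k0.{1} @Bool (@Nat.mod @x0 (@Cfsg.Agent.KOa8b8023.k3 @x3 (nat_lit 3))) (nat_lit 0) @Bool.false @Bool.true))) (@Bool.rec.{1} @(fun x4 => @Bool) @Bool.false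 (@Bool.rec.{1} @(fun x4 => @Bool) @Bool.true @Bool.false (@Bool.rec.{1} @(fun x4 => @Bool) @Bool.false (@Nat.ble @x1 (@Nat.mul @x2 (@Cfsg.Agent.KOa8b8023.k3 @x3 (nat_lit 2)))) (@Cfsg.Agent.KOa8b8023.k0.{1} @Bool (@Nat.mod @x0 (@Cfsg.Agent.KOa8b8023.k3 @x3 (nat_lit 2))) (nat_lit 0) @Bool.false @Bool.true))) (@Bool.rec.{1} @(fun x4 => @Bool) @Bool.false (@Bool.rec.{1} @(fun x4 => @Bool) @Bool.true @Bool.false (@Bool.rec.{1} @(fun x4 => @Bool) @Bool.false (@Nat.ble @x1 (@Nat.mul @x2 (@Cfsg.Agent.KOa8b8023.k3 @x3 (nat_lit 1)))) (@Cfsg.Agent.KOa8b8023.k0.{1} @Bool (@Nat.mod @x0 (@Cfsg.Agent.KOa8b8023.k3 @x3 (nat_lit 1))) (nat_lit 0) @Bool.false @Bool.true))) (@Bool.rec.{1} @(fun x4 => @Bool) @Bool.true @Bool.false (@Bool.rec.{1} @(fun x4 => @Bool) @Bool.false (@Nat.ble @x1 (@Nat.mul @x2 (@Cfsg.Agent.KOa8b8023.k3 @x3 (nat_lit 0)))) (@Cfsg.Agent.KOa8b8023.k0.{1} @Bool (@Nat.mod @x0 (@Cfsg.Agent.KOa8b8023.k3 @x3 (nat_lit 0))) (nat_lit 0) @Bool.false @Bool.true)))))))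 ?_); rewrite [← Cfsg.Agent.KOa8b8023.e0.{1}, ← Cfsg.Agent.KOa8b8023.e3]; (try delta Cfsg.Agent.R2.Spec.EE.ReeNum.one); (try generalize @Cfsg.Agent.R2.Spec.EE.ReeNum.XN = g0); rfl') | exact @Cfsg.Agent.R2.Spec.EE.ReeNum.one | exact ()
private theorem _root_.Cfsg.Agent.KOa8b8023.e4 : (by first | exact @Cfsg.Agent.R2.Spec.EE.ReeNum.one = @_root_.Cfsg.Agent.KOa8b8023.k4 | exact True : Prop) := by first | (delta _root_.Cfsg.Agent.KOa8b8023.k4; exact @Subtype.property _ (fun g => @Cfsg.Agent.R2.Spec.EE.ReeNum.one = @g) _) | rfl | trivial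
private noncomputable def _root_.Cfsg.Agent.KOa8b8023.k5 : (by first | exact type_of% @Cfsg.Agent.R2.Spec.EE.ReeNum.allg | exact Unit : Sort _) := by first | (refine @Subtype.val _ (fun g => @Cfsg.Agent.R2.Spec.EE.ReeNum.allg = @g) (@Subtype.mk _ _ (@(fun x0 x1 x2 x3 => @Nat.rec.{1} @(fun x4 => @Bool) @Bool.true @(fun x4 x5 => @Bool.rec.{1} @(fun x6 => @Bool) @Bool.false @x5 (@Bool.rec.{1} @(fun x6 => @Bool) (@Cfsg.Agent.KOa8b8023.k4 @x0 @x1 @x2 @x4) @Bool.true (@Nat.beq @x4 (nat_lit 0)))) @x3)) ?_); rewrite [← Cfsg.Agent.KOa8b8023.e4]; funext a0 a1 a2 a3; refine (_root_.Cfsg.Agent.KOa8b8023.e1 (fun a3 => @Cfsg.Agent.R2.Spec.EE.ReeNum.allg a0 a1 a2 a3) ?_ (fun c0 => ?_) a3 :) <;> ((try delta Cfsg.Agent.R2.Spec.EE.ReeNum.allg Cfsg.Agent.R2.Spec.EE.ReeNum.allg._f); (try generalize @Cfsg.Agent.R2.Spec.EE.ReeNum.one = g0); rfl')) | exact @Cfsg.Agent.R2.Spec.EE.ReeNum.allg | exact ()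
private theorem _root_.Cfsg.Agent.KOa8b8023.e5 : (by first | exact @Cfsg.Agent.R2.Spec.EE.ReeNum.allg = @_root_.Cfsg.Agent.KOa8b8023.k5 | exact True : Prop) := by first | (delta _root_.Cfsg.Agent.KOa8b8023.k5; exact @Subtype.property _ (fun g => @Cfsg.Agent.R2.Spec.EE.ReeNum.allg = @g) _) | rfl | trivial
private noncomputable def _root_.Cfsg.Agent.KOa8b8023.k6 : (by first | exact type_of% @Cfsg.Agent.R2.Spec.EE.ReeNum.P14 | exact Unit : Sort _) := by first | (refine @Subtype.val _ (fun g => @Cfsg.Agent.R2.Spec.EE.ReeNum.P14 = @g) (@Subtype.mk _ _ (@(fun x0 => @Nat.sub (@Nat.sub (@Nat.sub (@Nat.add (@Nat.add (@Nat.add (@Nat.pow @x0 (nat_lit 6)) (@Nat.pow @x0 (nat_lit 4))) (@Nat.pow @x0 (nat_lit 2))) (nat_lit 1)) (@Nat.pow @x0 (nat_lit 5))) (@Nat.pow @x0 (nat_lit 3))) @x0)) ?_); rfl') | exact @Cfsg.Agent.R2.Spec.EE.ReeNum.P14 | exact ()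
private theorem _root_.Cfsg.Agent.KOa8b8023.e6 : (by first | exact @Cfsg.Agent.R2.Spec.EE.ReeNum.P14 = @_root_.Cfsg.Agent.KOa8b8023.k6 | exact True : Prop) := by first | (delta _root_.Cfsg.Agent.KOa8b8023.k6; exact @Subtype.property _ (fun g => @Cfsg.Agent.R2.Spec.EE.ReeNum.P14 = @g) _) | rfl | trivial
private noncomputable def _root_.Cfsg.Agent.KOa8b8023.k7 : (by first | exact type_of% @Cfsg.Agent.R2.Spec.EE.ReeNum.P7 | exact Unit : Sort _) := by first | (refine @Subtype.val _ (fun g => @Cfsg.Agent.R2.Spec.EE.ReeNum.P7 = @g) (@Subtype.mk _ _ (@(fun x0 => @Nat.add (@Nat.add (@Nat.add (@Nat.add (@Nat.add (@Nat.add (@Nat.pow @x0 (nat_lit 6)) (@Nat.pow @x0 (nat_lit 5))) (@Nat.pow @x0 (nat_lit 4))) (@Nat.pow @x0 (nat_lit 3))) (@Nat.pow @x0 (nat_lit 2))) @x0) (nat_lit 1))) ?_); rfl') | exact @Cfsg.Agent.R2.Spec.EE.ReeNum.P7 | exact ()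
private theorem _root_.Cfsg.Agent.KOa8b8023.e7 : (by first | exact @Cfsg.Agent.R2.Spec.EE.ReeNum.P7 = @_root_.Cfsg.Agent.KOa8b8023.k7 | exact True : Prop) := by first | (delta _root_.Cfsg.Agent.KOa8b8023.k7; exact @Subtype.property _ (fun g => @Cfsg.Agent.R2.Spec.EE.ReeNum.P7 = @g) _) | rfl | trivial
private noncomputable def _root_.Cfsg.Agent.KOa8b8023.k8 : (by first | exact type_of% @Cfsg.Agent.R2.Spec.EE.ReeNum.P10 | exact Unit : Sort _) := by first | (refine @Subtype.val _ (fun g => @Cfsg.Agent.R2.Spec.EE.ReeNum.P10 = @g) (@Subtype.mk _ _ (@(fun x0 => @Nat.sub (@Nat.sub (@Nat.add (@Nat.add (@Nat.pow @x0 (nat_lit 4)) (@Nat.pow @x0 (nat_lit 2))) (nat_lit 1)) (@Nat.pow @x0 (nat_lit 3))) @x0)) ?_); rfl') | exact @Cfsg.Agent.R2.Spec.EE.ReeNum.P10 | exact ()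
private theorem _root_.Cfsg.Agent.KOa8b8023.e8 : (by first | exact @Cfsg.Agent.R2.Spec.EE.ReeNum.P10 = @_root_.Cfsg.Agent.KOa8b8023.k8 | exact True : Prop) := by first | (delta _root_.Cfsg.Agent.KOa8b8023.k8; exact @Subtype.property _ (fun g => @Cfsg.Agent.R2.Spec.EE.ReeNum.P10 = @g) _) | rfl | trivial
private noncomputable def _root_.Cfsg.Agent.KOa8b8023.k9 : (by first | exact type_of% @Cfsg.Agent.R2.Spec.EE.ReeNum.P5 | exact Unit : Sort _) := by first | (refine @Subtype.val _ (fun g => @Cfsg.Agent.R2.Spec.EE.ReeNum.P5 = @g) (@Subtype.mk _ _ (@(fun x0 => @Nat.add (@Nat.add (@Nat.add (@Nat.add (@Nat.pow @x0 (nat_lit 4)) (@Nat.pow @x0 (nat_lit 3))) (@Nat.pow @x0 (nat_lit 2))) @x0) (nat_lit 1))) ?_); rfl') | exact @Cfsg.Agent.R2.Spec.EE.ReeNum.P5 | exact ()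
private theorem _root_.Cfsg.Agent.KOa8b8023.e9 : (by first | exact @Cfsg.Agent.R2.Spec.EE.ReeNum.P5 = @_root_.Cfsg.Agent.KOa8b8023.k9 | exact True : Prop) := by first | (delta _root_.Cfsg.Agent.KOa8b8023.k9; exact @Subtype.property _ (fun g => @Cfsg.Agent.R2.Spec.EE.ReeNum.P5 = @g) _) | rfl | trivial
private noncomputable def _root_.Cfsg.Agent.KOa8b8023.k10 : (by first | exact type_of% @Cfsg.Agent.R2.Spec.EE.ReeNum.allq | exact Unit : Sort _) := by first | (refine @Subtype.val _ (fun g => @Cfsg.Agent.R2.Spec.EE.ReeNum.allq = @g) (@Subtype.mk _ _ (@(fun x0 => @Nat.rec.{1} @(fun x1 => @Bool) @Bool.true @(fun x1 x2 => @Bool.rec.{1} @(fun x3 => @Bool) @Bool.false @x2 (@Bool.rec.{1} @(fun x3 => @Bool) (@Bool.rec.{1} @(fun x3 => @Bool) @Bool.false (@Cfsg.Agent.KOa8b8023.k5 (@Nat.mul (nat_lit 2) (@Nat.add (@Nat.pow (@Nat.add (@Nat.mul (nat_lit 2) @x1) (nat_lit 3)) (nat_lit 7)) (nat_lit 1))) (@Cfsg.Agent.KOa8b8023.k6 (@Nat.add (@Nat.mul (nat_lit 2) @x1) (nat_lit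 3))) (nat_lit 7) (nat_lit 24)) (@Bool.rec.{1} @(fun x3 => @Bool) @Bool.false (@Cfsg.Agent.KOa8b8023.k5 (@Nat.mul (nat_lit 2) (@Nat.sub (@Nat.pow (@Nat.add (@Nat.mul (nat_lit 2) @x1) (nat_lit 3)) (nat_lit 7)) (nat_lit 1))) (@Cfsg.Agent.KOa8b8023.k7 (@Nat.add (@Nat.mul (nat_lit 2) @x1) (nat_lit 3))) (nat_lit 7) (nat_lit 24)) (@Bool.rec.{1} @(fun x3 => @Bool) @Bool.false (@Cfsg.Agent.KOa8b8023.k5 (@Nat.mul (nat_lit 2) (@Nat.add (@Nat.pow (@Nat.add (@Nat.mul (nat_lit 2) @x1) (nat_lit 3)) (nat_lit 5)) (nat_lit 1))) (@Cfsg.Agent.KOa8b8023.k8 (@Nat.add (@Nat.mul (nat_lit 2) @x1) (nat_lit 3))) (nat_lit 5) (nat_lit 24)) (@Cfsg.Agent.KOa8b8023.k5 (@Nat.mul (nat_lit 2) (@Nat.sub (@Nat.pow (@Nat.add (@Nat.mul (nat_lit 2) @x1) (nat_lit 3)) (nat_lit 5)) (nat_lit 1))) (@Cfsg.Agent.KOa8b8023.k9 (@Nat.add (@Nat.mul (nat_lit 2) @x1) (nat_lit 3))) (nat_lit 5) (nat_lit 24))))) @Bool.true (@Cfsg.Agent.KOa8b8023.k0.{1} @Bool (@Nat.mod (@Nat.add (@Nat.mul (nat_lit 2) @x1) (nat_lit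 3)) (nat_lit 3)) (nat_lit 0) @Bool.false @Bool.true))) @x0)) ?_); rewrite [← Cfsg.Agent.KOa8b8023.e0.{1}, ← Cfsg.Agent.KOa8b8023.e9, ← Cfsg.Agent.KOa8b8023.e8, ← Cfsg.Agent.KOa8b8023.e7, ← Cfsg.Agent.KOa8b8023.e6, ← Cfsg.Agent.KOa8b8023.e5]; funext a0; refine (_root_.Cfsg.Agent.KOa8b8023.e1 (fun a0 => @Cfsg.Agent.R2.Spec.EE.ReeNum.allq a0) ?_ (fun c0 => ?_) a0 :) <;> ((try delta Cfsg.Agent.R2.Spec.EE.ReeNum.allq Cfsg.Agent.R2.Spec.EE.ReeNum.allq._f); (try generalize @Cfsg.Agent.R2.Spec.EE.ReeNum.allg = g0); (try generalize @Cfsg.Agent.R2.Spec.EE.ReeNum.P14 = g1); (try generalize @Cfsg.Agent.R2.Spec.EE.ReeNum.P7 = g2); (try generalize @Cfsg.Agent.R2.Spec.EE.ReeNum.P10 = g3); (try generalize @Cfsg.Agent.R2.Spec.EE.ReeNum.P5 = g4); rfl')) | exact @Cfsg.Agent.R2.Spec.EE.ReeNum.allq | exact ()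
private theorem _root_.Cfsg.Agent.KOa8b8023.e10 : (by first | exact @Cfsg.Agent.R2.Spec.EE.ReeNum.allq = @_root_.Cfsg.Agent.KOa8b8023.k10 | exact True : Prop) := by first | (delta _root_.Cfsg.Agent.KOa8b8023.k10; exact @Subtype.property _ (fun g => @Cfsg.Agent.R2.Spec.EE.ReeNum.allq = @g) _) | rfl | trivial

set_option maxRecDepth 100000 in
theorem allq_ok : allq 600 = true := by (first | (rewrite [Cfsg.Agent.KOa8b8023.e10]; decide +kernel) | decide +kernel)

end Cfsg.Agent.R2.Spec.EE.ReeNum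
end
end

-- part: R2/Spec/X5/NumA
section
set_option linter.all false
open scoped Cfsg.Agent.FastGrp

-- part: R2/Spec/X5/FinA
section
/-!
# S3435, box X5 (helper12): finite check for `A`
-/

set_option autoImplicit false

namespace Cfsg.Agent.R2.Spec.X5.Sq

open Cfsg.Agent.H403.NumTop

/-- all cases: `k0 = m`, `k0 = m - 1` -/
def cA (h u m : ℕ) : Bool :=
  [true, false].all fun e =>
    c1 (2 * h * AA e m u) (AA e 1 u * Nat.gcd m (AA e 1 u)) (u ^ m) &&
      c1 (2 * h * AA e (m - 1) u) (Nat.gcd m (AA e 1 u)) (u ^ (m - 1))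

theorem AA_one_pos' {e : Bool} {u : ℕ} (hu : 2 ≤ u) : 0 < AA e 1 u := by
  cases e
  · simp [AA]
  · simp [AA]; omega

theorem cA_spec {h u m s : ℕ} {e : Bool} (hu : 2 ≤ u) (hb : cA h u m = true) (hs : 729 ≤ s * s) :
    (AA e 1 u * Nat.gcd m (AA e 1 u) * (s * s + 1) = 2 * h * AA e m u → s * s = u ^ m) ∧
      (Nat.gcd m (AA e 1 u) * (s * s + 1) = 2 * h * AA e (m - 1) u → s * s = u ^ (m - 1)) := by
  have hw := AA_one_pos' (e := e) hu
  have hd : 0 < Nat.gcd m (AA e 1 u) := Nat.gcd_pos_of_pos_right _ hw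
  rw [cA] at hb
  simp only [List.all_eq_true] at hb
  have h1 := hb e (by cases e <;> simp)
  rw [Bool.and_eq_true] at h1
  exact ⟨fun he => c1_spec (Nat.mul_pos hw hd) h1.1 he hs, fun he => c1_spec hd h1.2 he hs⟩

/-- inner loop -/
def goA (B B' h u : ℕ) : ℕ → ℕ → ℕ → Bool
  | 0, _, _ => false
  | f + 1, m, p => if B < p then true else (((m.blt 17) && B'.blt p) || cA h u m) && goA B B' h u f (m + 1) (p * u)

theorem goA_spec {B B' h u : ℕ} (hu : 1 ≤ u) : ∀ {f m p : ℕ}, 2 ≤ m → goA B B' h u f m p = true → p = u ^ (m - 2) →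
    ∀ j, m ≤ j → u ^ (j - 2) ≤ B → (j < 17 → u ^ (j - 2) ≤ B') → cA h u j = true := by
  intro f
  induction f with
  | zero => intro m p _ hg; exact absurd hg (by simp [goA])
  | succ f ih =>
    intro m p hm hg hp j hmj hB hB'
    rw [goA] at hg
    have hle : p ≤ B := by
      rw [hp]
      exact (Nat.pow_le_pow_right hu (by omega)).trans hB
    rw [if_neg (by omega), Bool.and_eq_true] at hg
    rcases Nat.eq_or_lt_of_le hmj with rfl | hlt
    · have h1 := hg.1
      rcases Bool.or_eq_true_iff.1 h1 with h2 | h2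
      · exfalso
        rw [Bool.and_eq_true, Nat.blt_eq, Nat.blt_eq] at h2
        have := hB' h2.1
        rw [← hp] at this
        omega
      · exact h2
    · exact ih (by omega) hg.2 (by rw [hp, ← pow_succ, show m - 2 + 1 = m + 1 - 2 by omega]) j hlt hB hB'

/-- outer loop -/
def outA (B B' fuel h a : ℕ) : ℕ → Bool
  | 0 => true
  | n + 1 => goA B B' h ((a + n) ^ h) fuel 9 (((a + n) ^ h) ^ 7) && outA B B' fuel h a n

theorem outA_spec {B B' fuel h a : ℕ} : ∀ {n : ℕ}, outA B B' fuel h a n = true → ∀ i < n,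
    goA B B' h ((a + i) ^ h) fuel 9 (((a + i) ^ h) ^ 7) = true := by
  intro n
  induction n with
  | zero => intro _ i hi; omega
  | succ n ih =>
    intro h i hi
    rw [outA, Bool.and_eq_true] at h
    rcases Nat.lt_succ_iff_lt_or_eq.1 hi with h1 | h1
    · exact ih h.2 i h1
    · rw [h1]; exact h.1

private noncomputable def fN (n : ℕ) (f : ℕ → Bool) : Bool := @Nat.rec (fun _ => Bool) false (fun m _ => f m) n.succ

private noncomputable def an (a b : Bool) : Bool := @Bool.rec (fun _ => Bool) false b a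

private theorem an_eq (a b : Bool) : an a b = (a && b) := by cases a <;> rfl

private noncomputable def AF (i q : ℕ) : ℕ :=
  @Nat.rec (fun _ => ℕ) (Nat.sub (Nat.pow q i) 1) (fun _ _ => Nat.add (Nat.pow q i) 1) (Nat.mod i 2)

private theorem AF_eq (i q : ℕ) : AA false i q = AF i q := by
  show (if (i % 2 == 0) = true then q ^ i - 1 else q ^ i + 1) =
    @Nat.rec (fun _ => ℕ) (q ^ i - 1) (fun _ _ => q ^ i + 1) (i % 2)
  cases i % 2 <;> rfl

private noncomputable def cAF (h u m : ℕ) : Bool :=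
  fN (Nat.mul 2 h) fun k => fN (Nat.sub m 1) fun n => fN (Nat.gcd m (Nat.sub (Nat.pow u 1) 1)) fun g =>
    fN (Nat.gcd m (Nat.add (Nat.pow u 1) 1)) fun g' =>
    an (an (c1F (Nat.mul k (Nat.sub (Nat.pow u m) 1)) (Nat.mul (Nat.sub (Nat.pow u 1) 1) g) (Nat.pow u m))
        (c1F (Nat.mul k (Nat.sub (Nat.pow u n) 1)) g (Nat.pow u n)))
      (an (c1F (Nat.mul k (AF m u)) (Nat.mul (Nat.add (Nat.pow u 1) 1) g') (Nat.pow u m))
        (c1F (Nat.mul k (AF n u)) g' (Nat.pow u n)))

private theorem cAF_eq (h u m : ℕ) : cAF h u m = cA h u m := by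
  rw [cA, List.all_cons, List.all_cons, List.all_nil, Bool.and_true, AF_eq m, AF_eq (m - 1), c1F_eq, ← an_eq, ← an_eq,
    ← an_eq]
  rfl

private noncomputable def goAF (B B' h u f : ℕ) : ℕ → ℕ → Bool :=
  @Nat.rec (fun _ => ℕ → ℕ → Bool) (fun _ _ => false) (fun _ ih m p => fN m fun m => fN p fun p =>
    @Bool.rec (fun _ => Bool) (an (@Bool.rec (fun _ => Bool) (cAF h u m) true (an (Nat.blt m 17) (Nat.blt B' p)))
      (ih (Nat.succ m) (Nat.mul p u))) true (Nat.blt B p)) f

private theorem goAF_eq (B B' h u : ℕ) : ∀ f m p, goAF B B' h u f m p = goA B B' h u f m p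
  | 0, _, _ => rfl
  | f + 1, m, p => by
    show @Bool.rec (fun _ => Bool) (an (@Bool.rec (fun _ => Bool) (cAF h u m) true (an (Nat.blt m 17) (Nat.blt B' p)))
      (goAF B B' h u f (m + 1) (p * u))) true (Nat.blt B p) = _
    rw [goA, goAF_eq B B' h u f, cAF_eq, an_eq, an_eq]
    by_cases hB : B < p
    · rw [if_pos hB, Nat.blt_eq.mpr hB]
    · rw [if_neg hB, Bool.eq_false_iff.2 fun e => hB (Nat.blt_eq.mp e)]
      cases (m.blt 17 && B'.blt p) <;> rfl

private noncomputable def outAF (B B' fuel h a n : ℕ) : Bool :=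
  fN B fun B => fN B' fun B' => @Nat.rec (fun _ => Bool) true (fun n ih =>
    an (fN (Nat.pow (Nat.add a n) h) fun u => goAF B B' h u fuel 9 (Nat.pow u 7)) ih) n

private theorem outAF_eq (B B' fuel h a : ℕ) : ∀ n, outA B B' fuel h a n = outAF B B' fuel h a n
  | 0 => rfl
  | n + 1 => by
    rw [outA, outAF_eq B B' fuel h a n, ← goAF_eq, ← an_eq]
    rfl

theorem outA1 : outA (2 ^ 143) (2 ^ 62) 160 1 2 742 = true := (outAF_eq _ _ _ _ _ _).trans (by decide +kernel)
theorem outA3 : outA (2 ^ 280) (2 ^ 62) 300 3 2 74 = true := (outAF_eq _ _ _ _ _ _).trans (by decide +kernel)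
theorem outA5 : outA (2 ^ 280) (2 ^ 62) 300 5 2 12 = true := (outAF_eq _ _ _ _ _ _).trans (by decide +kernel)
theorem outA7 : outA (2 ^ 280) (2 ^ 62) 300 7 2 7 = true := (outAF_eq _ _ _ _ _ _).trans (by decide +kernel)
theorem outA9 : outA (2 ^ 280) (2 ^ 62) 300 9 2 4 = true := (outAF_eq _ _ _ _ _ _).trans (by decide +kernel)
theorem outA11 : outA (2 ^ 280) (2 ^ 62) 300 11 2 3 = true := (outAF_eq _ _ _ _ _ _).trans (by decide +kernel)
theorem outA13 : outA (2 ^ 280) (2 ^ 62) 300 13 2 3 = true := (outAF_eq _ _ _ _ _ _).trans (by decide +kernel)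
theorem outA15 : outA (2 ^ 280) (2 ^ 62) 300 15 2 2 = true := (outAF_eq _ _ _ _ _ _).trans (by decide +kernel)
theorem outA17 : outA (2 ^ 280) (2 ^ 62) 300 17 2 2 = true := (outAF_eq _ _ _ _ _ _).trans (by decide +kernel)

set_option exponentiation.threshold 1000 in
theorem outA_all (h w : ℕ) (hh : Odd h) (h3 : 3 ≤ h) (hw : 2 ≤ w)
    (hB : (w ^ h) ^ 15 ≤ 2 ^ 280 ∨ (w ^ h) ^ 7 ≤ 2 ^ 62) :
    goA (2 ^ 280) (2 ^ 62) h (w ^ h) 300 9 ((w ^ h) ^ 7) = true := by
  have key : ∀ a, a ≤ w → (2 ^ 280 < (a ^ h) ^ 15 ∧ 2 ^ 62 < (a ^ h) ^ 7) → False := by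
    rintro a ha ⟨h1, h2⟩
    have h4 : (a ^ h) ^ 15 ≤ (w ^ h) ^ 15 := Nat.pow_le_pow_left (Nat.pow_le_pow_left ha h) 15
    have h5 : (a ^ h) ^ 7 ≤ (w ^ h) ^ 7 := Nat.pow_le_pow_left (Nat.pow_le_pow_left ha h) 7
    rcases hB with hB | hB
    · omega
    · omega
  have hh17 : h ≤ 18 := by
    by_contra hcon
    refine key 2 hw ⟨?_, ?_⟩
    · rw [← pow_mul]
      exact (Nat.pow_lt_pow_iff_right (by norm_num)).2 (by omega)
    · rw [← pow_mul]
      exact (Nat.pow_lt_pow_iff_right (by norm_num)).2 (by omega)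
  obtain ⟨j, hj⟩ := hh
  have hcases : h = 3 ∨ h = 5 ∨ h = 7 ∨ h = 9 ∨ h = 11 ∨ h = 13 ∨ h = 15 ∨ h = 17 := by omega
  rcases hcases with rfl | rfl | rfl | rfl | rfl | rfl | rfl | rfl
  · have hlt : w < 76 := by
      by_contra hcon
      exact key 76 (by omega) ⟨by norm_num, by norm_num⟩
    have := outA_spec outA3 (w - 2) (by omega)
    rwa [show 2 + (w - 2) = w by omega] at this
  · have hlt : w < 14 := by
      by_contra hcon
      exact key 14 (by omega) ⟨by norm_num, by norm_num⟩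
    have := outA_spec outA5 (w - 2) (by omega)
    rwa [show 2 + (w - 2) = w by omega] at this
  · have hlt : w < 9 := by
      by_contra hcon
      exact key 9 (by omega) ⟨by norm_num, by norm_num⟩
    have := outA_spec outA7 (w - 2) (by omega)
    rwa [show 2 + (w - 2) = w by omega] at this
  · have hlt : w < 6 := by
      by_contra hcon
      exact key 6 (by omega) ⟨by norm_num, by norm_num⟩
    have := outA_spec outA9 (w - 2) (by omega)
    rwa [show 2 + (w - 2) = w by omega] at this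
  · have hlt : w < 5 := by
      by_contra hcon
      exact key 5 (by omega) ⟨by norm_num, by norm_num⟩
    have := outA_spec outA11 (w - 2) (by omega)
    rwa [show 2 + (w - 2) = w by omega] at this
  · have hlt : w < 5 := by
      by_contra hcon
      exact key 5 (by omega) ⟨by norm_num, by norm_num⟩
    have := outA_spec outA13 (w - 2) (by omega)
    rwa [show 2 + (w - 2) = w by omega] at this
  · have hlt : w < 4 := by
      by_contra hcon
      exact key 4 (by omega) ⟨by norm_num, by norm_num⟩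
    have := outA_spec outA15 (w - 2) (by omega)
    rwa [show 2 + (w - 2) = w by omega] at this
  · have hlt : w < 4 := by
      by_contra hcon
      exact key 4 (by omega) ⟨by norm_num, by norm_num⟩
    have := outA_spec outA17 (w - 2) (by omega)
    rwa [show 2 + (w - 2) = w by omega] at this

set_option exponentiation.threshold 1000 in
/-- **The finite check.** -/
theorem finA {h w m s : ℕ} {e : Bool} (hh : Odd h) (hw : 2 ≤ w) (hm : 9 ≤ m)
    (hB' : m < 17 → (w ^ h) ^ (m - 2) ≤ 2 ^ 62)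
    (hB : (w ^ h) ^ (m - 2) ≤ 2 ^ 143 ∨ (3 ≤ h ∧ (w ^ h) ^ (m - 2) ≤ 2 ^ 280)) (hs : 729 ≤ s * s) :
    (AA e 1 (w ^ h) * Nat.gcd m (AA e 1 (w ^ h)) * (s * s + 1) = 2 * h * AA e m (w ^ h) → s * s = (w ^ h) ^ m) ∧
      (Nat.gcd m (AA e 1 (w ^ h)) * (s * s + 1) = 2 * h * AA e (m - 1) (w ^ h) → s * s = (w ^ h) ^ (m - 1)) := by
  have hu : 2 ≤ w ^ h := hw.trans (Nat.le_self_pow hh.pos.ne' w)
  rcases Nat.lt_or_ge h 3 with h3 | h3
  · have h1 : h = 1 := by
      obtain ⟨j, hj⟩ := hh
      omega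
    subst h1
    rw [pow_one] at hB hB' hu ⊢
    have hB2 : w ^ (m - 2) ≤ 2 ^ 143 := by
      rcases hB with h2 | h2
      · exact h2
      · omega
    have hlt : w < 744 := by
      by_contra hcon
      have h1 : 744 ^ (m - 2) ≤ w ^ (m - 2) := Nat.pow_le_pow_left (by omega) _
      rcases Nat.lt_or_ge m 17 with h2 | h2
      · have h3 := hB' h2
        have h4 : 744 ^ 7 ≤ 744 ^ (m - 2) := Nat.pow_le_pow_right (by norm_num) (by omega)
        have h5 : 2 ^ 62 < 744 ^ 7 := by norm_num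
        omega
      · have h4 : 744 ^ 15 ≤ 744 ^ (m - 2) := Nat.pow_le_pow_right (by norm_num) (by omega)
        have h5 : 2 ^ 143 < 744 ^ 15 := by norm_num
        omega
    have hg := outA_spec outA1 (w - 2) (by omega)
    rw [show 2 + (w - 2) = w by omega, pow_one] at hg
    exact cA_spec hu (goA_spec (by omega) (by norm_num) hg rfl m hm hB2 hB') hs
  · have hg := outA_all h w hh h3 hw (by
      rcases Nat.lt_or_ge m 17 with h2 | h2
      · right
        exact (Nat.pow_le_pow_right (by omega) (by omega)).trans (hB' h2)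
      · left
        refine (Nat.pow_le_pow_right (by omega) (show 15 ≤ m - 2 by omega)).trans ?_
        rcases hB with hB | hB
        · exact hB.trans (by norm_num)
        · exact hB.2)
    refine cA_spec hu (goA_spec (by omega) (by norm_num) hg rfl m hm ?_ hB') hs
    rcases hB with hB | hB
    · exact hB.trans (by norm_num)
    · exact hB.2

end Cfsg.Agent.R2.Spec.X5.Sq
end

-- part: R2/Spec/X5/NumA
section
/-!
# S3435, box X5 (helper12): the numbers, family `A`
-/

set_option autoImplicit false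

namespace Cfsg.Agent.R2.Spec.X5

open Cfsg.Agent.R2.Spec.P1.Eig Cfsg.Agent.H403.NumTop

/-- the sign of the class `i` -/
def sA (e : Bool) (i : ℕ) : ℤ := if e || i % 2 == 0 then 1 else -1

theorem sA_pm (e : Bool) (i : ℕ) : sA e i = 1 ∨ sA e i = -1 := by
  unfold sA
  split_ifs
  · exact Or.inl rfl
  · exact Or.inr rfl

theorem AA_AN (e : Bool) (i u : ℕ) : AA e i u = AN (sA e i) i u := by
  unfold AA sA
  split_ifs
  · rw [AN_one]
  · rw [AN_neg]

theorem gcd_AA {e : Bool} {k b u : ℕ} (hk : 1 ≤ k) (hu : 2 ≤ u) :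
    Nat.gcd (AA e k u) (AA e b u) ≤ u ^ (Nat.gcd k b) + 1 := by
  obtain ⟨N, hN⟩ : ∃ N, N = Nat.gcd (AA e k u) (AA e b u) := ⟨_, rfl⟩
  have key : ∀ i, N ∣ AA e i u ↔ ((xv e u : ℤ) : ZMod N) ^ i = 1 := by
    intro i
    rw [← ZMod.natCast_eq_zero_iff]
    rcases AA_eq (e := e) (i := i) (q := u) (by omega) with h | h
    · have h1 : ((AA e i u : ℕ) : ZMod N) = ((xv e u : ℤ) : ZMod N) ^ i - 1 := by
        have := congrArg (fun z : ℤ => (z : ZMod N)) h
        push_cast at this
        exact this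
      rw [h1, sub_eq_zero]
    · have h1 : ((AA e i u : ℕ) : ZMod N) = -(((xv e u : ℤ) : ZMod N) ^ i - 1) := by
        have := congrArg (fun z : ℤ => (z : ZMod N)) h
        push_cast at this
        rw [this]
      rw [h1, neg_eq_zero, sub_eq_zero]
  have h1 := (key k).1 (by rw [hN]; exact Nat.gcd_dvd_left _ _)
  have h2 := (key b).1 (by rw [hN]; exact Nat.gcd_dvd_right _ _)
  have h3 := (key (Nat.gcd k b)).2 (by
    rw [← orderOf_dvd_iff_pow_eq_one] at h1 h2 ⊢
    exact Nat.dvd_gcd h1 h2)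
  rw [← hN]
  have hγ : 1 ≤ Nat.gcd k b := Nat.gcd_pos_of_pos_left _ hk
  have h4 : 0 < AN (sA e (Nat.gcd k b)) (Nat.gcd k b) u := by
    have a1 := AN_ge (sA_pm e (Nat.gcd k b)) (Nat.gcd k b) (by omega : 1 ≤ u)
    have a2 : 2 ≤ u ^ (Nat.gcd k b) := le_trans hu (Nat.le_self_pow (by omega) u)
    omega
  rw [AA_AN] at h3
  exact (Nat.le_of_dvd h4 h3).trans (AN_le (sA_pm e _) _ _)

/-- **The data of one sign `δ`, family `A`** (`m` the rank of `S`). -/
structure SgA (q n u m k0 : ℕ) (e : Bool) (δ : ℤ) (k : ℕ) : Prop where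
  big : m + 1 ≤ 2 * k
  le : k ≤ m
  ne : k ≠ k0
  low : k + 2 ≤ m → ∃ κ, 1 ≤ κ ∧ κ ≤ q + 1 ∧ ((AA e k u : ℕ) : ℤ) ∣ κ * ((q ^ (n - 1) : ℕ) - δ)
  mid : k + 1 = m → ∃ T κ c1, c1 ≤ Nat.gcd m (AA e 1 u) ∧ T * c1 = AA e k u ∧ 1 ≤ κ ∧ κ ≤ q + 1 ∧
    (T : ℤ) ∣ κ * ((q ^ (n - 1) : ℕ) - δ)
  top : k = m → ∃ T κ, T * (AA e 1 u * Nat.gcd m (AA e 1 u)) = AA e k u ∧ 1 ≤ κ ∧ κ ≤ q + 1 ∧
    (T : ℤ) ∣ κ * ((q ^ (n - 1) : ℕ) - δ)
  two : ∀ b, 1 ≤ b → k + b + 1 = m → ∃ T κ c, c ≤ Nat.gcd m (AA e 1 u) ∧ T * c = Nat.lcm (AA e k u) (AA e b u) ∧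
    1 ≤ κ ∧ κ ≤ q + 1 ∧ (T : ℤ) ∣ κ * ((q ^ (n - 1) : ℕ) - δ)
  sc6 : n = 6 → AA e 1 u * (2 * q ^ 4) ≤ 15 * (u ^ k + 1)
  sc8 : n = 8 → AA e 1 u * (2 * q ^ 6) ≤ 21 * (u ^ k + 1)
  sc10 : n = 10 → AA e 1 u * q ^ 6 ≤ 4 * (u ^ k + 1)

/-- **The data, family `A`.** -/
structure NA (q n v u w h c0 P0 m k0 : ℕ) (e : Bool) : Prop where
  D : Dat q (q ^ (n - 1)) h 1 c0 P0 u k0 (sA e k0)
  n6 : 6 ≤ n
  ne : n % 2 = 0
  q3 : 3 ≤ q
  qo : Odd q
  vp : v.Prime
  vq : ¬ v ∣ q
  vu : ∃ f', 1 ≤ f' ∧ u = v ^ f'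
  uw : u = w ^ h
  w2 : 2 ≤ w
  ho : Odd h
  vh : ¬ v ∣ h
  k0m : (k0 = m ∧ c0 = AA e 1 u * Nat.gcd m (AA e 1 u)) ∨ (k0 + 1 = m ∧ c0 = Nat.gcd m (AA e 1 u))
  m9 : 9 ≤ m
  mn : n ≤ 10 → n + 3 ≤ m
  m17 : 12 ≤ n → 17 ≤ m

section

variable {q V h c0 P0 u k0 T κ c1 P k b r n v w m : ℕ} {δ : ℤ} {e : Bool}

theorem NA.facts (N : NA q n v u w h c0 P0 m k0 e) :
    2 ≤ u ∧ 1 ≤ h ∧ 1 ≤ c0 ∧ q * q ^ (n - 1) = q ^ n ∧ q ^ 6 ≤ q ^ n ∧ v ∣ u ∧ 2 ^ h ≤ u ∧
      1 ≤ Nat.gcd m (AA e 1 u) ∧ Nat.gcd m (AA e 1 u) ≤ AA e 1 u ∧ AA e 1 u ≤ u + 1 ∧ u ≤ AA e 1 u + 1 ∧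
      ¬ v ∣ c0 := by
  obtain ⟨f', hf', hvu⟩ := N.vu
  have hn := N.n6
  have hq3 := N.q3
  have hm := N.m9
  have hu2 : 2 ≤ u := by rw [hvu]; exact N.vp.two_le.trans (Nat.le_self_pow (by omega) v)
  have hvu' : v ∣ u := by rw [hvu]; exact dvd_pow_self v (by omega)
  have hd : 1 ≤ Nat.gcd m (AA e 1 u) := Nat.gcd_pos_of_pos_left _ (by omega)
  have a1 := AN_le (sA_pm e 1) 1 u
  have a2 := AN_ge (sA_pm e 1) 1 (by omega : 1 ≤ u)
  rw [← AA_AN, pow_one] at a1 a2
  have hw : 1 ≤ AA e 1 u := by omega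
  have hdw : Nat.gcd m (AA e 1 u) ≤ AA e 1 u := Nat.le_of_dvd hw (Nat.gcd_dvd_right _ _)
  have hvw : ¬ v ∣ AA e 1 u := by
    intro hd
    have hv1 := N.vp.one_lt
    have h5 : AA e 1 u = u - 1 ∨ AA e 1 u = u + 1 := by
      rw [AA_AN]
      rcases sA_pm e 1 with h | h <;> rw [h]
      · left; rw [AN_one, pow_one]
      · right; rw [AN_neg, pow_one]
    rcases h5 with h5 | h5
    · rw [h5] at hd
      have h3 := Nat.dvd_sub hvu' hd
      rw [show u - (u - 1) = 1 by omega] at h3
      exact hv1.ne' (Nat.dvd_one.1 h3)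
    · rw [h5] at hd
      have h3 := (Nat.dvd_add_right hvu').1 hd
      exact hv1.ne' (Nat.dvd_one.1 h3)
  refine ⟨hu2, N.ho.pos, ?_, by rw [← pow_succ']; congr 1; omega,
    Nat.pow_le_pow_right (by omega) hn, hvu', ?_, hd, hdw, a1, a2, ?_⟩
  · rcases N.k0m with ⟨-, h⟩ | ⟨-, h⟩ <;> rw [h]
    · exact Nat.mul_pos hw hd
    · exact hd
  · rw [N.uw]
    exact Nat.pow_le_pow_left N.w2 h
  · intro h1
    rcases N.k0m with ⟨-, h⟩ | ⟨-, h⟩ <;> rw [h] at h1
    · rcases N.vp.dvd_mul.1 h1 with h2 | h2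
      · exact hvw h2
      · exact hvw (h2.trans (Nat.gcd_dvd_right _ _))
    · exact hvw (h1.trans (Nat.gcd_dvd_right _ _))

theorem NA.up (N : NA q n v u w h c0 P0 m k0 e) :
    8 * u ^ (m - 2) ≤ 9 * q ^ n + 17 ∧ (3 ≤ h → 8 * u ^ (m - 2) ≤ 3 * q ^ n + 11) := by
  obtain ⟨hu2, hh, hc, hV, hq6, hvu, h2h, hd, hdw, hw1, hw2, hvc⟩ := N.facts
  have hcP := N.D.cP hV
  have a2 := AN_ge N.D.pm k0 (by omega : 1 ≤ u)
  have hm := N.m9
  have key : ∀ j, j ≤ h → 8 * j * u ^ (m - 2) ≤ 9 * (q ^ n + 1) + 8 * j := by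
    intro j hj
    have e1 : 2 * j * u ^ k0 ≤ c0 * (q ^ n + 1) + 2 * j := by
      calc 2 * j * u ^ k0 ≤ 2 * j * (AN (sA e k0) k0 u + 1) := Nat.mul_le_mul_left _ a2
        _ = 2 * j * 1 * AN (sA e k0) k0 u + 2 * j := by ring
        _ ≤ 2 * h * 1 * AN (sA e k0) k0 u + 2 * j := by gcongr
        _ = _ := by rw [hcP]
    rcases N.k0m with ⟨h1, h2⟩ | ⟨h1, h2⟩
    · have e2 : 4 * c0 ≤ 9 * u ^ 2 := by
        rw [h2]
        calc 4 * (AA e 1 u * Nat.gcd m (AA e 1 u)) ≤ 4 * ((u + 1) * (u + 1)) := by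
              gcongr
              exact hdw.trans hw1
          _ = (2 * (u + 1)) ^ 2 := by ring
          _ ≤ (3 * u) ^ 2 := by gcongr ?_ ^ 2; omega
          _ = _ := by ring
      have e3 : u ^ 2 * (8 * j * u ^ (m - 2)) ≤ u ^ 2 * (9 * (q ^ n + 1) + 8 * j) := by
        calc u ^ 2 * (8 * j * u ^ (m - 2)) = 4 * (2 * j * (u ^ 2 * u ^ (m - 2))) := by ring
          _ = 4 * (2 * j * u ^ k0) := by rw [← pow_add]; congr 3; omega
          _ ≤ 4 * (c0 * (q ^ n + 1) + 2 * j) := Nat.mul_le_mul_left _ e1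
          _ = (4 * c0) * (q ^ n + 1) + 1 * (8 * j) := by ring
          _ ≤ (9 * u ^ 2) * (q ^ n + 1) + u ^ 2 * (8 * j) := by
            have : 1 ≤ u ^ 2 := Nat.one_le_pow _ _ (by omega)
            gcongr
          _ = _ := by ring
      exact Nat.le_of_mul_le_mul_left e3 (Nat.pow_pos (by omega))
    · have e2 : 2 * c0 ≤ 3 * u := by
        rw [h2]
        have := hdw.trans hw1
        omega
      have e3 : u * (8 * j * u ^ (m - 2)) ≤ u * (9 * (q ^ n + 1) + 8 * j) := by
        calc u * (8 * j * u ^ (m - 2)) = 4 * (2 * j * (u * u ^ (m - 2))) := by ring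
          _ = 4 * (2 * j * u ^ k0) := by rw [← pow_succ']; congr 3; omega
          _ ≤ 4 * (c0 * (q ^ n + 1) + 2 * j) := Nat.mul_le_mul_left _ e1
          _ = 2 * ((2 * c0) * (q ^ n + 1)) + 1 * (8 * j) := by ring
          _ ≤ 2 * ((3 * u) * (q ^ n + 1)) + u * (8 * j) := by gcongr; omega
          _ = u * (6 * (q ^ n + 1) + 8 * j) := by ring
          _ ≤ _ := by gcongr; norm_num
      exact Nat.le_of_mul_le_mul_left e3 (by omega)
  constructor
  · have := key 1 hh
    omega
  · intro h3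
    have := key 3 h3
    omega

theorem NA.small (N : NA q n v u w h c0 P0 m k0 e) :
    ¬ ((m < 17 → u ^ (m - 2) ≤ 2 ^ 62) ∧ (u ^ (m - 2) ≤ 2 ^ 143 ∨ (3 ≤ h ∧ u ^ (m - 2) ≤ 2 ^ 280))) := by
  rintro ⟨g1, g2⟩
  obtain ⟨hu2, hh, hc, hV, hq6, hvu, h2h, hd, hdw, hw1, hw2, hvc⟩ := N.facts
  have hcP := N.D.cP hV
  have hm := N.m9
  obtain ⟨s, hs⟩ : ∃ s, s = q ^ (n / 2) := ⟨_, rfl⟩
  have hss : s * s = q ^ n := by
    have := N.ne
    rw [hs, ← pow_add]; congr 1; omega
  have h729 : 729 ≤ s * s := by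
    rw [hss]
    calc 729 = 3 ^ 6 := by norm_num
      _ ≤ q ^ 6 := Nat.pow_le_pow_left N.q3 6
      _ ≤ q ^ n := hq6
  have hne' : ∀ i, 1 ≤ i → s * s ≠ u ^ i := by
    intro i hi
    rw [hss]
    intro h1
    apply N.vq
    apply N.vp.dvd_of_dvd_pow (n := n)
    rw [h1]
    exact dvd_pow hvu (by omega)
  rw [← hss, ← AA_AN] at hcP
  have huw := N.uw
  have hF := Sq.finA (m := m) (s := s) (e := e) N.ho N.w2 hm (by rw [← huw]; exact g1) (by rw [← huw]; exact g2) h729
  rw [← huw] at hF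
  rcases N.k0m with ⟨h1, h2⟩ | ⟨h1, h2⟩
  · refine hne' m (by omega) (hF.1 ?_)
    rw [← h2, hcP, h1]
    ring
  · refine hne' (m - 1) (by omega) (hF.2 ?_)
    rw [← h2, hcP, show k0 = m - 1 by omega]
    ring

set_option exponentiation.threshold 1000 in
theorem NA.bigP (N : NA q n v u w h c0 P0 m k0 e) :
    2 ^ 61 ≤ q ^ n ∧ (17 ≤ m → ¬ (q ^ n ≤ 2 ^ 130) ∧ ¬ (3 ≤ h ∧ q ^ n ≤ 2 ^ 264)) := by
  obtain ⟨u1, u2⟩ := N.up
  have h1 := N.small
  constructor
  · by_contra hcon
    apply h1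
    norm_num at hcon
    refine ⟨fun _ => ?_, Or.inl ?_⟩
    · norm_num; omega
    · norm_num; omega
  · intro h17
    constructor
    · intro h2
      apply h1
      norm_num at h2
      refine ⟨fun h => by omega, Or.inl ?_⟩
      norm_num
      omega
    · rintro ⟨h3, h4⟩
      apply h1
      have h5 := u2 h3
      refine ⟨fun h => by omega, Or.inr ⟨h3, ?_⟩⟩
      norm_num at h4 ⊢
      omega

/-- **The equality.** -/
theorem NA.eq (N : NA q n v u w h c0 P0 m k0 e) (hδ : δ = 1 ∨ δ = -1) (S : SgA q n u m k0 e δ k) :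
    k < k0 ∧ (2 * h * (1 : ℕ) * (sA e k0 * sA e k * (u : ℤ) ^ (k0 - k) - 1) = sA e k0 * c0 * (1 + δ * q)) := by
  obtain ⟨hu2, hh, hc, hV, hq6, hvu, h2h, hd, hdw, hw1, hw2, hvc⟩ := N.facts
  obtain ⟨b1, b2⟩ := N.bigP
  obtain ⟨u1, u2⟩ := N.up
  have hq3 := N.q3
  have hn := N.n6
  have hm9 := N.m9
  have hsq := sq_le_two_mul h2h N.ho
  have hcP := N.D.cP hV
  have hkm := S.le
  have hk0 := N.k0m
  have hne := S.ne
  have hu1' : 1 ≤ u := by omega
  have hP60 : 2 ^ 60 ≤ q ^ n := le_trans (by norm_num) b1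
  rcases Nat.lt_or_ge k0 k with hlt | hle
  · exfalso
    have hk : k = k0 + 1 := by omega
    rcases hk0 with ⟨h7, h8⟩ | ⟨h7, h8⟩
    · omega
    obtain ⟨T, κ, h2, h3, h4, h5⟩ := S.top (by omega)
    rw [hk] at h2
    rw [AA_AN e (k0 + 1)] at h2
    rcases N.D.e3 (sA_pm e (k0 + 1)) hδ (Dvd.intro _ h2) h5 h3 with h6 | h6
    · exact e3_ne N.vp hvu N.vh (fun h => N.vp.one_lt.ne' (Nat.dvd_one.1 h)) N.qo N.ho hδ h6
    · have D' : Dat q (q ^ (n - 1)) h 1 (Nat.gcd m (AA e 1 u)) P0 u k0 (sA e k0) := by rw [← h8]; exact N.D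
      rw [h8] at h6
      exact D'.e3_sizeA hV hP60 hq6 (by omega) hsq hh hd hdw hw1 (by omega) h4 (sA_pm e _) h2 h6
  · have hlt : k < k0 := by omega
    refine ⟨hlt, ?_⟩
    obtain ⟨g, hg⟩ : ∃ g, k0 = k + g := ⟨k0 - k, by omega⟩
    rw [show k0 - k = g by omega]
    have D' : Dat q (q ^ (n - 1)) h 1 c0 P0 u (k + g) (sA e k0) := by
      have := N.D
      rwa [← hg]
    rcases Nat.lt_or_ge (k + 1) m with hk1 | hk1
    · -- `k + 2 ≤ m`
      obtain ⟨κ, h3, h4, h5⟩ := S.low (by omega)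
      rcases D'.e1 (sA_pm e k) hδ (T := AA e k u) (by rw [AA_AN]) h5 h3 with h6 | h6
      · exact h6
      exfalso
      obtain ⟨G, hG⟩ : ∃ G, G = 2 * h * 1 * u ^ g := ⟨_, rfl⟩
      have hue := Nat.one_le_pow g u hu1'
      have hHG : 2 * h * 1 ≤ G := by rw [hG]; exact Nat.le_mul_of_pos_right _ hue
      have g1 : G * u ^ k ≤ c0 * (q ^ n + 1) + G := by
        have a2 := AN_ge N.D.pm k0 hu1'
        calc G * u ^ k = 2 * h * 1 * u ^ k0 := by rw [hG, hg, pow_add]; ring
          _ ≤ 2 * h * 1 * (AN (sA e k0) k0 u + 1) := Nat.mul_le_mul_left _ a2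
          _ = c0 * (q ^ n + 1) + 2 * h * 1 := by rw [hcP]; ring
          _ ≤ _ := Nat.add_le_add_left hHG _
      have g2 : c0 * (q ^ n + 1) ≤ G * (u ^ k + 1) := by
        have a2 := AN_le N.D.pm k0 u
        calc c0 * (q ^ n + 1) = 2 * h * 1 * AN (sA e k0) k0 u := hcP
          _ ≤ 2 * h * 1 * (u ^ k0 + 1) := Nat.mul_le_mul_left _ a2
          _ = G * u ^ k + 2 * h * 1 := by rw [hG, hg, pow_add]; ring
          _ ≤ G * u ^ k + G := Nat.add_le_add_left hHG _
          _ = _ := by ring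
      have g4 : AN (sA e k) k u ≤ (q + 1) * (2 * h * 1 * (u ^ g + 1) + c0 * (q + 1)) := by
        rw [← AA_AN]
        exact h6.trans (Nat.mul_le_mul_right _ h4)
      rcases Nat.lt_or_ge n 12 with hn12 | hn12
      · have g3 : u ^ k ≤ 1 + (q + 1) * (2 * G + c0 * (q + 1)) := by
          have a3 := AN_ge (sA_pm e k) k hu1'
          calc u ^ k ≤ AN (sA e k) k u + 1 := a3
            _ ≤ (q + 1) * (2 * h * 1 * (u ^ g + u ^ g) + c0 * (q + 1)) + 1 := by
              gcongr
              refine g4.trans ?_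
              gcongr
            _ = _ := by rw [hG]; ring
        have hc' : c0 = AA e 1 u * Nat.gcd m (AA e 1 u) ∨ c0 = Nat.gcd m (AA e 1 u) := by
          rcases hk0 with ⟨-, h⟩ | ⟨-, h⟩
          · exact Or.inl h
          · exact Or.inr h
        have hn3 : n = 6 ∨ n = 8 ∨ n = 10 := by
          have := N.ne
          omega
        have hmn := N.mn (by omega)
        have hw3 : AA e 1 u ≤ 3 * q := by
          by_contra hcon
          have h7 : 3 * q ≤ u := by omega
          have h8 : (3 * q) ^ (n + 1) ≤ u ^ (m - 2) :=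
            (Nat.pow_le_pow_left h7 _).trans (Nat.pow_le_pow_right hu1' (by omega))
          have h9 : 3 * q ^ n ≤ (3 * q) ^ (n + 1) := by
            rw [mul_pow, pow_succ q]
            calc 3 * q ^ n ≤ 3 ^ (n + 1) * q ^ n := by
                  gcongr
                  exact Nat.le_self_pow (by omega) 3
              _ ≤ 3 ^ (n + 1) * (q ^ n * q) := by
                gcongr
                exact Nat.le_mul_of_pos_right _ (by omega)
          omega
        rcases hn3 with rfl | rfl | rfl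
        · have hq : 1149 ≤ q := by
            by_contra hcon
            have h7 : q ^ 6 ≤ 1148 ^ 6 := Nat.pow_le_pow_left (by omega) 6
            norm_num at h7 b1
            omega
          obtain ⟨n1, n2, -⟩ := num6 hq
          have n3 := num6A hq hw3
          have := size_one_A g1 g2 g3 (S.sc6 rfl) n1 n2 hd hdw hc'
          omega
        · have hq : 197 ≤ q := by
            by_contra hcon
            have h7 : q ^ 8 ≤ 196 ^ 8 := Nat.pow_le_pow_left (by omega) 8
            norm_num at h7 b1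
            omega
          obtain ⟨n1, n2, -⟩ := num8 hq
          have n3 := num8A hq hw3
          have := size_one_A g1 g2 g3 (S.sc8 rfl) n1 n2 hd hdw hc'
          omega
        · have hq : 69 ≤ q := by
            by_contra hcon
            have h7 : q ^ 10 ≤ 68 ^ 10 := Nat.pow_le_pow_left (by omega) 10
            norm_num at h7 b1
            omega
          obtain ⟨n1, n2, n3⟩ := num10A hq hw3
          have := size_one_A g1 g2 g3 (S.sc10 rfl) n1 n2 hd hdw hc'
          omega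
      · have hm := N.m17 hn12
        have hbig := S.big
        have hu15 : u ^ 15 ≤ 3 * q ^ n := by
          have : u ^ 15 ≤ u ^ (m - 2) := Nat.pow_le_pow_right hu1' (by omega)
          omega
        obtain ⟨b, hb⟩ : ∃ b, k + b + 1 = m := ⟨m - 1 - k, by omega⟩
        obtain ⟨r, hr⟩ : ∃ r, k0 = k + b + r := ⟨k0 - (k + b), by omega⟩
        obtain ⟨T2, κ2, c2, p1, p2, p3, p4, p5⟩ := S.two b (by omega) hb
        have D2 : Dat q (q ^ (n - 1)) h 1 c0 P0 u (k + b + r) (sA e k0) := by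
          have := N.D
          rwa [← hr]
        have hgb : g = b + r := by omega
        have hγ : 1 ≤ Nat.gcd k b := Nat.gcd_pos_of_pos_left _ (by omega)
        have hγb : Nat.gcd k b + b ≤ k := by
          have h7 : Nat.gcd k b ∣ k - b := Nat.dvd_sub (Nat.gcd_dvd_left _ _) (Nat.gcd_dvd_right _ _)
          have h8 := Nat.le_of_dvd (by omega) h7
          omega
        have hr' : (r = 1 ∧ c0 = AA e 1 u * Nat.gcd m (AA e 1 u)) ∨ (r = 0 ∧ c0 = Nat.gcd m (AA e 1 u)) := by
          rcases hk0 with ⟨h1, h⟩ | ⟨h1, h⟩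
          · exact Or.inl ⟨by omega, h⟩
          · exact Or.inr ⟨by omega, h⟩
        have hc0' : c0 ≤ (u + 1) ^ 2 := by
          rcases hr' with ⟨-, h⟩ | ⟨-, h⟩ <;> rw [h]
          · rw [sq]; exact Nat.mul_le_mul hw1 (hdw.trans hw1)
          · exact (hdw.trans hw1).trans (Nat.le_self_pow two_ne_zero _)
        have h7 := D2.e2_sizeA hV hq3 (Nat.pow_le_pow_right (by omega) hn12) (by omega) (by omega) (by omega) hu2 hc0'
          hu15 hc hh (sA_pm e k) (sA_pm e b) hδ p3 p4 p5 p1 (by rw [← AA_AN, ← AA_AN]; exact p2) hγ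
          (by rw [← AA_AN, ← AA_AN]; exact gcd_AA (by omega) hu2)
        have h8 := D2.size_two_A hV hq3 hn12 rfl hu2 hd hdw hw1 hr' hu15 hh (sA_pm e k) (by omega) hγb
          (by rw [← hgb]; exact g4) h7 (by omega)
        obtain ⟨b3, b4⟩ := b2 hm
        rcases fin_two_A h8 h2h hu15 N.ho with ⟨h9, h10⟩ | ⟨h9, h10⟩
        · exact b3 h10.le
        · exact b4 ⟨h9, h10.le⟩
    · -- `k + 1 = m = k0`
      have hkm' : k + 1 = m := by omega
      obtain ⟨T, κ, c1, h1, h2, h3, h4, h5⟩ := S.mid hkm'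
      have hg1 : g = 1 := by omega
      subst hg1
      rw [AA_AN e k] at h2
      rcases D'.e1 (sA_pm e k) hδ (Dvd.intro _ h2) h5 h3 with h6 | h6
      · exact h6
      exfalso
      rcases hk0 with ⟨h7, h8⟩ | ⟨h7, h8⟩
      · exact D'.e1_sizeA hV hP60 hq6 (by omega) hu2 h8 hsq hh hd hdw hw1 hw2 (by omega) h4 (sA_pm e _) h1 h2 h6
      · omega

/-- **The contradiction.** -/
theorem NA.false {k' : ℕ} (N : NA q n v u w h c0 P0 m k0 e) (S1 : SgA q n u m k0 e 1 k)
    (S2 : SgA q n u m k0 e (-1) k') : False := by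
  obtain ⟨hu2, hh, hc, hV, hq6, hvu, h2h, hd, hdw, hw1, hw2, hvc⟩ := N.facts
  obtain ⟨h1, h2⟩ := N.eq (Or.inl rfl) S1
  obtain ⟨h3, h4⟩ := N.eq (Or.inr rfl) S2
  exact N.D.zero_pos N.vp hvu N.vq hvc (by omega) N.qo N.ho (fun _ => odd_one) (by omega) (by omega) h2 h4

end

end Cfsg.Agent.R2.Spec.X5
end

private theorem dce_f028be9eeef6 : _root_.True := by
  try have : _root_.True := by simp only [_root_.Cfsg.Agent.R2.Spec.X5.Sq.outA.eq_def]
  try have : _root_.True := by simp only [_root_.Cfsg.Agent.R2.Spec.X5.Sq.outA.eq_2]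
  try have : _root_.True := by simp only [_root_.Cfsg.Agent.R2.Spec.X5.Sq.goA.eq_2]
  try have : _root_.True := by simp only [_root_.Cfsg.Agent.R2.Spec.X5.Sq.cA.eq_1]
  try have : _root_.True := by simp only [_root_.Cfsg.Agent.R2.Spec.X5.Sq.goA.eq_1]
  try have : _root_.True := by simp only [_root_.Cfsg.Agent.R2.Spec.X5.Sq.goA.eq_def]
  try have : _root_.True := by simp only [_root_.Cfsg.Agent.R2.Spec.X5.Sq.outA.eq_1]
  exact _root_.True.intro
end

-- part: R2/Spec/X4/LUp
section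
prune_inst 0x4000030040000020000000000400002000000000000408000000002000200000200000000000001021020200008000008110000000200000000000400000100000080040060810008820008000000400000000000020000000000000000000000000000000
set_option linter.all false
open scoped Cfsg.Agent.FastGrp

-- part: R2/Spec/X4/LRt
section
/-!
# Root multisets of isometries with trivial spinor sign in dimensions 4, 6, 8, any odd `q` (helper4)

Generalises `Cfsg.Agent.H951.B6.six`, `eight` to all odd `q`; `z = (q² + 1) / 2`.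

* `rt4`, `rt6`, `rt8`;
* `pow_eq_of_cnt` : powers of `g` from powers of the roots with multiplicities.
-/

set_option autoImplicit false
set_option linter.unusedSectionVars false

namespace Cfsg.Agent.R2.Spec.X4.LO

open Cfsg.Agent.H160.QRoots Cfsg.Agent.H951.B6

/-! ### Arithmetic -/

theorem arith {q e : ℕ} (he : q = 2 * e + 1) :
    q ^ 2 + 1 = 2 * ((q ^ 2 + 1) / 2) ∧ Odd ((q ^ 2 + 1) / 2) ∧ (q ^ 4 - 1) / 4 * 2 = (q ^ 4 - 1) / 2 ∧
      q ^ 2 + 1 ∣ (q ^ 4 - 1) / 4 ∧ q - 1 ∣ (q ^ 4 - 1) / 4 ∧ q + 1 ∣ (q ^ 4 - 1) / 4 ∧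
      q ^ 2 + 1 ∣ (q ^ 2 + 1) / 2 * (q - 1) ∧ q ^ 2 + 1 ∣ (q ^ 2 + 1) / 2 * (q + 1) ∧
      (q ^ 2 + 1) / 2 * (q - 1) ∣ (q ^ 4 - 1) / 4 ∧ (q ^ 2 + 1) / 2 * (q + 1) ∣ (q ^ 4 - 1) / 4 ∧
      (q ^ 4 - 1) / 4 * 4 = q ^ 4 - 1 ∧ 2 ∣ q ^ 2 - 1 := by
  have h1 : q ^ 2 + 1 = 2 * (2 * e ^ 2 + 2 * e + 1) := by rw [he]; ring
  have hz : (q ^ 2 + 1) / 2 = 2 * e ^ 2 + 2 * e + 1 := by rw [h1, Nat.mul_div_cancel_left _ (by norm_num)]
  have hm : q - 1 = 2 * e := by omega
  have h4 : q ^ 4 - 1 = 4 * (2 * e * (e + 1) * (2 * e ^ 2 + 2 * e + 1)) := by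
    have : q ^ 4 = 4 * (2 * e * (e + 1) * (2 * e ^ 2 + 2 * e + 1)) + 1 := by rw [he]; ring
    omega
  have h44 : (q ^ 4 - 1) / 4 = 2 * e * (e + 1) * (2 * e ^ 2 + 2 * e + 1) := by
    rw [h4, Nat.mul_div_cancel_left _ (by norm_num)]
  refine ⟨?_, ?_, ?_, ?_, ?_, ?_, ?_, ?_, ?_, ?_, ?_, ?_⟩
  · rw [hz, h1]
  · rw [hz]
    exact ⟨e ^ 2 + e, by ring⟩
  · rw [h44, h4]
    (clear * -; omega)
  · rw [h44, h1]
    exact ⟨e * (e + 1), by ring⟩
  · rw [h44, hm]
    exact ⟨(e + 1) * (2 * e ^ 2 + 2 * e + 1), by ring⟩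
  · rw [h44, he]
    exact ⟨e * (2 * e ^ 2 + 2 * e + 1), by ring⟩
  · rw [hz, hm, h1]
    exact ⟨e, by ring⟩
  · rw [hz, h1, he]
    exact ⟨e + 1, by ring⟩
  · rw [hz, hm, h44]
    exact ⟨e + 1, by ring⟩
  · rw [hz, h44, he]
    exact ⟨e, by ring⟩
  · rw [h44, h4]
    ring
  · have : q ^ 2 - 1 = 2 * (2 * e ^ 2 + 2 * e) := by omega
    rw [this]
    exact Dvd.intro _ rfl

variable {K : Type*} [Field K] [DecidableEq K] {q : ℕ}

section

variable {R : Multiset K} (hq : Function.Injective (fun x : K => x ^ q)) (hq0 : 0 < q)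
include hq hq0

/-- the value of `psi` on a multiset which is an orbit of length four of the second kind -/
theorem pow_z {e : ℕ} (he : q = 2 * e + 1) {μ : K} (h : μ ^ (q ^ 2 + 1) = 1) :
    μ ^ ((q ^ 2 + 1) / 2) = 1 ∨ μ ^ ((q ^ 2 + 1) / 2) = -1 := by
  have h1 := (arith he).1
  rw [h1, mul_comm] at h
  exact sq_eq_pm h

/-- four elements -/
theorem rt4 (h : _root_.Cfsg.Agent.H160.QRoots.Inv q R) (hc : R.card = 4) :
    (∃ μ, IsMin q μ 2 ∧ μ ^ (q ^ 2) = μ⁻¹ ∧ R = (orb q μ 2).val) ∨ Bd R 2 (q ^ 2 - 1) := by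
  have hd2 : ∀ x ∈ R, ∀ d, IsMin q x d → d ≤ 2 := fun x hx d hd => by
    have := d_le hq h hd hx
    omega
  rcases small_cases hq hq0 h hd2 with ⟨μ, hμ, hd, h1⟩ | h1
  · left
    obtain ⟨R', h3, h4, h5, h6, h7⟩ := peel hq h hd
    have h8 : 1 ≤ R.count μ := Multiset.one_le_count_iff_mem.2 hμ
    have h9 : R.count μ = 1 := by omega
    have hR' : R'.card = 0 := by omega
    rw [Multiset.card_eq_zero] at hR'
    rw [h9, one_nsmul, hR', add_zero] at h3
    refine ⟨μ, hd, ?_, h3⟩
    rw [← mul_left_inj' hd.ne0, inv_mul_cancel₀ hd.ne0, ← pow_succ, h1]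
  · right
    exact ⟨fun x => by have := cnt_le hq h x; omega, h1⟩

/-- six elements -/
theorem rt6 {e : ℕ} (he : q = 2 * e + 1) (hsub : ∀ x y : K, (x - y) ^ q = x ^ q - y ^ q)
    (h : _root_.Cfsg.Agent.H160.QRoots.Inv q R) (hc : R.card = 6) (hpsi : psi R ^ e = 1) :
    Bd R 1 ((q ^ 3 - 1) / 2) ∨ Bd R 1 ((q ^ 3 + 1) / 2) ∨ Bd R 1 ((q ^ 2 + 1) / 2 * (q - 1)) ∨
      Bd R 1 ((q ^ 2 + 1) / 2 * (q + 1)) ∨ Bd R 3 (q ^ 2 - 1) := by
  obtain ⟨-, -, -, -, -, -, a1, a2, -, -, -, -⟩ := arith he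
  by_cases hbig : ∃ μ ∈ R, ∃ d, IsMin q μ d ∧ 3 ≤ d
  · obtain ⟨μ, hμ, d, hd, h3d⟩ := hbig
    have h1 := d_le hq h hd hμ
    obtain rfl : d = 3 := by omega
    obtain ⟨R', h3, h4, h5, h6, h7⟩ := peel hq h hd
    have h8 : 1 ≤ R.count μ := Multiset.one_le_count_iff_mem.2 hμ
    have h9 : R.count μ = 1 := by omega
    have hR' : R'.card = 0 := by omega
    rw [Multiset.card_eq_zero] at hR'
    rw [h9, one_nsmul, hR', add_zero] at h3
    have hcnt : ∀ x, R.count x ≤ 1 := by
      intro x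
      rw [h3]
      exact Multiset.nodup_iff_count_le_one.1 (orb q μ 3).nodup x
    have hps := psi_orb hq hsub he hd
    rw [← h3, hpsi] at hps
    have hall : ∀ N, μ ^ N = 1 → Bd R 1 N := fun N hN => ⟨hcnt, fun x hx => by
      rw [h3] at hx
      exact ex_orb hx hN⟩
    rcases hd.eq with h10 | h10
    · exact Or.inl (hall _ (inv_eq_one.1 (hps.1 h10).symm))
    · exact Or.inr (Or.inl (hall _ (inv_eq_one.1 (hps.2 h10).symm)))
  · push Not at hbig
    have hd2 : ∀ x ∈ R, ∀ d, IsMin q x d → d ≤ 2 := fun x hx d hd => by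
      have := hbig x hx d hd; omega
    right; right
    rcases small_cases hq hq0 h hd2 with ⟨μ, hμ, hd, h1⟩ | h1
    · obtain ⟨R', h3, h4, h5, h6, h7⟩ := peel hq h hd
      have h8 : 1 ≤ R.count μ := Multiset.one_le_count_iff_mem.2 hμ
      have h9 : R.count μ = 1 := by omega
      have hR' : R'.card = 2 := by omega
      have hcnt : ∀ x, R.count x ≤ 1 := by
        intro x
        by_cases hx : x ∈ R
        · by_cases hxo : x ∈ orb q μ 2
          · rw [count_orb h hxo, h9]
          · rw [← h6 x ((h5 x).2 ⟨hx, hxo⟩)]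
            have := cnt_le hq h4 x
            omega
        · rw [Multiset.count_eq_zero_of_notMem hx]; omega
      rcases one hq hq0 h4 hR' with h10 | h10
      · left
        refine ⟨hcnt, fun x hx => ?_⟩
        by_cases hxo : x ∈ orb q μ 2
        · exact pow_dvd (ex_orb hxo h1) a1
        · exact pow_dvd (h10.ex x ((h5 x).2 ⟨hx, hxo⟩)) (Dvd.intro_left _ rfl)
      · right; left
        refine ⟨hcnt, fun x hx => ?_⟩
        by_cases hxo : x ∈ orb q μ 2
        · exact pow_dvd (ex_orb hxo h1) a2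
        · exact pow_dvd (h10.ex x ((h5 x).2 ⟨hx, hxo⟩)) (Dvd.intro_left _ rfl)
    · right; right
      exact ⟨fun x => by have := cnt_le hq h x; omega, h1⟩

/-- eight elements -/
theorem rt8 {e : ℕ} (he : q = 2 * e + 1) (hsub : ∀ x y : K, (x - y) ^ q = x ^ q - y ^ q)
    (h2K : (2 : K) ≠ 0) (h : _root_.Cfsg.Agent.H160.QRoots.Inv q R) (hc : R.card = 8) (hphi : phi R ^ e = 1) (hpsi : psi R ^ e = 1) :
    (∃ (N : ℕ) (δ : K), (N = (q ^ 3 - 1) / 2 ∨ N = (q ^ 3 + 1) / 2 ∨ N = (q ^ 4 - 1) / 4) ∧ (δ = 1 ∨ δ = -1) ∧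
      (∀ x, R.count x ≤ 1) ∧ ∀ x ∈ R, x ^ N = δ) ∨
      (∃ δ : K, (δ = 1 ∨ δ = -1) ∧ (∀ x, R.count x ≤ 2) ∧ ∀ x ∈ R, x ^ ((q ^ 2 + 1) / 2) = δ) ∨
      Bd R 4 (q ^ 2 - 1) := by
  have hodd : Odd q := ⟨e, he⟩
  obtain ⟨-, -, q0, q1, q2, h88⟩ := arith he
  revert h88; rintro ⟨q3, -, -, -, -, h88⟩
  revert h88; rintro ⟨-, -⟩
  have hm1 : (-1 : K) ≠ 1 := by
    intro h1
    apply h2K
    have : (2 : K) = 1 - (-1) := by norm_num
    rw [this, h1, sub_self]
  have hmm : ((-1 : K) ^ (1 * e)) ^ 2 = 1 := by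
    rw [← pow_mul, mul_comm, pow_mul]
    norm_num
  by_cases hbig : ∃ μ ∈ R, ∃ d, IsMin q μ d ∧ 4 ≤ d
  · left
    obtain ⟨μ, hμ, d, hd, h3d⟩ := hbig
    have h1 := d_le hq h hd hμ
    obtain rfl : d = 4 := by omega
    obtain ⟨R', h3, h4, h5, h6, h7⟩ := peel hq h hd
    have h8 : 1 ≤ R.count μ := Multiset.one_le_count_iff_mem.2 hμ
    have h9 : R.count μ = 1 := by omega
    have hR' : R'.card = 0 := by omega
    rw [Multiset.card_eq_zero] at hR'
    rw [h9, one_nsmul, hR', add_zero] at h3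
    have hcnt : ∀ x, R.count x ≤ 1 := by
      intro x
      rw [h3]
      exact Multiset.nodup_iff_count_le_one.1 (orb q μ 4).nodup x
    have hps := psi_orb hq hsub he hd
    rw [← h3, hpsi] at hps
    rcases hd.eq with h10 | h10
    · have h11 := inv_eq_one.1 (hps.1 h10).symm
      rw [← q0] at h11
      refine ⟨(q ^ 4 - 1) / 4, μ ^ ((q ^ 4 - 1) / 4), Or.inr (Or.inr rfl), sq_eq_pm h11, hcnt, fun x hx => ?_⟩
      rw [h3] at hx
      exact orb_pow hodd hx (sq_eq_pm h11) rfl
    · exfalso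
      have h11 := (phi_orb hq hsub he hd).2 h10
      rw [← h3, hphi] at h11
      apply hm1
      have h12 : (-1 : K) ^ (4 * e) = 1 := by rw [pow_mul]; norm_num
      rw [h12, one_mul] at h11
      exact h11.symm
  · push Not at hbig
    by_cases hbig3 : ∃ μ ∈ R, ∃ d, IsMin q μ d ∧ 3 ≤ d
    · left
      obtain ⟨μ, hμ, d, hd, h3d⟩ := hbig3
      have h1 := hbig μ hμ d hd
      obtain rfl : d = 3 := by omega
      obtain ⟨R', h3, h4, h5, h6, h7⟩ := peel hq h hd
      have h8 : 1 ≤ R.count μ := Multiset.one_le_count_iff_mem.2 hμ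
      have h9 : R.count μ = 1 := by omega
      have hR' : R'.card = 2 := by omega
      obtain ⟨ν, hν⟩ := Multiset.card_pos_iff_exists_mem.1 (by omega : 0 < R'.card)
      obtain ⟨d', hd'⟩ := exists_isMin hq h4 hν
      have h10 := d_le hq h4 hd' hν
      have h11 := hd'.pos
      obtain rfl : d' = 1 := by omega
      obtain ⟨R'', k3, k4, k5, k6, k7⟩ := peel hq h4 hd'
      have k8 : 1 ≤ R'.count ν := Multiset.one_le_count_iff_mem.2 hν
      have k9 : R'.count ν = 1 := by omega
      have hR'' : R''.card = 0 := by omega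
      rw [Multiset.card_eq_zero] at hR''
      rw [k9, one_nsmul, hR'', add_zero] at k3
      rw [h9, one_nsmul] at h3
      have hphi2 : phi (orb q μ 3).val ^ e * phi (orb q ν 1).val ^ e = 1 := by
        rw [← mul_pow, ← phi_add, ← k3, ← h3, hphi]
      have hpsi2 : psi (orb q μ 3).val ^ e * psi (orb q ν 1).val ^ e = 1 := by
        rw [← mul_pow, ← psi_add, ← k3, ← h3, hpsi]
      have hcnt : ∀ x, R.count x ≤ 1 := by
        intro x
        by_cases hx : x ∈ R
        · by_cases hxo : x ∈ orb q μ 3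
          · rw [count_orb h hxo, h9]
          · rw [← h6 x ((h5 x).2 ⟨hx, hxo⟩)]
            have := cnt_le hq h4 x
            omega
        · rw [Multiset.count_eq_zero_of_notMem hx]; omega
      have hsplit : ∀ x ∈ R, x ∈ orb q μ 3 ∨ x ∈ orb q ν 1 := by
        intro x hx
        rw [h3, Multiset.mem_add] at hx
        rcases hx with hx | hx
        · exact Or.inl hx
        · rw [k3] at hx
          exact Or.inr hx
      have e1 := phi_orb hq hsub he hd
      have e2 := phi_orb hq hsub he hd'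
      have p1 := psi_orb hq hsub he hd
      have p2 := psi_orb hq hsub he hd'
      have hs : (-1 : K) ^ (3 * e) * (-1) ^ (1 * e) = 1 := by
        rw [← pow_add, ← add_mul, pow_mul]; norm_num
      obtain ⟨c3, o3, c4, o4⟩ := cube_half he
      have key : ∀ N M s : ℕ, N = M * s → Odd s → ν ^ (M * 2) = 1 → (μ ^ N)⁻¹ * (ν ^ M)⁻¹ = 1 →
          ∃ δ : K, (δ = 1 ∨ δ = -1) ∧ (∀ x, R.count x ≤ 1) ∧ ∀ x ∈ R, x ^ N = δ := by
        intro N M s hN hs' hν2 hprod
        have hpm := sq_eq_pm hν2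
        have hinv : (ν ^ M)⁻¹ = ν ^ M := by
          rcases hpm with h | h <;> rw [h] <;> norm_num
        have hνN : ν ^ N = ν ^ M := by
          rw [hN, pow_mul]
          rcases hpm with h | h
          · rw [h, one_pow]
          · rw [h, hs'.neg_one_pow]
        have hμN : μ ^ N = ν ^ M := by
          have h12 : ν ^ M * ν ^ M = 1 := by
            rcases hpm with h | h <;> rw [h] <;> norm_num
          rw [hinv] at hprod
          have h14 : (μ ^ N)⁻¹ = ν ^ M := by
            calc (μ ^ N)⁻¹ = (μ ^ N)⁻¹ * (ν ^ M * ν ^ M) := by rw [h12, mul_one]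
              _ = ((μ ^ N)⁻¹ * ν ^ M) * ν ^ M := by rw [mul_assoc]
              _ = ν ^ M := by rw [hprod, one_mul]
          rw [← inv_inv (μ ^ N), h14, hinv]
        refine ⟨ν ^ M, hpm, hcnt, fun x hx => ?_⟩
        rcases hsplit x hx with hx' | hx'
        · exact orb_pow hodd hx' hpm hμN
        · exact orb_pow hodd hx' hpm hνN
      rcases hd.eq with c1 | c1
      · rcases hd'.eq with c2 | c2
        · rw [p1.1 c1, p2.1 c2] at hpsi2
          have h12 : (q ^ 1 - 1) / 2 = e := by rw [pow_one]; omega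
          rw [h12] at hpsi2
          obtain ⟨δ, h13, h14, h15⟩ := key _ e _ c3 o3 (by
            have h16 := pow_sub_of_eq hd'.ne0 (pow_pos hq0 1) c2
            rwa [show q ^ 1 - 1 = e * 2 by rw [pow_one]; omega] at h16) hpsi2
          exact ⟨_, δ, Or.inl rfl, h13, h14, h15⟩
        · exfalso
          rw [e1.1 c1, e2.2 c2, ← mul_assoc, hs, one_mul] at hphi2
          exact hm1 hphi2
      · rcases hd'.eq with c2 | c2
        · exfalso
          rw [e1.2 c1, e2.1 c2, mul_assoc, mul_comm (-1 : K), ← mul_assoc, hs, one_mul] at hphi2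
          exact hm1 hphi2
        · rw [p1.2 c1, p2.2 c2] at hpsi2
          have h12 : (q ^ 1 + 1) / 2 = e + 1 := by rw [pow_one]; omega
          rw [h12] at hpsi2
          obtain ⟨δ, h13, h14, h15⟩ := key _ (e + 1) _ c4 o4 (by
            have h16 := pow_add_of_eq hd'.ne0 c2
            rwa [show q ^ 1 + 1 = (e + 1) * 2 by rw [pow_one]; omega] at h16) hpsi2
          exact ⟨_, δ, Or.inr (Or.inl rfl), h13, h14, h15⟩
    · push Not at hbig3
      have hd2 : ∀ x ∈ R, ∀ d, IsMin q x d → d ≤ 2 := fun x hx d hd => by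
        have := hbig3 x hx d hd; omega
      rcases small_cases hq hq0 h hd2 with ⟨μ, hμ, hd, h1⟩ | h1
      · have hμi : μ ^ (q ^ 2) = μ⁻¹ := by
          rw [← mul_left_inj' hd.ne0, inv_mul_cancel₀ hd.ne0, ← pow_succ, h1]
        have e1 := (phi_orb hq hsub he hd).2 hμi
        obtain ⟨R', h3, h4, h5, h6, h7⟩ := peel hq h hd
        have h8 : 1 ≤ R.count μ := Multiset.one_le_count_iff_mem.2 hμ
        by_cases h9 : R.count μ = 1
        · left
          have h12 : R'.card = 4 := by omega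
          rw [h9, one_nsmul] at h3
          obtain ⟨ν, hν⟩ := Multiset.card_pos_iff_exists_mem.1 (by omega : 0 < R'.card)
          obtain ⟨d', hd'⟩ := exists_isMin hq h4 hν
          have h10 := dm_le hq h4 hd'
          have k8 : 1 ≤ R'.count ν := Multiset.one_le_count_iff_mem.2 hν
          have h11 := hd'.pos
          have e3 := phi_orb hq hsub he hd'
          obtain ⟨R'', k3, k4, k5, k6, k7⟩ := peel hq h4 hd'
          have hd'2 : d' = 1 ∨ d' = 2 := by
            have : d' ≤ 2 := by nlinarith only [hc, h7, h8, h10, k8]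
            omega
          have hphiR : phi (orb q μ 2).val ^ e * phi R' ^ e = 1 := by
            rw [← mul_pow, ← phi_add, ← h3, hphi]
          rw [e1, show (-1 : K) ^ (2 * e) = 1 by rw [pow_mul]; norm_num, one_mul] at hphiR
          rcases hd'2 with rfl | rfl
          · -- `ν ^ q = ν ^ ±1`
            have k9 : R'.count ν = 1 ∨ R'.count ν = 2 := by omega
            rcases k9 with k9 | k9
            · -- simple
              have hR'' : R''.card = 2 := by omega
              refine ⟨(q ^ 4 - 1) / 4, 1, Or.inr (Or.inr rfl), Or.inl rfl, ?_, ?_⟩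
              · intro x
                by_cases hx : x ∈ R
                · by_cases hxo : x ∈ orb q μ 2
                  · rw [count_orb h hxo, h9]
                  · have hx' := (h5 x).2 ⟨hx, hxo⟩
                    rw [← h6 x hx']
                    by_cases hxo' : x ∈ orb q ν 1
                    · rw [count_orb h4 hxo', k9]
                    · rw [← k6 x ((k5 x).2 ⟨hx', hxo'⟩)]
                      have := cnt_le hq k4 x
                      omega
                · rw [Multiset.count_eq_zero_of_notMem hx]; omega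
              · intro x hx
                by_cases hxo : x ∈ orb q μ 2
                · exact pow_dvd (ex_orb hxo h1) q1
                · have hx' := (h5 x).2 ⟨hx, hxo⟩
                  by_cases hxo' : x ∈ orb q ν 1
                  · rcases hd'.pow hq0 with h13 | h13
                    · rw [_root_.pow_one] at h13
                      exact pow_dvd (ex_orb hxo' h13) q2
                    · rw [_root_.pow_one] at h13
                      exact pow_dvd (ex_orb hxo' h13) q3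
                  · have hx'' := (k5 x).2 ⟨hx', hxo'⟩
                    rcases one hq hq0 k4 hR'' with h13 | h13
                    · exact pow_dvd (h13.ex x hx'') q2
                    · exact pow_dvd (h13.ex x hx'') q3
            · -- a double pair
              exfalso
              have hR'' : R''.card = 0 := by omega
              rw [Multiset.card_eq_zero] at hR''
              rw [hR'', add_zero, k9] at k3
              have e4 : phi R' ^ e = 1 := by
                rw [k3, phi_nsmul, ← pow_mul, mul_comm 2 e, pow_mul]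
                rcases hd'.eq with c2 | c2
                · rw [e3.1 c2, hmm]
                · rw [e3.2 c2, mul_pow, hmm]
                  norm_num
              rw [e4, mul_one] at hphiR
              exact hm1 hphiR
          · -- orbit of length four
            have k9 : R'.count ν = 1 := by omega
            have hR'' : R''.card = 0 := by omega
            rw [Multiset.card_eq_zero] at hR''
            rw [hR'', add_zero, k9, one_nsmul] at k3
            rcases hd'.eq with c2 | c2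
            · exfalso
              rw [k3, e3.1 c2, show (-1 : K) ^ (2 * e) = 1 by rw [pow_mul]; norm_num, mul_one] at hphiR
              exact hm1 hphiR
            · refine ⟨(q ^ 4 - 1) / 4, 1, Or.inr (Or.inr rfl), Or.inl rfl, fun x => ?_, fun x hx => ?_⟩
              · by_cases hx : x ∈ R
                · by_cases hxo : x ∈ orb q μ 2
                  · rw [count_orb h hxo, h9]
                  · have hx' := (h5 x).2 ⟨hx, hxo⟩
                    rw [← h6 x hx']
                    have hx'' := hx'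
                    rw [k3] at hx''
                    rw [count_orb h4 hx'', k9]
                · rw [Multiset.count_eq_zero_of_notMem hx]; omega
              · by_cases hxo : x ∈ orb q μ 2
                · exact pow_dvd (ex_orb hxo h1) q1
                · have hx' := (h5 x).2 ⟨hx, hxo⟩
                  rw [k3] at hx'
                  exact pow_dvd (ex_orb hx' (pow_add_of_eq hd'.ne0 c2)) q1
        · right; left
          have h10 : R.count μ = 2 := by omega
          rw [h10] at h7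
          have hR' : R'.card = 0 := by omega
          rw [Multiset.card_eq_zero] at hR'
          have hmem : ∀ x ∈ R, x ∈ orb q μ 2 := by
            intro x hx
            by_contra hno
            have := (h5 x).2 ⟨hx, hno⟩
            rw [hR'] at this
            exact Multiset.notMem_zero x this
          have hpm := pow_z hq hq0 he h1
          refine ⟨μ ^ ((q ^ 2 + 1) / 2), hpm, fun x => ?_, fun x hx => orb_pow hodd (hmem x hx) hpm rfl⟩
          by_cases hx : x ∈ R
          · rw [count_orb h (hmem x hx), h10]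
          · rw [Multiset.count_eq_zero_of_notMem hx]; omega
      · right; right
        exact ⟨fun x => by have := cnt_le hq h x; omega, h1⟩

end

section Lin

open Module Polynomial
open Cfsg.Agent.H160.QChar

variable {F V : Type*} [Field F] [AddCommGroup V] [Module F V] [FiniteDimensional F V]

open Classical in
/-- roots with the same `N`-th power `a`, with multiplicities -/
theorem pow_eq_of_cnt {p : ℕ} [hp : Fact p.Prime] [CharP F p] {g : V →ₗ[F] V} {N M c : ℕ} (hN : 0 < N) (a : F)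
    (hcnt : ∀ x, (rts g).count x ≤ M) (h : ∀ x ∈ rts g, x ^ N = algebraMap F (AlgebraicClosure F) a)
    (hc : M ≤ p ^ c) : g ^ (N * p ^ c) = algebraMap F (Module.End F V) (a ^ (p ^ c)) := by
  have : CharP (AlgebraicClosure F) p := charP_of_injective_algebraMap (algebraMap F (AlgebraicClosure F)).injective p
  have h1 : g.charpoly ∣ X ^ (N * p ^ c) - C (a ^ (p ^ c)) := by
    rw [← Polynomial.map_dvd_map' (algebraMap F (AlgebraicClosure F)), eq_prod, Polynomial.map_sub,
      Polynomial.map_pow, Polynomial.map_X, Polynomial.map_C]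
    have h2 : (X ^ (N * p ^ c) - C (algebraMap F (AlgebraicClosure F) (a ^ (p ^ c))) : (AlgebraicClosure F)[X]) =
        (X ^ N - C (algebraMap F (AlgebraicClosure F) a)) ^ (p ^ c) := by
      rw [sub_pow_char_pow, ← pow_mul, map_pow, C_pow]
    rw [h2]
    have hne : (X ^ N - C (algebraMap F (AlgebraicClosure F) a) : (AlgebraicClosure F)[X]) ≠ 0 :=
      X_pow_sub_C_ne_zero hN _
    rw [Multiset.prod_X_sub_C_dvd_iff_le_roots (pow_ne_zero _ hne), roots_pow, Multiset.le_iff_count]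
    intro x
    rw [Multiset.count_nsmul]
    by_cases hx : x ∈ rts g
    · have h3 : 1 ≤ (X ^ N - C (algebraMap F (AlgebraicClosure F) a) : (AlgebraicClosure F)[X]).roots.count x := by
        rw [Multiset.one_le_count_iff_mem, mem_roots hne, IsRoot.def]
        simp [h x hx]
      calc (rts g).count x ≤ M := hcnt x
        _ ≤ p ^ c * 1 := by rw [mul_one]; exact hc
        _ ≤ _ := Nat.mul_le_mul_left _ h3
    · rw [Multiset.count_eq_zero_of_notMem hx]
      exact Nat.zero_le _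
  obtain ⟨w, hw⟩ := h1
  have h2 := congrArg (aeval g) hw
  rw [map_mul, LinearMap.aeval_self_charpoly, zero_mul, map_sub, map_pow, aeval_X, aeval_C, sub_eq_zero] at h2
  exact h2

end Lin

end Cfsg.Agent.R2.Spec.X4.LO
end

-- part: R2/Spec/X4/LUp
section
/-!
# Upper bounds for the orders of isometries of trivial spinor sign in dimensions 7 and 8, any odd `q` (helper4)

`q = |F|`, `z = (q² + 1) / 2`.
-/

set_option autoImplicit false
set_option linter.unusedSectionVars false

namespace Cfsg.Agent.R2.Spec.X4.LO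

open QuadraticMap Module
open Cfsg.Agent.LieClassical.OrthCore Cfsg.Agent.H160.QSpin Cfsg.Agent.H160.QDisc Cfsg.Agent.H160.QSplit
  Cfsg.Agent.H160.QMain Cfsg.Agent.H160.QUpper Cfsg.Agent.H160.QRoots Cfsg.Agent.H160.QChar
open Cfsg.Agent.H951.B6 (psi_orb split_three psi_pow phi_pow dc_zero exists_sign neg_neg_mul neg_mul_odd eq_zero_dim
  finrank_fin)

/-- the exponents in dimension seven -/
def LstO (p q N : ℕ) : Prop :=
  N = (q ^ 3 - 1) / 2 ∨ N = (q ^ 3 + 1) / 2 ∨ N = (q ^ 2 + 1) / 2 * (q - 1) ∨ N = (q ^ 2 + 1) / 2 * (q + 1) ∨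
    N = p * ((q ^ 2 + 1) / 2) ∨ N = p * (q ^ 2 - 1) ∨ (p ≤ 5 ∧ N = p ^ 2 * (q ^ 2 - 1))

/-- the exponents in dimension eight -/
def LstP (p q N : ℕ) : Prop :=
  N = (q ^ 3 - 1) / 2 ∨ N = (q ^ 3 + 1) / 2 ∨ N = (q ^ 4 - 1) / 4 ∨
    N = p * ((q ^ 2 + 1) / 2) ∨ N = p * (q ^ 2 - 1) ∨ (p ≤ 5 ∧ N = p ^ 2 * (q ^ 2 - 1))

theorem exists_c {p : ℕ} (hp : p.Prime) (hp2 : p ≠ 2) : ∃ c : ℕ, 7 ≤ p ^ c ∧ (c = 1 ∨ (c = 2 ∧ p ≤ 5)) := by
  have h2 := hp.two_le
  by_cases h7 : 7 ≤ p
  · exact ⟨1, by rw [pow_one]; exact h7, Or.inl rfl⟩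
  · have h6 : p ≠ 6 := by
      rintro rfl
      revert hp
      decide
    have h3 : 3 ≤ p := by omega
    exact ⟨2, by nlinarith, Or.inr ⟨rfl, by omega⟩⟩

variable {F : Type*} [Field F] [Fintype F] [DecidableEq F] {p : ℕ} [hp : Fact p.Prime] [CharP F p]

include hp in
theorem p_ne_two (h2 : (2 : F) ≠ 0) : p ≠ 2 := by
  rintro rfl
  apply h2
  have := CharP.cast_eq_zero F 2
  exact_mod_cast this

theorem card_odd (h2 : (2 : F) ≠ 0) : ∃ e, Fintype.card F = 2 * e + 1 := by
  obtain ⟨e, he⟩ := card_odd_eq h2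
  exact ⟨e, he⟩

section Pieces

variable {n : ℕ} {Q : QuadraticForm F (Fin n → F)} {k : (Fin n → F) ≃ₗ[F] (Fin n → F)}

include hp in
open Classical in
/-- exponents of the part without eigenvalues `±1` -/
theorem pow_of_bd {M N c : ℕ} (hB : Bd (rts (en k)) M N) (hc : M ≤ p ^ c) : k ^ (N * p ^ c) = 1 := by
  apply en_inj
  rw [en_pow]
  exact pow_eq_one_of_bd hB hc

open Classical in
theorem pow_of_bd_one {N : ℕ} (hB : Bd (rts (en k)) 1 N) : k ^ N = 1 := by
  obtain ⟨p, hpF⟩ := CharP.exists F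
  have hp : Fact p.Prime := ⟨CharP.char_is_prime F p⟩
  simpa only [_root_.pow_zero, _root_.mul_one] using pow_of_bd (p := p) (c := 0) hB (by simp)

include hp in
/-- unipotent parts -/
theorem unip_pow' (h2 : (2 : F) ≠ 0) (hQ : Nondeg Q) (hu : k ∈ O Q) (hnil : (en k - 1) ^ n = 0) {c : ℕ}
    (h : n ≤ p ^ c ∨ (Even n ∧ n ≤ p ^ c + 1)) : k ^ (p ^ c) = 1 := by
  rcases h with h | ⟨hev, h⟩
  · exact unip_pow (p := p) hnil h
  · rcases Nat.eq_zero_or_pos n with h0 | h0
    · exact eq_zero_dim h0 _ _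
    · obtain ⟨m, rfl⟩ : ∃ m, n = m + 1 := ⟨n - 1, by omega⟩
      have hm : Odd m := by
        rw [← Nat.not_even_iff_odd]
        intro hm
        exact (Nat.not_even_iff_odd.2 hm.add_one) hev
      exact unip_pow (p := p) (unip_even h2 hQ hu (by simp) hm hnil) (by omega)

/-- unipotent isometries of a line or a plane are trivial -/
theorem unip_one (h2 : (2 : F) ≠ 0) (hQ : Nondeg Q) (hu : k ∈ O Q) (hnil : (en k - 1) ^ n = 0) (hn : n ≤ 2) : k = 1 := by
  obtain ⟨p, hpF⟩ := CharP.exists F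
  have hp : Fact p.Prime := ⟨CharP.char_is_prime F p⟩
  have h : n ≤ p ^ 0 ∨ (Even n ∧ n ≤ p ^ 0 + 1) := by
    rw [pow_zero]
    rcases Nat.lt_or_ge n 2 with h | h
    · left; omega
    · right
      obtain rfl : n = 2 := by omega
      exact ⟨even_two, le_refl _⟩
  simpa using unip_pow' (p := p) h2 hQ hu hnil h

/-- four dimensions, trivial spinor sign -/
theorem key4 (h2 : (2 : F) ≠ 0) (hp3 : 3 ≤ p) (hQ : Nondeg Q) (hn : n = 4) (hk : El Q 1 k)
    (h1 : ∀ x, k x = x → x = 0) (hm : ∀ x, k x = -x → x = 0) :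
    k ^ ((Fintype.card F ^ 2 + 1) / 2) = 1 ∨ k ^ ((Fintype.card F ^ 2 - 1) * p) = 1 := by
  classical
  obtain ⟨e, he⟩ := card_odd h2
  have hI := inv_rts hQ hk.1 h1 hm
  have hc := (card_rts (en k)).trans ((finrank_fin n).trans hn)
  rcases rt4 (frob_inj F) Fintype.card_pos hI hc with ⟨μ, hμ, hμi, hR⟩ | hB
  · left
    have hps := psi_pow h2 hQ (by rw [finrank_fin, hn]; decide) hk hm he
    have h3 := (psi_orb (frob_inj F) (frob_sub F) he hμ).2 hμi
    rw [← hR, hps] at h3
    have h4 := inv_eq_one.1 h3.symm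
    apply pow_of_bd_one
    refine ⟨fun x => ?_, fun x hx => ?_⟩
    · rw [hR]
      exact Multiset.nodup_iff_count_le_one.1 (orb _ μ 2).nodup x
    · rw [hR] at hx
      exact ex_orb hx h4
  · right
    have := pow_of_bd (p := p) (c := 1) hB (by rw [pow_one]; omega)
    rwa [pow_one] at this

/-- six dimensions, trivial spinor sign -/
theorem key6 (h2 : (2 : F) ≠ 0) (hp3 : 3 ≤ p) (hQ : Nondeg Q) (hn : n = 6) (hk : El Q 1 k)
    (h1 : ∀ x, k x = x → x = 0) (hm : ∀ x, k x = -x → x = 0) :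
    ∃ N, (N = (Fintype.card F ^ 3 - 1) / 2 ∨ N = (Fintype.card F ^ 3 + 1) / 2 ∨
      N = (Fintype.card F ^ 2 + 1) / 2 * (Fintype.card F - 1) ∨
      N = (Fintype.card F ^ 2 + 1) / 2 * (Fintype.card F + 1) ∨ N = p * (Fintype.card F ^ 2 - 1)) ∧ k ^ N = 1 := by
  classical
  obtain ⟨e, he⟩ := card_odd h2
  have hI := inv_rts hQ hk.1 h1 hm
  have hc := (card_rts (en k)).trans ((finrank_fin n).trans hn)
  have hps := psi_pow h2 hQ (by rw [finrank_fin, hn]; decide) hk hm he
  rcases rt6 (frob_inj F) Fintype.card_pos he (frob_sub F) hI hc hps with hB | hB | hB | hB | hB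
  · exact ⟨_, Or.inl rfl, pow_of_bd_one hB⟩
  · exact ⟨_, Or.inr (Or.inl rfl), pow_of_bd_one hB⟩
  · exact ⟨_, Or.inr (Or.inr (Or.inl rfl)), pow_of_bd_one hB⟩
  · exact ⟨_, Or.inr (Or.inr (Or.inr (Or.inl rfl))), pow_of_bd_one hB⟩
  · refine ⟨_, Or.inr (Or.inr (Or.inr (Or.inr rfl))), ?_⟩
    have := pow_of_bd (p := p) (c := 1) hB (by rw [pow_one]; omega)
    rwa [pow_one, mul_comm] at this

/-- two dimensions -/
theorem key2 (hQ : Nondeg Q) (hn : n = 2) (hk : k ∈ O Q) (h1 : ∀ x, k x = x → x = 0) (hm : ∀ x, k x = -x → x = 0) :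
    k ^ (Fintype.card F ^ 2 - 1) = 1 := by
  classical
  have hI := inv_rts hQ hk h1 hm
  have hc := (card_rts (en k)).trans ((finrank_fin n).trans hn)
  rcases one (frob_inj F) Fintype.card_pos hI hc with hB | hB
  · exact pow_dvd_one (pow_of_bd_one hB) (sub_one_dvd _ 2)
  · exact pow_dvd_one (pow_of_bd_one hB) (add_one_dvd_sq _)

/-- four dimensions -/
theorem key4' (hp3 : 3 ≤ p) (hQ : Nondeg Q) (hn : n = 4) (hk : k ∈ O Q) (h1 : ∀ x, k x = x → x = 0)
    (hm : ∀ x, k x = -x → x = 0) : k ^ (Fintype.card F ^ 2 + 1) = 1 ∨ k ^ ((Fintype.card F ^ 2 - 1) * p) = 1 := by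
  classical
  have hI := inv_rts hQ hk h1 hm
  have hc := (card_rts (en k)).trans ((finrank_fin n).trans hn)
  rcases two (frob_inj F) Fintype.card_pos hI hc with hB | hB
  · exact Or.inl (pow_of_bd_one hB)
  · right
    have := pow_of_bd (p := p) (c := 1) hB (by rw [pow_one]; omega)
    rwa [pow_one] at this

theorem neg_no_one (hm : ∀ x, k x = -x → x = 0) :
    ∀ x, (LinearEquiv.neg F * k : (Fin n → F) ≃ₗ[F] (Fin n → F)) x = x → x = 0 := fun x hx => hm x (by
  have h3 : -(k x) = x := hx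
  rw [← h3, neg_neg]
  exact congrArg k h3)

theorem neg_no_neg (h1 : ∀ x, k x = x → x = 0) :
    ∀ x, (LinearEquiv.neg F * k : (Fin n → F) ≃ₗ[F] (Fin n → F)) x = -x → x = 0 := fun x hx => h1 x (by
  have h3 : -(k x) = -x := hx
  exact neg_injective h3)

end Pieces

section

variable {V : Type*} [AddCommGroup V] [Module F V] [FiniteDimensional F V] [Finite V] {Q : QuadraticForm F V}

include hp in
/-- **dimension seven** -/
theorem up7 (h2 : (2 : F) ≠ 0) (hQ : Nondeg Q) (hV : finrank F V = 7) {g : V ≃ₗ[F] V} (hg : El Q 1 g) :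
    ∃ N, LstO p (Fintype.card F) N ∧ g ^ N = 1 := by
  classical
  have hp2 := p_ne_two (F := F) (p := p) h2
  have hp3 : 3 ≤ p := by
    have := hp.out.two_le
    omega
  obtain ⟨e, he⟩ := card_odd h2
  obtain ⟨-, -, -, -, -, h88⟩ := arith he
  revert h88; rintro ⟨-, a1, -, -, -, h88⟩
  revert h88; rintro ⟨-, e2⟩
  obtain ⟨n, a, b, Q₀, Q₁, h88⟩ := split_three (p := p) h2 hQ hg
  revert h88; rintro ⟨Q₂, g₀, u₁, u₂, s, h88⟩
  revert h88; rintro ⟨hdim, hQ₀, hQ₁, hQ₂, hdcs, h88⟩
  revert h88; rintro ⟨hs, hg₀, hu₁, hu₂, hno, h88⟩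
  revert h88; rintro ⟨hnm, hnil₁, hnil₂, hen, heb, h88⟩
  revert h88; rintro ⟨hone, hneg⟩
  rw [hV] at hdim
  -- the remaining cases
  have rest : ∀ {c : ℕ}, g₀ ^ ((Fintype.card F ^ 2 - 1) * p ^ c) = 1 → u₁ ^ (p ^ c) = 1 → u₂ ^ (p ^ c) = 1 →
      g ^ (p ^ c * (Fintype.card F ^ 2 - 1)) = 1 := by
    intro c h0 h1 h3
    refine hone _ (by rw [mul_comm]; exact h0) (pow_dvd_one h1 (Dvd.intro _ rfl)) ?_
    refine pow_dvd_one (neg_mul_pow h3) ?_
    rw [mul_comm 2]
    exact Nat.mul_dvd_mul_left _ e2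
  have lst : ∀ {c : ℕ}, (c = 1 ∨ (c = 2 ∧ p ≤ 5)) → LstO p (Fintype.card F) (p ^ c * (Fintype.card F ^ 2 - 1)) := by
    rintro c (rfl | ⟨rfl, h⟩)
    · rw [pow_one]
      exact Or.inr (Or.inr (Or.inr (Or.inr (Or.inr (Or.inl rfl)))))
    · exact Or.inr (Or.inr (Or.inr (Or.inr (Or.inr (Or.inr ⟨h, rfl⟩)))))
  have hn : n = 0 ∨ n = 2 ∨ n = 4 ∨ n = 6 := by
    obtain ⟨t, ht⟩ := hen
    (clear * - hdim ht; omega)
  obtain ⟨c, hc7, hc⟩ := exists_c hp.out hp2
  rcases hn with hn | hn | hn | hn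
  · refine ⟨_, lst hc, rest (eq_zero_dim hn _ _) ?_ ?_⟩
    · exact unip_pow' h2 hQ₁ hu₁ hnil₁ (Or.inl (by omega))
    · exact unip_pow' h2 hQ₂ hu₂ hnil₂ (Or.inl (by omega))
  · refine ⟨_, lst hc, rest (pow_dvd_one (key2 hQ₀ hn hg₀.1 hno hnm) (Dvd.intro _ rfl)) ?_ ?_⟩
    · exact unip_pow' h2 hQ₁ hu₁ hnil₁ (Or.inl (by omega))
    · exact unip_pow' h2 hQ₂ hu₂ hnil₂ (Or.inl (by omega))
  · have hab : (a = 3 ∧ b = 0) ∨ (a = 1 ∧ b = 2) := by
      obtain ⟨t, ht⟩ := heb
      (clear * - hdim hn ht; omega)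
    have r1 : g₀ ^ ((Fintype.card F ^ 2 - 1) * p) = 1 →
        ∃ N, LstO p (Fintype.card F) N ∧ g ^ N = 1 := by
      intro h
      refine ⟨_, lst (Or.inl rfl), rest (by rw [pow_one]; exact h) ?_ ?_⟩
      · exact unip_pow' h2 hQ₁ hu₁ hnil₁ (Or.inl (by rw [pow_one]; omega))
      · exact unip_pow' h2 hQ₂ hu₂ hnil₂ (Or.inl (by rw [pow_one]; omega))
    rcases hab with ⟨ha, hb⟩ | ⟨ha, hb⟩
    · have hs1 : s = 1 := by
        subst hb
        rw [dc_zero] at hs
        exact Units.ext hs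
      rw [hs1] at hg₀
      rcases key4 h2 hp3 hQ₀ hn hg₀ hno hnm with h | h
      · refine ⟨_, Or.inr (Or.inr (Or.inr (Or.inr (Or.inl rfl)))), hone _ (pow_dvd_one h (Dvd.intro_left _ rfl)) ?_
          (eq_zero_dim hb _ _)⟩
        have := unip_pow' (p := p) (c := 1) h2 hQ₁ hu₁ hnil₁ (Or.inl (by rw [pow_one]; omega))
        rw [pow_one] at this
        exact pow_dvd_one this (Dvd.intro _ rfl)
      · exact r1 h
    · rcases key4' hp3 hQ₀ hn hg₀.1 hno hnm with h | h
      · refine ⟨_, Or.inr (Or.inr (Or.inl rfl)), hone _ (pow_dvd_one h a1) ?_ ?_⟩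
        · rw [unip_one h2 hQ₁ hu₁ hnil₁ (by omega), one_pow]
        · rw [unip_one h2 hQ₂ hu₂ hnil₂ (by omega)]
          refine pow_dvd_one (m := 2) ?_ ?_
          · simpa only [_root_.mul_one] using neg_mul_pow (V := Fin b → F) (F := F) (g := 1) (m := 1) (one_pow 1)
          · refine dvd_trans ?_ a1
            exact ⟨_, (arith he).1⟩
      · exact r1 h
  · have ha : a ≤ 1 := by
      obtain ⟨t, ht⟩ := heb
      omega
    have hb : b = 0 := by
      obtain ⟨t, ht⟩ := heb
      omega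
    have hs1 : s = 1 := by
      subst hb
      rw [dc_zero] at hs
      exact Units.ext hs
    rw [hs1] at hg₀
    obtain ⟨N, hN, hk⟩ := key6 h2 hp3 hQ₀ hn hg₀ hno hnm
    refine ⟨N, ?_, hone _ hk ?_ (eq_zero_dim hb _ _)⟩
    · rcases hN with h | h | h | h | h
      · exact Or.inl h
      · exact Or.inr (Or.inl h)
      · exact Or.inr (Or.inr (Or.inl h))
      · exact Or.inr (Or.inr (Or.inr (Or.inl h)))
      · exact Or.inr (Or.inr (Or.inr (Or.inr (Or.inr (Or.inl h)))))
    · rw [unip_one h2 hQ₁ hu₁ hnil₁ (by omega), one_pow]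

include hp in
/-- **dimension eight, plus type** -/
theorem up8 (h2 : (2 : F) ≠ 0) (hQ : Nondeg Q) (hV : finrank F V = 8) (hdc : dc Q = 1) {g : V ≃ₗ[F] V}
    (hg : El Q 1 g) : ∃ N, LstP p (Fintype.card F) N ∧ (g ^ N = 1 ∨ g ^ N = LinearEquiv.neg F) := by
  classical
  have hp2 := p_ne_two (F := F) (p := p) h2
  have hp3 : 3 ≤ p := by
    have := hp.out.two_le
    omega
  have hpo : Odd p := hp.out.odd_of_ne_two hp2
  obtain ⟨e, he⟩ := card_odd h2
  obtain ⟨b1, b2, -, b4, -, h88⟩ := arith he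
  revert h88; rintro ⟨-, a1, -, b5, b6, h88⟩
  revert h88; rintro ⟨b7, e2⟩
  obtain ⟨n, a, b, Q₀, Q₁, h88⟩ := split_three (p := p) h2 hQ hg
  revert h88; rintro ⟨Q₂, g₀, u₁, u₂, s, h88⟩
  revert h88; rintro ⟨hdim, hQ₀, hQ₁, hQ₂, hdcs, h88⟩
  revert h88; rintro ⟨hs, hg₀, hu₁, hu₂, hno, h88⟩
  revert h88; rintro ⟨hnm, hnil₁, hnil₂, hen, heb, h88⟩
  revert h88; rintro ⟨hone, hneg⟩
  rw [hV] at hdim
  have hea : Even a := by
    obtain ⟨n', hn'⟩ := hen
    obtain ⟨b', hb'⟩ := heb
    exact ⟨4 - n' - b', by omega⟩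
  have rest : ∀ {c : ℕ}, g₀ ^ ((Fintype.card F ^ 2 - 1) * p ^ c) = 1 → u₁ ^ (p ^ c) = 1 → u₂ ^ (p ^ c) = 1 →
      g ^ (p ^ c * (Fintype.card F ^ 2 - 1)) = 1 := by
    intro c h0 h1 h3
    refine hone _ (by rw [mul_comm]; exact h0) (pow_dvd_one h1 (Dvd.intro _ rfl)) ?_
    refine pow_dvd_one (neg_mul_pow h3) ?_
    rw [mul_comm 2]
    exact Nat.mul_dvd_mul_left _ e2
  have lst : ∀ {c : ℕ}, (c = 1 ∨ (c = 2 ∧ p ≤ 5)) → LstP p (Fintype.card F) (p ^ c * (Fintype.card F ^ 2 - 1)) := by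
    rintro c (rfl | ⟨rfl, h⟩)
    · rw [pow_one]
      exact Or.inr (Or.inr (Or.inr (Or.inr (Or.inl rfl))))
    · exact Or.inr (Or.inr (Or.inr (Or.inr (Or.inr ⟨h, rfl⟩))))
  have hn8 : n = 0 ∨ n = 2 ∨ n = 4 ∨ n = 6 ∨ n = 8 := by
    obtain ⟨t, ht⟩ := hen
    (clear * - hdim ht; omega)
  obtain ⟨c, hc7, hc⟩ := exists_c hp.out hp2
  -- passing to `-g₀`
  have hk0 : a = 0 → El Q₀ 1 (LinearEquiv.neg F * g₀) := by
    intro ha
    have hdc1 : dc Q₁ = 1 := by
      subst ha
      exact dc_zero Q₁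
    obtain ⟨s₀, hs₀⟩ := exists_sign (dc_cases hQ₀)
    have hss : s₀ * s = 1 := by
      apply Units.ext
      rw [Units.val_mul, hs₀, hs, Units.val_one]
      rw [hdc, hdc1, mul_one] at hdcs
      exact hdcs.symm
    have := (el_neg h2 hQ₀ (by rw [finrank_fin]; exact hen) hs₀).mul hg₀
    rwa [hss] at this
  have hs1 : b = 0 → s = 1 := by
    intro hb
    subst hb
    rw [dc_zero] at hs
    exact Units.ext hs
  rcases hn8 with hn | hn | hn | hn | hn
  · refine ⟨_, lst hc, Or.inl (rest (eq_zero_dim hn _ _) ?_ ?_)⟩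
    · exact unip_pow' h2 hQ₁ hu₁ hnil₁ (Or.inr ⟨hea, by omega⟩)
    · exact unip_pow' h2 hQ₂ hu₂ hnil₂ (Or.inr ⟨heb, by omega⟩)
  · refine ⟨_, lst hc, Or.inl (rest (pow_dvd_one (key2 hQ₀ hn hg₀.1 hno hnm) (Dvd.intro _ rfl)) ?_ ?_)⟩
    · exact unip_pow' h2 hQ₁ hu₁ hnil₁ (Or.inr ⟨hea, by omega⟩)
    · exact unip_pow' h2 hQ₂ hu₂ hnil₂ (Or.inr ⟨heb, by omega⟩)
  · -- two pairs
    have r1 : g₀ ^ ((Fintype.card F ^ 2 - 1) * p) = 1 →
        ∃ N, LstP p (Fintype.card F) N ∧ (g ^ N = 1 ∨ g ^ N = LinearEquiv.neg F) := by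
      intro h
      refine ⟨_, lst (Or.inl rfl), Or.inl (rest (by rw [pow_one]; exact h) ?_ ?_)⟩
      · exact unip_pow' h2 hQ₁ hu₁ hnil₁ (Or.inr ⟨hea, by rw [pow_one]; omega⟩)
      · exact unip_pow' h2 hQ₂ hu₂ hnil₂ (Or.inr ⟨heb, by rw [pow_one]; omega⟩)
    have hab : (a = 4 ∧ b = 0) ∨ (a = 0 ∧ b = 4) ∨ (a = 2 ∧ b = 2) := by
      obtain ⟨t, ht⟩ := heb
      obtain ⟨t', ht'⟩ := hea
      (clear * - hdim hn ht'; omega)
    rcases hab with ⟨ha, hb⟩ | ⟨ha, hb⟩ | ⟨ha, hb⟩
    · rw [hs1 hb] at hg₀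
      rcases key4 h2 hp3 hQ₀ hn hg₀ hno hnm with h | h
      · refine ⟨_, Or.inr (Or.inr (Or.inr (Or.inl rfl))), Or.inl (hone _ (pow_dvd_one h (Dvd.intro_left _ rfl)) ?_
          (eq_zero_dim hb _ _))⟩
        have := unip_pow' (p := p) (c := 1) h2 hQ₁ hu₁ hnil₁ (Or.inr ⟨hea, by rw [pow_one]; omega⟩)
        rw [pow_one] at this
        exact pow_dvd_one this (Dvd.intro _ rfl)
      · exact r1 h
    · rcases key4 h2 hp3 hQ₀ hn (hk0 ha) (neg_no_one hnm) (neg_no_neg hno) with h | h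
      · have hodd : Odd (p * ((Fintype.card F ^ 2 + 1) / 2)) := hpo.mul b2
        refine ⟨_, Or.inr (Or.inr (Or.inr (Or.inl rfl))), Or.inr (hneg _ ?_ (eq_zero_dim ha _ _) ?_)⟩
        · have h3 := neg_mul_odd hodd (pow_dvd_one h (Dvd.intro_left p rfl))
          rwa [neg_neg_mul] at h3
        · have := unip_pow' (p := p) (c := 1) h2 hQ₂ hu₂ hnil₂ (Or.inr ⟨heb, by rw [pow_one]; omega⟩)
          rw [pow_one] at this
          exact neg_mul_odd hodd (pow_dvd_one this (Dvd.intro _ rfl))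
      · apply r1
        have h3 : Even ((Fintype.card F ^ 2 - 1) * p) := (even_iff_two_dvd.2 e2).mul_right _
        obtain ⟨t, ht⟩ := h3
        rw [ht] at h ⊢
        rw [(neg_comm g₀).mul_pow, ← two_mul, pow_mul, Cfsg.Agent.H160.QUpper.neg_pow_two, one_pow, one_mul,
          two_mul] at h
        exact h
    · rcases key4' hp3 hQ₀ hn hg₀.1 hno hnm with h | h
      · refine ⟨_, Or.inr (Or.inr (Or.inl rfl)), Or.inl (hone _ (pow_dvd_one h b4) ?_ ?_)⟩
        · rw [unip_one h2 hQ₁ hu₁ hnil₁ (by omega), one_pow]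
        · rw [unip_one h2 hQ₂ hu₂ hnil₂ (by omega)]
          refine pow_dvd_one (m := 2) ?_ ?_
          · simpa only [_root_.mul_one] using neg_mul_pow (V := Fin b → F) (F := F) (g := 1) (m := 1) (one_pow 1)
          · refine dvd_trans ?_ b4
            exact ⟨_, b1⟩
      · exact r1 h
  · -- three pairs
    have hab : (a = 2 ∧ b = 0) ∨ (a = 0 ∧ b = 2) := by
      obtain ⟨t, ht⟩ := heb
      (clear * - hdim hn ht; omega)
    have conv : ∀ k : (Fin n → F) ≃ₗ[F] (Fin n → F), (∃ N, (N = (Fintype.card F ^ 3 - 1) / 2 ∨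
        N = (Fintype.card F ^ 3 + 1) / 2 ∨ N = (Fintype.card F ^ 2 + 1) / 2 * (Fintype.card F - 1) ∨
        N = (Fintype.card F ^ 2 + 1) / 2 * (Fintype.card F + 1) ∨ N = p * (Fintype.card F ^ 2 - 1)) ∧ k ^ N = 1) →
        ∃ N, LstP p (Fintype.card F) N ∧ k ^ N = 1 := by
      rintro k ⟨N, hN, hk⟩
      rcases hN with h | h | h | h | h
      · exact ⟨N, Or.inl h, hk⟩
      · exact ⟨N, Or.inr (Or.inl h), hk⟩
      · exact ⟨_, Or.inr (Or.inr (Or.inl rfl)), pow_dvd_one hk (by rw [h]; exact b5)⟩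
      · exact ⟨_, Or.inr (Or.inr (Or.inl rfl)), pow_dvd_one hk (by rw [h]; exact b6)⟩
      · exact ⟨N, Or.inr (Or.inr (Or.inr (Or.inr (Or.inl h)))), hk⟩
    rcases hab with ⟨ha, hb⟩ | ⟨ha, hb⟩
    · rw [hs1 hb] at hg₀
      obtain ⟨N, hN, hk⟩ := conv g₀ (key6 h2 hp3 hQ₀ hn hg₀ hno hnm)
      refine ⟨N, hN, Or.inl (hone _ hk ?_ (eq_zero_dim hb _ _))⟩
      rw [unip_one h2 hQ₁ hu₁ hnil₁ (by omega), one_pow]
    · obtain ⟨N, hN, hkN⟩ := conv _ (key6 h2 hp3 hQ₀ hn (hk0 ha) (neg_no_one hnm) (neg_no_neg hno))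
      have hu2 := unip_one h2 hQ₂ hu₂ hnil₂ (by omega)
      refine ⟨N, hN, ?_⟩
      rcases Nat.even_or_odd N with hNe | hNo
      · left
        obtain ⟨t, rfl⟩ := hNe
        have h5 : ∀ {d : ℕ} {u : (Fin d → F) ≃ₗ[F] (Fin d → F)}, u ^ (t + t) = 1 →
            (LinearEquiv.neg F * u) ^ (t + t) = 1 := by
          intro d u hu
          rw [(neg_comm u).mul_pow, hu, mul_one, ← two_mul, pow_mul, Cfsg.Agent.H160.QUpper.neg_pow_two, one_pow]
        refine hone _ ?_ (eq_zero_dim ha _ _) (by rw [hu2]; exact h5 (one_pow _))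
        have := h5 hkN
        rwa [neg_neg_mul] at this
      · right
        refine hneg _ ?_ (eq_zero_dim ha _ _) (by rw [hu2]; exact neg_mul_odd hNo (one_pow _))
        have := neg_mul_odd hNo hkN
        rwa [neg_neg_mul] at this
  · -- four pairs
    have ha : a = 0 := by omega
    have hb : b = 0 := by omega
    rw [hs1 hb] at hg₀
    have hdc0 : dc Q₀ = 1 := by
      subst ha
      subst hb
      rw [hdc, dc_zero, dc_zero, mul_one, mul_one] at hdcs
      exact hdcs.symm
    have hInv := inv_rts hQ₀ hg₀.1 hno hnm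
    have hcard := (card_rts (en g₀)).trans ((finrank_fin n).trans hn)
    have hps := psi_pow h2 hQ₀ (by rw [finrank_fin]; exact hen) hg₀ hnm he
    have hph := phi_pow hQ₀ hg₀ hno hnm hdc0 he
    have h2K : (2 : AlgebraicClosure F) ≠ 0 := by
      intro h
      apply h2
      apply (algebraMap F (AlgebraicClosure F)).injective
      rw [map_ofNat, map_zero, h]
    have hsg : ∀ δ : AlgebraicClosure F, (δ = 1 ∨ δ = -1) → ∃ c : F, (c = 1 ∨ c = -1) ∧
        δ = algebraMap F (AlgebraicClosure F) c := by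
      rintro δ (h | h)
      · exact ⟨1, Or.inl rfl, by rw [h, map_one]⟩
      · exact ⟨-1, Or.inr rfl, by rw [h, map_neg, map_one]⟩
    have fin : ∀ (N : ℕ) (c : F), (c = 1 ∨ c = -1) → (en g₀) ^ N = algebraMap F (Module.End F (Fin n → F)) c →
        g ^ N = 1 ∨ g ^ N = LinearEquiv.neg F := by
      intro N c hc1 h3
      rcases hc1 with rfl | rfl
      · left
        refine hone _ ?_ (eq_zero_dim ha _ _) (eq_zero_dim hb _ _)
        apply en_inj
        rw [en_pow, h3, map_one]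
        rfl
      · right
        refine hneg _ ?_ (eq_zero_dim ha _ _) (eq_zero_dim hb _ _)
        apply en_inj
        rw [en_pow, h3, map_neg, map_one]
        rfl
    have hq3 : 3 ≤ Fintype.card F := by
      have := Fintype.one_lt_card (α := F)
      omega
    rcases rt8 (frob_inj F) Fintype.card_pos he (frob_sub F) h2K hInv hcard hph hps with
      ⟨N, δ, hN, hδ, hcnt, hall⟩ | ⟨δ, hδ, hcnt, hall⟩ | hB
    · have hN0 : 0 < N := by
        have h3 : 3 ^ 3 ≤ Fintype.card F ^ 3 := Nat.pow_le_pow_left hq3 3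
        have h4 : 3 ^ 4 ≤ Fintype.card F ^ 4 := Nat.pow_le_pow_left hq3 4
        rcases hN with h | h | h <;> rw [h] <;> omega
      obtain ⟨d, hd1, hd⟩ := hsg δ hδ
      have h3 := Cfsg.Agent.H202.T.pow_eq_of_simple (g := en g₀) hN0 d hcnt (fun x hx => by rw [hall x hx, hd])
      refine ⟨N, ?_, fin N d hd1 h3⟩
      rcases hN with h | h | h
      · exact Or.inl h
      · exact Or.inr (Or.inl h)
      · exact Or.inr (Or.inr (Or.inl h))
    · obtain ⟨d, hd1, hd⟩ := hsg δ hδ
      have h3 := pow_eq_of_cnt (p := p) (g := en g₀) (N := (Fintype.card F ^ 2 + 1) / 2) (c := 1) (by omega) d hcnt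
        (fun x hx => by rw [hall x hx, hd]) (by rw [pow_one]; omega)
      rw [pow_one, mul_comm] at h3
      have hdp : d ^ p = d := by
        rcases hd1 with rfl | rfl
        · exact one_pow p
        · exact hpo.neg_one_pow
      rw [hdp] at h3
      exact ⟨_, Or.inr (Or.inr (Or.inr (Or.inl rfl))), fin _ d hd1 h3⟩
    · exact ⟨_, lst hc, Or.inl (rest (pow_of_bd hB (by omega)) (eq_zero_dim ha _ _) (eq_zero_dim hb _ _))⟩

end

end Cfsg.Agent.R2.Spec.X4.LO
end
end

-- part: R2/Spec/X6/ExcFin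
section
prune_inst 0x4010070440000020000000002200002040000053000008801590003080a06d2220080200048801802126cb28118010008110000d002000000000034000003002080a9060271d50f0c8e008f803007580c00000000020000000000000000041004000000000
set_option linter.all false
open scoped Cfsg.Agent.FastGrp

/-!
# The numerical contradictions for the exceptional groups (helper2, S3435, box X6; after helper77)

* `mL` : `2 ^ b ∣ ord` implies `mL b ≤ n`;
* `NumL` : the numerical hypotheses; `anaL`, `ana2L` : contradiction for large `q`; `finL` : for a given `q`.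
-/

set_option autoImplicit false

namespace Cfsg.Agent.R2.Spec.X6

open Cfsg.Agent.H77.E4Num Cfsg.Agent.H77.E4Poly Cfsg.Agent.H588.ZsigPart Cfsg.Agent.H365.Zsig Cfsg.Agent.H77.E4Fin

/-- the least rank -/
def mL : ℕ → ℕ
  | 0 => 0
  | b + 1 => 2 ^ b + 1

/-- the numerical hypotheses -/
structure NumL (q n : ℕ) (E : List ℕ) (N g u : ℕ) (I : List ℕ) : Prop where
  up : ∀ b : ℕ, 2 ^ b ∣ N → mL b ≤ n ∧ N ≤ 3 * g * 2 ^ b * q ^ (n - mL b)
  cls : ∀ e ∈ E, ∀ B : ℕ, 1 < B → Prim q e B → ∃ m ∈ I, B ∣ Pn m u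

theorem Pn_pos {u : ℕ} (hu : 3 ≤ u) (m : ℕ) : 0 < Pn m u := by
  rw [Nat.pos_iff_ne_zero]
  intro h0
  have h9 := cast_Pn (show 2 ≤ u by omega) m
  have h10 : ∀ v : ℤ, 3 ≤ v → 0 < Pz m v := by
    intro v hv
    unfold Pz
    have p1 : ∀ a b : ℕ, a ≤ b → v ^ a ≤ v ^ b := fun a b hab => pow_le_pow_right₀ (by omega) hab
    split <;> first | positivity | skip
    · nlinarith
    · have := p1 2 4 (by norm_num); omega
    · have := p1 5 6 (by norm_num); have := p1 3 4 (by norm_num); have := p1 1 2 (by norm_num)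
      rw [pow_one] at this; omega
    · have := p1 7 8 (by norm_num); have := p1 4 5 (by norm_num); have := p1 1 3 (by norm_num)
      rw [pow_one] at this; omega
    · have := p1 3 6 (by norm_num); omega
    · have := p1 6 8 (by norm_num); have := p1 2 4 (by norm_num); omega
    · have := p1 4 8 (by norm_num); omega
    · have a1 := p1 5 7 (by norm_num)
      have a2 : v ^ 4 + v ^ 3 ≤ v ^ 8 := by
        have a3 : v ^ 8 = v ^ 4 * v ^ 4 := by ring
        have a4 := p1 3 4 (by norm_num)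
        have a5 : 2 ≤ v ^ 4 := by
          have : (3 : ℤ) ^ 4 ≤ v ^ 4 := pow_le_pow_left₀ (by norm_num) hv 4
          omega
        nlinarith
      omega
  have h11 := h10 u (by exact_mod_cast hu)
  rw [← h9, h0] at h11
  simp at h11

/-- **Contradiction for large `q`.** -/
theorem anaL {q n : ℕ} {E : List ℕ} {Nf : ℕ → ℕ} {g b0 u : ℕ} {I : List ℕ} (hX : XD Nf g b0 I)
    (h : NumL q n E (Nf u) g u I) (hu : 3 ≤ u) (ho : Odd u) {e P Q : ℕ} (he : e ∈ E) (he3 : 3 ≤ e) (hP : P.Prime)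
    (hPe : P ∣ e) (hmax : ∀ s : ℕ, s.Prime → s ∣ e → s ≤ P) (hQ2 : 2 ≤ Q) (hQ : Q ≤ q) (hφ : n - mL b0 ≤ e.totient)
    (hc : P * 2 * (3 * g * 2 ^ b0) * Q ^ (n - mL b0) ≤ (Q - 1) ^ e.totient) : False := by
  obtain ⟨B, hB, hle⟩ := exists_prim (q := q) (by omega) he3 hP hPe hmax
  have h1 := pow_mono (by omega) hQ hφ hc
  have h2 := Ph_gt (e := e) (by omega) (show 2 ≤ q by omega)
  have h3 : P * 2 * (3 * g * 2 ^ b0) * q ^ (n - mL b0) < B * P := h1.trans_lt (h2.trans_le hle)
  have h4 : 2 * (3 * g * 2 ^ b0 * q ^ (n - mL b0)) < B := by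
    have : P * (2 * (3 * g * 2 ^ b0 * q ^ (n - mL b0))) < P * B := by
      calc P * (2 * (3 * g * 2 ^ b0 * q ^ (n - mL b0))) = P * 2 * (3 * g * 2 ^ b0) * q ^ (n - mL b0) := by ring
        _ < _ := h3
        _ = _ := mul_comm _ _
    exact Nat.lt_of_mul_lt_mul_left this
  have hg := hX.pos
  have h5 : 0 < 3 * g * 2 ^ b0 * q ^ (n - mL b0) := by
    have : 0 < q := by omega
    positivity
  obtain ⟨m, hm, hd⟩ := h.cls e he B (by omega) hB
  have h6 := hX.le u hu m hm
  obtain ⟨-, h7⟩ := h.up b0 (hX.two u ho)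
  have h9 := Nat.le_of_dvd (Pn_pos hu m) hd
  omega

/-- **Contradiction for large `q`, two classes, one factor.** -/
theorem ana2L {q n : ℕ} {E : List ℕ} {Nf : ℕ → ℕ} {g b0 u m : ℕ} (hX : XD Nf g b0 [m])
    (h : NumL q n E (Nf u) g u [m]) (hu : 3 ≤ u) (ho : Odd u) {e e' P P' Q : ℕ} (he : e ∈ E) (he' : e' ∈ E)
    (hlt : e' < e) (he3 : 3 ≤ e') (hP : P.Prime) (hP' : P'.Prime)
    (hPe : P ∣ e) (hmax : ∀ s : ℕ, s.Prime → s ∣ e → s ≤ P)
    (hPe' : P' ∣ e') (hmax' : ∀ s : ℕ, s.Prime → s ∣ e' → s ≤ P') (hQ2 : 2 ≤ Q) (hQ : Q ≤ q)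
    (hφ : n - mL b0 ≤ e.totient + e'.totient) (hq1 : P < (Q - 1) ^ e.totient)
    (hq2 : P' < (Q - 1) ^ e'.totient)
    (hc : P * P' * 2 * (3 * g * 2 ^ b0) * Q ^ (n - mL b0) ≤ (Q - 1) ^ (e.totient + e'.totient)) : False := by
  have hpos := Pn_pos hu m
  obtain ⟨B, hB, hle⟩ := exists_prim (q := q) (by omega) (by omega) hP hPe hmax
  obtain ⟨B', hB', hle'⟩ := exists_prim (q := q) (by omega) he3 hP' hPe' hmax'
  have h1 := pow_mono (by omega) hQ hφ hc
  have h2 := Ph_gt (e := e) (by omega) (show 2 ≤ q by omega)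
  have h2' := Ph_gt (e := e') (by omega) (show 2 ≤ q by omega)
  have hQq : Q - 1 ≤ q - 1 := by omega
  have b1 : 1 < B := by
    have h3 : P < B * P := (hq1.trans_le (Nat.pow_le_pow_left hQq _)).trans (h2.trans_le hle)
    have h4 : P * 1 < P * B := by rw [mul_one, mul_comm P B]; exact h3
    exact Nat.lt_of_mul_lt_mul_left h4
  have b2 : 1 < B' := by
    have h3 : P' < B' * P' := (hq2.trans_le (Nat.pow_le_pow_left hQq _)).trans (h2'.trans_le hle')
    have h4 : P' * 1 < P' * B' := by rw [mul_one, mul_comm P' B']; exact h3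
    exact Nat.lt_of_mul_lt_mul_left h4
  obtain ⟨m1, hm1, hd1⟩ := h.cls e he B b1 hB
  obtain ⟨m2, hm2, hd2⟩ := h.cls e' he' B' b2 hB'
  rw [List.mem_singleton] at hm1 hm2
  rw [hm1] at hd1
  rw [hm2] at hd2
  have hcop : Nat.Coprime B B' := Nat.Coprime.coprime_dvd_right hB'.1 (hB.2 e' (by omega) hlt)
  have h5 := Nat.le_of_dvd hpos (hcop.mul_dvd_of_dvd_of_dvd hd1 hd2)
  have h6 := hX.le u hu m (List.mem_singleton.2 rfl)
  obtain ⟨-, h7⟩ := h.up b0 (hX.two u ho)
  have h8 : (q - 1) ^ (e.totient + e'.totient) < (B * P) * (B' * P') := by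
    rw [pow_add]
    exact Nat.mul_lt_mul'' (h2.trans_le hle) (h2'.trans_le hle')
  have h9 : P * P' * (2 * (3 * g * 2 ^ b0 * q ^ (n - mL b0))) < P * P' * (B * B') := by
    calc P * P' * (2 * (3 * g * 2 ^ b0 * q ^ (n - mL b0))) = P * P' * 2 * (3 * g * 2 ^ b0) * q ^ (n - mL b0) := by ring
      _ ≤ _ := h1
      _ < _ := h8
      _ = _ := by ring
  have h10 := Nat.lt_of_mul_lt_mul_left h9
  omega

/-! ### small `q` -/

/-- some exponent `b ≤ k` violates the upper bound -/
def badL (n q c N : ℕ) : ℕ → Bool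
  | 0 => Nat.blt (c * q ^ n) N
  | k + 1 => (Nat.beq (N % 2 ^ (k + 1)) 0 && (Nat.blt n (mL (k + 1)) || Nat.blt (c * 2 ^ (k + 1) * q ^ (n - mL (k + 1))) N)) ||
      badL n q c N k

/-- the test for one value of `u` -/
def okL (n q c : ℕ) (Nf : ℕ → ℕ) (I Bs : List ℕ) (u : ℕ) : Bool :=
  badL n q c (Nf u) 7 || Bs.any fun B => I.all fun m => !(Nat.beq (Pn m u % B) 0)

theorem badL_spec {n q g N k : ℕ} (h : badL n q (3 * g) N k = true)
    (hup : ∀ b : ℕ, 2 ^ b ∣ N → mL b ≤ n ∧ N ≤ 3 * g * 2 ^ b * q ^ (n - mL b)) : False := by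
  induction k with
  | zero =>
    obtain ⟨-, h1⟩ := hup 0 (by simp)
    simp only [badL, Nat.blt, Nat.ble_eq] at h
    simp only [pow_zero, mul_one] at h1
    change N ≤ 3 * g * q ^ (n - 0) at h1
    rw [Nat.sub_zero] at h1
    omega
  | succ k ih =>
    simp only [badL, Bool.or_eq_true, Bool.and_eq_true, Nat.blt, Nat.ble_eq] at h
    rcases h with ⟨h1, h2⟩ | h
    · obtain ⟨h3, h4⟩ := hup (k + 1) (Nat.dvd_of_mod_eq_zero (Nat.eq_of_beq_eq_true h1))
      rcases h2 with h2 | h2 <;> omega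
    · exact ih h

/-- **Contradiction for a given `q`.** -/
theorem finL {q n : ℕ} {E : List ℕ} {Nf : ℕ → ℕ} {g b0 u : ℕ} {I : List ℕ} (hX : XD Nf g b0 I)
    (h : NumL q n E (Nf u) g u I) (hu : 3 ≤ u) (ho : Odd u) (Bs : List (ℕ × ℕ)) (K : ℕ)
    (hBs : (Bs.all fun p => decide (p.1 ∈ E) && primB q p.1 p.2) = true)
    (hK : Nat.blt (3 * g * 2 ^ b0 * q ^ (n - mL b0)) (Nf (2 * K + 3)) = true)
    (hall : chkAll (fun k => okL n q (3 * g) Nf I (Bs.map Prod.snd) (2 * k + 3)) K = true) : False := by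
  obtain ⟨k, hk⟩ : ∃ k, u = 2 * k + 3 := by
    obtain ⟨k, hk⟩ := ho
    exact ⟨k - 1, by omega⟩
  by_cases hkK : k < K
  · have h1 := chkAll_spec hall k hkK
    rw [← hk, okL, Bool.or_eq_true] at h1
    rcases h1 with h1 | h1
    · exact (badL_spec h1 h.up).elim
    · rw [List.any_eq_true] at h1
      obtain ⟨B, hB, h2⟩ := h1
      obtain ⟨⟨e, B'⟩, hp, rfl⟩ := List.mem_map.1 hB
      rw [List.all_eq_true] at hBs
      have h3 := hBs _ hp
      rw [Bool.and_eq_true, decide_eq_true_eq] at h3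
      obtain ⟨h4, h5⟩ := primB_spec h3.2
      obtain ⟨m, hm, hd⟩ := h.cls e h3.1 _ h4 h5
      rw [List.all_eq_true] at h2
      have h6 := h2 m hm
      have h7 : Pn m u % B' = 0 := Nat.mod_eq_zero_of_dvd hd
      simp [h7] at h6
  · have h1 := hX.mono (2 * K + 3) u (by omega) (by omega)
    obtain ⟨-, h2⟩ := h.up b0 (hX.two u ho)
    simp only [Nat.blt, Nat.ble_eq] at hK
    omega

/-! ### `u ^ 2 ± u + 1` -/

/-- `4 t B - 3` is not the square of an odd number -/
def nsq (B t r : ℕ) : Bool := Nat.blt (r ^ 2) (4 * (t * B) - 3) && Nat.blt (4 * (t * B) - 3) ((r + 1) ^ 2)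

theorem nsq_spec {B t r z : ℕ} (h : nsq B t r = true) (hz : z ^ 2 = 4 * (t * B) - 3) : False := by
  simp only [nsq, Bool.and_eq_true, Nat.blt, Nat.ble_eq] at h
  obtain ⟨h1, h2⟩ := h
  rw [← hz] at h1 h2
  have h3 : r < z := lt_of_pow_lt_pow_left₀ 2 (Nat.zero_le _) h1
  have h4 : z < r + 1 := lt_of_pow_lt_pow_left₀ 2 (Nat.zero_le _) h2
  omega

/-- **`G₂(u)`, a divisor `B` of `u ^ 2 ± u + 1`**, `t < T` odd -/
theorem sqL {q n : ℕ} {E : List ℕ} {u : ℕ} (h : NumL q n E (Cfsg.Agent.H77.E4XD.nG2 u) 1 u [3, 6]) (hu : 3 ≤ u)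
    (ho : Odd u) {e B : ℕ} (he : e ∈ E) (hB : primB q e B = true) {U : ℕ}
    (hU : Nat.blt (3 * 1 * 2 ^ 3 * q ^ (n - mL 3) + 1) (U ^ 2) = true) (rs : List ℕ)
    (hT : Nat.blt (3 * 1 * 2 ^ 3 * q ^ (n - mL 3) + U + 2) ((2 * rs.length + 1) * B) = true)
    (hs : ∀ i : Fin rs.length, nsq B (2 * i.1 + 1) (rs.get i) = true) : False := by
  obtain ⟨hB1, hB2⟩ := primB_spec hB
  obtain ⟨m, hm, hd⟩ := h.cls e he B hB1 hB2
  obtain ⟨-, h1⟩ := h.up 3 (Cfsg.Agent.H77.E4XD.xG2.two u ho)
  rw [Cfsg.Agent.H77.E4XD.nG2] at h1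
  simp only [Nat.blt, Nat.ble_eq] at hU hT
  set M := 3 * 1 * 2 ^ 3 * q ^ (n - mL 3) with hM
  have hu2 : u ^ 2 < U ^ 2 := by omega
  have hu3 : u < U := lt_of_pow_lt_pow_left₀ 2 (Nat.zero_le _) hu2
  obtain ⟨t, ht⟩ := hd
  obtain ⟨w, hw⟩ := ho
  -- `t` is odd
  have hP : Pn m u % 2 = 1 ∧ Pn m u ≤ u ^ 2 + u + 1 ∧ ∃ z, z ^ 2 = 4 * Pn m u - 3 := by
    have e1 : u ^ 2 = 4 * (w * w + w) + 1 := by rw [hw]; ring
    simp only [List.mem_cons, List.not_mem_nil, or_false] at hm
    rcases hm with rfl | rfl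
    · refine ⟨?_, le_rfl, 2 * u + 1, ?_⟩
      · show (u ^ 2 + u + 1) % 2 = 1
        omega
      · show (2 * u + 1) ^ 2 = 4 * (u ^ 2 + u + 1) - 3
        have : (2 * u + 1) ^ 2 = 4 * (u ^ 2 + u) + 1 := by ring
        omega
    · have h2 : u ≤ u ^ 2 := Nat.le_self_pow (by norm_num) _
      refine ⟨?_, ?_, 2 * u - 1, ?_⟩
      · show (u ^ 2 - u + 1) % 2 = 1
        omega
      · show u ^ 2 - u + 1 ≤ _
        omega
      · show (2 * u - 1) ^ 2 = 4 * (u ^ 2 - u + 1) - 3
        obtain ⟨v, rfl⟩ : ∃ v, u = v + 1 := ⟨u - 1, by omega⟩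
        have h3 : (v + 1) ^ 2 - (v + 1) = v * (v + 1) := by
          have : (v + 1) ^ 2 = v * (v + 1) + (v + 1) := by ring
          omega
        rw [h3]
        have h4 : 2 * (v + 1) - 1 = 2 * v + 1 := by omega
        rw [h4]
        have : (2 * v + 1) ^ 2 = 4 * (v * (v + 1)) + 1 := by ring
        omega
  obtain ⟨hP1, hP2, z, hz⟩ := hP
  have ht1 : t % 2 = 1 := by
    by_contra hcon
    have h3 : t % 2 = 0 := by omega
    have h4 : (B * t) % 2 = 0 := by rw [Nat.mul_mod, h3, mul_zero, Nat.zero_mod]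
    omega
  have hlt : t < 2 * rs.length + 1 := by
    by_contra hcon
    have h3 : (2 * rs.length + 1) * B ≤ t * B := Nat.mul_le_mul_right _ (by omega)
    have h4 : t * B = B * t := mul_comm _ _
    omega
  refine nsq_spec (hs ⟨t / 2, by omega⟩) (z := z) ?_
  rw [hz, ht]
  congr 1
  have h5 : 2 * (t / 2) + 1 = t := by omega
  show 4 * (B * t) = 4 * ((2 * (t / 2) + 1) * B)
  rw [h5, mul_comm B t]

end Cfsg.Agent.R2.Spec.X6

private theorem dce_c08ff1a92f4b : _root_.True := by
  try have : _root_.True := by simp only [_root_.Cfsg.Agent.R2.Spec.X6.nsq.eq_1]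
  try have : _root_.True := by simp only [_root_.Cfsg.Agent.R2.Spec.X6.badL.eq_1]
  try have : _root_.True := by simp only [_root_.Cfsg.Agent.R2.Spec.X6.badL.eq_2]
  try have : _root_.True := by simp only [_root_.Cfsg.Agent.R2.Spec.X6.okL.eq_1]
  try have : _root_.True := by simp only [_root_.Cfsg.Agent.R2.Spec.X6.badL.eq_def]
  exact _root_.True.intro
end
end
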