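import Cfsg.Agent.R2.Spec.EE.CertSm_m3
import Cfsg.Agent.H77.E4Poly_m3
import Cfsg.Agent.H378.TwRowsF
import Mathlib
import Cfsg.Agent.R2.Spec.NA.Main_m3
import Cfsg.Agent.R2.Spec.X4.H18.E6
import Cfsg.Agent.R2.Spec.EE.Mask_m3
import Cfsg.Agent.R2.Spec.X3.PE.H18.F4_mg_m3
import Cfsg.Agent.H874.Pw.D4Cent
import Cfsg.Agent.H710.LtwoSL2
import Cfsg.Agent.H414.IsoE8_m3
import Cfsg.Agent.H378.RegE7
import Cfsg.Agent.H426.LieEx_m3
import Cfsg.Agent.H448.FprCent.SteTor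
import Cfsg.Agent.R2.Spec.X6.MovTwo_m3
import Cfsg.Agent.H402.Rec.FactU_mg_m3
import Cfsg.Agent.H378.OmF4
import Cfsg.Agent.H437.Iso.TwF4
import Cfsg.Agent.R2.Spec.X1.E7.Rows_m3
import Cfsg.Agent.S1159
import Cfsg.Agent.H372.SzSpec
import Cfsg.Agent.OddCyclic.ClaimC.SzIso
import Cfsg.Agent.H360.Iso.TwF4
import Cfsg.Agent.FastGrp
import Cfsg.Agent.Prune
set_option linter.all false

section
prune_inst 0x7fbdfff8ffbcbfffffff7e7ffef9dffe1bd0dfffefdffb43ffece3ff1fdf038a1bc5fbaf1de0d0ff0e5760b430b87853fb7eefffeb6fdc7ffffdfff45ffbee4ff5f7bf8911d290240f300fff83f07fca7f3fffffffffdfffffffffffffffffbeffffffffffff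

-- part: R2/Spec/X1/TRc/TwF4
section
prune_inst 0x20000000000000000000000000000000
set_option linter.all false
open scoped Cfsg.Agent.FastGrp

/-!
# `²F₄(u)` does not have the spectrum of `³D₄(q)` (helper368, S3478)

* `exists_t` : torus elements of arbitrary odd order (version of `H493.F4Tor.exists_t`);
* `exists_fP`, `exists_fM` : `²F₄(2b²)` has elements of orders `4b⁴ ± 4b³ + 2b² ± 2b + 1`;
* `row_2F4`.
-/

set_option autoImplicit false
set_option linter.unusedSectionVars false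

namespace Cfsg.Agent.R2.Spec.X1.TRc

open CoxeterSystem Cfsg Cfsg.Lie Cfsg.Lie.ChevalleyDatum
open Cfsg.Agent.ChevalleyStructure Cfsg.Agent.ChevalleyStructure.Elts Cfsg.Agent.ChevalleyStructure.CoxeterGeom
  Cfsg.Agent.ChevalleyStructure.CoxeterGeomTypes Cfsg.Agent.ChevalleyStructure.NPerm
open Cfsg.Agent.Tits.Roots Cfsg.Agent.Tits.Core Cfsg.Agent.Nodes Cfsg.Agent.Nodes.Reps Cfsg.Agent.Nodes.BNOf
  Cfsg.Agent.Nodes.RGDChev
open Cfsg.Agent.KFacts.RgdField Cfsg.Agent.KFacts.RgdChevCoord Cfsg.Agent.BpExc.TorCent Cfsg.Agent.BpExc.TorChev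
open Cfsg.Agent.GpExc.Field Cfsg.Agent.BpExc.Tow Cfsg.Agent.BpExc.TowChev
  Cfsg.Agent.BpExc.LangFr Cfsg.Agent.BpExc Cfsg.Agent.H129.TorusChar Cfsg.Agent.H129.TorusUntw
open Cfsg.Agent.ChevalleyStructure.TwF4.Fix (isLong)
open Cfsg.Agent.H493 Cfsg.Agent.H493.F4End Cfsg.Agent.H493.F4Tor Cfsg.Agent.H493.PGF4T
open Cfsg.Agent.H129.WData (Mat hd ChainOK)

universe u

section Alg

variable {k : Type u} [Field k] [IsAlgClosed k] [CharP k 2]
variable {W : Type*} [Group W] (cs : CoxeterSystem CoxeterMatrix.F₄ W)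

/-- **Torus elements** of odd order `r`. -/
theorem exists_t (hk : LocFin k) {hN : NSys CoxeterMatrix.F₄ (TT chevF4 k) (nc hp k)} {w : W}
    {n : ↥(chevF4.group k)} (hn : Rp cs hN w n) {Th : Fin 4 → Fin 4 → ℤ}
    (hTh : ∀ j, rep cs hp.isCartan w (sr (rv j)) = Th j) (m : ℕ) {r : ℕ} (hr2 : Odd r)
    {L U : Fin 4 → ℤ} (hL : ∀ j, (r : ℤ) ∣ ∑ i, Th j i * L i - (eN j * 2 ^ m : ℕ) * L j)
    (hU : IsCoprime (r : ℤ) (∑ i, U i * L i)) :
    ∃ t ∈ TT chevF4 k, n * ste k m t * n⁻¹ = t ∧ orderOf t = r := by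
  have : Fact (Nat.Prime 2) := ⟨Nat.prime_two⟩
  have hr0 : r ≠ 0 := by
    rintro rfl
    exact absurd hr2 (by decide)
  have hrk : (r : k) ≠ 0 := by
    rw [Ne, CharP.cast_eq_zero_iff k 2]
    intro h
    exact (Nat.not_even_iff_odd.2 hr2) (even_iff_two_dvd.2 h)
  have : NeZero (r : k) := ⟨hrk⟩
  obtain ⟨u, hu⟩ := HasEnoughRootsOfUnity.exists_primitiveRoot k r
  have hu0 : u ≠ 0 := hu.ne_zero hr0
  let La : (Fin 4 → ℤ) → ℤ := fun x => ∑ i, x i * L i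
  have hLa : ∀ x y, La (x + y) = La x + La y := fun x y => by
    show ∑ i, (x + y) i * L i = _
    rw [← Finset.sum_add_distrib]
    exact Finset.sum_congr rfl fun i _ => by rw [Pi.add_apply, add_mul]
  have hMC : IsMC (fun x : Fin 4 → ℤ => u ^ La x) :=
    ⟨by show u ^ La 0 = 1; have : La 0 = 0 := Finset.sum_eq_zero fun i _ => by rw [Pi.zero_apply, zero_mul]
        rw [this, zpow_zero], fun x y => by show u ^ La (x + y) = _; rw [hLa, zpow_add₀ hu0]⟩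
  obtain ⟨t, ht, hcX⟩ := exists_cX hp invC_F4 one_ne_zero hMC fun i => ⟨_, pow_one _⟩
  have hone : ∀ z : ℤ, u ^ z = 1 ↔ (r : ℤ) ∣ z := fun z => hu.zpow_eq_one_iff_dvd z
  have hst := ste_TT (m := m) ht
  have hnst : n * ste k m t * n⁻¹ ∈ TT chevF4 k :=
    (Subgroup.mem_normalizer_iff.1 hn.mem_normalizer _).1 hst
  have hLsr : ∀ j, La (sr j) = L j := fun j => by
    show ∑ i, (sr j : Fin 4 → ℤ) i * L i = L j
    rw [Finset.sum_eq_single j]
    · rw [sr_self, one_mul]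
    · intro i _ hi
      rw [sr_ne hi, zero_mul]
    · intro h; exact absurd (Finset.mem_univ j) h
  refine ⟨t, ht, ?_, ?_⟩
  · -- the characters agree on `w (sr i)`
    have h1 : ∀ x, cX hp (n * ste k m t * n⁻¹) (rep cs hp.isCartan w x) = cX hp (ste k m t) x :=
      fun x => cX_rp hp cs hk 2 hn hst x
    have h2 : ∀ i, cX hp (ste k m t) (sr i) = cX hp t (rep cs hp.isCartan w (sr i)) := by
      intro i
      have h3 := cX_ste m ht (rv i)
      rw [rv_rv] at h3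
      rw [h3, hcX, hcX, hLsr, ← zpow_natCast, ← zpow_mul]
      have h4 := hTh (rv i)
      rw [rv_rv] at h4
      have h5 : La (rep cs hp.isCartan w (sr i)) = ∑ l, Th (rv i) l * L l := by rw [h4]
      obtain ⟨N, hN⟩ := hL (rv i)
      have h6 : La (rep cs hp.isCartan w (sr i)) = L (rv i) * ((eN (rv i) * 2 ^ m : ℕ) : ℤ) + (r : ℤ) * N := by
        rw [h5, ← hN]; ring
      rw [h6, zpow_add₀ hu0, (hone ((r : ℤ) * N)).2 (dvd_mul_right _ _), mul_one]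
    have h7 : ∀ x, cX hp (ste k m t) x = cX hp t (rep cs hp.isCartan w x) := fun x =>
      (isMC_cX hp hst).ext ((isMC_cX hp ht).comp (rep cs hp.isCartan w).toAddMonoidHom) h2 x
    refine cX_inj hp hnst ht fun i => ?_
    have h8 : sr i = rep cs hp.isCartan w (rep cs hp.isCartan w⁻¹ (sr i)) := by
      rw [← Module.End.mul_apply, ← map_mul, mul_inv_cancel, map_one, Module.End.one_apply]
    rw [h8, h1, h7]
  · refine Nat.dvd_antisymm ?_ ?_
    · refine orderOf_dvd_of_pow_eq_one (cX_inj hp (pow_mem ht r) (one_mem _) fun i => ?_)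
      rw [cX_pow hp ht, cX_one, hcX, ← zpow_natCast, ← zpow_mul, hone]
      exact dvd_mul_left _ _
    · have h0 := pow_orderOf_eq_one t
      have h1 := cX_pow hp ht (orderOf t) U
      rw [h0, cX_one, hcX, ← zpow_natCast, ← zpow_mul] at h1
      have h2 := (hone _).1 h1.symm
      exact Int.natCast_dvd_natCast.1 (hU.dvd_of_dvd_mul_left h2)

end Alg

section Fin

variable {K : Type u} [Field K] [Fintype K] {m : ℕ} (hK : Fintype.card K = 2 ^ (2 * m + 1))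

include hK

/-- **Elements of `²F₄(q)`** from certificates. -/
theorem exists_order {C : List (Fin 4 × Mat 4)} (hC : ChainOK Am C) {Th : Mat 4} (hTh : ∀ j, hd C (rv j) = Th j)
    {F : ℤ → ℤ} {L : ℤ → Fin 4 → ℤ} {U : Fin 4 → ℤ} {G : ℤ → Fin 4 → ℤ} {c : ℤ} {H : ℤ → ℤ}
    (h : Cert Th F L U G c H) {r : ℕ} (h1 : (r : ℤ) ∣ F (2 ^ m)) :
    ∃ x : ↥(twistedF4 K (2 ^ m)), orderOf x = r := by
  classical
  have : Fact (Nat.Prime 2) := ⟨Nat.prime_two⟩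
  have hc2 : CharP K 2 := F4Fixed.charP_two hK
  obtain ⟨p, e, hpF, hpc, hpk, he, hpe, hk⟩ := exists_closure hK
  have hp2 : p = 2 := CharP.eq K hpc hc2
  subst hp2
  let k := AlgebraicClosure K
  let f : K →+* k := algebraMap K k
  let cs := CoxeterMatrix.F₄.toCoxeterSystem
  have hN : NSys CoxeterMatrix.F₄ (TT chevF4 k) (nc hp k) := nsys_of_locFin hp cs hk 2
  obtain ⟨n, hn⟩ := exists_rp cs hN (cs.wordProd (C.map Prod.fst))
  obtain ⟨z, hz⟩ := F4Lang.lang_ste m n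
  have hw : ∀ j, rep cs hp.isCartan (cs.wordProd (C.map Prod.fst)) (sr (rv j)) = Th j := fun j => by
    rw [H129.WData.chain_rep hp cs hA hC, hTh]
  have hodd : Odd r := by
    rw [← Nat.not_even_iff_odd]
    intro he
    obtain ⟨z, hz⟩ := h.odd (2 ^ m)
    have h2 : (2 : ℤ) ∣ F (2 ^ m) := (Int.natCast_dvd_natCast.2 (even_iff_two_dvd.1 he)).trans h1
    omega
  have hcop : IsCoprime (r : ℤ) (∑ i, U i * L (2 ^ m) i) := by
    obtain ⟨d, hd⟩ := h1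
    rw [h.un, hd]
    rcases h.one with h0 | h0
    · exact ⟨-(d * H (2 ^ m)), 1, by rw [h0]; ring⟩
    · exact ⟨d * H (2 ^ m), -1, by rw [h0]; ring⟩
  obtain ⟨t, ht, h3, h4⟩ := exists_t cs hk hn hw m hodd (h.hL h1) hcop
  have hfix : ∀ y : ↥(chevF4.group k), n * ste k m y * n⁻¹ = y → ste k m (z * y * z⁻¹) = z * y * z⁻¹ := by
    intro y h1
    have h2 : ste k m z = z * n := by rw [hz]; group
    rw [map_mul, map_mul, map_inv, h2]
    calc z * n * ste k m y * (z * n)⁻¹ = z * (n * ste k m y * n⁻¹) * z⁻¹ := by group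
      _ = _ := by rw [h1]
  obtain ⟨g, hg, hgm⟩ := exists_fin f hK (hfix t h3)
  have ho : ∀ y : ↥(chevF4.group k), orderOf (z * y * z⁻¹) = orderOf y := fun y =>
    orderOf_injective (MulAut.conj z).toMonoidHom (MulAut.conj z).injective y
  refine ⟨⟨g, hgm⟩, ?_⟩
  rw [Subgroup.orderOf_mk, Subgroup.orderOf_coe, ← orderOf_injective (emb hD f) (emb_injective hD f) g, hg, ho, h4]

/-- elements of order `r ∣ u² + √(2u³) + u + √(2u) + 1` -/
theorem exists_fP {r : ℕ} (h1 : (r : ℤ) ∣ fP (2 ^ m)) : ∃ x : ↥(twistedF4 K (2 ^ m)), orderOf x = r :=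
  exists_order hK chainEp_ok hThEp certEp_fP h1

/-- elements of order `r ∣ u² - √(2u³) + u - √(2u) + 1` -/
theorem exists_fM {r : ℕ} (h1 : (r : ℤ) ∣ fM (2 ^ m)) : ∃ x : ↥(twistedF4 K (2 ^ m)), orderOf x = r :=
  exists_order hK chainEm_ok hThEm certEm_fM h1

end Fin

end Cfsg.Agent.R2.Spec.X1.TRc
end

-- part: R2/Spec/X7/N6/ENot
section
prune_inst 0x420000000040000000000000002000000700000000000000100000800000042020000000000800000002000000000000000000000000000000000000000000020800004004080000cc00001001000000000000000000000000000000000000000000000000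
set_option linter.all false
open scoped Cfsg.Agent.FastGrp

-- part: R2/Spec/X7/N6/EG2
section
/-!
# Box X7, `n = 6`, packet N6-E (helper9): `S = G₂(u)`
-/

set_option autoImplicit false
set_option maxHeartbeats 1000000

namespace Cfsg.Agent.R2.Spec.X7.N6

open Cfsg.Agent.R2.Spec.X4.H18 (G2Dat)

variable {p q : ℕ} {s : ℤ} {c c5 M : ℕ} {W : ℕ → Prop} {v u : ℕ}

/-- the element orders of `G₂(u)` used in the finite check -/
def lowG2 (v u : ℕ) : List ℕ := [v * (u + 1), v * (u - 1), u ^ 2 - 1, u ^ 2 + u + 1, u ^ 2 - u + 1]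

theorem chkG2 : chk 25 265 3 lowG2 lowG2 = true := by decide +kernel

theorem g2_pair (h : SW p q s c c5 M W) (hu : 3 ≤ u) (hvp : ¬ p ∣ u) (h1 : W (u ^ 2 - 1)) (h3 : W (u ^ 2 + u + 1))
    (h6 : W (u ^ 2 - u + 1)) (hM : M ∣ u ^ 2 - 1 ∨ M ∣ u ^ 2 + u + 1 ∨ M ∣ u ^ 2 - u + 1) :
    (u : ℤ) ≤ 2 * c5 * (q + 1) + 3 := by
  have huz : (3 : ℤ) ≤ u := by exact_mod_cast hu
  have hsq : 9 ≤ u ^ 2 := by nlinarith
  have hle : u ≤ u ^ 2 := by nlinarith only []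
  have e1 : ((u ^ 2 - 1 : ℕ) : ℤ) = (u : ℤ) ^ 2 - 1 := by
    rw [Nat.cast_sub (by omega)]; push_cast; ring
  have e6 : ((u ^ 2 - u + 1 : ℕ) : ℤ) = (u : ℤ) ^ 2 - u + 1 := by
    rw [Nat.cast_add, Nat.cast_sub hle]; push_cast; ring
  have e3 : ((u ^ 2 + u + 1 : ℕ) : ℤ) = (u : ℤ) ^ 2 + u + 1 := by push_cast; ring
  have hqz : (3 : ℤ) ≤ q := by exact_mod_cast h.n.q3
  have hc5 := h.n.c5_pos
  have hMq : 8 * (q : ℤ) ^ 3 ≤ 5 * M := by exact_mod_cast h.n.q3_le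
  have hM17 : (17 : ℤ) ≤ M := by exact_mod_cast h.n.M_gt
  -- the exception `q = 3`
  by_cases hex : q = 3 ∧ u ≤ 9
  · have : (u : ℤ) ≤ 9 := by exact_mod_cast hex.2
    nlinarith only [hqz, hc5, hex]
  have hN1 : q = 3 → 72 < u ^ 2 - 1 := by
    intro hq
    have : 10 ≤ u := by
      by_contra hcon
      exact hex ⟨hq, by omega⟩
    have : 100 ≤ u ^ 2 := by nlinarith only [this]
    omega
  have hN3 : q = 3 → 72 < u ^ 2 + u + 1 := by
    intro hq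
    have := hN1 hq
    omega
  rcases hM with hM | hM | hM
  · obtain ⟨e, he⟩ := id hM
    have he0 : 0 < e := by
      rcases Nat.eq_zero_or_pos e with h0 | h0
      · rw [h0] at he; omega
      · exact h0
    have hcop : Nat.Coprime (u ^ 2 + u + 1) M := h.n.cop_of hM (α := u * (u + 2))
      (β := 1 - (u + 2) * (u - 1)) (k := 3) (by rw [e1, e3]; ring) (by norm_num) (by norm_num)
    have hh := h.n.pair_lt (h.up _ h3) hcop (e := e) (by rw [← he]; omega) he0 hN3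
    rw [← he, e1, e3] at hh
    by_contra hcon
    push Not at hcon
    nlinarith only [hh, hcon]
  · obtain ⟨e, he⟩ := id hM
    have he0 : 0 < e := by
      rcases Nat.eq_zero_or_pos e with h0 | h0
      · rw [h0] at he; omega
      · exact h0
    have hcop : Nat.Coprime (u ^ 2 - 1) M := h.n.cop_of hM (α := 1 - (u + 2) * (u - 1))
      (β := u * (u + 2)) (k := 3) (by rw [e1, e3]; ring) (by norm_num) (by norm_num)
    have hMle : (M : ℤ) ≤ (u : ℤ) ^ 2 + u + 1 := by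
      rw [← e3]
      exact_mod_cast Nat.le_of_dvd (by omega) hM
    have hbig : q ^ 3 < u ^ 2 - 1 := by
      have : (q : ℤ) ^ 3 < ((u ^ 2 - 1 : ℕ) : ℤ) := by
        rw [e1]
        by_cases h4 : u = 3
        · rw [h4] at hMle
          norm_num at hMle
          linarith only [hM17, hMle]
        · have : (4 : ℤ) ≤ u := by exact_mod_cast (by omega : 4 ≤ u)
          nlinarith only [hMq, hM17, hMle, hu]
      exact_mod_cast this
    rcases h.n.pair_gt (h.up _ h1) hcop (e := e) (by rw [← he]; omega) hbig hN1 with hh | hh | ⟨j, hj1, hj2, hj3⟩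
    · rw [← he, e1, e3] at hh
      by_contra hcon
      push Not at hcon
      nlinarith only [hu, hcon, hh]
    · exfalso
      rw [← he, e1, e3] at hh
      have h5 : (u : ℤ) + 2 ∣ 3 := by
        have h6 : (u : ℤ) + 2 ∣ (u : ℤ) ^ 2 + u + 1 := by
          rw [← e3, he]
          push_cast
          rw [hh]
          exact ⟨M * c5, by ring⟩
        have h7 : (3 : ℤ) = ((u : ℤ) ^ 2 + u + 1) - (u + 2) * (u - 1) := by ring
        rw [h7]
        exact dvd_sub h6 (dvd_mul_right _ _)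
      have := Int.le_of_dvd (by norm_num) h5
      linarith only [hu, this]
    · exfalso
      rw [← he, e1, e3] at hj2
      rw [e1] at hj3
      have he1 : (0 : ℤ) < e := by exact_mod_cast he0
      have hjp : 0 < j := by nlinarith only [hc5, hj1]
      rcases h.n.c5_or with h5 | h5
      · rw [h5] at hj1
        have hj : j = 1 := by
          have : j ≤ 1 := by push_cast at hj1; nlinarith only [he0, hj1]
          omega
        rw [hj] at hj2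
        apply hvp
        have h6 : (u : ℤ) = s * (s + 2) := by linarith only [hj2]
        have h7 : (p : ℤ) ∣ u := by rw [h6]; exact h.n.p_dvd.mul_right _
        exact_mod_cast h7
      · rw [h5] at hj1
        push_cast at hj1
        have hj : j = 1 ∨ j = 5 := by
          have h6 : j ∣ 5 := ⟨e, by linarith only [hj1]⟩
          have h7 : j.natAbs ∣ 5 := by
            have := Int.natAbs_dvd_natAbs.mpr h6
            simpa using this
          rcases (Nat.dvd_prime (by norm_num : Nat.Prime 5)).mp h7 with h8 | h8 <;> (clear * - hjp h8; omega)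
        rcases hj with hj | hj
        · rw [hj] at hj2
          apply hvp
          have h6 : (u : ℤ) = s * (s + 2) := by linarith only [hj2]
          have h7 : (p : ℤ) ∣ u := by rw [h6]; exact h.n.p_dvd.mul_right _
          exact_mod_cast h7
        · rw [hj] at hj2 hj3
          have h9 : (9 : ℤ) ≤ q := by exact_mod_cast h.n.q9 h5
          have k1 : 5 * (5 * ((u : ℤ) ^ 2 - 1)) ≤ (s ^ 2 + 2 * s + 2) ^ 2 := by
            have : 5 * ((u : ℤ) + 2) = s ^ 2 + 2 * s + 2 := by linarith only [hj2]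
            rw [← this]
            linarith only [huz]
          rcases h.n.hs with h6 | h6
          · rw [h6] at k1 hj3
            have k2 : 5 * (((q : ℤ) ^ 3 - 1) * (q + 1)) ≤ ((q : ℤ) ^ 2 + 2 * q + 2) ^ 2 := by linarith only [hj3, k1]
            linarith only [hsq, hj3, k1, mul_nonneg (by linarith : (0 : ℤ) ≤ (q : ℤ) - 9) (by positivity : (0 : ℤ) ≤ (q : ℤ) ^ 3), mul_nonneg (by linarith : (0 : ℤ) ≤ (q : ℤ) - 9) (by positivity : (0 : ℤ) ≤ (q : ℤ) ^ 2), mul_nonneg (by linarith : (0 : ℤ) ≤ (q : ℤ) - 9) (by positivity : (0 : ℤ) ≤ (q : ℤ))]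
          · rw [h6] at k1 hj3
            have k2 : 5 * ((-(q : ℤ)) ^ 3 - 1) * (-(q : ℤ) + 1) ≤ ((-(q : ℤ)) ^ 2 + 2 * -(q : ℤ) + 2) ^ 2 := by
              linarith only [hj3, k1]
            linarith only [hj3, h9, k1, mul_nonneg (by linarith : (0 : ℤ) ≤ (q : ℤ) - 9) (by positivity : (0 : ℤ) ≤ (q : ℤ) ^ 2), _root_.sq_nonneg (↑q : ℤ), _root_.sq_nonneg ((-↑q) ^ 2 + 2 * -↑q + 2 : ℤ)]
  · obtain ⟨e, he⟩ := id hM
    have he0 : 0 < e := by
      rcases Nat.eq_zero_or_pos e with h0 | h0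
      · rw [h0] at he; omega
      · exact h0
    have hcop : Nat.Coprime (u ^ 2 - 1) M := h.n.cop_of hM (α := 1 - (u - 2) * (u + 1))
      (β := u * (u - 2)) (k := 3) (by rw [e1, e6]; ring) (by norm_num) (by norm_num)
    have hh := h.n.pair_lt (h.up _ h1) hcop (e := e) (by rw [← he]; omega) he0 hN1
    rw [← he, e1, e6] at hh
    by_contra hcon
    push Not at hcon
    nlinarith only [hh, hcon]

theorem not_g2 {S : Type*} [Group S] [Finite S] (hS : Sec p q s c c5 M S) (D : G2Dat v u S) (hvp : v ≠ p) : False := by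
  have h := hS.sw
  have hu := D.u3
  have huz : (3 : ℤ) ≤ u := by exact_mod_cast hu
  have hsq : 9 ≤ u ^ 2 := by nlinarith
  have hle : u ≤ u ^ 2 := by nlinarith only []
  obtain ⟨f, hf, hvf⟩ := D.pw
  have hpu : ¬ p ∣ u := by
    intro hd
    rw [hvf] at hd
    exact hvp ((Nat.prime_dvd_prime_iff_eq h.n.hp D.vp).mp (h.n.hp.dvd_of_dvd_pow hd)).symm
  have hvu : v ≤ u := by rw [hvf]; exact Nat.le_self_pow (by omega) v
  have hv0 := D.vp.pos
  have hqz : (3 : ℤ) ≤ q := by exact_mod_cast h.n.q3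
  have hc5 := h.n.c5_pos
  have hM17 := h.n.M_gt
  -- `M` divides one of the numbers
  have hhit : M ∣ v * (u + 1) ∨ M ∣ v * (u - 1) ∨ M ∣ u ^ 2 - 1 ∨ M ∣ u ^ 2 + u + 1 ∨ M ∣ u ^ 2 - u + 1 := by
    obtain ⟨x, hx⟩ := hS.elt
    have h0 := D.up x
    rw [hx] at h0
    rcases h0 with h0 | h0 | h0 | h0 | h0 | ⟨-, h0⟩ | ⟨h1, h0⟩
    · exact Or.inl h0
    · exact Or.inr (Or.inl h0)
    · exact Or.inr (Or.inr (Or.inl h0))
    · exact Or.inr (Or.inr (Or.inr (Or.inl h0)))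
    · exact Or.inr (Or.inr (Or.inr (Or.inr h0)))
    · exfalso
      obtain ⟨r, hr, hrM⟩ := Nat.exists_prime_and_dvd (show M ≠ 1 by omega)
      have h11 := h.n.prime_geE hr hrM
      have h2 : r ∣ 2 ^ 3 * 3 := by norm_num; exact hrM.trans h0
      rcases hr.dvd_mul.1 h2 with h3 | h3
      · have := Nat.le_of_dvd (by norm_num) (hr.dvd_of_dvd_pow h3)
        omega
      · have := Nat.le_of_dvd (by norm_num) h3
        omega
    · exfalso
      obtain ⟨r, hr, hrM⟩ := Nat.exists_prime_and_dvd (show M ≠ 1 by omega)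
      have h11 := h.n.prime_geE hr hrM
      have h2 := Nat.le_of_dvd hv0 (hr.dvd_of_dvd_pow (hrM.trans h0))
      omega
  have hle2 : M ≤ u ^ 2 + u + 1 := by
    have k1 : v * (u + 1) ≤ u * (u + 1) := Nat.mul_le_mul_right _ hvu
    have k2 : u * (u + 1) = u ^ 2 + u := by ring
    have k3 : v * (u - 1) ≤ v * (u + 1) := Nat.mul_le_mul_left _ (by omega)
    rcases hhit with h0 | h0 | h0 | h0 | h0
    · have := Nat.le_of_dvd (Nat.mul_pos hv0 (by omega)) h0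
      omega
    · have := Nat.le_of_dvd (Nat.mul_pos hv0 (by omega)) h0
      omega
    · have := Nat.le_of_dvd (by omega) h0
      omega
    · exact Nat.le_of_dvd (by omega) h0
    · have := Nat.le_of_dvd (by omega) h0
      omega
  have hu1 : (u : ℤ) ≤ 2 * c5 * (q + 1) + 3 := by
    have hvodd : ∀ t : ℕ, t.Coprime v → M ∣ v * t → v ∣ M ∨ M ∣ t := by
      intro t ht hd
      by_cases hvM : v ∣ M
      · exact Or.inl hvM
      · right
        have : Nat.Coprime M v := ((Nat.Prime.coprime_iff_not_dvd D.vp).mpr hvM).symm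
        exact this.dvd_of_dvd_mul_left hd
    have hmain : M ∣ u ^ 2 - 1 ∨ M ∣ u ^ 2 + u + 1 ∨ M ∣ u ^ 2 - u + 1 → (u : ℤ) ≤ 2 * c5 * (q + 1) + 3 :=
      g2_pair h hu hpu D.ex1 D.ex3 D.ex6
    have hfac : u ^ 2 - 1 = (u - 1) * (u + 1) := by
      obtain ⟨t, rfl⟩ : ∃ t, u = t + 1 := ⟨u - 1, by omega⟩
      rw [Nat.add_sub_cancel]
      have : (t + 1) ^ 2 = t * (t + 1 + 1) + 1 := by ring
      omega
    have hvM : v ∣ M → (M : ℤ) ≤ v * (u + 1) → (u : ℤ) ≤ 2 * c5 * (q + 1) + 3 := by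
      intro hvM hMle
      have k1 := h.two_v D.vp hvM (a := v * (u + 1)) (b := v * (u - 1)) (dvd_mul_right _ _) (dvd_mul_right _ _)
        D.exP D.exM (α := 1) (β := -1) (k := 2 * v) (by
          push_cast [Nat.cast_sub (show 1 ≤ u by omega)]
          ring) (by have : (v : ℤ) ≠ 0 := by exact_mod_cast hv0.ne'
                    exact mul_ne_zero two_ne_zero this)
      have hvz : (0 : ℤ) < v := by exact_mod_cast hv0
      rw [abs_of_pos (by linarith only [hv0])] at k1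
      push_cast [Nat.cast_sub (show 1 ≤ u by omega)] at k1
      have k2 : ((v : ℤ) * (u + 1) * (v * (u - 1))) * 2 ≤ 2 * v * (c5 * (q + 1)) * (v * (u + 1)) := by
        refine k1.trans ?_
        gcongr
      have k3 : (2 * (v : ℤ) ^ 2 * (u + 1)) * (u - 1) ≤ (2 * (v : ℤ) ^ 2 * (u + 1)) * (c5 * (q + 1)) := by
        linarith only [k2]
      have k4 := le_of_mul_le_mul_left k3 (by positivity)
      linarith only [k4]
    rcases hhit with h0 | h0 | h0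
    · by_cases hd : v ∣ M
      · refine hvM hd ?_
        exact_mod_cast Nat.le_of_dvd (Nat.mul_pos hv0 (by omega)) h0
      · have h1 : Nat.Coprime M v := ((Nat.Prime.coprime_iff_not_dvd D.vp).mpr hd).symm
        exact hmain (Or.inl (by rw [hfac]; exact (h1.dvd_of_dvd_mul_left h0).mul_left _))
    · by_cases hd : v ∣ M
      · refine hvM hd ?_
        have k3 : v * (u - 1) ≤ v * (u + 1) := Nat.mul_le_mul_left _ (by omega)
        exact_mod_cast (Nat.le_of_dvd (Nat.mul_pos hv0 (by omega)) h0).trans k3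
      · have h1 : Nat.Coprime M v := ((Nat.Prime.coprime_iff_not_dvd D.vp).mpr hd).symm
        exact hmain (Or.inl (by rw [hfac]; exact (h1.dvd_of_dvd_mul_left h0).mul_right _))
    · exact hmain h0
  have hlo := h.n.lo
  have hMz : (M : ℤ) ≤ (u : ℤ) ^ 2 + u + 1 := by exact_mod_cast hle2
  have hbd : q ≤ 25 ∧ u ≤ 265 := by
    have hu0 : (0 : ℤ) ≤ u := by positivity
    rcases h.n.c5_or with h5 | h5
    · rw [h5] at hlo hu1
      push_cast at hlo hu1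
      have k1 : (M : ℤ) ≤ (2 * q + 5) ^ 2 + (2 * q + 5) + 1 := by nlinarith only [hle2, hu1]
      have k2 : (q : ℤ) ≤ 25 := by
        by_contra hcon
        push Not at hcon
        linarith only [hlo, k1, hcon, mul_nonneg (by linarith : (0 : ℤ) ≤ (q : ℤ) - 25) (by positivity : (0 : ℤ) ≤ (q : ℤ) ^ 3), mul_nonneg (by linarith : (0 : ℤ) ≤ (q : ℤ) - 25) (by positivity : (0 : ℤ) ≤ (q : ℤ) ^ 2), mul_nonneg (by linarith : (0 : ℤ) ≤ (q : ℤ) - 25) (by positivity : (0 : ℤ) ≤ (q : ℤ))]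
      have k3 : (u : ℤ) ≤ 265 := by linarith only [hu1, k2]
      exact ⟨by exact_mod_cast k2, by exact_mod_cast k3⟩
    · rw [h5] at hlo hu1
      push_cast at hlo hu1
      have k1 : (M : ℤ) ≤ (10 * q + 13) ^ 2 + (10 * q + 13) + 1 := by nlinarith only [hle2, hu1]
      have k2 : (q : ℤ) < 25 := by
        by_contra hcon
        push Not at hcon
        linarith only [hlo, k1, hcon, mul_nonneg (by linarith : (0 : ℤ) ≤ (q : ℤ) - 25) (by positivity : (0 : ℤ) ≤ (q : ℤ) ^ 3), mul_nonneg (by linarith : (0 : ℤ) ≤ (q : ℤ) - 25) (by positivity : (0 : ℤ) ≤ (q : ℤ) ^ 2), mul_nonneg (by linarith : (0 : ℤ) ≤ (q : ℤ) - 25) (by positivity : (0 : ℤ) ≤ (q : ℤ))]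
      have k3 : (u : ℤ) ≤ 265 := by linarith only [hu1, k2]
      exact ⟨by exact_mod_cast k2.le, by exact_mod_cast k3⟩
  refine h.chk_false chkG2 (by norm_num) (by norm_num) D.vp ⟨f, hf, hvf⟩ hvp hbd.1 hbd.2 hu ?_ ?_
  · intro E hE
    simp only [lowG2, List.mem_cons, List.not_mem_nil, or_false] at hE
    rcases hE with rfl | rfl | rfl | rfl | rfl
    · exact D.exP
    · exact D.exM
    · exact D.ex1
    · exact D.ex3
    · exact D.ex6
  · have hmem : ∀ n : ℕ, (n = v * (u + 1) ∨ n = v * (u - 1) ∨ n = u ^ 2 - 1 ∨ n = u ^ 2 + u + 1 ∨ n = u ^ 2 - u + 1) →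
        n ∈ lowG2 v u := by
      intro n hn
      simp only [lowG2, List.mem_cons, List.not_mem_nil, or_false]
      exact hn
    rcases hhit with h0 | h0 | h0 | h0 | h0
    · exact ⟨_, hmem _ (Or.inl rfl), h0⟩
    · exact ⟨_, hmem _ (Or.inr (Or.inl rfl)), h0⟩
    · exact ⟨_, hmem _ (Or.inr (Or.inr (Or.inl rfl))), h0⟩
    · exact ⟨_, hmem _ (Or.inr (Or.inr (Or.inr (Or.inl rfl)))), h0⟩
    · exact ⟨_, hmem _ (Or.inr (Or.inr (Or.inr (Or.inr rfl)))), h0⟩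

end Cfsg.Agent.R2.Spec.X7.N6
end

-- part: R2/Spec/X7/N6/ESz
section
/-!
# Box X7, `n = 6`, packet N6-E (helper9): `S = Sz(u)`, `S = Ree(u)`
-/

set_option autoImplicit false
set_option maxHeartbeats 1000000

namespace Cfsg.Agent.R2.Spec.X7.N6

open Cfsg.Agent.H426.LieFam
open Cfsg.Agent.R2.Spec.X4.H18 (SzD ReeD ord_iff)

variable {p q : ℕ} {s : ℤ} {c c5 M : ℕ}

/-- the element orders of `Sz(2 y²)` -/
def lowSz (y : ℕ) : List ℕ := [2 * y ^ 2 - 1, 2 * y ^ 2 + 2 * y + 1, 2 * y ^ 2 - 2 * y + 1]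

theorem chkSz : ((List.range 9).all fun m => (m == 0) || chkQ 36 2 (lowSz (2 ^ m)) (lowSz (2 ^ m))) = true := by
  decide +kernel

theorem not_szD {S : Type*} [Group S] [Finite S] {y : ℕ} (hS : Sec p q s c c5 M S) (D : SzD y S) : False := by
  have h := hS.sw
  obtain ⟨m, hm, hy⟩ := D.pw
  have hy2 : 2 ≤ y := by
    rw [hy]
    exact Nat.le_self_pow (by omega) 2
  have hyz : (2 : ℤ) ≤ y := by exact_mod_cast hy2
  have hsq : 2 * y ≤ y ^ 2 := by nlinarith only [hy2]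
  have e0 : ((2 * y ^ 2 - 1 : ℕ) : ℤ) = 2 * (y : ℤ) ^ 2 - 1 := by
    rw [Nat.cast_sub (by omega)]; push_cast; ring
  have em : ((2 * y ^ 2 - 2 * y + 1 : ℕ) : ℤ) = 2 * (y : ℤ) ^ 2 - 2 * y + 1 := by
    rw [Nat.cast_add, Nat.cast_sub (by omega)]; push_cast; ring
  have ep : ((2 * y ^ 2 + 2 * y + 1 : ℕ) : ℤ) = 2 * (y : ℤ) ^ 2 + 2 * y + 1 := by push_cast; ring
  have hqz : (3 : ℤ) ≤ q := by exact_mod_cast h.n.q3
  have hc5 := h.n.c5_pos
  have hMq : 8 * (q : ℤ) ^ 3 ≤ 5 * M := by exact_mod_cast h.n.q3_le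
  have hM17 : (17 : ℤ) ≤ M := by exact_mod_cast h.n.M_gt
  have hhit : M ∣ 2 * y ^ 2 - 1 ∨ M ∣ 2 * y ^ 2 + 2 * y + 1 ∨ M ∣ 2 * y ^ 2 - 2 * y + 1 := by
    obtain ⟨x, hx⟩ := hS.elt
    rw [← hx]
    exact D.ub x (by rw [hx]; exact h.n.M_oddE)
  have hMle : (M : ℤ) ≤ 2 * (y : ℤ) ^ 2 + 2 * y + 1 := by
    rw [← ep]
    rcases hhit with h0 | h0 | h0
    · have := Nat.le_of_dvd (by omega) h0
      exact_mod_cast (by omega : M ≤ 2 * y ^ 2 + 2 * y + 1)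
    · exact_mod_cast Nat.le_of_dvd (by omega) h0
    · have := Nat.le_of_dvd (by omega) h0
      exact_mod_cast (by omega : M ≤ 2 * y ^ 2 + 2 * y + 1)
  have hu1 : (y : ℤ) ≤ 2 * c5 * (q + 1) + 2 := by
    by_cases hex : q = 3 ∧ y ≤ 7
    · have : (y : ℤ) ≤ 7 := by exact_mod_cast hex.2
      nlinarith only [hqz, hc5, hex]
    have hN0 : q = 3 → 72 < 2 * y ^ 2 - 1 := by
      intro hq
      have : 8 ≤ y := by
        by_contra hcon
        exact hex ⟨hq, by omega⟩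
      have : 64 ≤ y ^ 2 := by nlinarith only [this]
      omega
    have hNp : q = 3 → 72 < 2 * y ^ 2 + 2 * y + 1 := by
      intro hq
      have := hN0 hq
      omega
    rcases hhit with hM | hM | hM
    · obtain ⟨e, he⟩ := id hM
      have he0 : 0 < e := by
        rcases Nat.eq_zero_or_pos e with h0 | h0
        · rw [h0] at he; omega
        · exact h0
      have hcop : Nat.Coprime (2 * y ^ 2 + 2 * y + 1) M := h.n.cop_of hM (α := y)
        (β := -(y - 1)) (k := 1) (by rw [e0, ep]; ring) (by norm_num) (by norm_num)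
      have hh := h.n.pair_lt (h.up _ D.op) hcop (e := e) (by rw [← he]; omega) he0 hNp
      rw [← he, e0, ep] at hh
      by_contra hcon
      push Not at hcon
      nlinarith only [hh, hcon]
    · obtain ⟨e, he⟩ := id hM
      have he0 : 0 < e := by
        rcases Nat.eq_zero_or_pos e with h0 | h0
        · rw [h0] at he; omega
        · exact h0
      have hcop : Nat.Coprime (2 * y ^ 2 - 1) M := h.n.cop_of hM (α := -(y - 1))
        (β := y) (k := 1) (by rw [e0, ep]; ring) (by norm_num) (by norm_num)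
      have hbig : q ^ 3 < 2 * y ^ 2 - 1 := by
        have : (q : ℤ) ^ 3 < ((2 * y ^ 2 - 1 : ℕ) : ℤ) := by
          rw [e0]
          by_cases h4 : y = 2
          · rw [h4] at hMle
            norm_num at hMle
            linarith only [hM17, hMle]
          · have : (3 : ℤ) ≤ y := by exact_mod_cast (by omega : 3 ≤ y)
            nlinarith only [hMq, hMle, this]
        exact_mod_cast this
      rcases h.n.pair_gt (h.up _ D.o0) hcop (e := e) (by rw [← he]; omega) hbig hN0 with hh | hh | ⟨j, -, hj2, -⟩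
      · rw [← he, e0, ep] at hh
        by_contra hcon
        push Not at hcon
        nlinarith only [hy2, hcon, hh]
      · exfalso
        rw [← he, e0, ep] at hh
        have h6 : (2 : ℤ) * (y ^ 2 + y) + 1 = M * (c5 * (2 * (y + 1))) := by
          have h7 : ((M * e : ℕ) : ℤ) = 2 * (y : ℤ) ^ 2 + 2 * y + 1 := by rw [← he, ep]
          push_cast at h7
          rw [hh] at h7
          linear_combination -h7
        have h8 : (2 : ℤ) * (M * (c5 * (y + 1)) - (y ^ 2 + y)) = 1 := by linear_combination -h6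
        omega
      · exfalso
        rw [← he, e0, ep] at hj2
        obtain ⟨k, hk⟩ := h.n.odd_s
        rw [hk] at hj2
        have h8 : (2 : ℤ) * (j * (y + 1) - (2 * k ^ 2 + 2 * k + 2 * k + 2)) = 1 := by linear_combination hj2
        omega
    · obtain ⟨e, he⟩ := id hM
      have he0 : 0 < e := by
        rcases Nat.eq_zero_or_pos e with h0 | h0
        · rw [h0] at he; omega
        · exact h0
      have hcop : Nat.Coprime (2 * y ^ 2 - 1) M := h.n.cop_of hM (α := y + 1)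
        (β := -y) (k := 1) (by rw [e0, em]; ring) (by norm_num) (by norm_num)
      have hh := h.n.pair_lt (h.up _ D.o0) hcop (e := e) (by rw [← he]; omega) he0 hN0
      rw [← he, e0, em] at hh
      by_contra hcon
      push Not at hcon
      nlinarith only [hh, hcon]
  have hlo := h.n.lo
  have hbd : q ≤ 36 ∧ y ≤ 382 := by
    have hu0 : (0 : ℤ) ≤ y := by positivity
    rcases h.n.c5_or with h5 | h5
    · rw [h5] at hlo hu1
      push_cast at hlo hu1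
      have k1 : (M : ℤ) ≤ 2 * (2 * q + 4) ^ 2 + 2 * (2 * q + 4) + 1 := by nlinarith only [hMle, hu1]
      have k2 : (q : ℤ) ≤ 36 := by
        by_contra hcon
        push Not at hcon
        linarith only [hlo, k1, hcon, mul_nonneg (by linarith : (0 : ℤ) ≤ (q : ℤ) - 36) (by positivity : (0 : ℤ) ≤ (q : ℤ) ^ 3), mul_nonneg (by linarith : (0 : ℤ) ≤ (q : ℤ) - 36) (by positivity : (0 : ℤ) ≤ (q : ℤ) ^ 2), mul_nonneg (by linarith : (0 : ℤ) ≤ (q : ℤ) - 36) (by positivity : (0 : ℤ) ≤ (q : ℤ))]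
      have k3 : (y : ℤ) ≤ 382 := by linarith only [hu1, k2]
      exact ⟨by exact_mod_cast k2, by exact_mod_cast k3⟩
    · rw [h5] at hlo hu1
      push_cast at hlo hu1
      have k1 : (M : ℤ) ≤ 2 * (10 * q + 12) ^ 2 + 2 * (10 * q + 12) + 1 := by nlinarith only [hMle, hu1]
      have k2 : (q : ℤ) ≤ 36 := by
        by_contra hcon
        push Not at hcon
        linarith only [hlo, k1, hcon, mul_nonneg (by linarith : (0 : ℤ) ≤ (q : ℤ) - 36) (by positivity : (0 : ℤ) ≤ (q : ℤ) ^ 3), mul_nonneg (by linarith : (0 : ℤ) ≤ (q : ℤ) - 36) (by positivity : (0 : ℤ) ≤ (q : ℤ) ^ 2), mul_nonneg (by linarith : (0 : ℤ) ≤ (q : ℤ) - 36) (by positivity : (0 : ℤ) ≤ (q : ℤ))]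
      have k3 : (y : ℤ) ≤ 382 := by linarith only [hu1, k2]
      exact ⟨by exact_mod_cast k2, by exact_mod_cast k3⟩
  have hm9 : m < 9 := by
    by_contra hcon
    have k1 : 2 ^ 9 ≤ 2 ^ m := Nat.pow_le_pow_right (by norm_num) (not_lt.mp hcon)
    have := hbd.2
    omega
  have h1 := chkSz
  rw [List.all_eq_true] at h1
  have h2 := h1 m (by rw [List.mem_range]; exact hm9)
  have h3 : (m == 0) = false := by rw [beq_eq_false_iff_ne]; omega
  rw [h3, ← hy, Bool.false_or] at h2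
  have h4 := h.chkQ_false (Q := 36) (v := 2) (low := lowSz y) (hit := lowSz y) hbd.1 (by norm_num)
    (fun h0 => h.n.hp2 h0.symm) (by
      intro E hE
      simp only [lowSz, List.mem_cons, List.not_mem_nil, or_false] at hE
      rcases hE with rfl | rfl | rfl
      · exact D.o0
      · exact D.op
      · exact D.om) (by
      have hmem : ∀ n : ℕ, (n = 2 * y ^ 2 - 1 ∨ n = 2 * y ^ 2 + 2 * y + 1 ∨ n = 2 * y ^ 2 - 2 * y + 1) →
          n ∈ lowSz y := by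
        intro n hn
        simp only [lowSz, List.mem_cons, List.not_mem_nil, or_false]
        exact hn
      rcases hhit with h0 | h0 | h0
      · exact ⟨_, hmem _ (Or.inl rfl), h0⟩
      · exact ⟨_, hmem _ (Or.inr (Or.inl rfl)), h0⟩
      · exact ⟨_, hmem _ (Or.inr (Or.inr rfl)), h0⟩)
  rw [h4] at h2
  exact Bool.noConfusion h2

theorem not_sz {S : Type*} [Group S] [Finite S] (hS : Sec p q s c c5 M S) {v f : ℕ} (hI : Fam.Is v f S Fam.sz) :
    False := by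
  obtain ⟨-, m, hm, -, F, _, _, hF, ⟨e⟩⟩ := hI
  obtain ⟨e'⟩ := Cfsg.Agent.OddCyclic.ClaimC.SzIso.iso hm hF
  have e1 := e.trans e'.symm
  obtain ⟨h1, h2, h3, h4⟩ := Cfsg.Agent.H372.SzSpec.spec (F := F) hm hF
  have E1 : 2 ^ (2 * m + 1) = 2 * (2 ^ m) ^ 2 := by ring
  have E2 : 2 ^ (m + 1) = 2 * 2 ^ m := by ring
  rw [E1] at h1 h2 h3 h4
  rw [E2] at h1 h3 h4
  refine not_szD hS (y := 2 ^ m) ⟨⟨m, hm, rfl⟩, fun x hx => ?_, (ord_iff e1 _).2 h2, (ord_iff e1 _).2 h3,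
    (ord_iff e1 _).2 h4⟩
  have := h1 (e1 x) (by rwa [MulEquiv.orderOf_eq])
  rwa [MulEquiv.orderOf_eq] at this

/-! ### `Ree(u)`, `u = 3 t²` -/

/-- the element orders of `Ree(3 t²)` -/
def lowRee (t : ℕ) : List ℕ := [3 * t ^ 2 - 1, (3 * t ^ 2 + 1) / 2, 3 * t ^ 2 + 3 * t + 1, 3 * t ^ 2 - 3 * t + 1]

theorem chkRee : ((List.range 5).all fun m => (m == 0) || chkQ 18 3 (lowRee (3 ^ m)) (lowRee (3 ^ m))) = true := by
  decide +kernel

theorem not_reeD {S : Type*} [Group S] [Finite S] {t : ℕ} (hS : Sec p q s c c5 M S) (D : ReeD t S) (hp3 : 3 ≠ p) :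
    False := by
  have h := hS.sw
  obtain ⟨m, hm, hy⟩ := D.pw
  have ht3 : 3 ≤ t := by
    rw [hy]
    exact Nat.le_self_pow (by omega) 3
  have htz : (3 : ℤ) ≤ t := by exact_mod_cast ht3
  have hsq : 3 * t ≤ t ^ 2 := by nlinarith only [ht3]
  have hodd : t % 2 = 1 := by
    rw [hy, Nat.pow_mod]
    simp
  have hD1 : 2 * ((3 * t ^ 2 + 1) / 2) = 3 * t ^ 2 + 1 := by
    refine Nat.mul_div_cancel' (Nat.dvd_of_mod_eq_zero ?_)
    rw [Nat.add_mod, Nat.mul_mod, Nat.pow_mod, hodd]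
  have o0 : ∃ x : S, orderOf x = 3 * t ^ 2 - 1 := (D.sp _).mpr (Or.inr (Or.inr (Or.inl dvd_rfl)))
  have o1 : ∃ x : S, orderOf x = (3 * t ^ 2 + 1) / 2 := (D.sp _).mpr (Or.inr (Or.inr (Or.inr (Or.inl dvd_rfl))))
  have om : ∃ x : S, orderOf x = 3 * t ^ 2 - 3 * t + 1 :=
    (D.sp _).mpr (Or.inr (Or.inr (Or.inr (Or.inr (Or.inl dvd_rfl)))))
  have op : ∃ x : S, orderOf x = 3 * t ^ 2 + 3 * t + 1 :=
    (D.sp _).mpr (Or.inr (Or.inr (Or.inr (Or.inr (Or.inr dvd_rfl)))))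
  have e0 : ((3 * t ^ 2 - 1 : ℕ) : ℤ) = 3 * (t : ℤ) ^ 2 - 1 := by
    rw [Nat.cast_sub (by omega)]; push_cast; ring
  have em : ((3 * t ^ 2 - 3 * t + 1 : ℕ) : ℤ) = 3 * (t : ℤ) ^ 2 - 3 * t + 1 := by
    rw [Nat.cast_add, Nat.cast_sub (by (clear * - hsq; omega))]; push_cast; ring
  have ep : ((3 * t ^ 2 + 3 * t + 1 : ℕ) : ℤ) = 3 * (t : ℤ) ^ 2 + 3 * t + 1 := by push_cast; ring
  set D1 := (3 * t ^ 2 + 1) / 2 with hD1d
  have e1 : (2 : ℤ) * (D1 : ℕ) = 3 * (t : ℤ) ^ 2 + 1 := by exact_mod_cast hD1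
  have hhit : M ∣ 3 * t ^ 2 - 1 ∨ M ∣ D1 ∨ M ∣ 3 * t ^ 2 + 3 * t + 1 ∨ M ∣ 3 * t ^ 2 - 3 * t + 1 := by
    obtain ⟨x, hx⟩ := hS.elt
    have h0 := (D.sp M).mp ⟨x, hx⟩
    have h17 := h.n.M_gt
    rcases h0 with h0 | h0 | h0 | h0 | h0 | h0
    · have := Nat.le_of_dvd (by norm_num) h0
      omega
    · have := Nat.le_of_dvd (by norm_num) h0
      omega
    · exact Or.inl h0
    · exact Or.inr (Or.inl h0)
    · exact Or.inr (Or.inr (Or.inr h0))
    · exact Or.inr (Or.inr (Or.inl h0))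
  have hMle : M ≤ 3 * t ^ 2 + 3 * t + 1 := by
    rcases hhit with h0 | h0 | h0 | h0
    · have := Nat.le_of_dvd (by (clear * - e0; omega)) h0
      (clear * - e0 this; omega)
    · have := Nat.le_of_dvd (by (clear * - e0; omega)) h0
      (clear * - this; omega)
    · exact Nat.le_of_dvd (by (clear * -; omega)) h0
    · have := Nat.le_of_dvd (by (clear * -; omega)) h0
      (clear * - em this; omega)
  rcases Nat.lt_or_ge t 243 with hsm | hbig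
  · -- finite check
    have hm5 : m < 5 := by
      by_contra hcon
      have k1 : 3 ^ 5 ≤ 3 ^ m := Nat.pow_le_pow_right (by norm_num) (not_lt.mp hcon)
      omega
    have ht81 : t ≤ 81 := by
      rw [hy]
      calc 3 ^ m ≤ 3 ^ 4 := Nat.pow_le_pow_right (by norm_num) (by omega)
        _ = 81 := by norm_num
    have hq18 : q ≤ 18 := by
      by_contra hcon
      have k1 := h.n.M_lo
      have k2 : 19 ^ 4 ≤ q ^ 4 := Nat.pow_le_pow_left (by omega) 4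
      have k3 : t ^ 2 ≤ 81 ^ 2 := Nat.pow_le_pow_left ht81 2
      (clear * - e0 hMle ht81 k1 k2 k3; omega)
    have h1 := chkRee
    rw [List.all_eq_true] at h1
    have h2 := h1 m (by rw [List.mem_range]; exact hm5)
    have h3 : (m == 0) = false := by rw [beq_eq_false_iff_ne]; omega
    rw [h3, ← hy, Bool.false_or] at h2
    have h4 := h.chkQ_false (Q := 18) (v := 3) (low := lowRee t) (hit := lowRee t) hq18 (by norm_num)
      hp3 (by
        intro E hE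
        simp only [lowRee, List.mem_cons, List.not_mem_nil, or_false] at hE
        rcases hE with rfl | rfl | rfl | rfl
        · exact o0
        · exact o1
        · exact op
        · exact om) (by
        have hmem : ∀ n : ℕ, (n = 3 * t ^ 2 - 1 ∨ n = D1 ∨ n = 3 * t ^ 2 + 3 * t + 1 ∨ n = 3 * t ^ 2 - 3 * t + 1) →
            n ∈ lowRee t := by
          intro n hn
          simp only [lowRee, List.mem_cons, List.not_mem_nil, or_false]
          exact hn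
        rcases hhit with h0 | h0 | h0 | h0
        · exact ⟨_, hmem _ (Or.inl rfl), h0⟩
        · exact ⟨_, hmem _ (Or.inr (Or.inl rfl)), h0⟩
        · exact ⟨_, hmem _ (Or.inr (Or.inr (Or.inl rfl))), h0⟩
        · exact ⟨_, hmem _ (Or.inr (Or.inr (Or.inr rfl))), h0⟩)
    rw [h4] at h2
    exact Bool.noConfusion h2
  · -- the exponent
    have d0 := h.dvd_PI o0
    have d1 := h.dvd_PI o1
    have dm := h.dvd_PI om
    have dp := h.dvd_PI op
    obtain ⟨k, hk⟩ : ∃ k : ℤ, (t : ℤ) = 2 * k + 1 := ⟨((t / 2 : ℕ) : ℤ), by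
      have : t = 2 * (t / 2) + 1 := by omega
      exact_mod_cast this⟩
    have x1 : (((3 * t ^ 2 - 1 : ℕ) : ℤ) * (D1 : ℕ)) ∣ 2 * PI p s :=
      mul_dvd_of d0 d1 (α := -1) (β := 2) (by rw [e0]; linear_combination e1)
    have x2 : (((3 * t ^ 2 - 3 * t + 1 : ℕ) : ℤ) * ((3 * t ^ 2 + 3 * t + 1 : ℕ) : ℤ)) ∣ 1 * PI p s :=
      mul_dvd_of dm dp (α := 1 + k) (β := -k) (by
        rw [em, ep]
        linear_combination (3 * (t : ℤ)) * hk)
    have x3 := mul_dvd_of x1 ((one_mul (PI p s) ▸ x2).mul_left 2)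
      (α := -2 * ((3 * (t : ℤ) ^ 2 + 1) * (3 * t ^ 4) + 1)) (β := (3 * (t : ℤ) ^ 2 + 2) * (3 * t ^ 4)) (k := 1) (by
        rw [em, ep, e0]
        linear_combination (-((3 * (t : ℤ) ^ 2 + 1) * (3 * t ^ 4) + 1) * (3 * (t : ℤ) ^ 2 - 1)) * e1)
    rw [one_mul] at x3
    have hX : ((((3 * t ^ 2 - 1) * D1) * ((3 * t ^ 2 - 3 * t + 1) * (3 * t ^ 2 + 3 * t + 1)) : ℕ) : ℤ) ∣ (2 : ℕ) * PI p s := by
      push_cast at x3 ⊢
      exact x3
    have t2 : 243 * t ≤ t ^ 2 := by nlinarith only [hbig]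
    refine h.n.killE (by norm_num) hX (a1 := 2) (a2 := 80) (b1 := 81) (b2 := 246) (d := 8) (e := 2) (r := 6) (u := t)
      (by omega) ?_ (by (clear * - hMle hk t2; omega)) (by norm_num) ?_
    · have : (80 : ℤ) * t ^ 8 ≤ 2 * (((3 * t ^ 2 - 1 : ℕ) : ℤ) * (D1 : ℕ) * (((3 * t ^ 2 - 3 * t + 1 : ℕ) : ℤ) *
          ((3 * t ^ 2 + 3 * t + 1 : ℕ) : ℤ))) := by
        rw [em, ep, e0]
        have k1 : 2 * ((3 * (t : ℤ) ^ 2 - 1) * (D1 : ℕ) * ((3 * (t : ℤ) ^ 2 - 3 * t + 1) * (3 * (t : ℤ) ^ 2 + 3 * t + 1)))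
            = (9 * (t : ℤ) ^ 4 - 1) * (9 * t ^ 4 - 3 * t ^ 2 + 1) := by
          linear_combination ((3 * (t : ℤ) ^ 2 - 1) * ((3 * (t : ℤ) ^ 2 - 3 * t + 1) * (3 * (t : ℤ) ^ 2 + 3 * t + 1))) * e1
        rw [k1]
        have k2 : (27 : ℤ) ≤ t ^ 2 := by linarith only [hbig, t2]
        have k3 : (0 : ℤ) ≤ (t : ℤ) ^ 6 := by positivity
        linarith only [hbig, t2, mul_nonneg (by linarith : (0 : ℤ) ≤ (t : ℤ) ^ 2 - 27) k3]
      exact_mod_cast this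
    · have k1 : 243 ^ 6 ≤ t ^ 6 := Nat.pow_le_pow_left hbig 6
      calc 2 ^ 4 * 2 ^ 4 * (50 ^ 4 * 45 ^ 9) * 246 ^ 13 < 81 * 8 ^ 9 * 80 ^ 4 * 81 ^ 13 * 243 ^ 6 := by norm_num
        _ ≤ 81 * 8 ^ 9 * 80 ^ 4 * 81 ^ 13 * t ^ 6 := Nat.mul_le_mul_left _ k1

theorem not_ree {S : Type*} [Group S] [Finite S] (hS : Sec p q s c c5 M S) {v f : ℕ} (hI : Fam.Is v f S Fam.ree)
    (hvp : v ≠ p) : False := by
  obtain ⟨hv, m, hm, -, K, _, _, hK, ⟨e⟩⟩ := hI
  have hsp := Cfsg.Agent.S1159.result (K := K) hm hK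
  have E1 : 3 ^ (2 * m + 1) = 3 * (3 ^ m) ^ 2 := by ring
  have E2 : 3 ^ (m + 1) = 3 * 3 ^ m := by ring
  rw [E1, E2] at hsp
  refine not_reeD hS (t := 3 ^ m) ⟨⟨m, hm, rfl⟩, fun d => ?_⟩ (fun h3 => hvp (by rw [hv, h3]))
  rw [ord_iff e]
  exact hsp d

end Cfsg.Agent.R2.Spec.X7.N6
end

-- part: R2/Spec/X7/N6/ED4
section
/-!
# Box X7, `n = 6`, packet N6-E (helper9): `S = ³D₄(u)`
-/

set_option autoImplicit false
set_option maxHeartbeats 1000000

namespace Cfsg.Agent.R2.Spec.X7.N6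

open Cfsg.Agent.R2.Spec.X4.H18 (D4Dat)
open Cfsg.Agent.Cit.HexBase Cfsg.Agent.Cit.HexBase.HexGrp

variable {p q : ℕ} {s : ℤ} {c c5 M : ℕ} {W : ℕ → Prop} {v u : ℕ}

/-- elements of order `v (u³ ± 1)` -/
theorem d4_vord {K : Type*} [Field K] [Fintype K] {v q : ℕ} (hv : v.Prime) (h2 : v ≠ 2) [CharP K v] (hq : 1 < q)
    (hK : Fintype.card K = q ^ 3) (hvq : v ∣ q) :
    (∃ x : ↥(Cfsg.Lie.twistedD4 K q), orderOf x = v * (q ^ 3 - 1)) ∧
      ∃ x : ↥(Cfsg.Lie.twistedD4 K q), orderOf x = v * (q ^ 3 + 1) := by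
  obtain ⟨σ, hσ, ⟨c⟩⟩ := Cfsg.Agent.Cit.HexD4.exists_d4 hK
  have hfx : Nat.card ↥(fx σ) = q :=
    Cfsg.Agent.ChevalleyStructure.D4U.card_fix_field (φ := (σ : K →+* K)) hq hK hσ
  have : Fintype ↥(fx σ) := Fintype.ofFinite _
  have h20 : (2 : K) ≠ 0 := by
    intro h
    have h3 : ((2 : ℕ) : K) = 0 := by exact_mod_cast h
    rw [CharP.cast_eq_zero_iff K v] at h3
    exact h2 ((Nat.prime_dvd_prime_iff_eq hv Nat.prime_two).mp h3)
  have hfv : Fact v.Prime := ⟨hv⟩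
  obtain ⟨y, hy⟩ : ∃ y : Matrix.SpecialLinearGroup (Fin 2) ↥(fx σ), orderOf y = v := by
    apply exists_prime_orderOf_dvd_card'
    rw [Cfsg.Agent.ClassicalGeometry.PSL2Basic.card_SL2, ← Nat.card_eq_fintype_card, hfx]
    exact hvq.mul_right _
  have hy' : orderOf (c.p4 y) = v := by rw [orderOf_injective _ c.p4_inj, hy]
  have hq3 : v ∣ q ^ 3 := hvq.trans (dvd_pow_self q (by norm_num))
  have key : ∀ {a : Matrix.SpecialLinearGroup (Fin 2) K} {n : ℕ}, orderOf a = n → ¬ v ∣ n →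
      ∃ x : ↥(Cfsg.Lie.twistedD4 K q), orderOf x = v * n := by
    intro a n ha hn
    have ha' : orderOf (c.pb a) = n := by rw [orderOf_injective _ (c.pb_inj h20), ha]
    refine ⟨c.pb a * c.p4 y, ?_⟩
    have hcm : Commute (c.pb a) (c.p4 y) := c.comm_pb_p4 a y
    rw [hcm.orderOf_mul_eq_mul_orderOf_of_coprime (by
      rw [ha', hy']
      exact ((Nat.Prime.coprime_iff_not_dvd hv).mpr hn).symm), ha', hy', mul_comm]
  have h1 : 1 < q ^ 3 := Nat.one_lt_pow (by norm_num) hq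
  constructor
  · obtain ⟨a, ha⟩ := Cfsg.Agent.H710.SLTwo.exists_order_sub_one K
    rw [hK] at ha
    refine key ha fun hd => ?_
    have h3 : v ∣ q ^ 3 - (q ^ 3 - 1) := Nat.dvd_sub hq3 hd
    rw [show q ^ 3 - (q ^ 3 - 1) = 1 by omega] at h3
    exact hv.one_lt.ne' (Nat.dvd_one.1 h3)
  · obtain ⟨a, ha⟩ := Cfsg.Agent.H710.SLTwo.exists_order_add_one K
    rw [hK] at ha
    refine key ha fun hd => ?_
    have h3 := (Nat.dvd_add_right hq3).1 hd
    exact hv.one_lt.ne' (Nat.dvd_one.1 h3)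

/-- the element orders of `³D₄(u)` used in the finite check -/
def lowD4 (_v u : ℕ) : List ℕ := [u ^ 4 - u ^ 2 + 1, (u ^ 3 - 1) * (u + 1), (u ^ 3 + 1) * (u - 1)]

theorem chkD4 : chk 42 40 3 lowD4 (fun _ _ => [0]) = true := by decide +kernel

theorem d4n1 {q u : ℤ} (hq : 3 ≤ q) (hu : 3 ≤ u) (k2 : u ^ 2 - u ≤ 10 * q + 12) (k : 3 * (q ^ 3 * (q - 1)) < 20 * u ^ 4) :
    q ≤ 42 ∧ u ≤ 40 := by
  have k3 : u ^ 2 ≤ 15 * q + 18 := by nlinarith only [hq, k2]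
  have k4 : 3 * (q ^ 3 * (q - 1)) < 20 * (15 * q + 18) ^ 2 := by
    have : u ^ 4 ≤ (15 * q + 18) ^ 2 := by
      calc u ^ 4 = (u ^ 2) ^ 2 := by ring
        _ ≤ (15 * q + 18) ^ 2 := by gcongr
    linarith
  have k5 : q ≤ 42 := by
    by_contra hcon
    push Not at hcon
    obtain ⟨t, rfl⟩ : ∃ t, q = t + 43 := ⟨q - 43, by ring⟩
    have ht : 0 ≤ t := by linarith
    linarith only [k4, hcon, pow_nonneg ht 4, pow_nonneg ht 3, _root_.sq_nonneg (t : ℤ)]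
  exact ⟨k5, by nlinarith only [k2, k5]⟩

theorem d4n2 {q u M : ℤ} (hq : 3 ≤ q) (hu : 3 ≤ u) (h1 : M < 2 * u * (q + 1)) (h2 : q ^ 3 * (q - 1) < 5 * M)
    (h3 : 4 * u ^ 4 ≤ 3 * (5 * (q + 1) * M)) : q ≤ 42 ∧ u ≤ 40 := by
  have hu0 : 0 < u := by linarith
  have hq0 : 0 < q := by linarith
  have k2 : q ^ 3 < 20 * u := by
    have k : (q - 1) * q ^ 3 < (q - 1) * (20 * u) := by
      have e1 : 5 * M < 10 * u * (q + 1) := by linarith
      have e2 : 10 * u * (q + 1) ≤ (q - 1) * (20 * u) := by nlinarith only [hq, hu]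
      linarith
    exact lt_of_mul_lt_mul_left k (by linarith)
  have k4 : u ^ 3 < 15 * q ^ 2 := by
    have e1 : 4 * u ^ 4 < 3 * (5 * (q + 1) * (2 * u * (q + 1))) := by
      refine lt_of_le_of_lt h3 ?_
      have : 0 < 5 * (q + 1) := by linarith
      have := mul_lt_mul_of_pos_left h1 this
      linarith
    have e2 : u * (4 * u ^ 3) < u * (30 * (q + 1) ^ 2) := by linarith
    have e3 := lt_of_mul_lt_mul_left e2 hu0.le
    nlinarith only [hq, e3]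
  have k5 : q < 6 := by
    by_contra hcon
    push Not at hcon
    have k7 : (q ^ 3) ^ 3 < (20 * u) ^ 3 := by gcongr
    have k8 : q ^ 2 * q ^ 7 < q ^ 2 * 120000 := by
      calc q ^ 2 * q ^ 7 = (q ^ 3) ^ 3 := by ring
        _ < (20 * u) ^ 3 := k7
        _ = 8000 * u ^ 3 := by ring
        _ ≤ 8000 * (15 * q ^ 2) := by gcongr
        _ = q ^ 2 * 120000 := by ring
    have k9 := lt_of_mul_lt_mul_left k8 (by positivity)
    have k10 : (6 : ℤ) ^ 7 ≤ q ^ 7 := by gcongr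
    linarith
  refine ⟨by linarith, ?_⟩
  by_contra hcon
  push Not at hcon
  have k7 : (40 : ℤ) ^ 3 ≤ u ^ 3 := by gcongr
  nlinarith only [k4, k5, k7, hq]

theorem d4n3 {q u M : ℤ} (hq : 3 ≤ q) (hu : 3 ≤ u) (h1 : M < 2 * u * ((q + 1) ^ 2 + 1)) (h2 : q ^ 3 * (q - 1) < 5 * M)
    (h3 : 2 * u ^ 4 ≤ 3 * ((q ^ 3 + 1) * (q + 1))) : q ≤ 42 ∧ u ≤ 40 := by
  have hu0 : 0 < u := by linarith
  have hq0 : 0 < q := by linarith
  have k3 : q < 19 := by
    by_contra hcon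
    push Not at hcon
    have k5 : q ^ 2 < 12 * u := by
      by_contra hc
      push Not at hc
      have e1 : q ^ 3 * (q - 1) < 10 * u * ((q + 1) ^ 2 + 1) := by linarith
      have e2 : 12 * u * ((q + 1) ^ 2 + 1) ≤ q ^ 2 * ((q + 1) ^ 2 + 1) := by gcongr
      have e3 : q ^ 2 * (12 * (q * (q - 1))) < q ^ 2 * (10 * ((q + 1) ^ 2 + 1)) := by linarith
      have e4 := lt_of_mul_lt_mul_left e3 (by positivity)
      nlinarith only [hcon, e4, hq]
    have k6 : (q ^ 2) ^ 4 < (12 * u) ^ 4 := by gcongr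
    have k6' : 10368 * (3 * ((q ^ 3 + 1) * (q + 1))) ≤ q ^ 4 * 34000 := by
      obtain ⟨t, rfl⟩ : ∃ t, q = t + 19 := ⟨q - 19, by ring⟩
      have ht : 0 ≤ t := by linarith
      linarith only [hcon, pow_nonneg ht 4, pow_nonneg ht 3, _root_.sq_nonneg (t : ℤ)]
    have k7 : q ^ 4 * q ^ 4 < q ^ 4 * 34000 := by
      calc q ^ 4 * q ^ 4 = (q ^ 2) ^ 4 := by ring
        _ < (12 * u) ^ 4 := k6
        _ = 10368 * (2 * u ^ 4) := by ring
        _ ≤ 10368 * (3 * ((q ^ 3 + 1) * (q + 1))) := by gcongr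
        _ ≤ q ^ 4 * 34000 := k6'
    have k8 := lt_of_mul_lt_mul_left k7 (by positivity)
    have k9 : (19 : ℤ) ^ 4 ≤ q ^ 4 := by gcongr
    linarith
  refine ⟨by linarith, ?_⟩
  by_contra hcon
  push Not at hcon
  have k7 : (40 : ℤ) ^ 4 ≤ u ^ 4 := by gcongr
  have k9 : (q ^ 3 + 1) * (q + 1) ≤ (19 ^ 3 + 1) * (19 + 1) := by gcongr
  linarith

theorem nat_of_le {q u a b : ℕ} (h : (q : ℤ) ≤ a ∧ (u : ℤ) ≤ b) : q ≤ a ∧ u ≤ b :=
  ⟨by exact_mod_cast h.1, by exact_mod_cast h.2⟩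

/-- **the bounds** -/
theorem d4_bound (h : SW p q s c c5 M W) (hu : 3 ≤ u) {T N : ℕ} {α β γ : ℤ} (hMT : M ∣ T) (hT : W T) (hN : W N)
    (hrel : α * T + β * N = γ) (hcop : Nat.Coprime N M) (hβ : |β| ≤ u) (hT3 : 2 * u ^ 4 ≤ 3 * T)
    (hN3 : 2 * u ^ 4 ≤ 3 * N) (hγ : |γ| * ((u : ℤ) ^ 2 - u) ≤ N) (hTle : T ≤ u ^ 4 + u ^ 3)
    (hαγ : IsCoprime α γ) (hα : (u : ℤ) - 1 ≤ |α|) (hβγ : |β| < |γ|) (hβ0 : β ≠ 0) : q ≤ 42 ∧ u ≤ 40 := by
  have hq3 := h.n.q3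
  have hqz : (3 : ℤ) ≤ q := by exact_mod_cast hq3
  have huz : (3 : ℤ) ≤ u := by exact_mod_cast hu
  have hc5 := h.n.c5_pos
  have hc5' : (c5 : ℤ) ≤ 5 := by rcases h.n.c5_or with h2 | h2 <;> rw [h2] <;> norm_num
  have hM0 := h.n.M_pos
  have hT0 : 0 < T := by
    have : 0 < u ^ 4 := pow_pos (by omega) 4
    omega
  have hMle := Nat.le_of_dvd hT0 hMT
  have hu43 : 3 * (u ^ 4 + u ^ 3) ≤ 4 * u ^ 4 := by
    have : 3 * u ^ 3 ≤ u ^ 4 := by
      calc 3 * u ^ 3 ≤ u * u ^ 3 := Nat.mul_le_mul_right _ hu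
        _ = u ^ 4 := by ring
    omega
  have hM4 : 3 * M ≤ 4 * u ^ 4 := by omega
  have hlo := h.n.lo
  have hMz : (0 : ℤ) < M := by exact_mod_cast hM0
  have hlo5 : (q : ℤ) ^ 3 * (q - 1) < 5 * M := by
    have h1 : (c5 : ℤ) * M ≤ 5 * M := by gcongr
    have h2 : (0 : ℤ) ≤ q * (q - 1) := by
      have : (0 : ℤ) ≤ (q : ℤ) - 1 := by linarith only [hq3]
      (clear * - hq3 this; positivity)
    linarith only [hlo, h1, h2]
  by_cases hbig : q ^ 3 < N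
  · by_cases hex : q = 3 ∧ N ≤ 72
    · have h1 : u ^ 4 ≤ 108 := by omega
      have h2 : u < 4 := by
        by_contra hcon
        have : 4 ^ 4 ≤ u ^ 4 := Nat.pow_le_pow_left (not_lt.mp hcon) 4
        omega
      omega
    have hq3' : q = 3 → 72 < N := by
      intro hq
      by_contra hcon
      exact hex ⟨hq, by omega⟩
    obtain ⟨e, he⟩ := id hMT
    have hup := h.up _ hT
    rw [he] at hup
    have he1 := h.n.e_le (h.n.up_top hup)
    have hc2 : (2 : ℤ) ≤ c := by rcases h.n.c_or with h1 | h1 <;> rw [h1] <;> norm_num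
    have hez : (0 : ℤ) ≤ e := by (clear * -; positivity)
    have hTM : 2 * (T : ℤ) ≤ 5 * (q + 1) * M := by
      have e1 : (T : ℤ) = M * e := by exact_mod_cast he
      rw [e1]
      have h1 : 2 * (e : ℤ) ≤ 5 * (q + 1) := by
        calc 2 * (e : ℤ) ≤ c * e := by gcongr
          _ ≤ c5 * (q + 1) := he1
          _ ≤ 5 * (q + 1) := by gcongr
      nlinarith only [h1]
    have hT3z : 2 * (u : ℤ) ^ 4 ≤ 3 * T := by exact_mod_cast hT3
    have hN3z : 2 * (u : ℤ) ^ 4 ≤ 3 * N := by exact_mod_cast hN3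
    have hM4z : 3 * (M : ℤ) ≤ 4 * (u : ℤ) ^ 4 := by exact_mod_cast hM4
    have hu0 : (0 : ℤ) < (u : ℤ) := by linarith only [hu]
    rw [he] at hrel
    have hsmall : |α| ≤ 5 → q ≤ 42 ∧ u ≤ 40 := by
      intro h5
      have hu6 : u ≤ 6 := by
        have : (u : ℤ) ≤ 6 := by linarith only [hα, h5]
        exact_mod_cast this
      have h6 : u ^ 4 ≤ 6 ^ 4 := Nat.pow_le_pow_left hu6 4
      have h7 := h.n.M_lo
      have h8 : q < 10 := by
        by_contra hcon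
        have : 10 ^ 4 ≤ q ^ 4 := Nat.pow_le_pow_left (not_lt.mp hcon) 4
        omega
      omega
    have hdv : α ∣ c5 * γ → q ≤ 42 ∧ u ≤ 40 := by
      intro hd
      have h1 : α ∣ c5 := hαγ.dvd_of_dvd_mul_right hd
      have h2 := Int.le_of_dvd (by linarith only [hc5]) ((abs_dvd α _).mpr h1)
      exact hsmall (by linarith only [hc5', h2])
    rcases h.n.bracket' (e := e) (h.up _ hN) hcop hbig hq3' hrel with h1 | h1 | ⟨h1, h1'⟩ | h1
    · -- small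
      have hg0 : 0 < |γ| := lt_of_le_of_lt (abs_nonneg β) hβγ
      have k1 : (u : ℤ) ^ 2 - u ≤ 2 * (c5 * (q + 1) + 1) := by
        refine le_of_mul_le_mul_left ?_ hg0
        calc |γ| * ((u : ℤ) ^ 2 - u) ≤ N := hγ
          _ ≤ 2 * (c5 * (q + 1) + 1) * |γ| := h1
          _ = |γ| * (2 * (c5 * (q + 1) + 1)) := by ring
      have k2 : (u : ℤ) ^ 2 - u ≤ 10 * q + 12 := by nlinarith only [hc5', k1]
      exact nat_of_le (d4n1 hqz huz k2 (by linarith only [hTle, hMle, hu43, hlo5]))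
    · -- `M < 2 |β| (q + 1)`
      have k1 : (M : ℤ) < 2 * u * (q + 1) := by
        calc (M : ℤ) < 2 * |β| * (q + 1) := h1
          _ ≤ 2 * u * (q + 1) := by gcongr
      exact nat_of_le (d4n2 hqz huz k1 hlo5 (by linarith only [hT3, hTM]))
    · -- the third case
      have k1 : (M : ℤ) < 2 * u * ((q + 1) ^ 2 + 1) := by
        calc (M : ℤ) < 2 * |β| * ((q + 1) ^ 2 + 1) := h1
          _ ≤ 2 * u * ((q + 1) ^ 2 + 1) := by gcongr
      have k2 : 2 * (u : ℤ) ^ 4 ≤ 3 * ((q ^ 3 + 1) * (q + 1)) := by linarith only [hN3, h1']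
      exact nat_of_le (d4n3 hqz huz k1 hlo5 k2)
    · rcases h1 with ⟨-, j, -, h2⟩ | ⟨h2, -⟩ | ⟨h2, -⟩ | ⟨h2, -⟩ | ⟨h2, -⟩
      · exfalso
        have h3 : γ ∣ β := ⟨c * j, by linarith only [h2]⟩
        have h4 := Int.le_of_dvd (abs_pos.mpr hβ0) ((abs_dvd_abs γ β).mpr h3)
        linarith only [hβγ, h4]
      · exact hdv ⟨e, h2⟩
      · exact hdv ⟨e, h2⟩
      · exact hdv ⟨e * (s ^ 2 + 2 * s + 2), by rw [h2]; ring⟩
      · exact hdv ⟨e * (s + 1), by rw [h2]; ring⟩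
  · -- `N ≤ q ^ 3`
    have hb : N ≤ q ^ 3 := not_lt.mp hbig
    have h1 : 2 * u ^ 4 ≤ 3 * q ^ 3 := by omega
    have h2 : M ≤ 2 * q ^ 3 := by omega
    have h3 : q < 12 := by
      by_contra hcon
      have k1 : (12 : ℤ) ≤ q := by exact_mod_cast not_lt.mp hcon
      have k2 : (M : ℤ) ≤ 2 * q ^ 3 := by exact_mod_cast h2
      have k3 : (0 : ℤ) < (q : ℤ) ^ 3 := by positivity
      nlinarith only [hN3, hTle, hc5', hMle, hu43, hlo, hbig, hcon]
    have h4 : u ≤ 40 := by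
      by_contra hcon
      have k1 : 40 ^ 4 ≤ u ^ 4 := Nat.pow_le_pow_left (by omega) 4
      have k2 : q ^ 3 ≤ 12 ^ 3 := Nat.pow_le_pow_left h3.le 3
      omega
    exact ⟨by omega, h4⟩

theorem not_td4D {S : Type*} [Group S] [Finite S] (hS : Sec p q s c c5 M S) (D : D4Dat v u S) (hvp : v ≠ p)
    (hvo : v ≠ 2 → (∃ x : S, orderOf x = v * (u ^ 3 - 1)) ∧ ∃ x : S, orderOf x = v * (u ^ 3 + 1)) : False := by
  have h := hS.sw
  have hM17 := h.n.M_gt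
  have hu2 := D.u2
  have hvu := D.vu
  have hv0 := D.vp.pos
  by_cases hu : 3 ≤ u
  swap
  · have hu' : u = 2 := by omega
    obtain ⟨x, hx⟩ := hS.elt
    have h1 : M ∣ Nat.card S := by rw [← hx]; exact orderOf_dvd_natCard x
    rw [D.card, hu'] at h1
    have h2 : M ∣ (2 ^ 12 * 3 ^ 4 * 7 ^ 2) * 13 := by
      norm_num at h1 ⊢
      exact h1
    have h3 : Nat.Coprime M (2 ^ 12 * 3 ^ 4 * 7 ^ 2) := by
      refine h.n.cop_small fun r hr hd => ?_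
      rcases hr.dvd_mul.1 hd with h4 | h4
      · rcases hr.dvd_mul.1 h4 with h5 | h5
        · have := Nat.le_of_dvd (by norm_num) (hr.dvd_of_dvd_pow h5)
          omega
        · have := Nat.le_of_dvd (by norm_num) (hr.dvd_of_dvd_pow h5)
          omega
      · have := Nat.le_of_dvd (by norm_num) (hr.dvd_of_dvd_pow h4)
        omega
    have h4 := Nat.le_of_dvd (by norm_num) (h3.dvd_of_dvd_mul_left h2)
    omega
  have huz : (3 : ℤ) ≤ u := by exact_mod_cast hu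
  have hvle : v ≤ u := Nat.le_of_dvd (by omega) hvu
  have hu3 : 1 < u ^ 3 := Nat.one_lt_pow (by norm_num) (by omega)
  have hle : u ^ 2 ≤ u ^ 4 := Nat.pow_le_pow_right (by omega) (by norm_num)
  have e12 : ((u ^ 4 - u ^ 2 + 1 : ℕ) : ℤ) = (u : ℤ) ^ 4 - u ^ 2 + 1 := by
    rw [Nat.cast_add, Nat.cast_sub hle]; push_cast; ring
  have eA : (((u ^ 3 - 1) * (u + 1) : ℕ) : ℤ) = ((u : ℤ) ^ 3 - 1) * (u + 1) := by
    rw [Nat.cast_mul, Nat.cast_sub (by omega)]; push_cast; ring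
  have eB : (((u ^ 3 + 1) * (u - 1) : ℕ) : ℤ) = ((u : ℤ) ^ 3 + 1) * (u - 1) := by
    rw [Nat.cast_mul, Nat.cast_sub (by omega)]; push_cast; ring
  -- the three tori
  have main : (M ∣ u ^ 4 - u ^ 2 + 1 ∨ M ∣ (u ^ 3 - 1) * (u + 1) ∨ M ∣ (u ^ 3 + 1) * (u - 1)) → False := by
    intro hM
    have p3 : (0 : ℤ) ≤ (u : ℤ) ^ 3 := by positivity
    have m3 : (0 : ℤ) ≤ ((u : ℤ) - 3) * (u : ℤ) ^ 3 := mul_nonneg (by linarith only [hu]) p3
    have m2 : (0 : ℤ) ≤ ((u : ℤ) - 3) * (u : ℤ) ^ 2 := mul_nonneg (by linarith only [hu]) (by positivity)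
    have m1 : (0 : ℤ) ≤ ((u : ℤ) - 3) * (u : ℤ) := mul_nonneg (by linarith only [hu]) (by linarith only [hu])
    have t12 : 2 * u ^ 4 ≤ 3 * (u ^ 4 - u ^ 2 + 1) := by
      have : (2 : ℤ) * (u : ℤ) ^ 4 ≤ 3 * ((u ^ 4 - u ^ 2 + 1 : ℕ) : ℤ) := by
        rw [e12]
        linarith only [m3, m2, _root_.sq_nonneg (↑u : ℤ)]
      exact_mod_cast this
    have tA : 2 * u ^ 4 ≤ 3 * ((u ^ 3 - 1) * (u + 1)) := by
      have : (2 : ℤ) * (u : ℤ) ^ 4 ≤ 3 * (((u ^ 3 - 1) * (u + 1) : ℕ) : ℤ) := by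
        rw [eA]
        linarith only [hu, m3, m2, m1]
      exact_mod_cast this
    have tB : 2 * u ^ 4 ≤ 3 * ((u ^ 3 + 1) * (u - 1)) := by
      have : (2 : ℤ) * (u : ℤ) ^ 4 ≤ 3 * (((u ^ 3 + 1) * (u - 1) : ℕ) : ℤ) := by
        rw [eB]
        linarith only [hu, m3]
      exact_mod_cast this
    have hb : q ≤ 42 ∧ u ≤ 40 := by
      rcases hM with hM | hM | hM
      · refine d4_bound h hu hM D.ex12 D.exA (α := u) (β := -(u - 1)) (γ := u ^ 2 + u - 1)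
          (by rw [e12, eA]; ring) ?_ ?_ t12 tA ?_ ?_ ⟨u + 1, -1, by ring⟩ ?_ ?_ ?_
        · exact h.n.cop_of hM (α := u ^ 2 + 1) (β := -u ^ 2 + u - 1) (k := 2) (by rw [e12, eA]; ring) (by norm_num)
            (by norm_num)
        · rw [abs_neg, abs_of_nonneg (by linarith only [hu])]
          linarith only []
        · rw [abs_of_nonneg (by linarith only [hu, _root_.sq_nonneg (↑u : ℤ)]), eA]
          linarith only [hu, m2, m1]
        · have : u ^ 2 ≥ 1 := Nat.one_le_pow _ _ (by omega)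
          have : u ^ 3 ≥ 1 := by omega
          omega
        · rw [abs_of_nonneg (by linarith only [hu])]
          linarith only []
        · rw [abs_neg, abs_of_nonneg (by linarith only [hu]), abs_of_nonneg (by linarith only [hu, _root_.sq_nonneg (↑u : ℤ)])]
          linarith only [hu, m1]
        · intro h0
          have : (u : ℤ) = 1 := by linarith only [hu, h0]
          linarith only [hu, h0]
      · refine d4_bound h hu hM D.exA D.ex12 (α := -(u - 1)) (β := u) (γ := u ^ 2 + u - 1)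
          (by rw [e12, eA]; ring) ?_ ?_ tA t12 ?_ ?_ ⟨u + 2, 1, by ring⟩ ?_ ?_ ?_
        · exact h.n.cop_of hM (α := -u ^ 2 + u - 1) (β := u ^ 2 + 1) (k := 2) (by rw [e12, eA]; ring) (by norm_num)
            (by norm_num)
        · rw [abs_of_nonneg (by linarith only [hu])]
        · rw [abs_of_nonneg (by linarith only [hu, _root_.sq_nonneg (↑u : ℤ)]), e12]
          linarith only [m1]
        · have : (((u ^ 3 - 1) * (u + 1) : ℕ) : ℤ) ≤ ((u ^ 4 + u ^ 3 : ℕ) : ℤ) := by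
            rw [eA]
            push_cast
            linarith only []
          exact_mod_cast this
        · rw [abs_neg, abs_of_nonneg (by linarith only [hu])]
        · rw [abs_of_nonneg (by linarith only [hu]), abs_of_nonneg (by linarith only [hu, _root_.sq_nonneg (↑u : ℤ)])]
          linarith only [hu, m1]
        · linarith only [hu]
      · refine d4_bound h hu hM D.exB D.ex12 (α := u + 1) (β := -u) (γ := u ^ 2 - u - 1)
          (by rw [e12, eB]; ring) ?_ ?_ tB t12 ?_ ?_ ⟨-(u - 2), 1, by ring⟩ ?_ ?_ ?_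
        · exact h.n.cop_of hM (α := -u ^ 2 - u - 1) (β := u ^ 2 + 1) (k := 2) (by rw [e12, eB]; ring) (by norm_num)
            (by norm_num)
        · rw [abs_neg, abs_of_nonneg (by linarith only [hu])]
        · rw [abs_of_nonneg (by linarith only [hu, m1]), e12]
          linarith only [m2, m1]
        · have : (((u ^ 3 + 1) * (u - 1) : ℕ) : ℤ) ≤ ((u ^ 4 + u ^ 3 : ℕ) : ℤ) := by
            rw [eB]
            push_cast
            linarith only [m2, m1]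
          exact_mod_cast this
        · rw [abs_of_nonneg (by linarith only [hu])]
          linarith only []
        · rw [abs_neg, abs_of_nonneg (by linarith only [hu]), abs_of_nonneg (by linarith only [hu, m1])]
          linarith only [hu, m1]
        · linarith only [hu]
    refine h.chk_false chkD4 (by norm_num) (by norm_num) D.vp D.pw hvp hb.1 hb.2 hu ?_
      ⟨0, List.mem_singleton.mpr rfl, dvd_zero M⟩
    intro E hE
    simp only [lowD4, List.mem_cons, List.not_mem_nil, or_false] at hE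
    rcases hE with rfl | rfl | rfl
    · exact D.ex12
    · exact D.exA
    · exact D.exB
  obtain ⟨x, hx⟩ := hS.elt
  have h0 := D.up hu x
  rw [hx] at h0
  have f3 : u ^ 3 - 1 = (u ^ 2 + u + 1) * (u - 1) := by
    obtain ⟨t, rfl⟩ : ∃ t, u = t + 1 := ⟨u - 1, by omega⟩
    have : (t + 1) ^ 3 = ((t + 1) ^ 2 + (t + 1) + 1) * t + 1 := by ring
    rw [Nat.add_sub_cancel]
    omega
  have f3' : u ^ 3 + 1 = (u ^ 2 - u + 1) * (u + 1) := by
    have h1 : u ≤ u ^ 2 := Nat.le_self_pow two_ne_zero u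
    zify [h1]
    ring
  by_cases hvM : v ∣ M
  · have h11 := h.n.prime_geE D.vp hvM
    have hnd : ∀ {n : ℕ}, v ∣ n → v ∣ n + 1 → False := by
      intro n h1 h2
      have := (Nat.dvd_add_right h1).1 h2
      exact D.vp.one_lt.ne' (Nat.dvd_one.1 this)
    have hMle : M ≤ v * (u ^ 3 + 1) := by
      have k1 : v * (u ^ 3 - 1) ≤ v * (u ^ 3 + 1) := Nat.mul_le_mul_left _ (by omega)
      have k2 : v ^ 2 ≤ v * (u ^ 3 + 1) := by
        rw [pow_two]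
        have : u ≤ u ^ 3 := Nat.le_self_pow (by norm_num) u
        exact Nat.mul_le_mul_left _ (by omega)
      have hd3 : v ∣ u ^ 3 := hvu.trans (dvd_pow_self u (by norm_num))
      rcases h0 with h0 | h0 | h0 | h0 | h0 | (h0 | ⟨-, h0⟩) | ⟨h0, -⟩
      · exfalso
        have h1 : (v : ℤ) ∣ (u : ℤ) ^ 4 - u ^ 2 + 1 := by
          rw [← e12]
          exact_mod_cast hvM.trans h0
        have h2 : (v : ℤ) ∣ 1 := by
          obtain ⟨t, ht⟩ := hvu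
          have h3 : (u : ℤ) = v * t := by exact_mod_cast ht
          have h4 : (1 : ℤ) = ((u : ℤ) ^ 4 - u ^ 2 + 1) - v * (t * (u ^ 3 - u)) := by rw [h3]; ring
          rw [h4]
          exact dvd_sub h1 (dvd_mul_right _ _)
        have := Int.le_of_dvd one_pos h2
        omega
      · exfalso
        rcases D.vp.dvd_mul.1 (hvM.trans h0) with h1 | h1
        · exact hnd h1 (by rw [Nat.sub_add_cancel hu3.le]; exact hd3)
        · exact hnd hvu h1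
      · exfalso
        rcases D.vp.dvd_mul.1 (hvM.trans h0) with h1 | h1
        · exact hnd hd3 h1
        · exact hnd h1 (by rw [Nat.sub_add_cancel (by omega)]; exact hvu)
      · exact (Nat.le_of_dvd (Nat.mul_pos hv0 (by omega)) h0).trans k1
      · exact Nat.le_of_dvd (Nat.mul_pos hv0 (by omega)) h0
      · exact (Nat.le_of_dvd (pow_pos hv0 2) h0).trans k2
      · omega
      · omega
    obtain ⟨w1, w2⟩ := hvo (by omega)
    have k1 := h.two_v D.vp hvM (a := v * (u ^ 3 + 1)) (b := v * (u ^ 3 - 1)) (dvd_mul_right _ _) (dvd_mul_right _ _)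
      w2 w1 (α := 1) (β := -1) (k := 2 * v) (by
        push_cast [Nat.cast_sub hu3.le]
        ring) (by have : (v : ℤ) ≠ 0 := by exact_mod_cast hv0.ne'
                  exact mul_ne_zero two_ne_zero this)
    have hvz : (0 : ℤ) < v := by exact_mod_cast hv0
    have hc5 := h.n.c5_pos
    have hc5' : (c5 : ℤ) ≤ 5 := by rcases h.n.c5_or with h2 | h2 <;> rw [h2] <;> norm_num
    have hqz : (3 : ℤ) ≤ q := by exact_mod_cast h.n.q3
    rw [abs_of_pos (by linarith only [h11])] at k1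
    push_cast [Nat.cast_sub hu3.le] at k1
    have hMz : (M : ℤ) ≤ v * ((u : ℤ) ^ 3 + 1) := by exact_mod_cast hMle
    have k2 : ((v : ℤ) * (u ^ 3 + 1) * (v * (u ^ 3 - 1))) * 2 ≤ 2 * v * (c5 * (q + 1)) * (v * (u ^ 3 + 1)) := by
      refine k1.trans ?_
      gcongr
    have k3 : (2 * (v : ℤ) ^ 2 * (u ^ 3 + 1)) * (u ^ 3 - 1) ≤ (2 * (v : ℤ) ^ 2 * (u ^ 3 + 1)) * (c5 * (q + 1)) := by
      linarith only [k2]
    have k4 := le_of_mul_le_mul_left k3 (by positivity)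
    have k5 : (u : ℤ) ^ 3 ≤ 5 * q + 6 := by nlinarith only [hc5', k4]
    have k6 : (v : ℤ) ≤ u := by exact_mod_cast hvle
    have k7 : (11 : ℤ) ≤ v := by exact_mod_cast h11
    have k8 : 121 * (u : ℤ) ≤ u ^ 3 := by
      have : (11 : ℤ) ≤ u := by linarith only [hvle, h11]
      nlinarith only [mul_nonneg (by linarith : (0 : ℤ) ≤ (u : ℤ) - 11) (by linarith : (0 : ℤ) ≤ (u : ℤ) + 11)]
    have k9 : 121 * (M : ℤ) ≤ (5 * q + 6) * (5 * q + 7) := by
      calc 121 * (M : ℤ) ≤ 121 * (v * ((u : ℤ) ^ 3 + 1)) := by gcongr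
        _ ≤ 121 * (u * ((u : ℤ) ^ 3 + 1)) := by gcongr
        _ = (121 * u) * ((u : ℤ) ^ 3 + 1) := by ring
        _ ≤ (5 * q + 6) * ((u : ℤ) ^ 3 + 1) := by
          have : 121 * (u : ℤ) ≤ 5 * q + 6 := by linarith only [k5, k8]
          gcongr
        _ ≤ (5 * q + 6) * (5 * q + 7) := by
          have : (u : ℤ) ^ 3 + 1 ≤ 5 * q + 7 := by linarith only [k5]
          gcongr
    have k10 := h.n.q3_le
    have k11 : 8 * (q : ℤ) ^ 3 ≤ 5 * M := by exact_mod_cast k10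
    linarith only [hvle, h11, k5, k8, k9, k10, mul_nonneg (by linarith : (0 : ℤ) ≤ (q : ℤ) - 3) (by positivity : (0 : ℤ) ≤ (q : ℤ) ^ 2), mul_nonneg (by linarith : (0 : ℤ) ≤ (q : ℤ) - 3) (by linarith : (0 : ℤ) ≤ (q : ℤ))]
  · have hcv : Nat.Coprime M v := ((Nat.Prime.coprime_iff_not_dvd D.vp).mpr hvM).symm
    have hA : M ∣ u ^ 3 - 1 → False := fun hd => main (Or.inr (Or.inl (hd.mul_right _)))
    have hB : M ∣ u ^ 3 + 1 → False := fun hd => main (Or.inr (Or.inr (hd.mul_right _)))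
    have hone : ∀ k : ℕ, M ∣ v ^ k → False := by
      intro k hd
      have := Nat.Coprime.eq_one_of_dvd (hcv.pow_right k) hd
      omega
    have hcop4 : v = 2 → Nat.Coprime M 4 := by
      intro hv2
      rw [hv2] at hcv
      exact hcv.pow_right 2
    rcases h0 with h0 | h0 | h0 | h0 | h0 | (h0 | ⟨h0, -⟩) | ⟨hv2, h0 | h0⟩
    · exact main (Or.inl h0)
    · exact main (Or.inr (Or.inl h0))
    · exact main (Or.inr (Or.inr h0))
    · exact hA (hcv.dvd_of_dvd_mul_left h0)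
    · exact hB (hcv.dvd_of_dvd_mul_left h0)
    · exact hone 2 h0
    · exact hone 3 h0
    · exact hA (by rw [f3]; exact ((hcop4 hv2).dvd_of_dvd_mul_left h0).mul_right _)
    · exact hB (by rw [f3']; exact ((hcop4 hv2).dvd_of_dvd_mul_left h0).mul_right _)

open Cfsg.Agent.H426.LieFam in
theorem not_td4 {S : Type*} [Group S] [Finite S] (hS : Sec p q s c c5 M S) {v f : ℕ} (hI : Fam.Is v f S Fam.td4)
    (hv : v.Prime) (hvp : v ≠ p) : False := by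
  obtain ⟨F, _, _, _, hcard, ⟨e⟩⟩ := hI
  have hf := Cfsg.Agent.R2.Spec.X4.H18.f_pos_of_card hcard
  have D : D4Dat v (v ^ f) S := (Cfsg.Agent.R2.Spec.X4.H18.d4Dat hv hcard hf).congr e
  refine not_td4D hS D hvp fun h2 => ?_
  have := d4_vord hv h2 (Nat.one_lt_pow (by omega) hv.one_lt) hcard (dvd_pow_self v (by omega))
  obtain ⟨⟨x, hx⟩, ⟨y, hy⟩⟩ := this
  exact ⟨⟨e.symm x, by rw [MulEquiv.orderOf_eq]; exact hx⟩, ⟨e.symm y, by rw [MulEquiv.orderOf_eq]; exact hy⟩⟩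

end Cfsg.Agent.R2.Spec.X7.N6
end

-- part: R2/Spec/X7/N6/EF4
section
/-!
# Box X7, `n = 6`, packet N6-E (helper9): `S = F₄(u)`
-/

set_option autoImplicit false
set_option maxHeartbeats 1000000

namespace Cfsg.Agent.R2.Spec.X7.N6

open Cfsg.Agent.R2.Spec.X4.H18 (F4Dat f4c12 f4cA f4cB f4cC)

variable {p q : ℕ} {s : ℤ} {c c5 M : ℕ} {W : ℕ → Prop} {v u : ℕ}

/-- the element orders of `F₄(u)` used in the finite check -/
def lowF4 (_v u : ℕ) : List ℕ :=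
  [u ^ 4 - u ^ 2 + 1, u ^ 4 + 1, (u ^ 3 - 1) * (u + 1), (u ^ 3 + 1) * (u - 1), (u ^ 2 + 1) * (u - 1)]

theorem chkF4 : chk 29 19 3 lowF4 (fun _ _ => [0]) = true := by decide +kernel

theorem f4_dvd {N : ℤ} (u : ℤ) (h12 : u ^ 4 - u ^ 2 + 1 ∣ N) (h8 : u ^ 4 + 1 ∣ N)
    (hA : (u ^ 3 - 1) * (u + 1) ∣ N) (hB : (u ^ 3 + 1) * (u - 1) ∣ N) (hC : (u ^ 2 + 1) * (u - 1) ∣ N) :
    (u ^ 6 - 1) * (u ^ 2 + 1) * (u ^ 4 + 1) * (u ^ 4 - u ^ 2 + 1) ∣ 4 * N := by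
  have m2 : u % 2 = 0 ∨ u % 2 = 1 := by omega
  have m3 : u % 3 = 0 ∨ u % 3 = 1 ∨ u % 3 = 2 := by omega
  have x0 : u ^ 6 - 1 ∣ N := by
    have h1 : (u ^ 2 - 1) * (u ^ 2 + u + 1) ∣ N := by
      have : (u ^ 2 - 1) * (u ^ 2 + u + 1) = (u ^ 3 - 1) * (u + 1) := by ring
      rwa [this]
    have h2 : (u ^ 2 - 1) * (u ^ 2 - u + 1) ∣ N := by
      have : (u ^ 2 - 1) * (u ^ 2 - u + 1) = (u ^ 3 + 1) * (u - 1) := by ring
      rwa [this]
    have h3 : IsCoprime (u ^ 2 + u + 1) (u ^ 2 - u + 1) := by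
      refine cop_of_k (α := -u + 1) (β := u + 1) (k := 2) (by ring) (cop2 ?_)
      rcases m2 with h | h <;> simp only [pow_two, Int.add_emod, Int.mul_emod, h, _root_.MulZeroClass.mul_zero, _root_.EuclideanDomain.zero_mod, _root_.add_zero, _root_.Int.one_emod_two, _root_.zero_add, _root_.mul_one, _root_.Int.reduceAdd, _root_.EuclideanDomain.mod_self]
    have h4 := gmul h1 h2 h3
    have : (u ^ 2 - 1) * ((u ^ 2 + u + 1) * (u ^ 2 - u + 1)) = u ^ 6 - 1 := by ring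
    rwa [this] at h4
  have c1 : u ^ 2 + 1 ∣ N := (dvd_mul_right _ _).trans hC
  have x1 : (u ^ 6 - 1) * (u ^ 2 + 1) ∣ 2 * N :=
    mul_dvd_of x0 c1 (α := -1) (β := u ^ 4 - u ^ 2 + 1) (by ring)
  have x2 : (u ^ 6 - 1) * (u ^ 2 + 1) * (u ^ 4 + 1) ∣ 2 * (2 * N) :=
    mul_dvd_of x1 (h8.mul_left 2) (α := u ^ 2) (β := -u ^ 6 - u ^ 4 + u ^ 2 + 2) (by ring)
  have h5 : IsCoprime (u ^ 4 - u ^ 2 + 1) ((u ^ 6 - 1) * (u ^ 2 + 1) * (u ^ 4 + 1)) := by
    refine cop_of_k (α := -2 * u ^ 10 - 3 * u ^ 8 - 2 * u ^ 6 + 2 * u ^ 4 + 6 * u ^ 2 + 5) (β := 2 * u ^ 2 - 1) (k := 2 * 3)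
      (by ring) (IsCoprime.mul_right (cop2 ?_) (cop3 ?_))
    · rcases m2 with h | h
      · have : u ^ 4 - u ^ 2 + 1 = 2 * ((u / 2) * (u ^ 3 - u)) + 1 := by
          have : u = 2 * (u / 2) := by omega
          linear_combination (u ^ 3 - u) * this
        omega
      · have : u ^ 4 - u ^ 2 + 1 = 2 * (u ^ 2 * ((u / 2) * (u + 1))) + 1 := by
          have : u = 2 * (u / 2) + 1 := by omega
          linear_combination (u ^ 2 * (u + 1)) * this
        omega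
    · rcases m3 with h | h | h
      · have : u ^ 4 - u ^ 2 + 1 = 3 * ((u / 3) * (u ^ 3 - u)) + 1 := by
          have : u = 3 * (u / 3) := by omega
          linear_combination (u ^ 3 - u) * this
        (clear * - this; omega)
      · have : u ^ 4 - u ^ 2 + 1 = 3 * (u ^ 2 * ((u / 3) * (u + 1))) + 1 := by
          have : u = 3 * (u / 3) + 1 := by omega
          linear_combination (u ^ 2 * (u + 1)) * this
        (clear * - this; omega)
      · have : u ^ 4 - u ^ 2 + 1 = 3 * (u ^ 2 * ((u / 3 + 1) * (u - 1))) + 1 := by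
          have : u = 3 * (u / 3) + 2 := by omega
          linear_combination (u ^ 2 * (u - 1)) * this
        (clear * - this; omega)
  have h6 := h5.symm.mul_dvd x2 ((h12.mul_left 2).mul_left 2)
  have e : (2 : ℤ) * (2 * N) = 4 * N := by ring
  rwa [e] at h6

theorem not_f4D {S : Type*} [Group S] [Finite S] (hS : Sec p q s c c5 M S) (D : F4Dat v u S) (hvp : v ≠ p) : False := by
  have h := hS.sw
  have hM17 := h.n.M_gt
  have hu2 := D.u2
  have hvu := D.vu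
  have hv0 := D.vp.pos
  have huz : (2 : ℤ) ≤ u := by exact_mod_cast hu2
  have hvle : v ≤ u := Nat.le_of_dvd (by omega) hvu
  -- the upper bound
  have hMle : M ≤ u * ((u + 1) * (u ^ 2 + 1)) := by
    obtain ⟨x, hx⟩ := hS.elt
    obtain ⟨b, m, hOm⟩ := D.up x
    rw [hx] at hOm
    have b3 : 1 ≤ u ^ 3 := Nat.one_le_pow _ _ (by omega)
    have b2 : 1 ≤ u ^ 2 := Nat.one_le_pow _ _ (by omega)
    have b4 : 1 ≤ u ^ 4 := Nat.one_le_pow _ _ (by omega)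
    have s2 : u ^ 2 ≤ u ^ 4 := Nat.pow_le_pow_right (by omega) (by norm_num)
    have E1 : u * ((u + 1) * (u ^ 2 + 1)) = u ^ 4 + u ^ 3 + u ^ 2 + u := by ring
    by_cases hb : b = 0
    · have hMm : M = m := by rw [hOm.eq, hb, pow_zero, one_mul]
      have h0 := hOm.s0
      rw [← hMm] at h0
      rw [E1]
      rcases h0 with h0 | h0 | h0 | h0 | h0
      · have := Nat.le_of_dvd (by omega) h0; omega
      · have := Nat.le_of_dvd (by omega) h0; omega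
      · have := Nat.le_of_dvd (by
          have : 2 ^ 4 ≤ u ^ 4 := Nat.pow_le_pow_left hu2 4
          omega) h0; omega
      · have h1 := Nat.le_of_dvd (Nat.mul_pos (by
          have : 2 ^ 3 ≤ u ^ 3 := Nat.pow_le_pow_left hu2 3
          omega) (by omega)) h0
        have h2 : (u ^ 3 - 1) * (u + 1) ≤ u ^ 3 * (u + 1) := Nat.mul_le_mul_right _ (by omega)
        have h3 : u ^ 3 * (u + 1) = u ^ 4 + u ^ 3 := by ring
        omega
      · have h1 := Nat.le_of_dvd (Nat.mul_pos (by omega) (by omega)) h0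
        have h2 : (u ^ 3 + 1) * (u - 1) ≤ (u ^ 3 + 1) * u := Nat.mul_le_mul_left _ (by omega)
        have h3 : (u ^ 3 + 1) * u = u ^ 4 + u := by ring
        omega
    · have hvM : v ∣ M := by
        rw [hOm.eq]
        exact (dvd_pow_self v hb).mul_right _
      have h11 := h.n.prime_geE D.vp hvM
      rcases Nat.lt_or_ge b 2 with hb1 | hb2
      · have hb' : b = 1 := by omega
        have hMm : M = v * m := by rw [hOm.eq, hb', pow_one]
        have hm : m ≤ (u + 1) * (u ^ 2 + 1) := by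
          have E2 : (u + 1) * (u ^ 2 + 1) = u ^ 3 + u ^ 2 + u + 1 := by ring
          rcases hOm.s1 hb with h0 | h0 | h0 | h0 | h0
          · have := Nat.le_of_dvd (by
              have : 2 ^ 3 ≤ u ^ 3 := Nat.pow_le_pow_left hu2 3
              omega) h0; omega
          · have := Nat.le_of_dvd (by omega) h0; omega
          · have h1 := Nat.le_of_dvd (Nat.mul_pos (by omega) (by omega)) h0
            have h2 : (u ^ 2 + 1) * (u - 1) ≤ (u ^ 2 + 1) * (u + 1) := Nat.mul_le_mul_left _ (by omega)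
            rw [mul_comm (u + 1)]
            omega
          · have h1 := Nat.le_of_dvd (Nat.mul_pos (by omega) (by omega)) h0
            rw [mul_comm (u + 1)]
            omega
          · have := Nat.le_of_dvd (by
              have : 2 ^ 2 ≤ u ^ 2 := Nat.pow_le_pow_left hu2 2
              omega) h0; omega
        rw [hMm]
        exact Nat.mul_le_mul hvle hm
      · have h8 : v ^ 1 ≤ v ^ (b - 1) := Nat.pow_le_pow_right hv0 (by omega)
        rw [pow_one] at h8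
        have hm1 := hOm.s8 hb (by omega)
        have hle := hOm.le hb
        have hb' : b = 2 := by
          by_contra hcon
          have h9 : v ^ 2 ≤ v ^ (b - 1) := Nat.pow_le_pow_right hv0 (by omega)
          have h10 : 11 ^ 2 ≤ v ^ 2 := Nat.pow_le_pow_left h11 2
          omega
        rw [hOm.eq, hm1, hb', mul_one]
        have h9 : v ^ 2 ≤ u ^ 2 := Nat.pow_le_pow_left hvle 2
        rw [E1]
        omega
  have d12 := h.dvd_PI D.ex12
  have d8 := h.dvd_PI D.ex8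
  have dA := h.dvd_PI D.exA
  have dB := h.dvd_PI D.exB
  have dC := h.dvd_PI D.exC
  rw [f4c12] at d12
  rw [f4cA (by omega)] at dA
  rw [f4cB (by omega)] at dB
  rw [f4cC (by omega)] at dC
  have d8' : (u : ℤ) ^ 4 + 1 ∣ PI p s := by
    have e : ((u ^ 4 + 1 : ℕ) : ℤ) = (u : ℤ) ^ 4 + 1 := by push_cast; ring
    rwa [e] at d8
  rcases Nat.lt_or_ge u 20 with hsm | hbig
  · -- small
    rcases Nat.lt_or_ge u 3 with h3 | h3
    · have hu' : u = 2 := by omega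
      rw [hu'] at hMle
      have h1 := h.n.two_lt
      have h2 : (3 : ℤ) ≤ q := by exact_mod_cast h.n.q3
      have h4 : (M : ℤ) ≤ 30 := by exact_mod_cast hMle
      nlinarith only [hMle, h1, h2]
    have hq : q ≤ 29 := by
      by_contra hcon
      have k1 := h.n.M_lo
      have k2 : 30 ^ 4 ≤ q ^ 4 := Nat.pow_le_pow_left (by omega) 4
      have k3 : u * ((u + 1) * (u ^ 2 + 1)) ≤ 19 * ((19 + 1) * (19 ^ 2 + 1)) := by
        have : u ≤ 19 := by omega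
        gcongr
      omega
    refine h.chk_false chkF4 (by norm_num) (by norm_num) D.vp D.pw hvp hq (by omega) h3 ?_
      ⟨0, List.mem_singleton.mpr rfl, dvd_zero M⟩
    intro E hE
    simp only [lowF4, List.mem_cons, List.not_mem_nil, or_false] at hE
    rcases hE with rfl | rfl | rfl | rfl | rfl
    · exact D.ex12
    · exact D.ex8
    · exact D.exA
    · exact D.exB
    · exact D.exC
  · have hX := f4_dvd (u : ℤ) d12 d8' dA dB dC
    have hu20 : (20 : ℤ) ≤ u := by exact_mod_cast hbig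
    obtain ⟨X, hXe⟩ : ∃ X : ℕ, (X : ℤ) = ((u : ℤ) ^ 6 - 1) * (u ^ 2 + 1) * (u ^ 4 + 1) * (u ^ 4 - u ^ 2 + 1) := by
      refine ⟨((u ^ 6 - 1) * (u ^ 2 + 1) * (u ^ 4 + 1) * (u ^ 4 - u ^ 2 + 1) : ℕ), ?_⟩
      have e1 : ((u ^ 6 - 1 : ℕ) : ℤ) = (u : ℤ) ^ 6 - 1 := by
        rw [Nat.cast_sub (Nat.one_le_pow _ _ (by omega))]
        push_cast
        ring
      rw [Nat.cast_mul, Nat.cast_mul, Nat.cast_mul, e1, f4c12]
      push_cast
      ring
    have hX' : (X : ℤ) ∣ (4 : ℕ) * PI p s := by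
      rw [hXe]
      exact hX
    refine h.n.killE (by norm_num) hX' (a1 := 400) (a2 := 399) (b1 := 8000) (b2 := 8421) (d := 16) (e := 4) (r := 12)
      (u := u) (by omega) ?_ ?_ (by norm_num) ?_
    · have key : (399 : ℤ) * u ^ 16 ≤ 400 * X := by
        rw [hXe]
        have k1 : (u : ℤ) ^ 8 ≤ (u ^ 6 - 1) * (u ^ 2 + 1) := by
          have : (u : ℤ) ^ 2 + 1 ≤ u ^ 6 := by
            have e1 : (u : ℤ) ^ 6 = u ^ 2 * u ^ 4 := by ring
            have e2 : (20 : ℤ) ^ 4 ≤ u ^ 4 := by gcongr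
            have e3 : (20 : ℤ) ^ 2 ≤ u ^ 2 := by gcongr
            nlinarith only [e2]
          linarith only [this]
        have k2 : (399 : ℤ) * u ^ 4 ≤ 400 * (u ^ 4 - u ^ 2 + 1) := by
          have e3 : (20 : ℤ) ^ 2 ≤ u ^ 2 := by gcongr
          linarith only [mul_nonneg (by linarith : (0 : ℤ) ≤ (u : ℤ) ^ 2 - 20 ^ 2) (by positivity : (0 : ℤ) ≤ (u : ℤ) ^ 2)]
        calc (399 : ℤ) * u ^ 16 = (u : ℤ) ^ 8 * (u : ℤ) ^ 4 * (399 * (u : ℤ) ^ 4) := by ring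
          _ ≤ (((u : ℤ) ^ 6 - 1) * (u ^ 2 + 1)) * ((u : ℤ) ^ 4 + 1) * (400 * ((u : ℤ) ^ 4 - u ^ 2 + 1)) := by
            have : (u : ℤ) ^ 4 ≤ u ^ 4 + 1 := by linarith only []
            have h0 : (0 : ℤ) ≤ (u ^ 6 - 1) * (u ^ 2 + 1) := le_trans (by positivity) k1
            gcongr
          _ = 400 * (((u : ℤ) ^ 6 - 1) * (u ^ 2 + 1) * (u ^ 4 + 1) * (u ^ 4 - u ^ 2 + 1)) := by ring
      exact_mod_cast key
    · have k1 : 20 * (u + 1) ≤ 21 * u := by omega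
      have k2 : 400 * (u ^ 2 + 1) ≤ 401 * u ^ 2 := by
        have : 20 ^ 2 ≤ u ^ 2 := Nat.pow_le_pow_left hbig 2
        omega
      calc 8000 * M ≤ 8000 * (u * ((u + 1) * (u ^ 2 + 1))) := Nat.mul_le_mul_left _ hMle
        _ = u * ((20 * (u + 1)) * (400 * (u ^ 2 + 1))) := by ring
        _ ≤ u * ((21 * u) * (401 * u ^ 2)) := by gcongr
        _ = 8421 * u ^ 4 := by ring
    · have k1 : 20 ^ 12 ≤ u ^ 12 := Nat.pow_le_pow_left hbig 12
      calc 400 ^ 4 * 4 ^ 4 * (50 ^ 4 * 45 ^ 9) * 8421 ^ 13 < 81 * 8 ^ 9 * 399 ^ 4 * 8000 ^ 13 * 20 ^ 12 := by norm_num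
        _ ≤ 81 * 8 ^ 9 * 399 ^ 4 * 8000 ^ 13 * u ^ 12 := Nat.mul_le_mul_left _ k1

open Cfsg.Agent.H426.LieFam in
theorem not_f4 {S : Type*} [Group S] [Finite S] (hS : Sec p q s c c5 M S) {v f : ℕ} (hI : Fam.Is v f S Fam.f4)
    (hv : v.Prime) (hvp : v ≠ p) : False := by
  obtain ⟨F, _, _, _, hcard, ⟨e⟩⟩ := hI
  have hf : 1 ≤ f := by
    by_contra hcon
    have h0 : f = 0 := by omega
    rw [h0, pow_zero] at hcard
    have := Fintype.one_lt_card (α := F)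
    omega
  exact not_f4D hS ((Cfsg.Agent.R2.Spec.X4.H18.f4Dat hv hcard hf).congr e) hvp

end Cfsg.Agent.R2.Spec.X7.N6
end

-- part: R2/Spec/X7/N6/EE6
section
/-!
# Box X7, `n = 6`, packet N6-E (helper9): `S = E₆(u)`, `S = ²E₆(u)`
-/

set_option autoImplicit false
set_option maxHeartbeats 1000000

namespace Cfsg.Agent.R2.Spec.X7.N6

open Cfsg.Agent.R2.Spec.X4.H18 (E6Dat OmX pos_le pos_lt)

variable {p q : ℕ} {s : ℤ} {c c5 M : ℕ} {W : ℕ → Prop} {v u g : ℕ} {X : ℤ}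

/-- the element orders of `E₆(u)`, `²E₆(u)` used in the finite check -/
def lowX (X : ℤ) : List ℕ :=
  let g := if (X - 1) % 3 = 0 then 3 else 1
  [(X ^ 6 + X ^ 3 + 1).natAbs / g, ((X ^ 4 - X ^ 2 + 1) * (X ^ 2 + X + 1)).natAbs / g,
    ((X ^ 4 + 1) * (X ^ 2 - 1)).natAbs / g, ((X ^ 5 - 1) * (X + 1)).natAbs / g,
    ((X ^ 4 - 1) * (X ^ 2 - X + 1)).natAbs / g]

theorem chkE6 : chk 42 10 2 (fun _ u => lowX u) (fun _ _ => [0]) = true := by decide +kernel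

theorem chkTE6 : chk 42 10 2 (fun _ u => lowX (-u)) (fun _ _ => [0]) = true := by decide +kernel

theorem e6_dvd {N : ℤ} (X : ℤ) (h9 : X ^ 6 + X ^ 3 + 1 ∣ N) (h12 : (X ^ 4 - X ^ 2 + 1) * (X ^ 2 + X + 1) ∣ N)
    (h8 : (X ^ 4 + 1) * (X ^ 2 - 1) ∣ N) (h5 : (X ^ 5 - 1) * (X + 1) ∣ N) (h4 : (X ^ 4 - 1) * (X ^ 2 - X + 1) ∣ N) :
    (X ^ 4 - 1) * (X ^ 2 - X + 1) * (X ^ 2 + X + 1) * (X ^ 4 - X ^ 2 + 1) * (X ^ 4 + 1) *
      (X ^ 4 + X ^ 3 + X ^ 2 + X + 1) * (X ^ 6 + X ^ 3 + 1) ∣ 1080 * N := by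
  have c3 : X ^ 2 + X + 1 ∣ N := (dvd_mul_left _ _).trans h12
  have c12 : X ^ 4 - X ^ 2 + 1 ∣ N := (dvd_mul_right _ _).trans h12
  have c8 : X ^ 4 + 1 ∣ N := (dvd_mul_right _ _).trans h8
  have c5 : X ^ 4 + X ^ 3 + X ^ 2 + X + 1 ∣ N := by
    refine dvd_trans ⟨(X - 1) * (X + 1), by ring⟩ h5
  have y2 := mul_dvd_of h4 c3 (α := -2 * X - 1) (β := 2 * X ^ 5 - 3 * X ^ 4 + 2 * X ^ 3 + 2 * X ^ 2 - 6 * X + 5) (k := 6)
    (by ring)
  have y3 := mul_dvd_of y2 (c12.mul_left 6) (α := X ^ 2 - 2) (β := -X ^ 6 + 3 * X ^ 2 + 4) (k := 6) (by ring)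
  have y4 := mul_dvd_of y3 ((c8.mul_left 6).mul_left 6) (α := -1) (β := X ^ 8 - X ^ 4 + 1) (k := 2) (by ring)
  have y5 := mul_dvd_of y4 (((c5.mul_left 6).mul_left 6).mul_left 2) (α := -4 * X ^ 3 - 3 * X ^ 2 - 2 * X - 6)
    (β := 4 * X ^ 15 - X ^ 14 - X ^ 13 + 4 * X ^ 12 - 2 * X ^ 11 + 3 * X ^ 10 - 2 * X ^ 9 + 3 * X ^ 8 - 2 * X ^ 7 -
      2 * X ^ 6 + 3 * X ^ 5 - 2 * X ^ 4 - X ^ 3 - X ^ 2 - X - 1) (k := 5) (by ring)
  have y6 := mul_dvd_of y5 ((((h9.mul_left 6).mul_left 6).mul_left 2).mul_left 5) (α := -X ^ 5 + X ^ 2)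
    (β := X ^ 19 + X ^ 18 + X ^ 17 - X ^ 16 - X ^ 14 - 2 * X ^ 12 + X ^ 9 - X ^ 7 - X ^ 5 + X ^ 4 - 2 * X ^ 3 + X ^ 2 + 3)
    (k := 3) (by ring)
  have e : (3 : ℤ) * (5 * (2 * (6 * (6 * N)))) = 1080 * N := by ring
  rwa [e] at y6

theorem dle {m : ℕ} {P B : ℤ} (h : (m : ℤ) ∣ P) (h0 : P ≠ 0) (h1 : P ≤ B) (h2 : -P ≤ B) : (m : ℤ) ≤ B :=
  (Int.le_of_dvd (abs_pos.mpr h0) ((dvd_abs _ _).mpr h)).trans (abs_le.mpr ⟨by linarith, h1⟩)

theorem dlp {m : ℕ} {P B : ℤ} (h : (m : ℤ) ∣ P) (h0 : 0 < P) (h1 : P ≤ B) : (m : ℤ) ≤ B :=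
  dle h h0.ne' h1 (by linarith)

theorem dln {m : ℕ} {P B : ℤ} (h : (m : ℤ) ∣ P) (h0 : 0 < -P) (h1 : -P ≤ B) : (m : ℤ) ≤ B :=
  dlp ((dvd_neg).mpr h) h0 h1

set_option linter.unusedTactic false in
theorem omX_le {n b m : ℕ} (hX : X = u ∨ X = -u) (hu : 2 ≤ u) (hv : v.Prime) (hvu : v ≤ u) (h : OmX v X n b m)
    (hv11 : b ≠ 0 → 11 ≤ v) : (n : ℤ) ≤ ((u : ℤ) ^ 4 + u) * (u ^ 2 + u + 1) := by
  obtain ⟨t, ht⟩ : ∃ t : ℕ, u = t + 2 := ⟨u - 2, by omega⟩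
  have htz : (u : ℤ) = t + 2 := by rw [ht]; push_cast; ring
  have s0 : (m : ℤ) ≤ ((u : ℤ) ^ 4 + u) * (u ^ 2 + u + 1) := by
    rcases hX with hX | hX <;> rw [htz] at hX ⊢ <;> subst hX
    · rcases h.s0 with h0 | h0 | h0 | h0 | h0 | h0
      all_goals
        refine dlp h0 (pos_lt (by ring_nf; (clear * -; positivity))) (pos_le (by ring_nf; (clear * -; positivity)))
    · rcases h.s0 with h0 | h0 | h0 | h0 | h0 | h0
      all_goals
        refine dlp h0 (pos_lt (by ring_nf; (clear * -; positivity))) (pos_le (by ring_nf; (clear * -; positivity)))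
  by_cases hb : b = 0
  · rw [h.eq, hb, pow_zero, one_mul]
    exact s0
  have h11 := hv11 hb
  have hvz : (v : ℤ) ≤ u := by exact_mod_cast hvu
  rcases Nat.lt_or_ge b 2 with hb1 | hb2
  · have hb' : b = 1 := by omega
    have s1 : (m : ℤ) ≤ ((u : ℤ) ^ 3 + 1) * (u ^ 2 + u + 1) := by
      rcases hX with hX | hX <;> rw [htz] at hX ⊢ <;> subst hX
      · rcases h.s1 hb with h0 | h0 | h0 | h0 | h0
        all_goals
          refine dlp h0 (pos_lt (by ring_nf; (clear * -; positivity))) (pos_le (by ring_nf; (clear * -; positivity)))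
      · rcases h.s1 hb with h0 | h0 | h0 | h0 | h0
        · refine dlp h0 (pos_lt (by ring_nf; (clear * -; positivity))) (pos_le (by ring_nf; (clear * -; positivity)))
        · refine dlp h0 (pos_lt (by ring_nf; (clear * -; positivity))) (pos_le (by ring_nf; (clear * -; positivity)))
        · refine dln h0 (pos_lt (by ring_nf; (clear * -; positivity))) (pos_le (by ring_nf; (clear * -; positivity)))
        · refine dln h0 (pos_lt (by ring_nf; (clear * -; positivity))) (pos_le (by ring_nf; (clear * -; positivity)))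
        · refine dlp h0 (pos_lt (by ring_nf; (clear * -; positivity))) (pos_le (by ring_nf; (clear * -; positivity)))
    rw [h.eq, hb', pow_one]
    push_cast
    calc (v : ℤ) * m ≤ u * (((u : ℤ) ^ 3 + 1) * (u ^ 2 + u + 1)) := by gcongr
      _ = ((u : ℤ) ^ 4 + u) * (u ^ 2 + u + 1) := by ring
  · have h8 : v ^ 1 ≤ v ^ (b - 1) := Nat.pow_le_pow_right hv.pos (by omega)
    rw [pow_one] at h8
    have hm1 := h.s6 hb (by omega)
    have hle := h.le hb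
    have hb' : b = 2 := by
      by_contra hcon
      have h9 : v ^ 2 ≤ v ^ (b - 1) := Nat.pow_le_pow_right hv.pos (by omega)
      have h10 : 11 ^ 2 ≤ v ^ 2 := Nat.pow_le_pow_left h11 2
      omega
    have s2 : (m : ℤ) ≤ (u : ℤ) + 1 := by
      rcases hX with hX | hX <;> rw [htz] at hX ⊢ <;> subst hX
      · exact dlp hm1 (by linarith only []) (by linarith only [])
      · exact dln hm1 (by linarith only []) (by linarith only [])
    rw [h.eq, hb']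
    push_cast
    have h9 : (v : ℤ) ^ 2 ≤ u ^ 2 := by gcongr
    calc (v : ℤ) ^ 2 * m ≤ (u : ℤ) ^ 2 * (u + 1) := by gcongr
      _ ≤ ((u : ℤ) ^ 4 + u) * (u ^ 2 + u + 1) := by
        rw [htz]
        exact pos_le (by ring_nf; (clear * -; positivity))

theorem not_e6D {S : Type*} [Group S] [Finite S] (hS : Sec p q s c c5 M S) (D : E6Dat v u g X S) (hvp : v ≠ p) :
    False := by
  have h := hS.sw
  obtain ⟨f, hf, huf⟩ := D.pw
  have hu2 : 2 ≤ u := by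
    rw [huf]
    exact D.vp.two_le.trans (Nat.le_self_pow (by omega) v)
  have hvle : v ≤ u := by
    rw [huf]
    exact Nat.le_self_pow (by omega) v
  have huz : (2 : ℤ) ≤ u := by exact_mod_cast hu2
  have hMle : (M : ℤ) ≤ ((u : ℤ) ^ 4 + u) * (u ^ 2 + u + 1) := by
    obtain ⟨x, hx⟩ := hS.elt
    obtain ⟨b, m, hOm⟩ := D.up x
    rw [hx] at hOm
    refine omX_le D.hX hu2 D.vp hvle hOm fun hb => ?_
    refine h.n.prime_geE D.vp ?_
    rw [hOm.eq]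
    exact (dvd_pow_self v hb).mul_right _
  have hgm : g = if (X - 1) % 3 = 0 then 3 else 1 := by
    rcases D.hg with ⟨h1, h2⟩ | ⟨h1, h2⟩
    · rw [if_neg (fun h3 => h2 (Int.dvd_of_emod_eq_zero h3)), h1]
    · rw [if_pos (Int.emod_eq_zero_of_dvd h2), h1]
  have hg0 : 0 < g := by rcases D.hg with ⟨h1, -⟩ | ⟨h1, -⟩ <;> omega
  have hg3 : (g : ℤ) ∣ 3 := by
    rcases D.hg with ⟨h1, -⟩ | ⟨h1, -⟩
    · rw [h1]; exact ⟨3, by norm_num⟩
    · rw [h1]; exact ⟨1, by norm_num⟩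
  rcases Nat.lt_or_ge u 11 with hsm | hbig
  · have hq : q ≤ 42 := by
      by_contra hcon
      have k1 := h.n.M_lo
      have k2 : 43 ^ 4 ≤ q ^ 4 := Nat.pow_le_pow_left (by omega) 4
      have hu9 : u ≤ 9 := by
        by_contra hc
        have h10 : u = 10 := by omega
        rw [h10] at huf
        have h3 : v ∣ 10 := by rw [huf]; exact dvd_pow_self v (by omega)
        have h4 : (2 : ℕ) ∣ v ^ f := by rw [← huf]; norm_num
        have h5 : (5 : ℕ) ∣ v ^ f := by rw [← huf]; norm_num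
        have h6 := (Nat.prime_dvd_prime_iff_eq Nat.prime_two D.vp).mp (Nat.prime_two.dvd_of_dvd_pow h4)
        have h7 := (Nat.prime_dvd_prime_iff_eq (by norm_num : Nat.Prime 5) D.vp).mp
          ((by norm_num : Nat.Prime 5).dvd_of_dvd_pow h5)
        omega
      have k3 : ((u : ℤ) ^ 4 + u) * (u ^ 2 + u + 1) ≤ (9 ^ 4 + 9) * (9 ^ 2 + 9 + 1) := by
        have : (u : ℤ) ≤ 9 := by exact_mod_cast hu9
        gcongr
      have k4 : M ≤ 597870 := by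
        have : (M : ℤ) ≤ 597870 := by linarith only [hMle, k3]
        exact_mod_cast this
      omega
    have key : ∀ {P : ℤ} {n : ℕ}, (∃ x : S, (g : ℤ) * (orderOf x : ℕ) = P) → n = P.natAbs / g → ∃ x : S, orderOf x = n := by
      rintro P n ⟨x, hx⟩ rfl
      refine ⟨x, ?_⟩
      rw [← hx, Int.natAbs_mul, Int.natAbs_natCast, Int.natAbs_natCast, Nat.mul_div_cancel_left _ hg0]
    have hlow : ∀ E ∈ lowX X, ∃ x : S, orderOf x = E := by
      intro E hE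
      simp only [lowX, ← hgm, List.mem_cons, List.not_mem_nil, or_false] at hE
      rcases hE with hE | hE | hE | hE | hE
      · exact key D.ex9 hE
      · exact key D.ex12 hE
      · exact key D.ex8 hE
      · exact key D.ex5 hE
      · exact key D.ex4 hE
    rcases D.hX with hX | hX
    · rw [hX] at hlow
      exact h.chk_false chkE6 (by norm_num) (by norm_num) D.vp D.pw hvp hq (by omega) hu2 hlow
        ⟨0, List.mem_singleton.mpr rfl, dvd_zero M⟩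
    · rw [hX] at hlow
      exact h.chk_false chkTE6 (by norm_num) (by norm_num) D.vp D.pw hvp hq (by omega) hu2 hlow
        ⟨0, List.mem_singleton.mpr rfl, dvd_zero M⟩
  · -- large
    have key : ∀ {P : ℤ}, (∃ x : S, (g : ℤ) * (orderOf x : ℕ) = P) → P ∣ 3 * PI p s := by
      rintro P ⟨x, rfl⟩
      exact mul_dvd_mul hg3 (h.dvd_PI ⟨x, rfl⟩)
    have hX := e6_dvd X (key D.ex9) (key D.ex12) (key D.ex8) (key D.ex5) (key D.ex4)
    have hu11 : (11 : ℤ) ≤ u := by exact_mod_cast hbig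
    have x2 : X ^ 2 = (u : ℤ) ^ 2 := by rcases D.hX with h1 | h1 <;> rw [h1] <;> ring
    have x4 : X ^ 4 = (u : ℤ) ^ 4 := by rcases D.hX with h1 | h1 <;> rw [h1] <;> ring
    have x6 : X ^ 6 = (u : ℤ) ^ 6 := by rcases D.hX with h1 | h1 <;> rw [h1] <;> ring
    have x3 : -(u : ℤ) ^ 3 ≤ X ^ 3 := by
      rcases D.hX with h1 | h1
      · rw [h1]
        have : (0 : ℤ) ≤ (u : ℤ) ^ 3 := by positivity
        linarith only [this]
      · rw [h1]
        exact le_of_eq (by ring)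
    have x1 : -(u : ℤ) ≤ X := by rcases D.hX with h1 | h1 <;> rw [h1]; linarith only [hbig]
    set Y : ℤ := (X ^ 4 - 1) * (X ^ 2 - X + 1) * (X ^ 2 + X + 1) * (X ^ 4 - X ^ 2 + 1) * (X ^ 4 + 1) *
      (X ^ 4 + X ^ 3 + X ^ 2 + X + 1) * (X ^ 6 + X ^ 3 + 1) with hY
    have hYlow : (1596000 : ℤ) * (u : ℤ) ^ 26 ≤ 1771561 * Y := by
      have u3 : (11 : ℤ) ^ 3 ≤ (u : ℤ) ^ 3 := by gcongr
      have u2 : (11 : ℤ) ^ 2 ≤ (u : ℤ) ^ 2 := by gcongr
      have k1 : (u : ℤ) ^ 8 ≤ (X ^ 4 - 1) * ((X ^ 2 - X + 1) * (X ^ 2 + X + 1)) := by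
        have e : (X ^ 4 - 1) * ((X ^ 2 - X + 1) * (X ^ 2 + X + 1)) = (X ^ 4 - 1) * (X ^ 4 + X ^ 2 + 1) := by ring
        rw [e, x4, x2]
        have : (u : ℤ) ^ 2 + 1 ≤ u ^ 6 := by
          have e1 : (u : ℤ) ^ 6 = u ^ 3 * u ^ 3 := by ring
          have e2 : (u : ℤ) ^ 2 ≤ u ^ 3 := by nlinarith only [hu2, sq_nonneg (u : ℤ)]
          nlinarith only [hbig, u3]
        linarith only [this]
      have k2 : (120 : ℤ) * (u : ℤ) ^ 4 ≤ 121 * (X ^ 4 - X ^ 2 + 1) := by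
        rw [x4, x2]
        linarith only [mul_nonneg (by linarith : (0 : ℤ) ≤ (u : ℤ) ^ 2 - 11 ^ 2) (by positivity : (0 : ℤ) ≤ (u : ℤ) ^ 2)]
      have k3 : (u : ℤ) ^ 4 ≤ X ^ 4 + 1 := by rw [x4]; linarith only []
      have k4 : (10 : ℤ) * (u : ℤ) ^ 4 ≤ 11 * (X ^ 4 + X ^ 3 + X ^ 2 + X + 1) := by
        rw [x4, x2]
        nlinarith only [x3, x1, mul_nonneg (by linarith : (0 : ℤ) ≤ (u : ℤ) - 11) (by positivity : (0 : ℤ) ≤ (u : ℤ) ^ 3)]
      have k5 : (1330 : ℤ) * (u : ℤ) ^ 6 ≤ 1331 * (X ^ 6 + X ^ 3 + 1) := by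
        rw [x6]
        linarith only [x3, mul_nonneg (by linarith : (0 : ℤ) ≤ (u : ℤ) ^ 3 - 11 ^ 3) (by positivity : (0 : ℤ) ≤ (u : ℤ) ^ 3)]
      have z1 : (0 : ℤ) ≤ (u : ℤ) ^ 8 := by positivity
      have z2 : (0 : ℤ) ≤ 120 * (u : ℤ) ^ 4 := by positivity
      have z3 : (0 : ℤ) ≤ (u : ℤ) ^ 4 := by positivity
      have z4 : (0 : ℤ) ≤ 10 * (u : ℤ) ^ 4 := by positivity
      have z5 : (0 : ℤ) ≤ 1330 * (u : ℤ) ^ 6 := by positivity
      have m1 := mul_le_mul k1 k2 z2 (z1.trans k1)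
      have m2 := mul_le_mul m1 k3 z3 (mul_nonneg (z1.trans k1) (z2.trans k2))
      have m3 := mul_le_mul m2 k4 z4 (mul_nonneg (mul_nonneg (z1.trans k1) (z2.trans k2)) (z3.trans k3))
      have m4 := mul_le_mul m3 k5 z5
        (mul_nonneg (mul_nonneg (mul_nonneg (z1.trans k1) (z2.trans k2)) (z3.trans k3)) (z4.trans k4))
      rw [hY]
      linarith only [m4]
    have hYpos : 0 < Y := by
      have : (0 : ℤ) < (u : ℤ) ^ 26 := by positivity
      linarith only [hYlow, this]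
    obtain ⟨Y', hY'⟩ : ∃ Y' : ℕ, (Y' : ℤ) = Y := ⟨Y.toNat, Int.toNat_of_nonneg hYpos.le⟩
    have hX' : (Y' : ℤ) ∣ (3240 : ℕ) * PI p s := by
      rw [hY']
      have e : ((3240 : ℕ) : ℤ) * PI p s = 1080 * (3 * PI p s) := by push_cast; ring
      rw [e]
      exact hX
    refine h.n.killE (by norm_num) hX' (a1 := 1771561) (a2 := 1596000) (b1 := 161051) (b2 := 177156) (d := 26) (e := 6)
      (r := 26) (u := u) (by omega) ?_ ?_ (by norm_num) ?_
    · rw [← hY'] at hYlow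
      exact_mod_cast hYlow
    · have k1 : 1331 * ((u : ℤ) ^ 4 + u) ≤ 1332 * (u : ℤ) ^ 4 := by
        have : (11 : ℤ) ^ 3 ≤ (u : ℤ) ^ 3 := by gcongr
        nlinarith only [this]
      have k2 : 121 * ((u : ℤ) ^ 2 + u + 1) ≤ 133 * (u : ℤ) ^ 2 := by nlinarith only [hbig]
      have k3 : (161051 : ℤ) * M ≤ 177156 * (u : ℤ) ^ 6 := by
        calc (161051 : ℤ) * M ≤ 161051 * (((u : ℤ) ^ 4 + u) * (u ^ 2 + u + 1)) := by gcongr
          _ = (1331 * ((u : ℤ) ^ 4 + u)) * (121 * ((u : ℤ) ^ 2 + u + 1)) := by ring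
          _ ≤ (1332 * (u : ℤ) ^ 4) * (133 * (u : ℤ) ^ 2) := by gcongr
          _ = 177156 * (u : ℤ) ^ 6 := by ring
      exact_mod_cast k3
    · have k1 : 11 ^ 26 ≤ u ^ 26 := Nat.pow_le_pow_left hbig 26
      calc 1771561 ^ 4 * 3240 ^ 4 * (50 ^ 4 * 45 ^ 9) * 177156 ^ 13
          < 81 * 8 ^ 9 * 1596000 ^ 4 * 161051 ^ 13 * 11 ^ 26 := by norm_num
        _ ≤ 81 * 8 ^ 9 * 1596000 ^ 4 * 161051 ^ 13 * u ^ 26 := Nat.mul_le_mul_left _ k1

open Cfsg.Agent.H426.LieFam Cfsg.Agent.R2.Spec.X4.H18 in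
theorem not_e6 {S : Type*} [Group S] [Finite S] (hS : Sec p q s c c5 M S) {v f : ℕ} (hI : Fam.Is v f S Fam.e6)
    (hv : v.Prime) (hvp : v ≠ p) : False := by
  obtain ⟨F, _, _, _, hcard, ⟨e⟩⟩ := hI
  have hf := f_pos_of_card (n := 1) (by rw [hcard, pow_one])
  exact not_e6D hS ((e6Dat hv hcard hf).congr e) hvp

open Cfsg.Agent.H426.LieFam Cfsg.Agent.R2.Spec.X4.H18 in
theorem not_te6 {S : Type*} [Group S] [Finite S] (hS : Sec p q s c c5 M S) {v f : ℕ} (hI : Fam.Is v f S Fam.te6)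
    (hv : v.Prime) (hvp : v ≠ p) : False := by
  obtain ⟨F, _, _, _, hcard, ⟨e⟩⟩ := hI
  exact not_e6D hS ((te6Dat hv hcard (f_pos_of_card hcard)).congr e) hvp

end Cfsg.Agent.R2.Spec.X7.N6
end

-- part: R2/Spec/X7/N6/ECy
section
/-!
# Box X7, `n = 6`, packet N6-E (helper9): values of cyclotomic polynomials (generated by a script)
-/

set_option autoImplicit false
set_option maxHeartbeats 1000000

namespace Cfsg.Agent.R2.Spec.X7.N6.Cy

/-- the cyclotomic polynomial of index `4` -/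
def cy4 (y : ℤ) : ℤ := y ^ 2 + 1

/-- the cyclotomic polynomial of index `5` -/
def cy5 (y : ℤ) : ℤ := y ^ 4 + y ^ 3 + y ^ 2 + y + 1

/-- the cyclotomic polynomial of index `6` -/
def cy6 (y : ℤ) : ℤ := y ^ 2 - y + 1

/-- the cyclotomic polynomial of index `7` -/
def cy7 (y : ℤ) : ℤ := y ^ 6 + y ^ 5 + y ^ 4 + y ^ 3 + y ^ 2 + y + 1

/-- the cyclotomic polynomial of index `8` -/
def cy8 (y : ℤ) : ℤ := y ^ 4 + 1

/-- the cyclotomic polynomial of index `9` -/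
def cy9 (y : ℤ) : ℤ := y ^ 6 + y ^ 3 + 1

/-- the cyclotomic polynomial of index `10` -/
def cy10 (y : ℤ) : ℤ := y ^ 4 - y ^ 3 + y ^ 2 - y + 1

/-- the cyclotomic polynomial of index `12` -/
def cy12 (y : ℤ) : ℤ := y ^ 4 - y ^ 2 + 1

/-- the cyclotomic polynomial of index `14` -/
def cy14 (y : ℤ) : ℤ := y ^ 6 - y ^ 5 + y ^ 4 - y ^ 3 + y ^ 2 - y + 1

/-- the cyclotomic polynomial of index `15` -/
def cy15 (y : ℤ) : ℤ := y ^ 8 - y ^ 7 + y ^ 5 - y ^ 4 + y ^ 3 - y + 1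

/-- the cyclotomic polynomial of index `18` -/
def cy18 (y : ℤ) : ℤ := y ^ 6 - y ^ 3 + 1

/-- the cyclotomic polynomial of index `20` -/
def cy20 (y : ℤ) : ℤ := y ^ 8 - y ^ 6 + y ^ 4 - y ^ 2 + 1

/-- the cyclotomic polynomial of index `24` -/
def cy24 (y : ℤ) : ℤ := y ^ 8 - y ^ 4 + 1

/-- the cyclotomic polynomial of index `30` -/
def cy30 (y : ℤ) : ℤ := y ^ 8 + y ^ 7 - y ^ 5 - y ^ 4 - y ^ 3 + y + 1

theorem cop7_9 (y : ℤ) : IsCoprime (cy7 y) (cy9 y) :=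
  ⟨y ^ 5 - y ^ 4 + y ^ 3 - y + 1, -y ^ 5 - y ^ 3, by unfold cy7 cy9; ring⟩

theorem cop7_15 (y : ℤ) : IsCoprime (cy7 y) (cy15 y) :=
  ⟨-y ^ 7 + y ^ 5 - y ^ 4 + y ^ 3 - 2 * y + 1, y ^ 5 + 2 * y ^ 4 + 2 * y ^ 3 + 2 * y ^ 2 + y, by unfold cy7 cy15; ring⟩

theorem cop9_15 (y : ℤ) : IsCoprime (cy9 y) (cy15 y) :=
  ⟨y ^ 7 - y ^ 6 - y ^ 3 + y ^ 2, -y ^ 5 + y + 1, by unfold cy9 cy15; ring⟩

theorem cop7_10 (y : ℤ) : IsCoprime (cy7 y) (cy10 y) :=
  ⟨y ^ 3 - 2 * y ^ 2 + y, -y ^ 5 + y ^ 3 + 1, by unfold cy7 cy10; ring⟩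

theorem cop9_10 (y : ℤ) : IsCoprime (cy9 y) (cy10 y) :=
  ⟨-y ^ 3 - y ^ 2 - y, y ^ 5 + 2 * y ^ 4 + 2 * y ^ 3 + 2 * y ^ 2 + 2 * y + 1, by unfold cy9 cy10; ring⟩

theorem cop15_10 (y : ℤ) : IsCoprime (cy15 y) (cy10 y) :=
  ⟨y ^ 2 + y + 1, -y ^ 6 - y ^ 5, by unfold cy15 cy10; ring⟩

theorem cop7_12 (y : ℤ) : IsCoprime (cy7 y) (cy12 y) :=
  ⟨-2 * y ^ 3 + 2 * y ^ 2 - 1, 2 * y ^ 5 + 2 * y ^ 3 + y ^ 2 + y + 2, by unfold cy7 cy12; ring⟩

theorem cop9_12 (y : ℤ) : IsCoprime (cy9 y) (cy12 y) :=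
  ⟨-y ^ 3, y ^ 5 + y ^ 3 + y ^ 2 + 1, by unfold cy9 cy12; ring⟩

theorem cop15_12 (y : ℤ) : IsCoprime (cy15 y) (cy12 y) :=
  ⟨y ^ 3 + 2 * y ^ 2 + y, -y ^ 7 - y ^ 6 - y ^ 4 - y + 1, by unfold cy15 cy12; ring⟩

theorem cop10_12 (y : ℤ) : IsCoprime (cy10 y) (cy12 y) :=
  ⟨-2 * y ^ 3 - 2 * y ^ 2 + y + 2, 2 * y ^ 3 + y - 1, by unfold cy10 cy12; ring⟩

theorem cop7_5 (y : ℤ) : IsCoprime (cy7 y) (cy5 y) :=
  ⟨-y ^ 3 - y, y ^ 5 + y ^ 3 + 1, by unfold cy7 cy5; ring⟩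

theorem cop9_5 (y : ℤ) : IsCoprime (cy9 y) (cy5 y) :=
  ⟨-y ^ 3 - y ^ 2 - y, y ^ 5 + 1, by unfold cy9 cy5; ring⟩

theorem cop7_4 (y : ℤ) : IsCoprime (cy7 y) (cy4 y) :=
  ⟨-y, y ^ 5 + y ^ 4 + y + 1, by unfold cy7 cy4; ring⟩

theorem cop9_4 (y : ℤ) : IsCoprime (cy9 y) (cy4 y) :=
  ⟨y, -y ^ 5 + y ^ 3 - y ^ 2 - y + 1, by unfold cy9 cy4; ring⟩

theorem cop5_4 (y : ℤ) : IsCoprime (cy5 y) (cy4 y) :=
  ⟨1, -y ^ 2 - y, by unfold cy5 cy4; ring⟩

theorem cop7_6 (y : ℤ) : IsCoprime (cy7 y) (cy6 y) :=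
  ⟨1, -y ^ 4 - 2 * y ^ 3 - 2 * y ^ 2 - y, by unfold cy7 cy6; ring⟩

theorem cop9_6 (y : ℤ) : IsCoprime (cy9 y) (cy6 y) :=
  ⟨1, -y ^ 4 - y ^ 3, by unfold cy9 cy6; ring⟩

theorem cop5_6 (y : ℤ) : IsCoprime (cy5 y) (cy6 y) :=
  ⟨-y, y ^ 3 + 2 * y ^ 2 + 2 * y + 1, by unfold cy5 cy6; ring⟩

theorem cop4_6 (y : ℤ) : IsCoprime (cy4 y) (cy6 y) :=
  ⟨-y + 1, y, by unfold cy4 cy6; ring⟩

theorem odd7 (y : ℤ) : cy7 y % 2 = 1 := by
  have h : y % 2 = 0 ∨ y % 2 = 1 := by omega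
  unfold cy7
  rcases h with h | h <;> simp only [pow_succ, Int.add_emod, Int.sub_emod, Int.mul_emod, h, _root_.pow_zero, _root_.one_mul, _root_.MulZeroClass.mul_zero, _root_.EuclideanDomain.zero_mod, _root_.add_zero, _root_.Int.one_emod_two, _root_.zero_add, _root_.mul_one, _root_.Int.reduceAdd, _root_.EuclideanDomain.mod_self]

theorem cop7_14 (y : ℤ) : IsCoprime (cy7 y) (cy14 y) :=
  cop_of_k (α := -y + 1) (β := y + 1) (k := 2 ^ 1) (by unfold cy7 cy14; ring) ((cop2 (odd7 y)).pow_right)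

theorem odd9 (y : ℤ) : cy9 y % 2 = 1 := by
  have h : y % 2 = 0 ∨ y % 2 = 1 := by omega
  unfold cy9
  rcases h with h | h <;> simp only [pow_succ, Int.add_emod, Int.sub_emod, Int.mul_emod, h, _root_.pow_zero, _root_.one_mul, _root_.MulZeroClass.mul_zero, _root_.EuclideanDomain.zero_mod, _root_.add_zero, _root_.Int.one_emod_two, _root_.zero_add, _root_.mul_one, _root_.Int.reduceAdd, _root_.EuclideanDomain.mod_self]

theorem cop9_18 (y : ℤ) : IsCoprime (cy9 y) (cy18 y) :=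
  cop_of_k (α := -y ^ 3 + 1) (β := y ^ 3 + 1) (k := 2 ^ 1) (by unfold cy9 cy18; ring) ((cop2 (odd9 y)).pow_right)

theorem odd15 (y : ℤ) : cy15 y % 2 = 1 := by
  have h : y % 2 = 0 ∨ y % 2 = 1 := by omega
  unfold cy15
  rcases h with h | h <;> simp only [pow_succ, Int.add_emod, Int.sub_emod, Int.mul_emod, h, _root_.pow_zero, _root_.one_mul, _root_.MulZeroClass.mul_zero, _root_.EuclideanDomain.zero_mod, _root_.sub_self, _root_.add_zero, _root_.Int.one_emod_two, _root_.zero_add, _root_.mul_one]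

theorem cop15_30 (y : ℤ) : IsCoprime (cy15 y) (cy30 y) :=
  cop_of_k (α := -y ^ 7 - y ^ 6 - y ^ 5 + y ^ 2 + y + 1) (β := y ^ 7 - y ^ 6 + y ^ 5 + y ^ 2 - y + 1) (k := 2 ^ 1) (by unfold cy15 cy30; ring) ((cop2 (odd15 y)).pow_right)

theorem odd5 (y : ℤ) : cy5 y % 2 = 1 := by
  have h : y % 2 = 0 ∨ y % 2 = 1 := by omega
  unfold cy5
  rcases h with h | h <;> simp only [pow_succ, Int.add_emod, Int.sub_emod, Int.mul_emod, h, _root_.pow_zero, _root_.one_mul, _root_.MulZeroClass.mul_zero, _root_.EuclideanDomain.zero_mod, _root_.add_zero, _root_.Int.one_emod_two, _root_.zero_add, _root_.mul_one, _root_.Int.reduceAdd, _root_.EuclideanDomain.mod_self]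

theorem cop5_10 (y : ℤ) : IsCoprime (cy5 y) (cy10 y) :=
  cop_of_k (α := -y + 1) (β := y + 1) (k := 2 ^ 1) (by unfold cy5 cy10; ring) ((cop2 (odd5 y)).pow_right)

theorem sq7 (u : ℤ) : cy7 u * cy14 u = cy7 (u ^ 2) := by unfold cy7 cy14; ring

theorem sq9 (u : ℤ) : cy9 u * cy18 u = cy9 (u ^ 2) := by unfold cy9 cy18; ring

theorem sq15 (u : ℤ) : cy15 u * cy30 u = cy15 (u ^ 2) := by unfold cy15 cy30; ring

theorem sq5 (u : ℤ) : cy5 u * cy10 u = cy5 (u ^ 2) := by unfold cy5 cy10; ring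

theorem sq20 (u : ℤ) : cy20 u = cy10 (u ^ 2) := by unfold cy20 cy10; ring

theorem sq24 (u : ℤ) : cy24 u = cy12 (u ^ 2) := by unfold cy24 cy12; ring

theorem sq8 (u : ℤ) : cy8 u = cy4 (u ^ 2) := by unfold cy8 cy4; ring

theorem sq12 (u : ℤ) : cy12 u = cy6 (u ^ 2) := by unfold cy12 cy6; ring

/-- the product of the orders of `E₈(u)` -/
theorem e8_dvd {N u : ℤ} (h7 : cy7 u ∣ N) (h14 : cy14 u ∣ N) (h9 : cy9 u ∣ N) (h18 : cy18 u ∣ N) (h15 : cy15 u ∣ N)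
    (h30 : cy30 u ∣ N) (h20 : cy20 u ∣ N) (h24 : cy24 u ∣ N) :
    cy7 (u ^ 2) * cy9 (u ^ 2) * cy15 (u ^ 2) * cy10 (u ^ 2) * cy12 (u ^ 2) ∣ N := by
  have a7 := (cop7_14 u).mul_dvd h7 h14
  have a9 := (cop9_18 u).mul_dvd h9 h18
  have a15 := (cop15_30 u).mul_dvd h15 h30
  rw [sq7] at a7
  rw [sq9] at a9
  rw [sq15] at a15
  rw [sq20] at h20
  rw [sq24] at h24
  have b1 := (cop7_9 (u ^ 2)).mul_dvd a7 a9
  have b2 := ((cop7_15 (u ^ 2)).mul_left (cop9_15 (u ^ 2))).mul_dvd b1 a15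
  have b3 := (((cop7_10 (u ^ 2)).mul_left (cop9_10 (u ^ 2))).mul_left (cop15_10 (u ^ 2))).mul_dvd b2 h20
  exact ((((cop7_12 (u ^ 2)).mul_left (cop9_12 (u ^ 2))).mul_left (cop15_12 (u ^ 2))).mul_left
    (cop10_12 (u ^ 2))).mul_dvd b3 h24

/-- the product of the orders of `E₇(u)` -/
theorem e7_dvd {N u : ℤ} (h7 : cy7 u ∣ N) (h14 : cy14 u ∣ N) (h9 : cy9 u ∣ N) (h18 : cy18 u ∣ N) (h5 : cy5 u ∣ N)
    (h10 : cy10 u ∣ N) (h8 : cy8 u ∣ N) (h12 : cy12 u ∣ N) :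
    cy7 (u ^ 2) * cy9 (u ^ 2) * cy5 (u ^ 2) * cy4 (u ^ 2) * cy6 (u ^ 2) ∣ N := by
  have a7 := (cop7_14 u).mul_dvd h7 h14
  have a9 := (cop9_18 u).mul_dvd h9 h18
  have a5 := (cop5_10 u).mul_dvd h5 h10
  rw [sq7] at a7
  rw [sq9] at a9
  rw [sq5] at a5
  rw [sq8] at h8
  rw [sq12] at h12
  have b1 := (cop7_9 (u ^ 2)).mul_dvd a7 a9
  have b2 := ((cop7_5 (u ^ 2)).mul_left (cop9_5 (u ^ 2))).mul_dvd b1 a5
  have b3 := (((cop7_4 (u ^ 2)).mul_left (cop9_4 (u ^ 2))).mul_left (cop5_4 (u ^ 2))).mul_dvd b2 h8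
  exact ((((cop7_6 (u ^ 2)).mul_left (cop9_6 (u ^ 2))).mul_left (cop5_6 (u ^ 2))).mul_left
    (cop4_6 (u ^ 2))).mul_dvd b3 h12

end Cfsg.Agent.R2.Spec.X7.N6.Cy
end

-- part: R2/Spec/X7/N6/EE8
section
/-!
# Box X7, `n = 6`, packet N6-E (helper9): `S = E₈(u)`, `S = E₇(u)`
-/

set_option autoImplicit false
set_option maxHeartbeats 1000000

namespace Cfsg.Agent.R2.Spec.X7.N6

open CoxeterSystem Cfsg Cfsg.Lie Cfsg.Lie.ChevalleyDatum
open Cfsg.Agent.ChevalleyStructure.CoxeterGeom Cfsg.Agent.ChevalleyStructure.CoxeterGeomTypes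
open Cfsg.Agent.BpExc.FamInst Cfsg.Agent.BpExc.RowsUntw Cfsg.Agent.Nodes.RGDChev Cfsg.Agent.BpExc.FamExt
open Cfsg.Agent.H378.AdjTab Cfsg.Agent.H378.CycTab Cfsg.Agent.H378.ExcAdj
open Cfsg.Agent.H493.PGTorus Cfsg.Agent.H129.WData Cfsg.Agent.H437.Iso
open Cfsg.Agent.R2.Spec.X7.N6.Cy

universe u

theorem ht_E8 : ∀ r < chevE8.nroots, Tits.Roots.ht (vec chevE8 8 r) < 30 := by
  unfold Tits.Roots.ht vec; decide +kernel

theorem ht_E7 : ∀ r < chevE7.nroots, Tits.Roots.ht (vec chevE7 7 r) < 18 := by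
  unfold Tits.Roots.ht vec; decide +kernel

section

variable {F : Type u} [Field F] [Finite F] {v : ℕ} [Fact v.Prime] [CharP F v]

theorem e8_bound (x : ↥(chevE8.group F)) :
    ∃ b m : ℕ, orderOf x = v ^ b * m ∧ ¬ v ∣ m ∧ m ≤ (Nat.card F + 1) ^ 8 ∧ (b ≠ 0 → v ^ (b - 1) < 30) := by
  let cs : CoxeterSystem CoxeterMatrix.E₈ CoxeterMatrix.E₈.Group := CoxeterMatrix.E₈.toCoxeterSystem
  have := finite_W e8T cs
  refine EB.order_bound e8T cs (fun a ha => ?_) x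
  obtain ⟨r, hr, rfl⟩ := (isRoot_iff e8T cs a).1 ha
  exact_mod_cast ht_E8 r hr

theorem e7_bound (x : ↥(chevE7.group F)) :
    ∃ b m : ℕ, orderOf x = v ^ b * m ∧ ¬ v ∣ m ∧ m ≤ (Nat.card F + 1) ^ 7 ∧ (b ≠ 0 → v ^ (b - 1) < 18) := by
  let cs : CoxeterSystem CoxeterMatrix.E₇ CoxeterMatrix.E₇.Group := CoxeterMatrix.E₇.toCoxeterSystem
  have := finite_W e7T cs
  refine EB.order_bound e7T cs (fun a ha => ?_) x
  obtain ⟨r, hr, rfl⟩ := (isRoot_iff e7T cs a).1 ha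
  exact_mod_cast ht_E7 r hr

end

section

variable {F : Type u} [Field F] [Finite F]

theorem e8_ord {L : List (Fin 8 × Mat 8)} (hL : ChainOK H378.AdjE8.Am L)
    {f : ℕ} {c : Fin (f + 1) → ℤ} {V : Fin (f + 1) → Fin 8 → ℤ} {U : Fin 8 → ℤ} (h : EigOK (hd L) c V U)
    {m : ℕ} (hm : 0 < m) (hdv : (m : ℤ) = pv c (Nat.card F : ℕ)) : ∃ x : ↥(chevE8.group F), orderOf x = m := by
  let cs : CoxeterSystem CoxeterMatrix.E₈ CoxeterMatrix.E₈.Group := CoxeterMatrix.E₈.toCoxeterSystem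
  have := finite_W e8T cs
  exact exists_order_one e8T cs inv_E8 H378.AdjE8.hA hL h hm (dvd_of_eq hdv)

theorem e7_ord {L : List (Fin 7 × Mat 7)} (hL : ChainOK H378.AdjE7.Am L)
    {f : ℕ} {c : Fin (f + 1) → ℤ} {V : Fin (f + 1) → Fin 7 → ℤ} {U : Fin 7 → ℤ} (h : EigOK (hd L) c V U)
    {m : ℕ} (hm : 0 < m) (hdv : (m : ℤ) = pv c (Nat.card F : ℕ)) :
    ∃ x : ↥(chevE7.group F), m ∣ orderOf x * Nat.gcd 2 (Nat.card F - 1) := by
  let cs : CoxeterSystem CoxeterMatrix.E₇ CoxeterMatrix.E₇.Group := CoxeterMatrix.E₇.toCoxeterSystem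
  have := finite_W e7T cs
  obtain ⟨x, -, -, h1, -⟩ := exists_comm_torus e7T cs inv_E7 two_ne_zero H378.AdjE7.hA hL h h (F := F) hm hm
    (dvd_of_eq hdv) (dvd_of_eq hdv)
  exact ⟨x, h1⟩

end

/-! ### lower bounds -/

theorem low_E8 {y : ℤ} (hy : 4 ≤ y) : 135 * y ^ 28 ≤ 256 * (cy7 y * cy9 y * cy15 y * cy10 y * cy12 y) := by
  have hy0 : 0 ≤ y := by linarith
  have p1 : ∀ n : ℕ, 0 ≤ y ^ n := fun n => pow_nonneg hy0 n
  have p2 : ∀ n : ℕ, 4 * y ^ n ≤ y ^ (n + 1) := fun n => by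
    rw [pow_succ]
    nlinarith only [hy, p1 n]
  have k1 : y ^ 6 ≤ cy7 y := by
    unfold cy7
    linarith [p1 5, p1 4, p1 3, p1 2]
  have k2 : y ^ 6 ≤ cy9 y := by
    unfold cy9
    linarith [p1 3]
  have k3 : 3 * y ^ 8 ≤ 4 * cy15 y := by
    unfold cy15
    have h2 := p2 7
    have h3 := p2 4
    have h4 := p2 2
    have h5 := p2 1
    norm_num only [_root_.pow_one] at h2 h3 h4 h5
    linarith [p1 4, p1 2]
  have k4 : 3 * y ^ 4 ≤ 4 * cy10 y := by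
    unfold cy10
    have h2 := p2 3
    have h3 := p2 1
    norm_num at h2 h3
    linarith [p1 2]
  have k5 : 15 * y ^ 4 ≤ 16 * cy12 y := by
    unfold cy12
    have h2 := p2 3
    have h3 := p2 2
    norm_num at h2 h3
    linarith
  have z1 := p1 6
  have z3 : 0 ≤ 3 * y ^ 8 := by linarith [p1 8]
  have z4 : 0 ≤ 3 * y ^ 4 := by linarith [p1 4]
  have z5 : 0 ≤ 15 * y ^ 4 := by linarith [p1 4]
  have m1 := mul_le_mul k1 k2 z1 (z1.trans k1)
  have m2 := mul_le_mul m1 k3 z3 (mul_nonneg (z1.trans k1) (z1.trans k2))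
  have m3 := mul_le_mul m2 k4 z4 (mul_nonneg (mul_nonneg (z1.trans k1) (z1.trans k2)) (z3.trans k3))
  have m4 := mul_le_mul m3 k5 z5
    (mul_nonneg (mul_nonneg (mul_nonneg (z1.trans k1) (z1.trans k2)) (z3.trans k3)) (z4.trans k4))
  linarith

theorem low_E7 {y : ℤ} (hy : 4 ≤ y) : 3 * y ^ 20 ≤ 4 * (cy7 y * cy9 y * cy5 y * cy4 y * cy6 y) := by
  have hy0 : 0 ≤ y := by linarith
  have p1 : ∀ n : ℕ, 0 ≤ y ^ n := fun n => pow_nonneg hy0 n
  have k1 : y ^ 6 ≤ cy7 y := by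
    unfold cy7
    linarith [p1 5, p1 4, p1 3, p1 2]
  have k2 : y ^ 6 ≤ cy9 y := by
    unfold cy9
    linarith [p1 3]
  have k3 : y ^ 4 ≤ cy5 y := by
    unfold cy5
    linarith [p1 3, p1 2]
  have k4 : y ^ 2 ≤ cy4 y := by
    unfold cy4
    linarith
  have k5 : 3 * y ^ 2 ≤ 4 * cy6 y := by
    unfold cy6
    nlinarith only [hy]
  have z1 := p1 6
  have z3 := p1 4
  have z4 := p1 2
  have z5 : 0 ≤ 3 * y ^ 2 := by linarith [p1 2]
  have m1 := mul_le_mul k1 k2 z1 (z1.trans k1)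
  have m2 := mul_le_mul m1 k3 z3 (mul_nonneg (z1.trans k1) (z1.trans k2))
  have m3 := mul_le_mul m2 k4 z4 (mul_nonneg (mul_nonneg (z1.trans k1) (z1.trans k2)) (z3.trans k3))
  have m4 := mul_le_mul m3 k5 z5
    (mul_nonneg (mul_nonneg (mul_nonneg (z1.trans k1) (z1.trans k2)) (z3.trans k3)) (z4.trans k4))
  linarith

section

variable {p q : ℕ} {s : ℤ} {c c5 M : ℕ} {W : ℕ → Prop} {v u' : ℕ}

/-- `b ≤ 2` -/
theorem SW.split (h : SW p q s c c5 M W) (hv : v.Prime) (hvu : v ≤ u') {b m B : ℕ} (hM : M = v ^ b * m) (hm : m ≤ B)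
    (hb : b ≠ 0 → v ^ (b - 1) < 30) : M ≤ B ∨ 11 ≤ u' ∧ M ≤ u' ^ 2 * B := by
  by_cases hb0 : b = 0
  · left
    rw [hM, hb0, pow_zero, one_mul]
    exact hm
  · right
    have h11 : 11 ≤ v := h.n.prime_geE hv (by rw [hM]; exact (dvd_pow_self v hb0).mul_right _)
    refine ⟨h11.trans hvu, ?_⟩
    have h1 := hb hb0
    have hb2 : b ≤ 2 := by
      by_contra hcon
      have h2 : v ^ 2 ≤ v ^ (b - 1) := Nat.pow_le_pow_right hv.pos (by omega)
      have h3 : 11 ^ 2 ≤ v ^ 2 := Nat.pow_le_pow_left h11 2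
      omega
    have h2 : v ^ b ≤ u' ^ 2 := (Nat.pow_le_pow_right hv.pos hb2).trans (Nat.pow_le_pow_left hvu 2)
    rw [hM]
    exact Nat.mul_le_mul h2 hm

theorem SW.e8_kill (h : SW p q s c c5 M W) (hv : v.Prime) (hvu : v ≤ u') {b m : ℕ} (hM : M = v ^ b * m)
    (hm : m ≤ (u' + 1) ^ 8) (hb : b ≠ 0 → v ^ (b - 1) < 30)
    (hX : cy7 ((u' : ℤ) ^ 2) * cy9 ((u' : ℤ) ^ 2) * cy15 ((u' : ℤ) ^ 2) * cy10 ((u' : ℤ) ^ 2) * cy12 ((u' : ℤ) ^ 2) ∣ PI p s) :
    False := by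
  have hu2 : 2 ≤ u' := hv.two_le.trans hvu
  have hy : (4 : ℤ) ≤ (u' : ℤ) ^ 2 := by
    have : (2 : ℤ) ^ 2 ≤ (u' : ℤ) ^ 2 := by
      have : (2 : ℤ) ≤ u' := by exact_mod_cast hu2
      gcongr
    linarith only [this]
  have hlow := low_E8 hy
  rw [← pow_mul] at hlow
  norm_num only [] at hlow
  set X := cy7 ((u' : ℤ) ^ 2) * cy9 ((u' : ℤ) ^ 2) * cy15 ((u' : ℤ) ^ 2) * cy10 ((u' : ℤ) ^ 2) * cy12 ((u' : ℤ) ^ 2) with hXd
  have hXpos : 0 < X := by
    have h1 : (0 : ℤ) < (u' : ℤ) ^ 56 := by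
      have : (0 : ℤ) < u' := by exact_mod_cast (by omega : 0 < u')
      (clear * - hu2; positivity)
    linarith only [hlow, h1]
  obtain ⟨X', hX'⟩ : ∃ X' : ℕ, (X' : ℤ) = X := ⟨X.toNat, Int.toNat_of_nonneg hXpos.le⟩
  rw [← hX'] at hlow hX
  have hlow' : 135 * u' ^ 56 ≤ 256 * X' := by exact_mod_cast hlow
  have hXk : (X' : ℤ) ∣ (1 : ℕ) * PI p s := by rw [Nat.cast_one, one_mul]; exact hX
  rcases h.split hv hvu hM hm hb with h1 | ⟨h11, h1⟩
  · refine h.n.killE one_pos hXk (a1 := 256) (a2 := 135) (b1 := 256) (b2 := 6561) (d := 56) (e := 8) (r := 120) (u := u')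
      (by omega) hlow' ?_ (by norm_num) ?_
    · have h2 : 2 * (u' + 1) ≤ 3 * u' := by omega
      calc 256 * M ≤ 256 * (u' + 1) ^ 8 := Nat.mul_le_mul_left _ h1
        _ = (2 * (u' + 1)) ^ 8 := by ring
        _ ≤ (3 * u') ^ 8 := Nat.pow_le_pow_left h2 8
        _ = 6561 * u' ^ 8 := by ring
    · have h2 : 2 ^ 120 ≤ u' ^ 120 := Nat.pow_le_pow_left hu2 120
      calc 256 ^ 4 * 1 ^ 4 * (50 ^ 4 * 45 ^ 9) * 6561 ^ 13 < 81 * 8 ^ 9 * 135 ^ 4 * 256 ^ 13 * 2 ^ 120 := by norm_num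
        _ ≤ 81 * 8 ^ 9 * 135 ^ 4 * 256 ^ 13 * u' ^ 120 := Nat.mul_le_mul_left _ h2
  · refine h.n.killE one_pos hXk (a1 := 256) (a2 := 135) (b1 := 11 ^ 8) (b2 := 12 ^ 8) (d := 56) (e := 10) (r := 94)
      (u := u') (by omega) hlow' ?_ (by norm_num) ?_
    · have h2 : 11 * (u' + 1) ≤ 12 * u' := by omega
      calc 11 ^ 8 * M ≤ 11 ^ 8 * (u' ^ 2 * (u' + 1) ^ 8) := Nat.mul_le_mul_left _ h1
        _ = u' ^ 2 * (11 * (u' + 1)) ^ 8 := by ring
        _ ≤ u' ^ 2 * (12 * u') ^ 8 := Nat.mul_le_mul_left _ (Nat.pow_le_pow_left h2 8)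
        _ = 12 ^ 8 * u' ^ 10 := by ring
    · have h2 : 11 ^ 94 ≤ u' ^ 94 := Nat.pow_le_pow_left h11 94
      calc 256 ^ 4 * 1 ^ 4 * (50 ^ 4 * 45 ^ 9) * (12 ^ 8) ^ 13 < 81 * 8 ^ 9 * 135 ^ 4 * (11 ^ 8) ^ 13 * 11 ^ 94 := by
            norm_num
        _ ≤ 81 * 8 ^ 9 * 135 ^ 4 * (11 ^ 8) ^ 13 * u' ^ 94 := Nat.mul_le_mul_left _ h2

theorem SW.e7_kill (h : SW p q s c c5 M W) (hv : v.Prime) (hvu : v ≤ u') (hu3 : 3 ≤ u') {b m : ℕ} (hM : M = v ^ b * m)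
    (hm : m ≤ (u' + 1) ^ 7) (hb : b ≠ 0 → v ^ (b - 1) < 30)
    (hX : cy7 ((u' : ℤ) ^ 2) * cy9 ((u' : ℤ) ^ 2) * cy5 ((u' : ℤ) ^ 2) * cy4 ((u' : ℤ) ^ 2) * cy6 ((u' : ℤ) ^ 2) ∣
      2 * PI p s) : False := by
  have hy : (4 : ℤ) ≤ (u' : ℤ) ^ 2 := by
    have : (2 : ℤ) ^ 2 ≤ (u' : ℤ) ^ 2 := by
      have : (2 : ℤ) ≤ u' := by exact_mod_cast (by omega : 2 ≤ u')
      gcongr
    linarith only [this]
  have hlow := low_E7 hy
  rw [← pow_mul] at hlow
  norm_num only [] at hlow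
  set X := cy7 ((u' : ℤ) ^ 2) * cy9 ((u' : ℤ) ^ 2) * cy5 ((u' : ℤ) ^ 2) * cy4 ((u' : ℤ) ^ 2) * cy6 ((u' : ℤ) ^ 2) with hXd
  have hXpos : 0 < X := by
    have h1 : (0 : ℤ) < (u' : ℤ) ^ 40 := by
      have : (0 : ℤ) < u' := by exact_mod_cast (by omega : 0 < u')
      positivity
    linarith only [hlow, h1]
  obtain ⟨X', hX'⟩ : ∃ X' : ℕ, (X' : ℤ) = X := ⟨X.toNat, Int.toNat_of_nonneg hXpos.le⟩
  rw [← hX'] at hlow hX
  have hlow' : 3 * u' ^ 40 ≤ 4 * X' := by exact_mod_cast hlow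
  have hXk : (X' : ℤ) ∣ (2 : ℕ) * PI p s := hX
  rcases h.split hv hvu hM hm hb with h1 | ⟨h11, h1⟩
  · refine h.n.killE two_pos hXk (a1 := 4) (a2 := 3) (b1 := 3 ^ 7) (b2 := 4 ^ 7) (d := 40) (e := 7) (r := 69) (u := u')
      (by omega) hlow' ?_ (by norm_num) ?_
    · have h2 : 3 * (u' + 1) ≤ 4 * u' := by omega
      calc 3 ^ 7 * M ≤ 3 ^ 7 * (u' + 1) ^ 7 := Nat.mul_le_mul_left _ h1
        _ = (3 * (u' + 1)) ^ 7 := by ring
        _ ≤ (4 * u') ^ 7 := Nat.pow_le_pow_left h2 7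
        _ = 4 ^ 7 * u' ^ 7 := by ring
    · have h2 : 3 ^ 69 ≤ u' ^ 69 := Nat.pow_le_pow_left hu3 69
      calc 4 ^ 4 * 2 ^ 4 * (50 ^ 4 * 45 ^ 9) * (4 ^ 7) ^ 13 < 81 * 8 ^ 9 * 3 ^ 4 * (3 ^ 7) ^ 13 * 3 ^ 69 := by norm_num
        _ ≤ 81 * 8 ^ 9 * 3 ^ 4 * (3 ^ 7) ^ 13 * u' ^ 69 := Nat.mul_le_mul_left _ h2
  · refine h.n.killE two_pos hXk (a1 := 4) (a2 := 3) (b1 := 11 ^ 7) (b2 := 12 ^ 7) (d := 40) (e := 9) (r := 43)
      (u := u') (by omega) hlow' ?_ (by norm_num) ?_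
    · have h2 : 11 * (u' + 1) ≤ 12 * u' := by omega
      calc 11 ^ 7 * M ≤ 11 ^ 7 * (u' ^ 2 * (u' + 1) ^ 7) := Nat.mul_le_mul_left _ h1
        _ = u' ^ 2 * (11 * (u' + 1)) ^ 7 := by ring
        _ ≤ u' ^ 2 * (12 * u') ^ 7 := Nat.mul_le_mul_left _ (Nat.pow_le_pow_left h2 7)
        _ = 12 ^ 7 * u' ^ 9 := by ring
    · have h2 : 11 ^ 43 ≤ u' ^ 43 := Nat.pow_le_pow_left h11 43
      calc 4 ^ 4 * 2 ^ 4 * (50 ^ 4 * 45 ^ 9) * (12 ^ 7) ^ 13 < 81 * 8 ^ 9 * 3 ^ 4 * (11 ^ 7) ^ 13 * 11 ^ 43 := by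
            norm_num
        _ ≤ 81 * 8 ^ 9 * 3 ^ 4 * (11 ^ 7) ^ 13 * u' ^ 43 := Nat.mul_le_mul_left _ h2

end

/-! ### the rows -/

section

variable {p q : ℕ} {s : ℤ} {c c5 M : ℕ}

open Cfsg.Agent.H426.LieFam in
theorem not_e8 {S : Type*} [Group S] [Finite S] (hS : Sec p q s c c5 M S) {v f : ℕ} (hI : Fam.Is v f S Fam.e8)
    (hv : v.Prime) : False := by
  have h := hS.sw
  obtain ⟨F, _, _, _, hcard, ⟨e⟩⟩ := hI
  have hvf : Fact v.Prime := ⟨hv⟩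
  have hN : Nat.card F = v ^ f := by rw [Nat.card_eq_fintype_card, hcard]
  have hf : f ≠ 0 := by
    intro h0
    rw [h0, pow_zero] at hcard
    have := Fintype.one_lt_card (α := F)
    omega
  have hvu : v ≤ Nat.card F := by rw [hN]; exact Nat.le_self_pow hf v
  have hu2 : (2 : ℤ) ≤ ((Nat.card F : ℕ) : ℤ) := by exact_mod_cast hv.two_le.trans hvu
  obtain ⟨x, hx⟩ := hS.elt
  obtain ⟨b, m, h1, -, h2, h3⟩ := e8_bound (v := v) (e x)
  rw [MulEquiv.orderOf_eq, hx] at h1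
  set U : ℤ := ((Nat.card F : ℕ) : ℤ) with hU
  have key : ∀ {P : ℤ}, 0 < P → (∀ m : ℕ, 0 < m → (m : ℤ) = P → ∃ x : ↥(chevE8.group F), orderOf x = m) → P ∣ PI p s := by
    intro P hP hex
    obtain ⟨y, hy⟩ := hex P.toNat (by omega) (Int.toNat_of_nonneg hP.le)
    have h4 := h.dvd_PI (E := P.toNat) ⟨e.symm y, by rw [MulEquiv.orderOf_eq]; exact hy⟩
    rwa [Int.toNat_of_nonneg hP.le] at h4
  obtain ⟨t, ht, ht0⟩ : ∃ t : ℤ, U = t + 2 ∧ 0 ≤ t := ⟨U - 2, by ring, by linarith only [hu2]⟩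
  refine h.e8_kill hv hvu h1 h2 h3 (e8_dvd ?_ ?_ ?_ ?_ ?_ ?_ ?_ ?_)
  · refine key (by unfold cy7; rw [← hU, ht]; ring_nf; (clear * - ht0; positivity)) fun m hm hd => ?_
    exact e8_ord H378.AdjE8.row7.1 H378.AdjE8.row7.2.2 hm (by rw [hd, pv7]; rfl)
  · refine key (by unfold cy14; rw [← hU, ht]; ring_nf; (clear * - ht0; positivity)) fun m hm hd => ?_
    exact e8_ord H378.AdjE8.row14.1 H378.AdjE8.row14.2.2 hm (by rw [hd, pv14]; rfl)
  · refine key (by unfold cy9; rw [← hU, ht]; ring_nf; (clear * - ht0; positivity)) fun m hm hd => ?_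
    exact e8_ord H378.AdjE8.row9.1 H378.AdjE8.row9.2.2 hm (by rw [hd, pv9]; rfl)
  · refine key (by unfold cy18; rw [← hU, ht]; ring_nf; (clear * - ht0; positivity)) fun m hm hd => ?_
    exact e8_ord H378.AdjE8.row18.1 H378.AdjE8.row18.2.2 hm (by rw [hd, pv18]; rfl)
  · refine key (by unfold cy15; rw [← hU, ht]; ring_nf; (clear * - ht0; positivity)) fun m hm hd => ?_
    exact e8_ord H378.AdjE8.chain15 H378.AdjE8.tor15_15 hm (by rw [hd, pv15]; rfl)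
  · refine key (by unfold cy30; rw [← hU, ht]; ring_nf; (clear * - ht0; positivity)) fun m hm hd => ?_
    exact e8_ord H378.AdjE8.chain30 H378.AdjE8.tor30_30 hm (by rw [hd, pv30]; rfl)
  · refine key (by unfold cy20; rw [← hU, ht]; ring_nf; (clear * - ht0; positivity)) fun m hm hd => ?_
    exact e8_ord H378.AdjE8.chain20 H378.AdjE8.tor20_20 hm (by rw [hd, pv20]; rfl)
  · refine key (by unfold cy24; rw [← hU, ht]; ring_nf; (clear * - ht0; positivity)) fun m hm hd => ?_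
    exact e8_ord H378.AdjE8.chain24 H378.AdjE8.tor24_24 hm (by rw [hd, pv24]; rfl)

theorem chkE7 : chkQ 10 2 [127, 43, 73, 57, 31, 11, 17, 13] [0] = true := by decide +kernel

open Cfsg.Agent.H426.LieFam in
theorem not_e7 {S : Type*} [Group S] [Finite S] (hS : Sec p q s c c5 M S) {v f : ℕ} (hI : Fam.Is v f S Fam.e7)
    (hv : v.Prime) (hvp : v ≠ p) : False := by
  have h := hS.sw
  obtain ⟨F, _, _, _, hcard, ⟨e⟩⟩ := hI
  have hvf : Fact v.Prime := ⟨hv⟩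
  have hN : Nat.card F = v ^ f := by rw [Nat.card_eq_fintype_card, hcard]
  have hf : f ≠ 0 := by
    intro h0
    rw [h0, pow_zero] at hcard
    have := Fintype.one_lt_card (α := F)
    omega
  have hvu : v ≤ Nat.card F := by rw [hN]; exact Nat.le_self_pow hf v
  have hu2 : (2 : ℤ) ≤ ((Nat.card F : ℕ) : ℤ) := by exact_mod_cast hv.two_le.trans hvu
  obtain ⟨x, hx⟩ := hS.elt
  obtain ⟨b, m, h1, -, h2, h3⟩ := e7_bound (v := v) (e x)
  rw [MulEquiv.orderOf_eq, hx] at h1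
  set U : ℤ := ((Nat.card F : ℕ) : ℤ) with hU
  have hex : ∀ {P : ℤ} {m : ℕ}, (m : ℤ) = P → (∃ x : ↥(chevE7.group F), m ∣ orderOf x * Nat.gcd 2 (Nat.card F - 1)) →
      P ∣ 2 * PI p s := by
    rintro P m rfl ⟨y, hy⟩
    have h4 := h.dvd_PI (E := orderOf (e.symm y)) ⟨e.symm y, rfl⟩
    rw [MulEquiv.orderOf_eq] at h4
    have h5 : ((orderOf y * Nat.gcd 2 (Nat.card F - 1) : ℕ) : ℤ) ∣ PI p s * 2 := by
      push_cast
      refine mul_dvd_mul h4 ?_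
      exact_mod_cast Nat.gcd_dvd_left 2 (Nat.card F - 1)
    rw [mul_comm 2]
    exact (Int.natCast_dvd_natCast.mpr hy).trans h5
  obtain ⟨t, ht, ht0⟩ : ∃ t : ℤ, U = t + 2 ∧ 0 ≤ t := ⟨U - 2, by ring, by linarith only [hu2]⟩
  have hnn : ∀ {P : ℤ}, 0 < P → ∃ m : ℕ, 0 < m ∧ (m : ℤ) = P := fun {P} hP =>
    ⟨P.toNat, by omega, Int.toNat_of_nonneg hP.le⟩
  obtain ⟨m7, p7, e7⟩ := hnn (P := cy7 U) (by unfold cy7; rw [ht]; ring_nf; (clear * - ht0; positivity))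
  obtain ⟨m14, p14, e14⟩ := hnn (P := cy14 U) (by unfold cy14; rw [ht]; ring_nf; (clear * - ht0; positivity))
  obtain ⟨m9, p9, e9⟩ := hnn (P := cy9 U) (by unfold cy9; rw [ht]; ring_nf; (clear * - ht0; positivity))
  obtain ⟨m18, p18, e18⟩ := hnn (P := cy18 U) (by unfold cy18; rw [ht]; ring_nf; (clear * - ht0; positivity))
  obtain ⟨m5, p5, e5⟩ := hnn (P := cy5 U) (by unfold cy5; rw [ht]; ring_nf; (clear * - ht0; positivity))
  obtain ⟨m10, p10, e10⟩ := hnn (P := cy10 U) (by unfold cy10; rw [ht]; ring_nf; (clear * - ht0; positivity))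
  obtain ⟨m8, p8, e8⟩ := hnn (P := cy8 U) (by unfold cy8; rw [ht]; ring_nf; (clear * - ht0; positivity))
  obtain ⟨m12, p12, e12⟩ := hnn (P := cy12 U) (by unfold cy12; rw [ht]; ring_nf; (clear * - ht0; positivity))
  have x7 := e7_ord (F := F) H378.AdjE7.chain7 H378.AdjE7.tor7_7 p7 (by rw [e7, pv7]; rfl)
  have x14 := e7_ord (F := F) H378.AdjE7.chain14 H378.AdjE7.tor14_14 p14 (by rw [e14, pv14]; rfl)
  have x9 := e7_ord (F := F) H378.AdjE7.chain9 H378.AdjE7.tor9_9 p9 (by rw [e9, pv9]; rfl)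
  have x18 := e7_ord (F := F) H378.AdjE7.chain18 H378.AdjE7.tor18_18 p18 (by rw [e18, pv18]; rfl)
  have x5 := e7_ord (F := F) H378.AdjE7.row5.1 H378.AdjE7.row5.2.2 p5 (by rw [e5, pv5]; rfl)
  have x10 := e7_ord (F := F) H378.AdjE7.row10.1 H378.AdjE7.row10.2.2 p10 (by rw [e10, pv10]; rfl)
  have x8 := e7_ord (F := F) H378.AdjE7.row8.1 H378.AdjE7.row8.2.2 p8 (by rw [e8, pv8]; rfl)
  have x12 := e7_ord (F := F) H378.AdjE7.chain12 H378.AdjE7.tor12_12 p12 (by rw [e12, pv12]; rfl)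
  by_cases hu3 : 3 ≤ Nat.card F
  · exact h.e7_kill hv hvu hu3 h1 h2 (fun hb => (h3 hb).trans (by norm_num)) (e7_dvd (hex e7 x7) (hex e14 x14)
      (hex e9 x9) (hex e18 x18) (hex e5 x5) (hex e10 x10) (hex e8 x8) (hex e12 x12))
  · have hu : Nat.card F = 2 := by
      have := hv.two_le.trans hvu
      omega
    have hv2 : v = 2 := by
      have := hv.two_le
      omega
    have hM : M ≤ 3 ^ 7 := by
      rcases h.split hv hvu h1 h2 (fun hb => (h3 hb).trans (by norm_num)) with h4 | ⟨h4, -⟩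
      · rw [hu] at h4
        exact h4
      · omega
    have hq : q ≤ 10 := by
      by_contra hcon
      have k1 := h.n.M_lo
      have k2 : 11 ^ 4 ≤ q ^ 4 := Nat.pow_le_pow_left (by omega) 4
      omega
    have hU2 : U = 2 := by rw [hU, hu]; norm_num
    have hone : Nat.gcd 2 (Nat.card F - 1) = 1 := by rw [hu]; norm_num
    have hW : ∀ {m n : ℕ}, m = n → (∃ x : ↥(chevE7.group F), m ∣ orderOf x * Nat.gcd 2 (Nat.card F - 1)) →
        ∃ x : S, orderOf x = n := by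
      rintro m n rfl ⟨y, hy⟩
      rw [hone, mul_one] at hy
      exact h.mono _ _ hy ⟨e.symm y, MulEquiv.orderOf_eq _ _⟩
    rw [hU2] at e7 e14 e9 e18 e5 e10 e8 e12
    norm_num [cy7] at e7
    norm_num [cy14] at e14
    norm_num [cy9] at e9
    norm_num [cy18] at e18
    norm_num [cy5] at e5
    norm_num [cy10] at e10
    norm_num [cy8] at e8
    norm_num [cy12] at e12
    have h4 := h.chkQ_false (Q := 10) (v := 2) (low := [127, 43, 73, 57, 31, 11, 17, 13]) (hit := [0]) hq (by norm_num)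
      (by rw [← hv2]; exact hvp) (by
        intro E hE
        simp only [List.mem_cons, List.not_mem_nil, or_false] at hE
        rcases hE with rfl | rfl | rfl | rfl | rfl | rfl | rfl | rfl
        · exact hW (by exact_mod_cast e7) x7
        · exact hW (by exact_mod_cast e14) x14
        · exact hW (by exact_mod_cast e9) x9
        · exact hW (by exact_mod_cast e18) x18
        · exact hW (by exact_mod_cast e5) x5
        · exact hW (by exact_mod_cast e10) x10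
        · exact hW (by exact_mod_cast e8) x8
        · exact hW (by exact_mod_cast e12) x12) ⟨0, List.mem_singleton.mpr rfl, dvd_zero M⟩
    rw [chkE7] at h4
    exact Bool.noConfusion h4

end

end Cfsg.Agent.R2.Spec.X7.N6
end

-- part: R2/Spec/X7/N6/ETF4
section
/-!
# Box X7, `n = 6`, packet N6-E (helper9): `S = ²F₄(u)`
-/

set_option autoImplicit false
set_option linter.unusedSectionVars false
set_option maxHeartbeats 1000000

namespace Cfsg.Agent.R2.Spec.X7.N6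

section Bound

open CoxeterSystem Subgroup Cfsg Cfsg.Lie Cfsg.Lie.ChevalleyDatum
open Cfsg.Agent.ChevalleyStructure Cfsg.Agent.ChevalleyStructure.Elts Cfsg.Agent.ChevalleyStructure.CoxeterGeom
  Cfsg.Agent.ChevalleyStructure.CoxeterGeomTypes Cfsg.Agent.ChevalleyStructure.NPerm
open Cfsg.Agent.Tits.Roots Cfsg.Agent.Tits.Core Cfsg.Agent.Nodes.Reps Cfsg.Agent.Nodes.BNOf
  Cfsg.Agent.Nodes.RGDChev Cfsg.Agent.Nodes.Bruhat
open Cfsg.Agent.KFacts.RgdField Cfsg.Agent.KFacts.RgdChevCoord Cfsg.Agent.BpExc Cfsg.Agent.BpExc.TorCent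
  Cfsg.Agent.BpExc.TorChev Cfsg.Agent.BpExc.Tow Cfsg.Agent.BpExc.TowChev Cfsg.Agent.BpExc.Fr Cfsg.Agent.BpExc.Pair
  Cfsg.Agent.BpExc.LangFr
open Cfsg.Agent.BpExc.FamExt Cfsg.Agent.BpExc.FamUntw Cfsg.Agent.BpExc.FamInst Cfsg.Agent.BpExc.FamField
open Cfsg.Agent.H129.TorusChar
open Cfsg.Agent.H378.TorDual Cfsg.Agent.H378.TorChar Cfsg.Agent.H378.TorFin Cfsg.Agent.H378.LatRoot
  Cfsg.Agent.H378.Regular
open Cfsg.Agent.H448.FprCent
open Cfsg.Agent.H493.F4End Cfsg.Agent.H493.F4Tor Cfsg.Agent.H659.TwF4Ord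
open Cfsg.Agent.GpExc.Field (glMap emb coe_emb glMap_xG emb_injective coe_glMap)

universe u

/-- **The bound for the elements of odd order of `²F₄(u)`.** -/
theorem tf4_bound {K : Type u} [Field K] [Fintype K] {m : ℕ} (hm : 1 ≤ m) (hK : Fintype.card K = 2 ^ (2 * m + 1))
    (x : ↥(twistedF4 K (2 ^ m))) (hx : Odd (orderOf x)) :
    ((orderOf x : ℕ) : ℝ) ≤ (Real.sqrt (2 ^ (2 * m + 1) : ℕ) + 1) ^ 4 := by
  have hKc := Cfsg.Agent.ChevalleyStructure.TwF4.Twisted.charP_two hK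
  have h2 : Fact (Nat.Prime 2) := ⟨Nat.prime_two⟩
  obtain ⟨k, _, _, f, r', _, _, n, hk, hka, hn0, hn⟩ := exists_closure K
  have hrr : r' = 2 := by
    have h1 : CharP K r' := RingHom.charP f f.injective r'
    exact CharP.eq K h1 hKc
  subst hrr
  let cs : CoxeterSystem CoxeterMatrix.F₄ CoxeterMatrix.F₄.Group := CoxeterMatrix.F₄.toCoxeterSystem
  have hWf := finite_W H493.F4Tor.hp cs
  set! y0 : ↥(chevF4.group K) := inc K (2 ^ m) x with hy0
  set! y : ↥(chevF4.group k) := emb hD f y0 with hy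
  have hinj : Function.Injective (emb hD f) := emb_injective hD f
  have hox : orderOf y = orderOf x := by
    rw [hy, orderOf_injective _ hinj, hy0, orderOf_injective _ (inc_injective (K := K) (2 ^ m))]
  have hodd0 : orderOf x ≠ 0 := by
    intro h0
    rw [h0] at hx
    exact absurd hx (by decide)
  obtain ⟨g0, hg0⟩ := H944.TorAnyChev.exists_conj_mem_TT H493.F4Tor.hp 2 hka (x := y) (q := orderOf x) hodd0
    (Nat.coprime_two_right.mpr hx) (by rw [← hox, pow_orderOf_eq_one])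
  set! c : ↥(chevF4.group k) := g0⁻¹ with hc; rewrite [← hc] at hg0
  set! t : ↥(chevF4.group k) := c⁻¹ * y * c with ht0
  have ht : t ∈ TT chevF4 k := by
    rw [ht0, hc, inv_inv]
    exact hg0
  have hstey : ste k m y = y := by
    rw [hy, hy0, ← emb_ste, ste_inc hK]
  set! n0' : ↥(chevF4.group k) := c⁻¹ * ste k m c with hn0'
  have htt : n0' * ste k m t * n0'⁻¹ = t := by
    rw [ht0, map_mul, map_mul, map_inv, hstey, hn0']
    group
  obtain ⟨m', hm', w, g, hg, hgs, -⟩ := exists_form' H493.F4Tor.hp cs hk 2 (s := ste k m t) (t := t) (c := n0')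
    (ste_TT (m := m) ht) ht (mul_inv_eq_iff_eq_mul.1 htt)
  have hdet : ((LinearMap.det (rep cs H493.F4Tor.hp.isCartan w - Rl m) : ℤ) : k) ≠ 0 :=
    Cfsg.Agent.H448.FprCent.det_ne cs _ hm w k
  have hdet0 : LinearMap.det (rep cs H493.F4Tor.hp.isCartan w - Rl m) ≠ 0 := by
    intro h0
    rw [h0, Int.cast_zero] at hdet
    exact hdet rfl
  have hf : ∀ z, cX H493.F4Tor.hp t ((rep cs H493.F4Tor.hp.isCartan w - Rl m) z) = 1 := by
    intro z
    rw [LinearMap.sub_apply, (isMC_cX H493.F4Tor.hp ht).sub]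
    have h1 := cX_rp H493.F4Tor.hp cs hk 2 hg (ste_TT (m := m) ht) z
    rw [hgs, mul_inv_cancel_right] at h1
    rw [h1, cX_ste_all m ht, div_self ((isMC_cX H493.F4Tor.hp ht).ne_zero _)]
  have hord := EB.order_dvd_det H493.F4Tor.hp ht hdet0 hf (s := t) (fun a b h1 =>
    cX_inj H493.F4Tor.hp (pow_mem ht a) (pow_mem ht b) fun j => by
      rw [cX_pow H493.F4Tor.hp ht, cX_pow H493.F4Tor.hp ht, h1])
  have hot : orderOf t = orderOf x := by
    rw [← hox]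
    have h1 : t = (MulAut.conj c⁻¹) y := by rw [ht0, MulAut.conj_apply, inv_inv]
    rw [h1]
    exact orderOf_injective (MulAut.conj c⁻¹).toMonoidHom (MulAut.conj c⁻¹).injective y
  rw [hot] at hord
  have h5 := det_bound cs H493.F4Tor.hp.isCartan m w
  refine le_trans ?_ h5
  exact_mod_cast Nat.le_of_dvd (Int.natAbs_pos.mpr hdet0) hord

end Bound


/-! ### the divisibility -/

section Num

variable {p q : ℕ} {s : ℤ} {c c5 M : ℕ}

open Cfsg.Agent.H493.PGF4T (f1 f2 fp fm f6 fP fM)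

theorem tf4_dvd {N : ℤ} (b : ℤ) (hb : b % 3 = 1 ∨ b % 3 = 2) (h1 : f1 b ∣ N) (h2 : f2 b ∣ N) (h3 : fp b ∣ N)
    (h4 : fm b ∣ N) (h5 : f6 b ∣ N) (h6 : fP b ∣ N) (h7 : fM b ∣ N) {u : ℤ} (hu : u = 2 * b ^ 2) :
    (u ^ 4 - 1) * (u ^ 4 - u ^ 2 + 1) * (u ^ 2 - u + 1) ∣ 6 * N := by
  have c1 : IsCoprime (f1 b) (f2 b) :=
    cop_of_k (α := -1) (β := 1) (k := 2) (by unfold f1 f2; ring) (cop2 (by unfold f1; omega))
  have c2 : IsCoprime (fp b) (fm b) :=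
    cop_of_k (α := -b + 1) (β := b + 1) (k := 2) (by unfold fp fm; ring) (cop2 (by unfold fp; omega))
  have c3 : IsCoprime (fP b) (fM b) :=
    cop_of_k (α := -b + 1) (β := b + 1) (k := 2) (by unfold fP fM; ring) (cop2 (by unfold fP; omega))
  have x1 : u ^ 2 - 1 ∣ N := by
    have e : u ^ 2 - 1 = f1 b * f2 b := by unfold f1 f2; rw [hu]; ring
    rw [e]
    exact c1.mul_dvd h1 h2
  have x2 : u ^ 2 + 1 ∣ N := by
    have e : u ^ 2 + 1 = fp b * fm b := by unfold fp fm; rw [hu]; ring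
    rw [e]
    exact c2.mul_dvd h3 h4
  have x3 : u ^ 4 - u ^ 2 + 1 ∣ N := by
    have e : u ^ 4 - u ^ 2 + 1 = fP b * fM b := by unfold fP fM; rw [hu]; ring
    rw [e]
    exact c3.mul_dvd h6 h7
  have hodd : ∀ z : ℤ, (2 * b ^ 2 * z + 1) % 2 = 1 := fun z => by
    have : 2 * b ^ 2 * z + 1 = 2 * (b ^ 2 * z) + 1 := by ring
    omega
  have c4 : IsCoprime (u ^ 2 - 1) (u ^ 2 + 1) := by
    refine cop_of_k (α := -1) (β := 1) (k := 2) (by ring) (cop2 ?_)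
    have e : u ^ 2 - 1 = 2 * b ^ 2 * (2 * b ^ 2) + 1 - 2 := by rw [hu]; ring
    have := hodd (2 * b ^ 2)
    omega
  have x4 : u ^ 4 - 1 ∣ N := by
    have e : u ^ 4 - 1 = (u ^ 2 - 1) * (u ^ 2 + 1) := by ring
    rw [e]
    exact c4.mul_dvd x1 x2
  have hb2 : (b ^ 2) % 3 = 1 := by
    rcases hb with h | h <;> simp [pow_two, Int.mul_emod, h]
  have hu3 : u % 3 = 2 := by rw [hu]; omega
  have c5 : IsCoprime (u ^ 4 - u ^ 2 + 1) (u ^ 4 - 1) := by
    refine cop_of_k (α := u ^ 2 + 2) (β := -u ^ 2 - 1) (k := 3) (by ring) (cop3 (Or.inl ?_))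
    have : u ^ 4 - u ^ 2 + 1 = 3 * (u ^ 2 * ((u / 3 + 1) * (u - 1))) + 1 := by
      have : u = 3 * (u / 3) + 2 := by omega
      linear_combination (u ^ 2 * (u - 1)) * this
    omega
  have x5 : (u ^ 4 - 1) * (u ^ 4 - u ^ 2 + 1) ∣ N := c5.symm.mul_dvd x4 x3
  have x6 : u ^ 2 - u + 1 ∣ N := by
    have e : u ^ 2 - u + 1 = f6 b := by unfold f6; rw [hu]; ring
    rw [e]
    exact h5
  exact mul_dvd_of x5 x6 (α := -u - 1) (β := u ^ 7 + 2 * u ^ 6 - 3 * u ^ 4 - 3 * u ^ 3 + 4 * u + 5) (by ring)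

/-- the element orders of `²F₄(8)` used in the finite check -/
def lowTF4 : List ℕ := [7, 9, 13, 5, 57, 109, 37]

theorem chkTF4 : chkQ 6 2 lowTF4 [0] = true := by decide +kernel

open Cfsg.Agent.H493.PGF4T Cfsg.Agent.R2.Spec.X1.TRc in
theorem not_tf4D {K : Type*} [Field K] [Fintype K] {m : ℕ}
    (hm : 1 ≤ m) (hK : Fintype.card K = 2 ^ (2 * m + 1)) {W : ℕ → Prop} (h : SW p q s c c5 M W)
    (hup : ∀ E, W E → ∃ x : ↥(Cfsg.Lie.twistedF4 K (2 ^ m)), orderOf x = E)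
    (hlo : ∀ x : ↥(Cfsg.Lie.twistedF4 K (2 ^ m)), W (orderOf x)) : False := by
  set! B : ℤ := 2 ^ m with hB
  have key : ∀ {F : ℤ → ℤ} {E : ℕ}, (∀ {r : ℕ}, (r : ℤ) ∣ F (2 ^ m) →
      ∃ x : ↥(Cfsg.Lie.twistedF4 K (2 ^ m)), orderOf x = r) → (E : ℤ) ∣ F B → W E := by
    intro F E h1 h2
    obtain ⟨x, hx⟩ := h1 h2
    rw [← hx]
    exact hlo x
  have w1 : ∀ {E : ℕ}, (E : ℤ) ∣ f1 B → W E := key (exists_order hK chainA_ok hThA certA_f1)
  have w2 : ∀ {E : ℕ}, (E : ℤ) ∣ f2 B → W E := key (exists_order hK chainA_ok hThA certA_f2)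
  have w3 : ∀ {E : ℕ}, (E : ℤ) ∣ fp B → W E := key (exists_order hK chainB_ok hThB certB_fp)
  have w4 : ∀ {E : ℕ}, (E : ℤ) ∣ fm B → W E := key (exists_order hK chainC_ok hThC certC_fm)
  have w5 : ∀ {E : ℕ}, (E : ℤ) ∣ f6 B → W E := key (exists_order hK chainD_ok hThD certD_f6)
  have w6 : ∀ {E : ℕ}, (E : ℤ) ∣ fP B → W E := key (exists_order hK chainEp_ok hThEp certEp_fP)
  have w7 : ∀ {E : ℕ}, (E : ℤ) ∣ fM B → W E := key (exists_order hK chainEm_ok hThEm certEm_fM)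
  have hdv : ∀ {z : ℤ}, (∀ {E : ℕ}, (E : ℤ) ∣ z → W E) → z ∣ PI p s := by
    intro z hz
    have h1 : W z.natAbs := hz (Int.natAbs_dvd.mpr dvd_rfl)
    exact Int.natAbs_dvd.mp (h.dvd_PI h1)
  have hu2 : 2 ≤ 2 ^ (2 * m + 1) := Nat.le_self_pow (by omega) 2
  obtain ⟨u, hu⟩ : ∃ u : ℕ, u = 2 ^ (2 * m + 1) := ⟨_, rfl⟩
  have huB : (u : ℤ) = 2 * B ^ 2 := by
    rw [hu, hB]
    push_cast
    ring
  obtain ⟨x, hx⟩ := hup M h.elt
  have hbd := tf4_bound hm hK x (by rw [hx]; exact h.n.M_oddE)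
  rw [hx, ← hu] at hbd
  rcases Nat.lt_or_ge m 2 with hm2 | hm2
  · have hm1 : m = 1 := by omega
    have hB2 : B = 2 := by rw [hB, hm1]; norm_num
    have hu8 : u = 8 := by rw [hu, hm1]; norm_num
    have hM : M ≤ 256 := by
      have h1 : Real.sqrt (u : ℕ) ≤ 3 := by
        rw [hu8]
        rw [show (3 : ℝ) = Real.sqrt (3 ^ 2) by rw [Real.sqrt_sq (by norm_num)]]
        exact Real.sqrt_le_sqrt (by norm_num)
      have h2 : (M : ℝ) ≤ (3 + 1) ^ 4 := hbd.trans (by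
        have := Real.sqrt_nonneg ((u : ℕ) : ℝ)
        gcongr)
      have h3 : (M : ℝ) ≤ 256 := h2.trans (by norm_num)
      exact_mod_cast h3
    have hq : q ≤ 6 := by
      by_contra hcon
      have k1 := h.n.M_lo
      have k2 : 7 ^ 4 ≤ q ^ 4 := Nat.pow_le_pow_left (by omega) 4
      omega
    have hvp : 2 ≠ p := fun h0 => h.n.hp2 h0.symm
    have hc := h.chkQ_false hq (by norm_num) hvp (low := lowTF4) (hit := [0]) (by
      intro E hE
      simp only [lowTF4, List.mem_cons, List.not_mem_nil, or_false] at hE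
      rcases hE with rfl | rfl | rfl | rfl | rfl | rfl | rfl
      · exact w1 (by rw [hB2]; unfold f1; norm_num)
      · exact w2 (by rw [hB2]; unfold f2; norm_num)
      · exact w3 (by rw [hB2]; unfold fp; norm_num)
      · exact w4 (by rw [hB2]; unfold fm; norm_num)
      · exact w5 (by rw [hB2]; unfold f6; norm_num)
      · exact w6 (by rw [hB2]; unfold fP; norm_num)
      · exact w7 (by rw [hB2]; unfold fM; norm_num)) ⟨0, List.mem_singleton.mpr rfl, dvd_zero M⟩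
    rw [chkTF4] at hc
    exact Bool.noConfusion hc
  · have hu32 : 32 ≤ u := by
      rw [hu]
      calc 32 = 2 ^ 5 := by norm_num
        _ ≤ 2 ^ (2 * m + 1) := Nat.pow_le_pow_right (by norm_num) (by omega)
    have hB3 : B % 3 = 1 ∨ B % 3 = 2 := by
      have h1 : ¬ (3 : ℤ) ∣ B := by
        rw [hB]
        intro h2
        have h4 : 3 ∣ 2 ^ m := by exact_mod_cast h2
        have h3 := Nat.prime_three.dvd_of_dvd_pow h4
        omega
      omega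
    have hX := tf4_dvd B hB3 (hdv w1) (hdv w2) (hdv w3) (hdv w4) (hdv w5) (hdv w6) (hdv w7) huB
    have hM : 100 * M ≤ 193 * u ^ 2 := by
      have hs0 := Real.sqrt_nonneg ((u : ℕ) : ℝ)
      have hs1 : Real.sqrt ((u : ℕ) : ℝ) * Real.sqrt ((u : ℕ) : ℝ) = u := Real.mul_self_sqrt (by positivity)
      have hur : (32 : ℝ) ≤ u := by exact_mod_cast hu32
      set y := Real.sqrt ((u : ℕ) : ℝ) with hy
      have hy1 : 28 / 5 ≤ y := by
        by_contra hcon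
        have : y < 28 / 5 := not_le.mp hcon
        nlinarith only [hur, hs0, hs1, hcon]
      have h1 : (y + 1) ^ 2 ≤ 1389 / 1000 * u := by nlinarith only [hur, hs1]
      have h2 : (y + 1) ^ 4 ≤ (1389 / 1000 * u) ^ 2 := by
        calc (y + 1) ^ 4 = ((y + 1) ^ 2) ^ 2 := by ring
          _ ≤ _ := by gcongr
      have h3 : (100 : ℝ) * M ≤ 193 * u ^ 2 := by
        have := hbd.trans h2
        linarith only [hbd, h2, sq_nonneg (u : ℝ)]
      exact_mod_cast h3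
    have huz : (32 : ℤ) ≤ u := by exact_mod_cast hu32
    obtain ⟨X, hXe⟩ : ∃ X : ℕ, (X : ℤ) = ((u : ℤ) ^ 4 - 1) * (u ^ 4 - u ^ 2 + 1) * (u ^ 2 - u + 1) := by
      refine ⟨(((u : ℤ) ^ 4 - 1) * (u ^ 4 - u ^ 2 + 1) * (u ^ 2 - u + 1)).toNat, ?_⟩
      rw [Int.toNat_of_nonneg]
      have h1 : (0 : ℤ) ≤ (u : ℤ) ^ 4 - 1 := by
        have : (0 : ℤ) < (u : ℤ) ^ 4 := by positivity
        linarith only [this]
      have h2 : (0 : ℤ) ≤ (u : ℤ) ^ 4 - u ^ 2 + 1 := by linarith only [sq_nonneg ((u : ℤ) ^ 2 - 1), sq_nonneg ((u : ℤ))]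
      have h3 : (0 : ℤ) ≤ (u : ℤ) ^ 2 - u + 1 := by nlinarith only []
      (clear * - h1 h2 h3; positivity)
    have hX' : (X : ℤ) ∣ (6 : ℕ) * PI p s := by
      rw [hXe]
      exact hX
    refine h.n.killE (by norm_num) hX' (a1 := 100) (a2 := 96) (b1 := 100) (b2 := 193) (d := 10) (e := 2) (r := 14)
      (u := u) (by omega) ?_ hM (by norm_num) ?_
    · have key : (96 : ℤ) * u ^ 10 ≤ 100 * X := by
        rw [hXe]
        have k1 : (1023 : ℤ) * u ^ 2 ≤ 1024 * (u ^ 2 - 1) := by nlinarith only [hu32]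
        have k2 : (31 : ℤ) * u ^ 2 ≤ 32 * (u ^ 2 - u + 1) := by nlinarith only [k1]
        have k0 : (0 : ℤ) ≤ (u : ℤ) ^ 10 := by positivity
        have k3 : (1023 * 31 : ℤ) * u ^ 10 ≤
            1024 * 32 * (((u : ℤ) ^ 4 - 1) * (u ^ 4 - u ^ 2 + 1) * (u ^ 2 - u + 1)) := by
          calc (1023 * 31 : ℤ) * u ^ 10 = (u : ℤ) ^ 6 * (1023 * u ^ 2) * (31 * u ^ 2) := by ring
            _ ≤ ((u : ℤ) ^ 6 + 1) * (1024 * (u ^ 2 - 1)) * (32 * (u ^ 2 - u + 1)) := by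
              have k4 : (u : ℤ) ^ 6 ≤ u ^ 6 + 1 := by linarith only []
              have k5 : (0 : ℤ) ≤ 1024 * ((u : ℤ) ^ 2 - 1) := le_trans (by positivity) k1
              gcongr
            _ = 1024 * 32 * (((u : ℤ) ^ 4 - 1) * (u ^ 4 - u ^ 2 + 1) * (u ^ 2 - u + 1)) := by ring
        linarith only [hXe, k3]
      exact_mod_cast key
    · have k1 : 32 ^ 14 ≤ u ^ 14 := Nat.pow_le_pow_left hu32 14
      calc 100 ^ 4 * 6 ^ 4 * (50 ^ 4 * 45 ^ 9) * 193 ^ 13 < 81 * 8 ^ 9 * 96 ^ 4 * 100 ^ 13 * 32 ^ 14 := by norm_num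
        _ ≤ 81 * 8 ^ 9 * 96 ^ 4 * 100 ^ 13 * u ^ 14 := Nat.mul_le_mul_left _ k1

end Num

end Cfsg.Agent.R2.Spec.X7.N6
end

-- part: R2/Spec/X7/N6/ENot
section
/-!
# Box X7, `n = 6`, packet N6-E (helper9): `S` is not exceptional

`not_exc` : no exceptional group over a field of characteristic `v ≠ p` is a section as in `Sec`.
-/

set_option autoImplicit false
set_option maxHeartbeats 1000000

namespace Cfsg.Agent.R2.Spec.X7.N6

open Cfsg Cfsg.Agent.H426.LieFam Cfsg.Agent.R2.Spec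

variable {p q : ℕ} {s : ℤ} {c c5 M : ℕ}

theorem not_g2' {S : Type*} [Group S] [Finite S] (hS : Sec p q s c c5 M S) {v f : ℕ} (hI : Fam.Is v f S Fam.g2)
    (hv : v.Prime) (hvp : v ≠ p) : False := by
  obtain ⟨h3, F, _, _, _, hcard, ⟨e⟩⟩ := hI
  exact not_g2 hS ((Cfsg.Agent.R2.Spec.X4.H18.g2Dat hv hcard h3).congr e) hvp

theorem not_tf4 {S : Type*} [Group S] [Finite S] (hS : Sec p q s c c5 M S) {v f : ℕ} (hI : Fam.Is v f S Fam.tf4) :
    False := by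
  obtain ⟨-, m, hm, -, K, _, _, hK, ⟨e⟩⟩ := hI
  refine not_tf4D hm hK hS.sw ?_ ?_
  · rintro E ⟨x, rfl⟩
    exact ⟨e x, orderOf_injective e.toMonoidHom e.injective x⟩
  · intro x
    exact ⟨e.symm x, orderOf_injective e.symm.toMonoidHom e.symm.injective x⟩

/-- **N6-E**: the section is not exceptional. -/
theorem not_exc {S : Type*} [Group S] [Finite S] (h : Sec p q s c c5 M S) {v f : ℕ} {t : Fam} (hv : v.Prime)
    (hvp : v ≠ p) (ht : F1.Exc t) (hI : Fam.Is v f S t) : False := by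
  cases t with
  | g2 => exact not_g2' h hI hv hvp
  | f4 => exact not_f4 h hI hv hvp
  | e6 => exact not_e6 h hI hv hvp
  | te6 => exact not_te6 h hI hv hvp
  | td4 => exact not_td4 h hI hv hvp
  | tf4 => exact not_tf4 h hI
  | e7 => exact not_e7 h hI hv hvp
  | e8 => exact not_e8 h hI hv
  | sz => exact not_sz h hI
  | ree => exact not_ree h hI hvp
  | psl n => exact ht.elim
  | psp n => exact ht.elim
  | psu n => exact ht.elim
  | oodd n => exact ht.elim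
  | oplus n => exact ht.elim
  | ominus n => exact ht.elim

end Cfsg.Agent.R2.Spec.X7.N6
end

private theorem dce_3bf5b1e60822 : _root_.True := by
  try have : _root_.True := by simp only [_root_.Cfsg.Agent.R2.Spec.X7.N6.lowF4.eq_1]
  try have : _root_.True := by simp only [_root_.Cfsg.Agent.R2.Spec.X7.N6.lowG2.eq_1]
  try have : _root_.True := by simp only [_root_.Cfsg.Agent.R2.Spec.X7.N6.lowTF4.eq_1]
  try have : _root_.True := by simp only [_root_.Cfsg.Agent.R2.Spec.X7.N6.Cy.cy9.eq_1]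
  try have : _root_.True := by simp only [_root_.Cfsg.Agent.R2.Spec.X7.N6.Cy.cy12.eq_1]
  try have : _root_.True := by simp only [_root_.Cfsg.Agent.R2.Spec.X7.N6.Cy.cy18.eq_1]
  try have : _root_.True := by simp only [_root_.Cfsg.Agent.R2.Spec.X7.N6.lowSz.eq_1]
  try have : _root_.True := by simp only [_root_.Cfsg.Agent.R2.Spec.X7.N6.Cy.cy14.eq_1]
  try have : _root_.True := by simp only [_root_.Cfsg.Agent.R2.Spec.X7.N6.Cy.cy7.eq_1]
  try have : _root_.True := by simp only [_root_.Cfsg.Agent.R2.Spec.X7.N6.lowD4.eq_1]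
  try have : _root_.True := by simp only [_root_.Cfsg.Agent.R2.Spec.X7.N6.lowX.eq_1]
  try have : _root_.True := by simp only [_root_.Cfsg.Agent.R2.Spec.X7.N6.Cy.cy10.eq_1]
  try have : _root_.True := by simp only [_root_.Cfsg.Agent.R2.Spec.X7.N6.lowRee.eq_1]
  try have : _root_.True := by simp only [_root_.Cfsg.Agent.R2.Spec.X7.N6.Cy.cy5.eq_1]
  try have : _root_.True := by simp only [_root_.Cfsg.Agent.R2.Spec.X7.N6.Cy.cy8.eq_1]
  exact _root_.True.intro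
end

-- part: R2/Spec/X4/H18/TF4
section
prune_inst 0x4200060043400000000000010000000006000010000000001208008020101420080000000028000080844100010000000000000400000000000003000000300208000000000400104460007801000400000000000000000000000000000000000000000000
set_option linter.all false
open scoped Cfsg.Agent.FastGrp

-- part: R2/Spec/X4/H18/TF4Dat
section
/-!
# `²F₄(2b²)` : the facts (helper18)
-/

set_option autoImplicit false
set_option linter.unusedVariables false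

namespace Cfsg.Agent.R2.Spec.X4.H18

open Cfsg Cfsg.Agent.H426.LieFam Cfsg.Agent.H493.PGF4T

universe u

/-- `t₊` at `b`, `t₋` at `-b` -/
def t4 (X : ℤ) : ℤ := 4 * X ^ 4 + 4 * X ^ 3 + 2 * X ^ 2 + 2 * X + 1

/-- `Q ± √(2Q) + 1` -/
def t2 (X : ℤ) : ℤ := 2 * X ^ 2 + 2 * X + 1

/-- `Q² - Q + 1` -/
def t6 (X : ℤ) : ℤ := 4 * X ^ 4 - 2 * X ^ 2 + 1

/-- the facts about `²F₄(2b²)` -/
structure TF4Dat (b : ℕ) (S : Type*) [Group S] : Prop where
  hb : ∃ a, 1 ≤ a ∧ b = 2 ^ a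
  near : ∀ r : ℕ, r.Prime → r ≠ 2 → r ∣ Nat.card S → (¬ ∃ x : S, orderOf x = 2 * r) →
    ¬ (r : ℤ) ∣ 2 * (b : ℤ) ^ 2 - 1 ∧ ¬ (r : ℤ) ∣ 2 * (b : ℤ) ^ 2 + 1 ∧ ¬ (r : ℤ) ∣ t2 b ∧ ¬ (r : ℤ) ∣ t2 (-b)
  cc : ∀ X : ℤ, X = b ∨ X = -b → ∀ (x : S) (r : ℕ), r.Prime → r ∣ orderOf x → (r : ℤ) ∣ t4 X →
    ((orderOf x : ℕ) : ℤ) ∣ t4 X
  om : ∀ x : S, ∃ e m : ℕ, orderOf x = 2 ^ e * m ∧
    ((m : ℤ) ∣ (2 * (b : ℤ) ^ 2) ^ 4 - (2 * (b : ℤ) ^ 2) ^ 2 + 1 ∨ (m : ℤ) ∣ (2 * (b : ℤ) ^ 2) ^ 4 + 1 ∨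
      (m : ℤ) ∣ (2 * (b : ℤ) ^ 2) ^ 4 - 1 ∨ (m : ℤ) ∣ ((2 * (b : ℤ) ^ 2) ^ 3 - 1) * ((2 * (b : ℤ) ^ 2) + 1) ∨
      (m : ℤ) ∣ ((2 * (b : ℤ) ^ 2) ^ 3 + 1) * ((2 * (b : ℤ) ^ 2) - 1))
  ex4 : ∀ X : ℤ, X = b ∨ X = -b → ∃ x : S, ((orderOf x : ℕ) : ℤ) = t4 X
  ex6 : ∃ x : S, ((orderOf x : ℕ) : ℤ) = t6 b
  ex1p : ∀ X : ℤ, X = b ∨ X = -b → ∃ x : S, ((orderOf x : ℕ) : ℤ) = (2 * X ^ 2 - 1) * t2 X
  ex12 : ∃ x : S, ((orderOf x : ℕ) : ℤ) = (2 * (b : ℤ) ^ 2 - 1) * (2 * (b : ℤ) ^ 2 + 1)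
  card : ((Nat.card S : ℕ) : ℤ) = (2 * (b : ℤ) ^ 2) ^ 12 * ((2 * (b : ℤ) ^ 2 - 1) * ((2 * (b : ℤ) ^ 2) ^ 3 + 1) *
    ((2 * (b : ℤ) ^ 2) ^ 4 - 1) * ((2 * (b : ℤ) ^ 2) ^ 6 + 1))

theorem TF4Dat.congr {b : ℕ} {S Y : Type*} [Group S] [Group Y] (e : S ≃* Y) (h : TF4Dat b Y) : TF4Dat b S := by
  have key : ∀ {n : ℤ}, (∃ x : Y, ((orderOf x : ℕ) : ℤ) = n) → ∃ x : S, ((orderOf x : ℕ) : ℤ) = n := by
    rintro n ⟨x, hx⟩
    exact ⟨e.symm x, by rw [MulEquiv.orderOf_eq]; exact hx⟩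
  refine ⟨h.hb, ?_, ?_, ?_, fun X hX => key (h.ex4 X hX), key h.ex6, fun X hX => key (h.ex1p X hX), key h.ex12, ?_⟩
  · intro r hr h2 hd hn
    rw [Nat.card_congr e.toEquiv] at hd
    refine h.near r hr h2 hd fun ⟨x, hx⟩ => hn ⟨e.symm x, by rw [MulEquiv.orderOf_eq]; exact hx⟩
  · intro X hX x r hr hrx hd
    rw [← MulEquiv.orderOf_eq e] at hrx ⊢
    exact h.cc X hX (e x) r hr hrx hd
  · intro x
    rw [← MulEquiv.orderOf_eq e]
    exact h.om (e x)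
  · rw [Nat.card_congr e.toEquiv]
    exact h.card

theorem tf4Dat {K : Type u} [Field K] [Fintype K] {a b : ℕ} (ha : 1 ≤ a) (hK : Fintype.card K = 2 ^ (2 * a + 1))
    (hb : b = 2 ^ a) : TF4Dat b ↥(Lie.twistedF4 K (2 ^ a)) := by
  have := Fact.mk Nat.prime_two
  have hchar : CharP K 2 := Cfsg.Agent.ChevalleyStructure.TwF4.Twisted.charP_two hK
  obtain ⟨P, N, D⟩ := H541.PRegTF4.exists_par ha
  have hcard := S1068.result hK
  have hcard' : Nat.card ↥(Lie.twistedF4 K (2 ^ a)) = (2 ^ (2 * a + 1)) ^ 12 * ((2 ^ (2 * a + 1) - 1) *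
      ((2 ^ (2 * a + 1)) ^ 3 + 1) * ((2 ^ (2 * a + 1)) ^ 4 - 1) * ((2 ^ (2 * a + 1)) ^ 6 + 1)) := by
    rw [hcard]; ring
  obtain ⟨hIP, hIN⟩ := H541.PRegTF4.tor hK rfl D hcard'
  have C := H541.PRegTF4.ccdat hK rfl D
  have hbZ : (2 : ℤ) ^ a = (b : ℤ) := by rw [hb]; push_cast; rfl
  have hb2 : 2 ≤ b := by
    rw [hb]
    calc 2 = 2 ^ 1 := by norm_num
      _ ≤ 2 ^ a := Nat.pow_le_pow_right (by norm_num) ha
  have hb2Z : (2 : ℤ) ≤ b := by exact_mod_cast hb2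
  have hPeq : (P : ℤ) = fP b := by rw [hb]; exact D.P_eq
  have hNeq : (N : ℤ) = fM b := by rw [hb]; exact D.N_eq
  -- the small orders
  obtain ⟨n1, hn1⟩ : ∃ n : ℕ, (n : ℤ) = f1 b := ⟨(f1 b).toNat, Int.toNat_of_nonneg (by unfold f1; nlinarith only [hb2])⟩
  obtain ⟨n2, hn2⟩ : ∃ n : ℕ, (n : ℤ) = f2 b := ⟨(f2 b).toNat, Int.toNat_of_nonneg (by unfold f2; positivity)⟩
  obtain ⟨np, hnp⟩ : ∃ n : ℕ, (n : ℤ) = fp b := ⟨(fp b).toNat, Int.toNat_of_nonneg (by unfold fp; (clear * - hb2; positivity))⟩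
  obtain ⟨nm, hnm⟩ : ∃ n : ℕ, (n : ℤ) = fm b := ⟨(fm b).toNat, Int.toNat_of_nonneg (by unfold fm; nlinarith only [])⟩
  have h1pos : 0 < n1 := by
    have : (0 : ℤ) < n1 := by rw [hn1]; unfold f1; nlinarith only [hb2]
    exact_mod_cast this
  have h2pos : 0 < n2 := by
    have : (0 : ℤ) < n2 := by rw [hn2]; unfold f2; positivity
    exact_mod_cast this
  have hppos : 0 < np := by
    have : (0 : ℤ) < np := by rw [hnp]; unfold fp; (clear * - hb2; positivity)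
    exact_mod_cast this
  have hmpos : 0 < nm := by
    have : (0 : ℤ) < nm := by rw [hnm]; unfold fm; nlinarith only []
    exact_mod_cast this
  have hodd1 : n1 % 2 = 1 := by
    have h1 : (n1 : ℤ) = 2 * (b : ℤ) ^ 2 - 1 := hn1
    omega
  have hcop : ∀ {y z : ℕ}, y % 2 = 1 → (∀ r : ℕ, r.Prime → r ≠ 2 → (r : ℤ) ∣ y → (r : ℤ) ∣ z → False) →
      y.Coprime z := by
    intro y z hy hyz
    refine Nat.coprime_of_dvd fun r hr h1 h2 => ?_
    by_cases hr2 : r = 2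
    · subst hr2; omega
    · exact hyz r hr hr2 (Int.natCast_dvd_natCast.2 h1) (Int.natCast_dvd_natCast.2 h2)
  have hpr : ∀ {r : ℕ}, r.Prime → r ≠ 2 → ∀ {z : ℤ}, (r : ℤ) ∣ 2 * z → (r : ℤ) ∣ z := by
    intro r hr hr2 z hz
    have hr' := Nat.prime_iff_prime_int.1 hr
    rcases hr'.dvd_or_dvd hz with h1 | h1
    · exfalso
      have h3 : r ∣ 2 := by exact_mod_cast h1
      exact hr2 ((Nat.prime_dvd_prime_iff_eq hr Nat.prime_two).1 h3)
    · exact h1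
  have hone : ∀ {r : ℕ}, r.Prime → ¬ (r : ℤ) ∣ 1 := fun {r} hr h1 =>
    hr.one_lt.ne' (Nat.dvd_one.1 (by exact_mod_cast h1))
  have hc12 : n1.Coprime n2 := hcop hodd1 fun r hr hr2 h1 h2 => by
    rw [hn1] at h1
    rw [hn2] at h2
    have h3 : (r : ℤ) ∣ 2 * 1 := by
      have := dvd_sub h2 h1
      have e : f2 (b : ℤ) - f1 b = 2 * 1 := by unfold f1 f2; ring
      rwa [e] at this
    exact hone hr (hpr hr hr2 h3)
  have hc1p : n1.Coprime np := hcop hodd1 fun r hr hr2 h1 h2 => by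
    rw [hn1] at h1
    rw [hnp] at h2
    have h3 : (r : ℤ) ∣ 2 * (b + 1) := by
      have := dvd_sub h2 h1
      have e : fp (b : ℤ) - f1 b = 2 * (b + 1) := by unfold f1 fp; ring
      rwa [e] at this
    have h4 := hpr hr hr2 h3
    have h5 : (r : ℤ) ∣ 1 := by
      have e : (1 : ℤ) = f1 b - (b + 1) * (2 * (b - 1)) := by unfold f1; ring
      rw [e]
      exact dvd_sub h1 (h4.mul_right _)
    exact hone hr h5
  have hc1m : n1.Coprime nm := hcop hodd1 fun r hr hr2 h1 h2 => by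
    rw [hn1] at h1
    rw [hnm] at h2
    have h3 : (r : ℤ) ∣ 2 * (b - 1) := by
      have := dvd_sub h1 h2
      have e : f1 (b : ℤ) - fm b = 2 * (b - 1) := by unfold f1 fm; ring
      rwa [e] at this
    have h4 := hpr hr hr2 h3
    have h5 : (r : ℤ) ∣ 1 := by
      have e : (1 : ℤ) = f1 b - (b - 1) * (2 * (b + 1)) := by unfold f1; ring
      rw [e]
      exact dvd_sub h1 (h4.mul_right _)
    exact hone hr h5
  have hcK := H378.TwRowsF.cast_card hK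
  rw [hbZ] at hcK
  refine ⟨⟨a, ha, hb⟩, ?_, ?_, ?_, ?_, ?_, ?_, ?_, ?_⟩
  · intro r hr hr2 hd hn
    have hna : ¬ Cfsg.Agent.H94.PG.Adj ↥(Lie.twistedF4 K (2 ^ a)) r 2 := by
      rintro ⟨-, -, -, x, y, hx, hy, hxy⟩
      apply hn
      refine ⟨y * x, ?_⟩
      rw [hxy.symm.orderOf_mul_eq_mul_orderOf_of_coprime (by
        rw [hx, hy]
        exact (Nat.coprime_primes Nat.prime_two hr).2 (Ne.symm hr2)), hx, hy]
    have to_nat : ∀ {n : ℕ} {z : ℤ}, (r : ℤ) ∣ z → z ∣ (n : ℤ) → r ∣ n := fun h1 h2 =>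
      Int.natCast_dvd_natCast.1 (h1.trans h2)
    refine ⟨fun h1 => hna (H378.TwRowsF.adj_minus hK hr hr2 ?_), fun h1 => ?_, fun h1 => ?_, fun h1 => ?_⟩
    · rw [hbZ]
      exact h1
    · refine hna (H378.TwRowsF.adj_plus hK hr hr2 (to_nat h1 ?_))
      push_cast
      rw [hcK]
      exact ⟨1, by ring⟩
    · refine hna (H378.TwRowsF.adj_sq hK hr hr2 (to_nat h1 ?_))
      push_cast
      rw [hcK]
      exact ⟨fm b, by unfold t2 fm; ring⟩
    · refine hna (H378.TwRowsF.adj_sq hK hr hr2 (to_nat h1 ?_))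
      push_cast
      rw [hcK]
      exact ⟨fp b, by unfold t2 fp; ring⟩
  · rintro X hX x r hr hrx hd
    rcases hX with rfl | rfl
    · have e : t4 (b : ℤ) = (P : ℤ) := by rw [hPeq]; rfl
      rw [e] at hd ⊢
      exact Int.natCast_dvd_natCast.2 (H352.UF.tor_dvd C (dvd_mul_right P N) hIP hr hrx (Int.natCast_dvd_natCast.1 hd))
    · have e : t4 (-(b : ℤ)) = (N : ℤ) := by rw [hNeq]; unfold t4 fM; ring
      rw [e] at hd ⊢
      exact Int.natCast_dvd_natCast.2 (H352.UF.tor_dvd C (dvd_mul_left N P) hIN hr hrx (Int.natCast_dvd_natCast.1 hd))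
  · intro x
    have hle : Lie.twistedF4 K (2 ^ a) ≤ Lie.chevF4.group K :=
      H378.TwRowsF.genSubgroup_le_group Cfsg.Agent.BpExc.RowsUntw.f4T.inList _
    let ι : ↥(Lie.twistedF4 K (2 ^ a)) →* ↥(Lie.chevF4.group K) := Subgroup.inclusion hle
    have hι : Function.Injective ι := Subgroup.inclusion_injective _
    obtain ⟨e, n, O⟩ := H378.OmF4.om_F4 (p := 2) (q := Nat.card K) rfl (ι x)
    rw [orderOf_injective ι hι] at O
    refine ⟨e, n, O.eq, ?_⟩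
    rw [← hcK]
    have hK2 : 2 ≤ Nat.card K := Finite.one_lt_card
    generalize Nat.card K = Q at *
    have h2 : 1 ≤ Q ^ 2 := Nat.one_le_pow _ _ (by omega)
    have h3 : 1 ≤ Q ^ 3 := Nat.one_le_pow _ _ (by omega)
    have h4 : 1 ≤ Q ^ 4 := Nat.one_le_pow _ _ (by omega)
    have h24 : Q ^ 2 ≤ Q ^ 4 := Nat.pow_le_pow_right (by omega) (by norm_num)
    have key : ∀ {P : ℕ} {A B : ℤ}, n ∣ P → ((P : ℕ) : ℤ) = A → A ∣ B → (n : ℤ) ∣ B := by
      rintro P A B h rfl e1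
      exact (Int.natCast_dvd_natCast.2 h).trans e1
    by_cases he : e = 0
    · rcases O.s0 with h0 | h0 | h0 | h0 | h0
      · exact Or.inl (key h0 (by push_cast [h24]; rfl) dvd_rfl)
      · exact Or.inr (Or.inl (key h0 (by push_cast; rfl) dvd_rfl))
      · exact Or.inr (Or.inr (Or.inl (key h0 (by push_cast [h4]; rfl) dvd_rfl)))
      · exact Or.inr (Or.inr (Or.inr (Or.inl (key h0 (by push_cast [h3]; rfl) dvd_rfl))))
      · exact Or.inr (Or.inr (Or.inr (Or.inr (key h0 (by push_cast [show 1 ≤ Q by omega]; rfl) dvd_rfl))))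
    · rcases O.s1 he with h0 | h0 | h0 | h0 | h0
      · exact Or.inr (Or.inr (Or.inr (Or.inl (key h0 (by push_cast [h3]; rfl) (dvd_mul_right _ _)))))
      · exact Or.inr (Or.inr (Or.inr (Or.inr (key h0 (by push_cast; rfl) (dvd_mul_right _ _)))))
      · exact Or.inr (Or.inr (Or.inl (key h0 (by push_cast [show 1 ≤ Q by omega]; rfl) ⟨Q + 1, by ring⟩)))
      · exact Or.inr (Or.inr (Or.inl (key h0 (by push_cast; rfl) ⟨Q - 1, by ring⟩)))
      · exact Or.inr (Or.inr (Or.inl (key h0 (by push_cast [h2]; rfl) ⟨(Q : ℤ) ^ 2 + 1, by ring⟩)))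
  · rintro X (rfl | rfl)
    · obtain ⟨x, hx⟩ := H360.Iso.f4t_plus hK hb
      exact ⟨x, by rw [hx]; unfold t4; push_cast; ring⟩
    · obtain ⟨x, hx⟩ := H360.Iso.f4t_minus hK hb (N := N) (by
        have : (N : ℤ) + 4 * (b : ℤ) ^ 3 + 2 * b = 4 * b ^ 4 + 2 * b ^ 2 + 1 := by rw [hNeq]; unfold fM; ring
        exact_mod_cast this)
      exact ⟨x, by rw [hx, hNeq]; unfold t4 fM; ring⟩
  · obtain ⟨n6, hn6⟩ : ∃ n : ℕ, (n : ℤ) = f6 b := ⟨(f6 b).toNat, Int.toNat_of_nonneg (by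
      unfold f6; linarith only [sq_nonneg ((b : ℤ) ^ 2 - 1), sq_nonneg ((b : ℤ) ^ 2)])⟩
    obtain ⟨x, hx⟩ := H437.Iso.f4t_order6 hK hb (N := n6) (by rw [hn6]; rfl)
    exact ⟨x, by rw [hx, hn6]; rfl⟩
  · rintro X (rfl | rfl)
    · obtain ⟨x, hx⟩ := H352.UF.exists_cert_nat hK chainB_ok hThB certB_f1 certB_fp h1pos hppos (by rw [hbZ, hn1])
        (by rw [hbZ, hnp]) hc1p
      exact ⟨x, by rw [hx, Nat.cast_mul, hn1, hnp]; rfl⟩
    · obtain ⟨x, hx⟩ := H352.UF.exists_cert_nat hK chainC_ok hThC certC_f1 certC_fm h1pos hmpos (by rw [hbZ, hn1])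
        (by rw [hbZ, hnm]) hc1m
      exact ⟨x, by rw [hx, Nat.cast_mul, hn1, hnm]; unfold f1 fm t2; ring⟩
  · obtain ⟨x, hx⟩ := H352.UF.exists_cert_nat hK chainA_ok hThA certA_f1 certA_f2 h1pos h2pos (by rw [hbZ, hn1])
      (by rw [hbZ, hn2]) hc12
    exact ⟨x, by rw [hx, Nat.cast_mul, hn1, hn2]; rfl⟩
  · have hbb : ((2 ^ (2 * a + 1) : ℕ) : ℤ) = 2 * (b : ℤ) ^ 2 := by
      push_cast
      rw [← hbZ, ← pow_mul]
      ring
    have k1 : 1 ≤ 2 ^ (2 * a + 1) := Nat.one_le_two_pow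
    have k4 : 1 ≤ (2 ^ (2 * a + 1)) ^ 4 := Nat.one_le_pow _ _ k1
    rw [hcard', ← hbb]
    generalize 2 ^ (2 * a + 1) = Q at *
    push_cast [k1, k4]
    ring

end Cfsg.Agent.R2.Spec.X4.H18
end

-- part: R2/Spec/X4/H18/TF4
section
/-!
# Box X4 of S3435 : row `²F₄(2b²)` (helper18)
-/

set_option autoImplicit false
set_option linter.unusedVariables false
set_option linter.unusedSimpArgs false
set_option linter.unnecessarySeqFocus false

namespace Cfsg.Agent.R2.Spec.X4.H18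

open Cfsg Cfsg.Agent.H426.LieFam

universe u

section

variable {p q k A k' B m i : ℕ} {W : ℕ → Prop} {S : Type u} [Group S] {b : ℕ}

/-- the parity argument -/
theorem par_kill (h : LW p q k A k' B W) {T D c : ℕ} {α β κ : ℤ} (hc : A = c * T) (hD : D ∣ B) (hκ : 0 ≤ κ)
    (hpar : (κ + α) % 2 = 1) (hid : α * T + β * D = κ) (h2 : c * κ + |α| < D) : False := by
  have hAo := h.side.A_odd
  have hco : c % 2 = 1 := by
    by_contra hcon
    have h2 : c % 2 = 0 := by omega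
    rw [hc, Nat.mul_mod, h2, zero_mul] at hAo
    simp at hAo
  obtain ⟨d, hd⟩ : ∃ d : ℤ, (c : ℤ) = 2 * d + 1 := ⟨(c : ℤ) / 2, by omega⟩
  rcases kill_eq h hc hD hκ (α := α) ⟨-β, by linear_combination hid⟩ h2 with ⟨-, h3⟩ | ⟨-, h3⟩
  · rw [hd] at h3
    have : κ + α = 2 * (d * κ + κ) := by linear_combination -h3
    omega
  · rw [hd] at h3
    have : κ + α = 2 * (-(d * κ)) := by linear_combination h3
    omega

theorem k'_le (h : LW p q k A k' B W) : k' ≤ 4 * k := by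
  have h1 := (h.side.k_le h.q2).2
  have h2 := (h.side.k_ge h.q2).1
  have hq := h.q7
  have hqq : q ≤ q ^ 2 := Nat.le_self_pow two_ne_zero q
  obtain ⟨t, rfl⟩ : ∃ t, q = t + 7 := ⟨q - 7, by omega⟩
  have h3 : 3 * (t + 7) ^ 2 + 3 * (t + 7) + 3 + 4 * (t + 7) ≤ 4 * (t + 7) ^ 2 + 4 := by nlinarith only []
  omega

theorem TF4Dat.even (D : TF4Dat b S) : (b : ℤ) % 2 = 0 := by
  obtain ⟨a, ha, rfl⟩ := D.hb
  have : 2 ∣ 2 ^ a := dvd_pow_self 2 (by omega)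
  omega

theorem TF4Dat.three (D : TF4Dat b S) : (b : ℤ) ^ 2 % 3 = 1 := by
  obtain ⟨a, ha, rfl⟩ := D.hb
  have h : (2 ^ a) ^ 2 % 3 = 1 := by rw [← pow_mul, mul_comm, pow_mul, Nat.pow_mod]; norm_num
  have : (((2 ^ a) ^ 2 % 3 : ℕ) : ℤ) = 1 := by rw [h]; rfl
  push_cast at this ⊢
  exact this

theorem TF4Dat.not_b (D : TF4Dat b S) {r : ℕ} (hr : r.Prime) (h2 : r ≠ 2) : ¬ (r : ℤ) ∣ 2 * (b : ℤ) ^ 2 := by
  obtain ⟨a, ha, rfl⟩ := D.hb
  intro h
  have h1 : r ∣ 2 * (2 ^ a) ^ 2 := by exact_mod_cast h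
  rw [← pow_mul, ← pow_succ'] at h1
  exact h2 ((Nat.prime_dvd_prime_iff_eq hr Nat.prime_two).1 (hr.dvd_of_dvd_pow h1))

theorem TF4Dat.b48 (D : TF4Dat b S) : b = 2 ∨ b = 4 ∨ 8 ≤ b := by
  obtain ⟨a, ha, rfl⟩ := D.hb
  rcases (by omega : a = 1 ∨ a = 2 ∨ 3 ≤ a) with rfl | rfl | h
  · left; rfl
  · right; left; rfl
  · right; right
    calc 8 = 2 ^ 3 := by norm_num
      _ ≤ 2 ^ a := Nat.pow_le_pow_right (by norm_num) h

/-- the classes -/
theorem TF4Dat.cover (D : TF4Dat b S) {r : ℕ} (hr : r.Prime) (h2 : r ≠ 2) (hd : r ∣ Nat.card S) :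
    (r : ℤ) ∣ 2 * (b : ℤ) ^ 2 - 1 ∨ (r : ℤ) ∣ 2 * (b : ℤ) ^ 2 + 1 ∨ (r : ℤ) ∣ t2 b ∨ (r : ℤ) ∣ t2 (-b) ∨
      (r : ℤ) ∣ t6 b ∨ (r : ℤ) ∣ t4 b ∨ (r : ℤ) ∣ t4 (-b) := by
  have hr' := Nat.prime_iff_prime_int.1 hr
  have h1 : (r : ℤ) ∣ ((Nat.card S : ℕ) : ℤ) := Int.natCast_dvd_natCast.2 hd
  rw [D.card] at h1
  have e : (2 * (b : ℤ) ^ 2) ^ 12 * ((2 * (b : ℤ) ^ 2 - 1) * ((2 * (b : ℤ) ^ 2) ^ 3 + 1) *
      ((2 * (b : ℤ) ^ 2) ^ 4 - 1) * ((2 * (b : ℤ) ^ 2) ^ 6 + 1)) = (2 * (b : ℤ) ^ 2) ^ 12 * ((2 * (b : ℤ) ^ 2 - 1) *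
      ((2 * (b : ℤ) ^ 2 + 1) * t6 b) * ((2 * (b : ℤ) ^ 2 - 1) * (2 * (b : ℤ) ^ 2 + 1) * t2 b * t2 (-b)) *
      (t2 b * t2 (-b) * t4 b * t4 (-b))) := by
    unfold t2 t4 t6; ring
  rw [e] at h1
  have h0 : ¬ (r : ℤ) ∣ (2 * (b : ℤ) ^ 2) ^ 12 := fun h => D.not_b hr h2 (hr'.dvd_of_dvd_pow h)
  simp only [hr'.dvd_mul] at h1 h0
  (clear * - h0 h1; itauto)

/-- an order whose primes are of type `6` -/
theorem TF4Dat.six (D : TF4Dat b S) (x : S) (h : ∀ r : ℕ, r.Prime → r ∣ orderOf x → r ≠ 2 ∧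
    ¬ (r : ℤ) ∣ 2 * (b : ℤ) ^ 2 - 1 ∧ ¬ (r : ℤ) ∣ 2 * (b : ℤ) ^ 2 + 1 ∧ ¬ (r : ℤ) ∣ t2 b ∧ ¬ (r : ℤ) ∣ t2 (-b) ∧
    ¬ (r : ℤ) ∣ t4 b ∧ ¬ (r : ℤ) ∣ t4 (-b)) : ((orderOf x : ℕ) : ℤ) ∣ t6 b := by
  have h1 : ((orderOf x : ℕ) : ℤ) ∣ ((Nat.card S : ℕ) : ℤ) := Int.natCast_dvd_natCast.2 (orderOf_dvd_natCard x)
  have e : ((Nat.card S : ℕ) : ℤ) = t6 b * ((2 * (b : ℤ) ^ 2) ^ 12 * ((2 * (b : ℤ) ^ 2 - 1) *
      (2 * (b : ℤ) ^ 2 + 1) * ((2 * (b : ℤ) ^ 2 - 1) * (2 * (b : ℤ) ^ 2 + 1) * t2 b * t2 (-b)) *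
      (t2 b * t2 (-b) * t4 b * t4 (-b)))) := by
    rw [D.card]
    unfold t2 t4 t6; ring
  rw [e] at h1
  refine (cop_int fun r hr hrx hd => ?_).dvd_of_dvd_mul_right h1
  obtain ⟨a0, a1, a2, a3, a4, a5, a6⟩ := h r hr hrx
  have hr' := Nat.prime_iff_prime_int.1 hr
  have h0 : ¬ (r : ℤ) ∣ (2 * (b : ℤ) ^ 2) ^ 12 := fun h => D.not_b hr a0 (hr'.dvd_of_dvd_pow h)
  simp only [hr'.dvd_mul] at hd h0
  (clear * - a1 a2 a3 a4 a5 a6 h0 hd; tauto)

/-- the class of `k` -/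
theorem tf4_k (h : SX p q k A k' B m i W S) (hg : Good W m i) (D : TF4Dat b S) :
    (k : ℤ) ∣ t6 b ∨ ∃ X : ℤ, (X = b ∨ X = -b) ∧ (k : ℤ) ∣ t4 X := by
  obtain ⟨x, hx⟩ := h.kS hg
  by_cases h1 : ∃ X : ℤ, (X = b ∨ X = -b) ∧ ∃ r : ℕ, r.Prime ∧ r ∣ k ∧ (r : ℤ) ∣ t4 X
  · right
    obtain ⟨X, hX, r, hr, hrk, hrX⟩ := h1
    refine ⟨X, hX, ?_⟩
    rw [← hx]
    exact D.cc X hX x r hr (by rw [hx]; exact hrk) hrX
  · left
    push Not at h1
    rw [← hx]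
    refine D.six x fun r hr hrx => ?_
    rw [hx] at hrx
    have hr7 := SX.prime h hr (Or.inl hrx)
    have hgk := h.good_k hg hr hrx
    have hdS := h.dvd_card hr (h.W_prime hr (Or.inl hrx)) hgk.1 hgk.2
    obtain ⟨a1, a2, a3, a4⟩ := D.near r hr (by omega) hdS (h.twoS hr hrx)
    exact ⟨by omega, a1, a2, a3, a4, h1 b (Or.inl rfl) r hr hrx, h1 (-b) (Or.inr rfl) r hr hrx⟩

set_option synthInstance.maxHeartbeats 200000 in
set_option synthInstance.maxSize 2000 in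
/-- small `b` -/
theorem tf4_smalla : ∀ q < 60, q % 4 = 3 → 7 ≤ q → ∀ N ∈ [57, 109, 37, 793], (q ^ 2 + q + 1) ∣ 3 * N →
    q = 7 ∧ N = 57 := by
  decide +kernel

set_option synthInstance.maxHeartbeats 200000 in
set_option synthInstance.maxSize 2000 in
/-- small `b` -/
theorem tf4_smallb : ∀ q < 60, q % 4 = 1 → 7 ≤ q → ∀ N ∈ [57, 109, 37, 793], ¬ (q ^ 2 - q + 1) ∣ 3 * N := by
  decide +kernel

theorem tf4_N (h : SX p q k A k' B m i W S) {N : ℕ} (hN : N ∈ [57, 109, 37, 793]) (hk : k ∣ N) :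
    q = 7 ∧ N = 57 := by
  have hN3 : 3 * N < 2400 := by
    simp only [List.mem_cons, List.not_mem_nil, or_false] at hN
    omega
  have hN0 : 0 < N := by
    simp only [List.mem_cons, List.not_mem_nil, or_false] at hN
    omega
  have hqq : q ≤ q ^ 2 := Nat.le_self_pow two_ne_zero q
  have hq7 := h.lw.q7
  rcases h.lw.side.cof h.lw.q2 with ⟨h1, h2, -⟩ | ⟨h1, -, h2⟩
  · have h3 : q ^ 2 + q + 1 ∣ 3 * N := by
      rcases h2 with h2 | ⟨h2, -⟩
      · rw [← h2]; exact hk.mul_left 3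
      · rw [← h2]; exact mul_dvd_mul_left 3 hk
    have h4 := Nat.le_of_dvd (by omega) h3
    have hq : q < 60 := by nlinarith only [hN3, h4]
    exact tf4_smalla q hq h1 hq7 N hN h3
  · have h3 : q ^ 2 - q + 1 ∣ 3 * N := by
      rcases h2 with h2 | ⟨h2, -⟩
      · rw [← h2]; exact hk.mul_left 3
      · rw [← h2]; exact mul_dvd_mul_left 3 hk
    have h4 := Nat.le_of_dvd (by omega) h3
    have hq : q < 60 := by
      have : q ^ 2 + 1 ≤ 2400 + q := by omega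
      nlinarith only [this]
    exact absurd h3 (tf4_smallb q hq h1 hq7 N hN)

/-- **`b ≥ 4`**, and `b ≥ 8` for `t₋` -/
theorem tf4_b4 (h : SX p q k A k' B m i W S) (hg : Good W m i) (D : TF4Dat b S) :
    4 ≤ b ∧ ((k : ℤ) ∣ t4 (-b) → 8 ≤ b) := by
  have hk' : ∀ {N : ℕ} {P : ℤ}, (k : ℤ) ∣ P → P = (N : ℤ) → k ∣ N := by
    rintro N P h rfl
    exact_mod_cast h
  rcases D.b48 with rfl | rfl | h8
  · exfalso
    have h57 : k ∣ 57 → False := by
      intro hk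
      obtain ⟨rfl, -⟩ := tf4_N h (by simp) hk
      obtain ⟨z, hz⟩ := D.ex4 2 (Or.inl rfl)
      have hz' : orderOf z = 109 := by
        have : ((orderOf z : ℕ) : ℤ) = 109 := by rw [hz]; unfold t4; norm_num
        exact_mod_cast this
      have h2 := h.lw.exp _ (h.WS z)
      have hp : p = 7 := (Nat.prime_dvd_prime_iff_eq h.lw.pp (by norm_num)).1 h.lw.p_dvd
      rw [hz', hp] at h2
      norm_num at h2
    rcases tf4_k h hg D with h1 | ⟨X, rfl | rfl, h1⟩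
    · exact h57 (hk' h1 (by unfold t6; norm_num))
    · obtain ⟨-, h2⟩ := tf4_N h (N := 109) (by simp) (hk' h1 (by unfold t4; norm_num))
      omega
    · obtain ⟨-, h2⟩ := tf4_N h (N := 37) (by simp) (hk' h1 (by unfold t4; norm_num))
      omega
  · refine ⟨le_rfl, fun h1 => ?_⟩
    obtain ⟨-, h2⟩ := tf4_N h (N := 793) (by simp) (hk' h1 (by unfold t4; norm_num))
    omega
  · exact ⟨by omega, fun _ => h8⟩

/-- the torus of a prime of `k'` -/
theorem tf4_cls (h : SX p q k A k' B m i W S) (D : TF4Dat b S) {r : ℕ} (hr : r.Prime) (hrk : r ∣ k')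
    (hd : r ∣ Nat.card S) : ∃ N : ℕ, N ∣ B ∧ ((∃ X : ℤ, (X = b ∨ X = -b) ∧ ((N : ℤ) = (2 * X ^ 2 - 1) * t2 X ∨
      ((N : ℤ) = t4 X ∧ (r : ℤ) ∣ t4 X))) ∨
      (N : ℤ) = (2 * (b : ℤ) ^ 2 - 1) * (2 * (b : ℤ) ^ 2 + 1) ∨ ((N : ℤ) = t6 b ∧ (r : ℤ) ∣ t6 b)) := by
  have hr7 := SX.prime h hr (Or.inr hrk)
  have key : ∀ {P : ℤ}, (∃ x : S, ((orderOf x : ℕ) : ℤ) = P) → (r : ℤ) ∣ P → ∃ N : ℕ, N ∣ B ∧ (N : ℤ) = P := by
    rintro P ⟨x, hx⟩ hP
    refine ⟨orderOf x, SX.dvdB h ⟨x, rfl⟩ hr hrk ?_, hx⟩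
    rw [← hx] at hP
    exact_mod_cast hP
  rcases D.cover hr (by omega) hd with h1 | h1 | h1 | h1 | h1 | h1 | h1
  · obtain ⟨N, h2, h3⟩ := key D.ex12 (h1.mul_right _)
    exact ⟨N, h2, Or.inr (Or.inl h3)⟩
  · obtain ⟨N, h2, h3⟩ := key D.ex12 (h1.mul_left _)
    exact ⟨N, h2, Or.inr (Or.inl h3)⟩
  · obtain ⟨N, h2, h3⟩ := key (D.ex1p b (Or.inl rfl)) (h1.mul_left _)
    exact ⟨N, h2, Or.inl ⟨b, Or.inl rfl, Or.inl h3⟩⟩
  · obtain ⟨N, h2, h3⟩ := key (D.ex1p (-b) (Or.inr rfl)) (h1.mul_left _)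
    exact ⟨N, h2, Or.inl ⟨-b, Or.inr rfl, Or.inl h3⟩⟩
  · obtain ⟨N, h2, h3⟩ := key D.ex6 h1
    exact ⟨N, h2, Or.inr (Or.inr ⟨h3, h1⟩)⟩
  · obtain ⟨N, h2, h3⟩ := key (D.ex4 b (Or.inl rfl)) h1
    exact ⟨N, h2, Or.inl ⟨b, Or.inl rfl, Or.inr ⟨h3, h1⟩⟩⟩
  · obtain ⟨N, h2, h3⟩ := key (D.ex4 (-b) (Or.inr rfl)) h1
    exact ⟨N, h2, Or.inl ⟨-b, Or.inr rfl, Or.inr ⟨h3, h1⟩⟩⟩

/-- the bound for `c` -/
theorem tf4_c (h : LW p q k A k' B W) {T c : ℕ} (hc : A = c * T) (hk : k ∣ T) (hT : T ≤ 6 * b ^ 4) : c < 8 * b ^ 2 := by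
  have hA0 : 0 < A := by
    have := h.side.A_odd
    omega
  have hT0 : 0 < T := by
    rcases Nat.eq_zero_or_pos T with h0 | h0
    · rw [h0, mul_zero] at hc
      omega
    · exact h0
  have hkT := Nat.le_of_dvd hT0 hk
  refine c_lt h hc hkT (M := 4 * T) ((k'_le h).trans (Nat.mul_le_mul_left 4 hkT)) ?_
  have e1 : T ^ 2 ≤ 36 * b ^ 8 := by
    calc T ^ 2 ≤ (6 * b ^ 4) ^ 2 := Nat.pow_le_pow_left hT 2
      _ = 36 * b ^ 8 := by ring
  have hb0 : 0 < b ^ 8 := by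
    rcases Nat.eq_zero_or_pos b with h0 | h0
    · rw [h0] at hT
      norm_num at hT
      omega
    · positivity
  calc 27 * (4 * T) ^ 3 = 1728 * T ^ 2 * T := by ring
    _ ≤ 1728 * (36 * b ^ 8) * T := Nat.mul_le_mul_right _ (Nat.mul_le_mul_left _ e1)
    _ < 65536 * b ^ 8 * T := by
      apply Nat.mul_lt_mul_of_pos_right ?_ hT0
      omega
    _ = 16 * (8 * b ^ 2) ^ 4 * T := by ring

theorem abs_lt' {α N D' L : ℤ} (h1 : -N ≤ α) (h2 : α ≤ N) (h3 : L + N < D') : L + |α| < D' := by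
  have : |α| ≤ N := abs_le.2 ⟨h1, h2⟩
  linarith

/-- `t₊` or `t₋`, and the torus `t6` -/
theorem tf4_46 (h : LW p q k A k' B W) {T N : ℕ} {X : ℤ} (hX : X = b ∨ X = -b) (hb : 4 ≤ b) (hTA : T ∣ A)
    (hk : k ∣ T) (hT : (T : ℤ) = t4 X) (hN : N ∣ B) (hN6 : (N : ℤ) = t6 b) : False := by
  obtain ⟨c, hc⟩ := hTA
  rw [mul_comm] at hc
  obtain ⟨t, rfl⟩ : ∃ t, b = t + 4 := ⟨b - 4, by omega⟩
  have hTle : T ≤ 6 * (t + 4) ^ 4 := by
    zify
    rw [hT]
    unfold t4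
    rcases hX with rfl | rfl <;> push_cast <;> apply pos_le <;> clear * - <;> ring_nf <;> positivity
  have hcb := tf4_c h hc hk hTle
  have hcz : (c : ℤ) < 8 * ((t : ℤ) + 4) ^ 2 := by exact_mod_cast hcb
  have hc0 : (0 : ℤ) ≤ c := by (clear * -; positivity)
  have e6 : t6 ((t + 4 : ℕ) : ℤ) = t6 X := by
    unfold t6
    rcases hX with rfl | rfl <;> ring
  rw [e6] at hN6
  have h5 : c * (1 : ℤ) + |-4 * X ^ 3 + 2 * X ^ 2 + X - 1| < (N : ℤ) := by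
    refine abs_lt' (N := 4 * (t + 4 : ℤ) ^ 3 + 2 * (t + 4 : ℤ) ^ 2 + (t + 4) + 1) ?_ ?_ ?_
    · rcases hX with h | h <;> rw [h] <;> push_cast <;> apply pos_le <;> clear * - <;> ring_nf <;> positivity
    · rcases hX with h | h <;> rw [h] <;> push_cast <;> apply pos_le <;> clear * - <;> ring_nf <;> positivity
    · refine lt_of_lt_of_le (b := 8 * ((t : ℤ) + 4) ^ 2 + (4 * (t + 4 : ℤ) ^ 3 + 2 * (t + 4 : ℤ) ^ 2 + (t + 4) + 1))
        (by linarith only [hcb]) ?_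
      rw [hN6]
      unfold t6
      rcases hX with h | h <;> rw [h] <;> push_cast <;> apply pos_le <;> clear * - <;> ring_nf <;> positivity
  have h6 : 8 * ((t : ℤ) + 4) ^ 2 ≤ |-4 * X ^ 3 + 2 * X ^ 2 + X - 1| := by
    rw [le_abs]
    rcases hX with h | h <;> rw [h]
    · right; push_cast; apply pos_le; clear * -; ring_nf; positivity
    · left; push_cast; apply pos_le; clear * -; ring_nf; positivity
  rcases kill_eq h hc hN (κ := 1) (α := -4 * X ^ 3 + 2 * X ^ 2 + X - 1) (by norm_num)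
      ⟨-(4 * X ^ 3 + 2 * X ^ 2 + X + 2), by rw [hT, hN6]; unfold t4 t6; ring⟩ h5 with ⟨-, h3⟩ | ⟨-, h3⟩
  · rw [← h3, abs_of_nonneg (by (clear * -; positivity))] at h6
    linarith only [hcb, h6]
  · rw [show -4 * X ^ 3 + 2 * X ^ 2 + X - 1 = -((c : ℤ) * 1) by linarith only [h3], abs_neg, abs_of_nonneg (by (clear * -; positivity))] at h6
    linarith only [hcb, h6]

/-- `t6`, and the torus `t₊` or `t₋` -/
theorem tf4_64 (h : LW p q k A k' B W) {T N : ℕ} {X : ℤ} (hX : X = b ∨ X = -b) (hev : (b : ℤ) % 2 = 0) (hb : 4 ≤ b)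
    (hTA : T ∣ A) (hk : k ∣ T) (hT : (T : ℤ) = t6 b) (hN : N ∣ B) (hN4 : (N : ℤ) = t4 X) : False := by
  obtain ⟨c, hc⟩ := hTA
  rw [mul_comm] at hc
  have hXe : X % 2 = 0 := by rcases hX with h | h <;> omega
  obtain ⟨t, rfl⟩ : ∃ t, b = t + 4 := ⟨b - 4, by omega⟩
  have hTle : T ≤ 6 * (t + 4) ^ 4 := by
    zify
    rw [hT]
    unfold t6
    push_cast
    apply pos_le
    clear * -
    ring_nf
    positivity
  have hcb := tf4_c h hc hk hTle
  have hcz : (c : ℤ) < 8 * ((t : ℤ) + 4) ^ 2 := by exact_mod_cast hcb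
  have hc0 : (0 : ℤ) ≤ c := by (clear * -; positivity)
  have e6 : t6 ((t + 4 : ℕ) : ℤ) = t6 X := by
    unfold t6
    rcases hX with rfl | rfl <;> ring
  rw [e6] at hT
  refine par_kill h hc hN (κ := 1) (α := 4 * X ^ 3 + 2 * X ^ 2 + X + 2) (β := -4 * X ^ 3 + 2 * X ^ 2 + X - 1)
    (by norm_num) ?_ (by rw [hT, hN4]; unfold t4 t6; ring) ?_
  · obtain ⟨d, hd⟩ : ∃ d : ℤ, X = 2 * d := ⟨X / 2, by omega⟩
    rw [hd]
    ring_nf
    omega
  · refine abs_lt' (N := 4 * (t + 4 : ℤ) ^ 3 + 2 * (t + 4 : ℤ) ^ 2 + (t + 4) + 2) ?_ ?_ ?_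
    · rcases hX with h | h <;> rw [h] <;> push_cast <;> apply pos_le <;> clear * - <;> ring_nf <;> positivity
    · rcases hX with h | h <;> rw [h] <;> push_cast <;> apply pos_le <;> clear * - <;> ring_nf <;> positivity
    · refine lt_of_lt_of_le (b := 8 * ((t : ℤ) + 4) ^ 2 + (4 * (t + 4 : ℤ) ^ 3 + 2 * (t + 4 : ℤ) ^ 2 + (t + 4) + 2))
        (by linarith only [hcb]) ?_
      rw [hN4]
      unfold t4
      rcases hX with h | h <;> rw [h] <;> push_cast <;> apply pos_le <;> clear * - <;> ring_nf <;> positivity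

/-- `t₊`, and the torus `t₋`, or conversely -/
theorem tf4_44 (h : LW p q k A k' B W) {T N : ℕ} {X : ℤ} (hX : X = b ∨ X = -b) (hev : (b : ℤ) % 2 = 0) (hb : 4 ≤ b)
    (hTA : T ∣ A) (hk : k ∣ T) (hT : (T : ℤ) = t4 X) (hN : N ∣ B) (hN4 : (N : ℤ) = t4 (-X)) : False := by
  obtain ⟨c, hc⟩ := hTA
  rw [mul_comm] at hc
  have hXe : X % 2 = 0 := by rcases hX with h | h <;> omega
  obtain ⟨t, rfl⟩ : ∃ t, b = t + 4 := ⟨b - 4, by omega⟩
  have hTle : T ≤ 6 * (t + 4) ^ 4 := by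
    zify
    rw [hT]
    unfold t4
    rcases hX with rfl | rfl <;> push_cast <;> apply pos_le <;> clear * - <;> ring_nf <;> positivity
  have hcb := tf4_c h hc hk hTle
  have hcz : (c : ℤ) < 8 * ((t : ℤ) + 4) ^ 2 := by exact_mod_cast hcb
  have hc0 : (0 : ℤ) ≤ c := by positivity
  refine par_kill h hc hN (κ := 2) (α := -X + 1) (β := X + 1)
    (by norm_num) ?_ (by rw [hT, hN4]; unfold t4; ring) ?_
  · obtain ⟨d, hd⟩ : ∃ d : ℤ, X = 2 * d := ⟨X / 2, by omega⟩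
    rw [hd]
    ring_nf
    omega
  · refine abs_lt' (N := (t + 4 : ℤ) + 1) ?_ ?_ ?_
    · rcases hX with h | h <;> rw [h] <;> push_cast <;> apply pos_le <;> clear * - <;> ring_nf <;> positivity
    · rcases hX with h | h <;> rw [h] <;> push_cast <;> apply pos_le <;> clear * - <;> ring_nf <;> positivity
    · refine lt_of_lt_of_le (b := 8 * ((t : ℤ) + 4) ^ 2 * 2 + ((t + 4 : ℤ) + 1))
        (by linarith only [hcb]) ?_
      rw [hN4]
      unfold t4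
      rcases hX with h | h <;> rw [h] <;> push_cast <;> apply pos_le <;> clear * - <;> ring_nf <;> positivity

/-- `t₊` or `t₋`, the other tori -/
theorem tf4_4o (h : LW p q k A k' B W) {T N : ℕ} {X : ℤ} (hX : X = b ∨ X = -b) (hev : (b : ℤ) % 2 = 0) (hb : 4 ≤ b)
    (hb8 : X = -b → 8 ≤ b) (hTA : T ∣ A) (hk : k ∣ T) (hT : (T : ℤ) = t4 X) (hN : N ∣ B)
    (hND : (N : ℤ) = (2 * X ^ 2 - 1) * t2 X ∨ (N : ℤ) = (2 * X ^ 2 - 1) * t2 (-X) ∨
      (N : ℤ) = (2 * X ^ 2 - 1) * (2 * X ^ 2 + 1)) : False := by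
  obtain ⟨c, hc⟩ := hTA
  rw [mul_comm] at hc
  have hXe : X % 2 = 0 := by rcases hX with h | h <;> (clear * - hev h; omega)
  have hTle : T ≤ 6 * b ^ 4 := by
    obtain ⟨t, rfl⟩ : ∃ t, b = t + 4 := ⟨b - 4, by omega⟩
    zify
    rw [hT]
    unfold t4
    rcases hX with rfl | rfl <;> push_cast <;> apply pos_le <;> clear * - <;> ring_nf <;> positivity
  have hcb := tf4_c h hc hk hTle
  have hcz : (c : ℤ) < 8 * (b : ℤ) ^ 2 := by exact_mod_cast hcb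
  have hc0 : (0 : ℤ) ≤ c := by positivity
  obtain ⟨d, hd⟩ : ∃ d : ℤ, X = 2 * d := ⟨X / 2, by omega⟩
  rcases hND with hND | hND | hND
  · refine par_kill h hc hN (κ := 1) (α := -12 * X ^ 3 - 2 * X ^ 2 + 2 * X + 4)
      (β := 12 * X ^ 3 + 2 * X ^ 2 + 4 * X + 3)
      (by norm_num) ?_ (by rw [hT, hND]; unfold t4 t2; ring) ?_
    · rw [hd]
      ring_nf
      omega
    · have hN' : c * (1 : ℤ) + (12 * (b : ℤ) ^ 3 + 2 * (b : ℤ) ^ 2 + 2 * b + 4) < N := by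
        refine lt_of_lt_of_le (b := 8 * (b : ℤ) ^ 2 + (12 * (b : ℤ) ^ 3 + 2 * (b : ℤ) ^ 2 + 2 * b + 4)) (by linarith only [hcb]) ?_
        rw [hND]
        unfold t2
        rcases hX with h | h
        · obtain ⟨t, rfl⟩ : ∃ t, b = t + 4 := ⟨b - 4, by (clear * - hb; omega)⟩
          rw [h]; push_cast; apply pos_le; clear * -; ring_nf; positivity
        · have h8 := hb8 h
          obtain ⟨t, rfl⟩ : ∃ t, b = t + 8 := ⟨b - 8, by (clear * - h8; omega)⟩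
          rw [h]; push_cast; apply pos_le; clear * -; ring_nf; positivity
      obtain ⟨t, rfl⟩ : ∃ t, b = t + 4 := ⟨b - 4, by omega⟩
      refine abs_lt' ?_ ?_ hN'
      · rcases hX with h | h <;> rw [h] <;> push_cast <;> apply pos_le <;> clear * - <;> ring_nf <;> positivity
      · rcases hX with h | h <;> rw [h] <;> push_cast <;> apply pos_le <;> clear * - <;> ring_nf <;> positivity
  · obtain ⟨t, rfl⟩ : ∃ t, b = t + 4 := ⟨b - 4, by omega⟩
    refine par_kill h hc hN (κ := 3) (α := -4 * X ^ 3 + 10 * X ^ 2 - 10 * X + 4) (β := 4 * X ^ 3 - 2 * X ^ 2 + 1)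
      (by norm_num) ?_ (by rw [hT, hND]; unfold t4 t2; ring) ?_
    · rw [hd]
      ring_nf
      omega
    · rcases hX with h | h
      · refine abs_lt' (N := 4 * ((t + 4 : ℕ) : ℤ) ^ 3) ?_ ?_ ?_
        · rw [h]; push_cast; apply pos_le; clear * -; ring_nf; positivity
        · rw [h]; push_cast; apply pos_le; clear * -; ring_nf; positivity
        · refine lt_of_lt_of_le (b := 8 * ((t + 4 : ℕ) : ℤ) ^ 2 * 3 + 4 * ((t + 4 : ℕ) : ℤ) ^ 3) (by linarith only [hcz]) ?_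
          rw [hND]
          unfold t2
          rw [h]; push_cast; apply pos_le; clear * -; ring_nf; positivity
      · refine abs_lt' (N := 4 * ((t + 4 : ℕ) : ℤ) ^ 3 + 10 * ((t + 4 : ℕ) : ℤ) ^ 2 + 10 * ((t + 4 : ℕ) : ℤ) + 4) ?_ ?_ ?_
        · rw [h]; push_cast; apply pos_le; clear * -; ring_nf; positivity
        · rw [h]; push_cast; apply pos_le; clear * -; ring_nf; positivity
        · refine lt_of_lt_of_le (b := 8 * ((t + 4 : ℕ) : ℤ) ^ 2 * 3 +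
            (4 * ((t + 4 : ℕ) : ℤ) ^ 3 + 10 * ((t + 4 : ℕ) : ℤ) ^ 2 + 10 * ((t + 4 : ℕ) : ℤ) + 4)) (by linarith only [hcz]) ?_
          rw [hND]
          unfold t2
          rw [h]; push_cast; apply pos_le; clear * -; ring_nf; positivity
  · obtain ⟨t, rfl⟩ : ∃ t, b = t + 4 := ⟨b - 4, by omega⟩
    refine par_kill h hc hN (κ := 1) (α := -4 * X ^ 3 + 2 * X ^ 2 - 2 * X + 2) (β := 4 * X ^ 3 + 2 * X ^ 2 + 2 * X + 1)
      (by norm_num) ?_ (by rw [hT, hND]; unfold t4; ring) ?_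
    · rw [hd]
      ring_nf
      omega
    · refine abs_lt' (N := 4 * ((t + 4 : ℕ) : ℤ) ^ 3 + 2 * ((t + 4 : ℕ) : ℤ) ^ 2 + 2 * ((t + 4 : ℕ) : ℤ) + 2) ?_ ?_ ?_
      · rcases hX with h | h <;> rw [h] <;> push_cast <;> apply pos_le <;> clear * - <;> ring_nf <;> positivity
      · rcases hX with h | h <;> rw [h] <;> push_cast <;> apply pos_le <;> clear * - <;> ring_nf <;> positivity
      · refine lt_of_lt_of_le (b := 8 * ((t + 4 : ℕ) : ℤ) ^ 2 * 1 +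
          (4 * ((t + 4 : ℕ) : ℤ) ^ 3 + 2 * ((t + 4 : ℕ) : ℤ) ^ 2 + 2 * ((t + 4 : ℕ) : ℤ) + 2)) (by linarith only [hcz]) ?_
        rw [hND]
        rcases hX with h | h <;> rw [h] <;> push_cast <;> apply pos_le <;> clear * - <;> ring_nf <;> positivity

/-- `t6`, the other tori -/
theorem tf4_6o (h : LW p q k A k' B W) {T N : ℕ} {X : ℤ} (hX : X = b ∨ X = -b) (hev : (b : ℤ) % 2 = 0) (hb : 4 ≤ b)
    (hTA : T ∣ A) (hk : k ∣ T) (hT : (T : ℤ) = t6 b) (hN : N ∣ B)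
    (hND : (N : ℤ) = (2 * X ^ 2 - 1) * t2 X ∨ (N : ℤ) = (2 * X ^ 2 - 1) * (2 * X ^ 2 + 1)) : False := by
  obtain ⟨c, hc⟩ := hTA
  rw [mul_comm] at hc
  have hXe : X % 2 = 0 := by rcases hX with h | h <;> (clear * - hev h; omega)
  obtain ⟨t, rfl⟩ : ∃ t, b = t + 4 := ⟨b - 4, by omega⟩
  have hTle : T ≤ 6 * (t + 4) ^ 4 := by
    zify
    rw [hT]
    unfold t6
    push_cast
    apply pos_le
    clear * -
    ring_nf
    positivity
  have hcb := tf4_c h hc hk hTle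
  have hcz : (c : ℤ) < 8 * ((t + 4 : ℕ) : ℤ) ^ 2 := by exact_mod_cast hcb
  have hc0 : (0 : ℤ) ≤ c := by (clear * -; positivity)
  have e6 : t6 ((t + 4 : ℕ) : ℤ) = t6 X := by
    unfold t6
    rcases hX with rfl | rfl <;> ring
  rw [e6] at hT
  rcases hND with hND | hND
  · refine par_kill h hc hN (κ := 1) (α := 2 * X ^ 2) (β := -2 * X ^ 2 + 2 * X - 1)
      (by norm_num) (by omega) (by rw [hT, hND]; unfold t6 t2; ring) ?_
    refine abs_lt' (N := 2 * ((t + 4 : ℕ) : ℤ) ^ 2) ?_ ?_ ?_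
    · rcases hX with h | h <;> rw [h] <;> push_cast <;> apply pos_le <;> clear * - <;> ring_nf <;> positivity
    · rcases hX with h | h <;> rw [h] <;> push_cast <;> apply pos_le <;> clear * - <;> ring_nf <;> positivity
    · refine lt_of_lt_of_le (b := 8 * ((t + 4 : ℕ) : ℤ) ^ 2 * 1 + 2 * ((t + 4 : ℕ) : ℤ) ^ 2) (by linarith only [hcz]) ?_
      rw [hND]
      unfold t2
      rcases hX with h | h <;> rw [h] <;> push_cast <;> apply pos_le <;> clear * - <;> ring_nf <;> positivity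
  · refine par_kill h hc hN (κ := 3) (α := 2 * X ^ 2 + 2) (β := -2 * X ^ 2 - 1)
      (by norm_num) (by omega) (by rw [hT, hND]; unfold t6; ring) ?_
    refine abs_lt' (N := 2 * ((t + 4 : ℕ) : ℤ) ^ 2 + 2) ?_ ?_ ?_
    · rcases hX with h | h <;> rw [h] <;> push_cast <;> apply pos_le <;> clear * - <;> ring_nf <;> positivity
    · rcases hX with h | h <;> rw [h] <;> push_cast <;> apply pos_le <;> clear * - <;> ring_nf <;> positivity
    · refine lt_of_lt_of_le (b := 8 * ((t + 4 : ℕ) : ℤ) ^ 2 * 3 + (2 * ((t + 4 : ℕ) : ℤ) ^ 2 + 2)) (by linarith only [hcz]) ?_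
      rw [hND]
      rcases hX with h | h <;> rw [h] <;> push_cast <;> apply pos_le <;> clear * - <;> ring_nf <;> positivity

/-- **State I.** -/
theorem tf4_I (h : SX p q k A k' B m i W S) (hg : Good W m i) (D : TF4Dat b S)
    (h1 : ∀ r : ℕ, r.Prime → r ∣ k' → ¬ r ∣ m ∧ ¬ r ∣ i) : False := by
  have := h.fin
  obtain ⟨x, hx⟩ := SX.k'S h h1
  have hk25 := (k_ge h.lw).2
  obtain ⟨w, hw, hwk⟩ := Nat.exists_prime_and_dvd (show k' ≠ 1 by omega)
  have hwS : w ∣ Nat.card S := by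
    refine dvd_trans ?_ (orderOf_dvd_natCard x)
    rw [hx]
    exact hwk
  obtain ⟨hb, hb8⟩ := tf4_b4 h hg D
  have hev := D.even
  obtain ⟨s, hs, hsk⟩ := Nat.exists_prime_and_dvd h.lw.k_pos.1.ne'
  have hnat : ∀ {n T : ℕ} {P : ℤ}, (n : ℤ) ∣ P → (T : ℤ) = P → n ∣ T := by
    rintro n T P h1 rfl
    exact_mod_cast h1
  have hb2 : ((b : ℤ)) ^ 2 = (b : ℤ) ^ 2 := rfl
  obtain ⟨N, hNB, hN⟩ := tf4_cls h D hw hwk hwS
  rcases tf4_k h hg D with hk | ⟨X, hX, hk⟩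
  · obtain ⟨y, hy⟩ := D.ex6
    have hkT := hnat hk hy
    have hTA := SX.dvdA h ⟨y, rfl⟩ hkT
    rcases hN with ⟨Y, hY, hN | ⟨hN, -⟩⟩ | hN | ⟨hN, hwt⟩
    · exact tf4_6o h.lw hY hev hb hTA hkT hy hNB (Or.inl hN)
    · exact tf4_64 h.lw hY hev hb hTA hkT hy hNB hN
    · exact tf4_6o h.lw (X := b) (Or.inl rfl) hev hb hTA hkT hy hNB (Or.inr hN)
    · exact h.lw.na hs hsk hw hwk (h.WS y) (hsk.trans hkT) (hnat hwt hy)
  · obtain ⟨y, hy⟩ := D.ex4 X hX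
    have hkT := hnat hk hy
    have hTA := SX.dvdA h ⟨y, rfl⟩ hkT
    have hb8' : X = -b → 8 ≤ b := by
      rintro rfl
      exact hb8 hk
    rcases hN with ⟨Y, hY, hN⟩ | hN | ⟨hN, -⟩
    · have hYX : Y = X ∨ Y = -X := by
        rcases hX with rfl | rfl <;> rcases hY with rfl | rfl <;> simp
      rcases hN with hN | ⟨hN, hwt⟩
      · rcases hYX with rfl | rfl
        · exact tf4_4o h.lw hX hev hb hb8' hTA hkT hy hNB (Or.inl hN)
        · refine tf4_4o h.lw hX hev hb hb8' hTA hkT hy hNB (Or.inr (Or.inl ?_))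
          rw [hN]
          ring
      · rcases hYX with rfl | rfl
        · exact h.lw.na hs hsk hw hwk (h.WS y) (hsk.trans hkT) (hnat hwt hy)
        · exact tf4_44 h.lw hX hev hb hTA hkT hy hNB hN
    · refine tf4_4o h.lw hX hev hb hb8' hTA hkT hy hNB (Or.inr (Or.inr ?_))
      rw [hN]
      rcases hX with rfl | rfl <;> ring
    · exact tf4_46 h.lw hX hb hTA hkT hy hNB hN

/-! ### the second state -/

/-- a cyclic Sylow subgroup -/
theorem TF4Dat.cyc (D : TF4Dat b S) [Finite S] {y : ℕ} (hy : y.Prime) (hy2 : y ≠ 2) (hyS : y ∣ Nat.card S)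
    (hx : ∃ x : S, y ^ (Nat.card S).factorization y ∣ orderOf x) :
    ¬ (y : ℤ) ∣ 2 * (b : ℤ) ^ 2 - 1 ∧ ¬ (y : ℤ) ∣ 2 * (b : ℤ) ^ 2 + 1 ∧ ¬ (y : ℤ) ∣ (2 * (b : ℤ) ^ 2) ^ 2 + 1 := by
  obtain ⟨x, hx⟩ := hx
  have hn0 : Nat.card S ≠ 0 := Nat.card_pos.ne'
  have hyp := Nat.prime_iff_prime_int.1 hy
  obtain ⟨e, n, he, hn⟩ := D.om x
  have hya : y ∣ y ^ (Nat.card S).factorization y := by
    have h3 := (hy.pow_dvd_iff_le_factorization hn0).1 (show y ^ 1 ∣ Nat.card S by rwa [pow_one])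
    exact dvd_pow_self y (by omega)
  have h1 : ((y ^ (Nat.card S).factorization y : ℕ) : ℤ) ∣ n := by
    rw [he] at hx
    exact Int.natCast_dvd_natCast.2
      ((Nat.Coprime.pow_left _ (Nat.Coprime.pow_right _
        ((Nat.coprime_primes hy Nat.prime_two).2 hy2))).dvd_of_dvd_mul_left hx)
  have hfac : ∀ {F₁ F₂ R : ℤ}, (2 * (b : ℤ) ^ 2 - 1) * ((2 * (b : ℤ) ^ 2) ^ 3 + 1) *
      ((2 * (b : ℤ) ^ 2) ^ 4 - 1) * ((2 * (b : ℤ) ^ 2) ^ 6 + 1) =
      F₁ * F₂ * R → ((y ^ (Nat.card S).factorization y : ℕ) : ℤ) ∣ F₁ → (y : ℤ) ∣ F₂ → False := by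
    intro F₁ F₂ R h2 h3 h4
    refine fact3 (g := 1) (F₁ := F₁) (F₂ := F₂) hy hn0 one_ne_zero ?_ h3 (by push_cast; rw [one_mul]; exact h4)
    rw [D.card, h2]
    exact ⟨(2 * (b : ℤ) ^ 2) ^ 12 * R, by push_cast; ring⟩
  have h3b : (y : ℤ) ∣ 2 * (b : ℤ) ^ 2 - 1 → y ≠ 3 := by
    rintro h rfl
    have := D.three
    omega
  have h3c : (y : ℤ) ∣ (2 * (b : ℤ) ^ 2) ^ 2 + 1 → y ≠ 3 := by
    rintro h rfl
    have h3 := D.three
    obtain ⟨z, hz⟩ : ∃ z : ℤ, (b : ℤ) ^ 2 = 3 * z + 1 := ⟨(b : ℤ) ^ 2 / 3, by omega⟩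
    rw [hz] at h
    have e : (2 * (3 * z + 1)) ^ 2 + 1 = 3 * (12 * z ^ 2 + 8 * z + 1) + 2 := by ring
    rw [e] at h
    omega
  have hQ : ¬ (y : ℤ) ∣ 2 * (b : ℤ) ^ 2 := D.not_b hy hy2
  generalize 2 * (b : ℤ) ^ 2 = Q at *
  generalize (Nat.card S).factorization y = N at *
  have hyaz : (y : ℤ) ∣ ((y ^ N : ℕ) : ℤ) := Int.natCast_dvd_natCast.2 hya
  have hyn : (y : ℤ) ∣ n := hyaz.trans h1
  have rem : ∀ {P Q : ℤ}, ¬ (y : ℤ) ∣ Q → ((y ^ N : ℕ) : ℤ) ∣ P * Q → ((y ^ N : ℕ) : ℤ) ∣ P := by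
    intro P Q hQ hPQ
    refine (cop_int fun r hr hrk => ?_).dvd_of_dvd_mul_right hPQ
    have := (Nat.prime_dvd_prime_iff_eq hr hy).1 (hr.dvd_of_dvd_pow hrk)
    rw [this]
    exact hQ
  -- no common prime
  have nc' : ∀ {T D : ℤ} (α β κ : ℤ), (κ = 1 ∨ κ = 2 ∨ κ = 4) → α * T + β * D = κ → (y : ℤ) ∣ T → ¬ (y : ℤ) ∣ D := by
    intro T D α β κ hκ h hT hD
    have h2 : (y : ℤ) ∣ ((2 ^ 2 : ℕ) : ℤ) := by
      have h3 : (y : ℤ) ∣ κ := by
        rw [← h]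
        exact dvd_add (hT.mul_left _) (hD.mul_left _)
      rcases hκ with rfl | rfl | rfl
      · exact h3.trans (by norm_num)
      · exact h3.trans (by norm_num)
      · exact h3.trans (by norm_num)
    exact hy2 ((Nat.prime_dvd_prime_iff_eq hy Nat.prime_two).1 (hy.dvd_of_dvd_pow (Int.natCast_dvd_natCast.1 h2)))
  have hprod : ∀ {a c : ℤ}, ¬ (y : ℤ) ∣ a → ¬ (y : ℤ) ∣ c → ¬ (y : ℤ) ∣ a * c := fun ha hc h => by
    rcases hyp.dvd_or_dvd h with h | h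
    · exact ha h
    · exact hc h
  have three : (y : ℤ) ∣ 3 → y = 3 := fun h =>
    (Nat.prime_dvd_prime_iff_eq hy Nat.prime_three).1 (Int.natCast_dvd_natCast.1 (by simpa using h))
  refine ⟨fun hd => ?_, fun hd => ?_, fun hd => ?_⟩
  · -- `Q - 1`
    have a1 : ¬ (y : ℤ) ∣ Q + 1 := nc' (-1) 1 2 (by norm_num) (by ring) hd
    have a2 : ¬ (y : ℤ) ∣ Q ^ 2 + 1 := nc' (-(Q + 1)) 1 2 (by norm_num) (by ring) hd
    have a3 : ¬ (y : ℤ) ∣ Q ^ 2 + Q + 1 := by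
      intro h
      have := dvd_sub h (hd.mul_right (Q + 2))
      have e : Q ^ 2 + Q + 1 - (Q - 1) * (Q + 2) = 3 := by ring
      rw [e] at this
      exact h3b hd (three this)
    have fin : ((y ^ N : ℕ) : ℤ) ∣ Q - 1 → False := fun h =>
      hfac (F₁ := Q - 1) (F₂ := Q ^ 4 - 1) (R := (Q ^ 3 + 1) * (Q ^ 6 + 1)) (by ring) h
        (hd.trans ⟨(Q + 1) * (Q ^ 2 + 1), by ring⟩)
    rcases hn with h0 | h0 | h0 | h0 | h0
    · exact nc' (-(Q + 1) * Q ^ 2) 1 1 (by norm_num) (by ring) hd (hyn.trans h0)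
    · exact nc' (-(Q + 1) * (Q ^ 2 + 1)) 1 2 (by norm_num) (by ring) hd (hyn.trans h0)
    · refine fin (rem (hprod a1 a2) ?_)
      have e : Q ^ 4 - 1 = (Q - 1) * ((Q + 1) * (Q ^ 2 + 1)) := by ring
      rw [← e]
      exact h1.trans h0
    · refine fin (rem (hprod a3 a1) ?_)
      have e : (Q ^ 3 - 1) * (Q + 1) = (Q - 1) * ((Q ^ 2 + Q + 1) * (Q + 1)) := by ring
      rw [← e]
      exact h1.trans h0
    · refine fin (rem (Q := Q ^ 3 + 1) (nc' (-(Q ^ 2 + Q + 1)) 1 2 (by norm_num) (by ring) hd) ?_)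
      rw [mul_comm]
      exact h1.trans h0
  · -- `Q + 1`
    have a1 : ¬ (y : ℤ) ∣ Q - 1 := nc' 1 (-1) 2 (by norm_num) (by ring) hd
    have a2 : ¬ (y : ℤ) ∣ Q ^ 2 + 1 := nc' (-(Q - 1)) 1 2 (by norm_num) (by ring) hd
    have fin : ((y ^ N : ℕ) : ℤ) ∣ Q ^ 3 + 1 → False := fun h =>
      hfac (F₁ := Q ^ 3 + 1) (F₂ := Q ^ 4 - 1) (R := (Q - 1) * (Q ^ 6 + 1)) (by ring) h
        (hd.trans ⟨(Q - 1) * (Q ^ 2 + 1), by ring⟩)
    have fin' : ((y ^ N : ℕ) : ℤ) ∣ Q + 1 → False := fun h => fin (h.trans ⟨Q ^ 2 - Q + 1, by ring⟩)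
    rcases hn with h0 | h0 | h0 | h0 | h0
    · exact nc' (-(Q - 1) * Q ^ 2) 1 1 (by norm_num) (by ring) hd (hyn.trans h0)
    · exact nc' (-(Q - 1) * (Q ^ 2 + 1)) 1 2 (by norm_num) (by ring) hd (hyn.trans h0)
    · refine fin' (rem (hprod a1 a2) ?_)
      have e : Q ^ 4 - 1 = (Q + 1) * ((Q - 1) * (Q ^ 2 + 1)) := by ring
      rw [← e]
      exact h1.trans h0
    · refine fin' (rem (Q := Q ^ 3 - 1) (nc' (Q ^ 2 - Q + 1) (-1) 2 (by norm_num) (by ring) hd) ?_)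
      rw [mul_comm]
      exact h1.trans h0
    · exact fin (rem a1 (h1.trans h0))
  · -- `Q² + 1`
    have a1 : ¬ (y : ℤ) ∣ Q ^ 2 - 1 := nc' 1 (-1) 2 (by norm_num) (by ring) hd
    have hQ2 : ¬ (y : ℤ) ∣ 2 * Q := by
      intro h
      rcases hyp.dvd_or_dvd h with h | h
      · exact hy2 ((Nat.prime_dvd_prime_iff_eq hy Nat.prime_two).1 (Int.natCast_dvd_natCast.1 (by simpa only [_root_.Nat.cast_ofNat] using h)))
      · exact hQ h
    rcases hn with h0 | h0 | h0 | h0 | h0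
    · have h2 := dvd_sub (hyn.trans h0) (hd.mul_right (Q ^ 2 - 2))
      have e : Q ^ 4 - Q ^ 2 + 1 - (Q ^ 2 + 1) * (Q ^ 2 - 2) = 3 := by ring
      rw [e] at h2
      exact h3c hd (three h2)
    · exact nc' (-(Q ^ 2 - 1)) 1 2 (by norm_num) (by ring) hd (hyn.trans h0)
    · refine hfac (F₁ := Q ^ 2 + 1) (F₂ := Q ^ 2 + 1)
        (R := (Q ^ 2 - 1) * (Q ^ 4 - Q ^ 2 + 1) * (Q ^ 3 + 1) * (Q - 1)) (by ring) (rem a1 ?_) hd
      have e : Q ^ 4 - 1 = (Q ^ 2 + 1) * (Q ^ 2 - 1) := by ring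
      rw [← e]
      exact h1.trans h0
    · have h2 := dvd_sub (hd.mul_right (Q ^ 2 + Q - 1)) (hyn.trans h0)
      have e : (Q ^ 2 + 1) * (Q ^ 2 + Q - 1) - (Q ^ 3 - 1) * (Q + 1) = 2 * Q := by ring
      rw [e] at h2
      exact hQ2 h2
    · have h2 := dvd_sub (hyn.trans h0) (hd.mul_right (Q ^ 2 - Q - 1))
      have e : (Q ^ 3 + 1) * (Q - 1) - (Q ^ 2 + 1) * (Q ^ 2 - Q - 1) = 2 * Q := by ring
      rw [e] at h2
      exact hQ2 h2

/-- an order prime to `p z k`, not dividing `B`, is small -/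
theorem SX.small_ord (h : SX p q k A k' B m i W S) {Z : ℕ} (hZ : ∃ x : S, orderOf x = Z) (hZB : ¬ Z ∣ B)
    (h2 : Z % 2 = 1) (hpz : ∀ r : ℕ, r.Prime → r ∣ Z → ¬ r ∣ p * ((q ^ 2 + 1) / 2))
    (hk : ∀ r : ℕ, r.Prime → r ∣ Z → ¬ r ∣ k) : Z ≤ 3 * (q ^ 2 - 1) := by
  have hk' : ∀ r : ℕ, r.Prime → r ∣ Z → ¬ r ∣ k' := fun r hr hrZ hrk => hZB (SX.dvdB h hZ hr hrk hrZ)
  obtain ⟨z, rfl⟩ := hZ
  have h1 := h.lw.exp _ (h.WS z)
  have hq7 := h.lw.q7
  have hz := h.lw.side.z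
  have c1 : (orderOf z).Coprime (p ^ 2) := Nat.Coprime.pow_right 2 (Nat.Coprime.symm
    ((h.lw.pp.coprime_iff_not_dvd).2 fun hd => hpz p h.lw.pp hd (dvd_mul_right _ _)))
  have c2 : (orderOf z).Coprime (q ^ 2 + 1) := by
    refine Nat.coprime_of_dvd fun r hr hd1 hd2 => ?_
    rw [← hz.1] at hd2
    rcases hr.dvd_mul.1 hd2 with h3 | h3
    · have := (Nat.prime_dvd_prime_iff_eq hr Nat.prime_two).1 h3
      subst this
      omega
    · exact hpz r hr hd1 (h3.mul_left _)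
  have h3 : orderOf z ∣ q ^ 6 - 1 := c2.dvd_of_dvd_mul_right (c1.dvd_of_dvd_mul_left h1)
  have hq2 : 49 ≤ q ^ 2 := by
    calc 49 = 7 ^ 2 := by norm_num
      _ ≤ q ^ 2 := Nat.pow_le_pow_left hq7 2
  have hqq : q ≤ q ^ 2 := Nat.le_self_pow two_ne_zero q
  have e : q ^ 6 - 1 = (q ^ 2 - 1) * ((q ^ 2 + q + 1) * (q ^ 2 - q + 1)) := by
    have h6 : 1 ≤ q ^ 6 := Nat.one_le_pow _ _ (by omega)
    zify [h6, hqq, show 1 ≤ q ^ 2 by omega]
    ring
  have h4 : (q ^ 2 + q + 1) * (q ^ 2 - q + 1) ∣ 3 * (k * k') := by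
    have key : ∀ a b : ℕ, (a = q ^ 2 + q + 1 ∨ 3 * a = q ^ 2 + q + 1 ∧ q % 3 = 1) →
        (b = q ^ 2 - q + 1 ∨ 3 * b = q ^ 2 - q + 1 ∧ q % 3 = 2) →
        (q ^ 2 + q + 1) * (q ^ 2 - q + 1) ∣ 3 * (a * b) := by
      intro a b ha hb
      rcases ha with ha | ⟨ha, ha'⟩ <;> rcases hb with hb | ⟨hb, hb'⟩
      · rw [← ha, ← hb]; exact dvd_mul_left _ _
      · rw [← ha, ← hb]; exact ⟨1, by ring⟩
      · rw [← ha, ← hb]; exact ⟨1, by ring⟩
      · (clear * - ha' hb'; omega)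
    rcases h.lw.side.cof h.lw.q2 with ⟨-, a1, a2⟩ | ⟨-, a1, a2⟩
    · exact key k k' a1 a2
    · rw [mul_comm k k']; exact key k' k a1 a2
  rw [e] at h3
  have h5 : orderOf z ∣ (q ^ 2 - 1) * 3 * (k * k') := by
    rw [mul_assoc]
    exact h3.trans (Nat.mul_dvd_mul_left _ h4)
  have c3 : (orderOf z).Coprime (k * k') :=
    Nat.Coprime.mul_right (Nat.coprime_of_dvd fun r hr hd1 hd2 => hk r hr hd1 hd2)
      (Nat.coprime_of_dvd fun r hr hd1 hd2 => hk' r hr hd1 hd2)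
  have h6 := Nat.le_of_dvd (by omega) (c3.dvd_of_dvd_mul_right h5)
  omega

/-- the primes of `t₊`, `t₋` -/
theorem t4_prime {r : ℕ} (hr : r.Prime) {X : ℤ} (h : (r : ℤ) ∣ t4 X) : 11 ≤ r := by
  by_contra hcon
  have h2 := hr.two_le
  have h4 : r ≠ 4 := by rintro rfl; norm_num at hr
  have h6 : r ≠ 6 := by rintro rfl; norm_num at hr
  have h8 : r ≠ 8 := by rintro rfl; norm_num at hr
  have h9 : r ≠ 9 := by rintro rfl; norm_num at hr
  have h10 : r ≠ 10 := by rintro rfl; norm_num at hr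
  have h1 := Int.emod_eq_zero_of_dvd h
  unfold t4 at h1
  have key : ∀ n : ℤ, 0 < n → ∃ a : ℤ, 0 ≤ a ∧ a < n ∧ X % n = a := fun n hn =>
    ⟨X % n, Int.emod_nonneg _ hn.ne', Int.emod_lt_of_pos _ hn, rfl⟩
  rcases (by (clear * - hcon h2 h4 h6 h8 h9 h10; solve | lia | omega) : r = 2 ∨ r = 3 ∨ r = 5 ∨ r = 7) with rfl | rfl | rfl | rfl
  · omega
  · obtain ⟨a, h3, h5, h7⟩ := key 3 (by norm_num)
    interval_cases a <;> simp only [pow_succ, Int.add_emod, Int.mul_emod, h7, _root_.pow_zero, _root_.one_mul, _root_.Nat.cast_ofNat, _root_.Int.reduceMod, _root_.MulZeroClass.mul_zero, _root_.EuclideanDomain.zero_mod, _root_.add_zero, _root_.zero_add, _root_.one_ne_zero, _root_.mul_one, _root_.Int.reduceAdd, _root_.EuclideanDomain.mod_self, _root_.Int.reduceMul] at h1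
  · obtain ⟨a, h3, h5, h7⟩ := key 5 (by norm_num)
    interval_cases a <;> simp only [pow_succ, Int.add_emod, Int.mul_emod, h7, _root_.pow_zero, _root_.one_mul, _root_.Nat.cast_ofNat, _root_.Int.reduceMod, _root_.MulZeroClass.mul_zero, _root_.EuclideanDomain.zero_mod, _root_.add_zero, _root_.zero_add, _root_.one_ne_zero, _root_.mul_one, _root_.Int.reduceAdd, _root_.EuclideanDomain.mod_self, _root_.OfNat.ofNat_ne_zero, _root_.Int.reduceMul] at h1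
  · obtain ⟨a, h3, h5, h7⟩ := key 7 (by norm_num)
    interval_cases a <;> simp only [pow_succ, Int.add_emod, Int.mul_emod, h7, _root_.pow_zero, _root_.one_mul, _root_.Nat.cast_ofNat, _root_.Int.reduceMod, _root_.MulZeroClass.mul_zero, _root_.EuclideanDomain.zero_mod, _root_.add_zero, _root_.zero_add, _root_.one_ne_zero, _root_.mul_one, _root_.Int.reduceAdd, _root_.OfNat.ofNat_ne_zero, _root_.Int.reduceMul, _root_.EuclideanDomain.mod_self] at h1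

/-- **State II.** -/
theorem tf4_II (h : SX p q k A k' B m i W S) (hg : Good W m i) (D : TF4Dat b S)
    (hF : ∀ w : ℕ, w.Prime → 5 ≤ w → F1.FldDat 2 w S) (hw : ∃ w : ℕ, w.Prime ∧ w ∣ k' ∧ w ∣ m * i)
    (h2 : ∀ r : ℕ, r.Prime → (r ∣ (q ^ 2 + 1) / 2 ∨ r = p) → ¬ r ∣ m ∧ ¬ r ∣ i) : False := by
  have := h.fin
  obtain ⟨w, hwp, hwk, hwmi⟩ := hw
  have hw7 := SX.prime h hwp (Or.inr hwk)
  have hwm : w ∣ m := by
    rcases hwp.dvd_mul.1 hwmi with h3 | h3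
    · exact h3
    · exact (SX.noFld h hwp hwk h3 h2 (hF w hwp (by omega))).elim
  have hz25 := z_ge h.lw
  have hp3 := h.lw.p3
  obtain ⟨hb, hb8⟩ := tf4_b4 h hg D
  have hev := D.even
  obtain ⟨x, hx⟩ := SX.pzS h h2
  have hpodd : p % 2 = 1 := h.lw.pp.eq_two_or_odd.resolve_left h.lw.p2
  have hpzodd : (p * ((q ^ 2 + 1) / 2)) % 2 = 1 := by
    rw [Nat.mul_mod, hpodd, h.lw.side.z.2]
  -- the classes of the primes of `p z`
  have hcl : ∀ y : ℕ, y.Prime → y ∣ p * ((q ^ 2 + 1) / 2) → y ≠ 2 ∧ ¬ (y : ℤ) ∣ 2 * (b : ℤ) ^ 2 - 1 ∧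
      ¬ (y : ℤ) ∣ 2 * (b : ℤ) ^ 2 + 1 ∧ ¬ (y : ℤ) ∣ t2 b ∧ ¬ (y : ℤ) ∣ t2 (-b) := by
    intro y hy hyd
    have hyz : y ∣ (q ^ 2 + 1) / 2 ∨ y = p := by
      rcases hy.dvd_mul.1 hyd with h3 | h3
      · exact Or.inr ((Nat.prime_dvd_prime_iff_eq hy h.lw.pp).1 h3)
      · exact Or.inl h3
    have hyS : y ∣ Nat.card S := h.dvd_card hy (h.W_prime hy (by (clear * - hyz; itauto))) (h2 y hy hyz).1 (h2 y hy hyz).2
    have hy2 : y ≠ 2 := by
      rintro rfl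
      omega
    obtain ⟨a1, a2, a3⟩ := D.cyc hy hy2 hyS (SX.cyc h hwp hwk hwm hy hyz)
    refine ⟨hy2, a1, a2, fun h4 => a3 (h4.trans ⟨t2 (-b), by unfold t2; ring⟩),
      fun h4 => a3 (h4.trans ⟨t2 b, by unfold t2; ring⟩)⟩
  have hnat : ∀ {n T : ℕ} {P : ℤ}, (n : ℤ) ∣ P → (T : ℤ) = P → n ∣ T := by
    rintro n T P h1 rfl
    exact_mod_cast h1
  by_cases h1 : ∃ X : ℤ, (X = b ∨ X = -b) ∧ ∃ y : ℕ, y.Prime ∧ y ∣ p * ((q ^ 2 + 1) / 2) ∧ (y : ℤ) ∣ t4 X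
  · obtain ⟨X, hX, y, hy, hyd, hyX⟩ := h1
    have hXe : X % 2 = 0 := by rcases hX with h | h <;> omega
    have h3 : ((p * ((q ^ 2 + 1) / 2) : ℕ) : ℤ) ∣ t4 X := by
      rw [← hx]
      exact D.cc X hX x y hy (by rw [hx]; exact hyd) hyX
    obtain ⟨t, ht⟩ := D.ex4 X hX
    obtain ⟨κ, hκ, h4, h5⟩ := SX.pzD h ⟨t, rfl⟩ (hnat h3 ht)
    have hκ1 : κ = 1 := by
      rcases hκ with h6 | h6
      · exact h6
      · exfalso
        have h7 : ((orderOf t : ℕ) : ℤ) % 2 = 1 := by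
          rw [ht]
          unfold t4
          obtain ⟨d, hd⟩ : ∃ d : ℤ, X = 2 * d := ⟨X / 2, by omega⟩
          rw [hd]
          ring_nf
          omega
        rw [h4, h6] at h7
        push_cast at h7
        omega
    rw [hκ1, one_mul] at h4
    have h4' : ((p * ((q ^ 2 + 1) / 2) : ℕ) : ℤ) = t4 X := by rw [← h4, ht]
    have hp11 : 11 ≤ p := by
      refine t4_prime h.lw.pp (X := X) ?_
      rw [← h4']
      exact Int.natCast_dvd_natCast.2 (dvd_mul_right _ _)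
    -- the third torus
    have third : ∀ Z : ℕ, Z ≤ 3 * (q ^ 2 - 1) → 6 * t4 X ≤ 11 * Z → False := by
      intro Z hZ hZ2
      have h6 : 6 * (p * ((q ^ 2 + 1) / 2)) ≤ 11 * Z := by
        have : 6 * ((p * ((q ^ 2 + 1) / 2) : ℕ) : ℤ) ≤ 11 * Z := by rw [h4']; exact hZ2
        exact_mod_cast this
      have h7 : 11 * Z ≤ p * Z := Nat.mul_le_mul_right _ hp11
      have h8 : p * Z ≤ p * (3 * (q ^ 2 - 1)) := Nat.mul_le_mul_left _ hZ
      have h9 : 6 * (p * ((q ^ 2 + 1) / 2)) = p * (3 * (q ^ 2 + 1)) := by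
        calc 6 * (p * ((q ^ 2 + 1) / 2)) = p * (3 * (2 * ((q ^ 2 + 1) / 2))) := by ring
          _ = p * (3 * (q ^ 2 + 1)) := by rw [h.lw.side.z.1]
      have h10 : p * (3 * (q ^ 2 - 1)) < p * (3 * (q ^ 2 + 1)) := by
        apply Nat.mul_lt_mul_of_pos_left _ (by omega)
        omega
      omega
    have hodd : ∀ {r : ℕ}, r.Prime → ∀ {Z : ℕ}, Z % 2 = 1 → r ∣ Z → r ≠ 2 := by
      rintro r hr Z hZ hrZ rfl
      omega
    have e6 : t6 b = t6 X := by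
      unfold t6
      rcases hX with rfl | rfl <;> ring
    have c64 : ∀ r : ℕ, r.Prime → ∀ Y : ℤ, (r : ℤ) ∣ t6 Y → ¬ (r : ℤ) ∣ t4 Y := by
      intro r hr Y h6 h7
      have h8 : (r : ℤ) ∣ 1 := by
        have := dvd_add (h6.mul_left (4 * Y ^ 3 + 2 * Y ^ 2 + Y + 2)) (h7.mul_left (-4 * Y ^ 3 + 2 * Y ^ 2 + Y - 1))
        have e : (4 * Y ^ 3 + 2 * Y ^ 2 + Y + 2) * t6 Y + (-4 * Y ^ 3 + 2 * Y ^ 2 + Y - 1) * t4 Y = 1 := by
          unfold t4 t6; ring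
        rwa [e] at this
      have := Int.le_of_dvd (by norm_num) h8
      have := hr.two_le
      omega
    have c44 : ∀ r : ℕ, r.Prime → r ≠ 2 → ∀ Y : ℤ, (r : ℤ) ∣ t4 (-Y) → ¬ (r : ℤ) ∣ t4 Y := by
      intro r hr hr2 Y h6 h7
      have h8 : (r : ℤ) ∣ 2 := by
        have := dvd_add (h7.mul_left (-Y + 1)) (h6.mul_left (Y + 1))
        have e : (-Y + 1) * t4 Y + (Y + 1) * t4 (-Y) = 2 := by unfold t4; ring
        rwa [e] at this
      have h9 : r ∣ 2 := by exact_mod_cast h8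
      exact hr2 ((Nat.prime_dvd_prime_iff_eq hr Nat.prime_two).1 h9)
    obtain ⟨s, hs, hsk⟩ := Nat.exists_prime_and_dvd h.lw.k_pos.1.ne'
    rcases tf4_k h hg D with hk | ⟨Y, hY, hk⟩
    · -- `k ∣ t6`
      obtain ⟨y6, hy6⟩ := D.ex6
      have hkT := hnat hk hy6
      have hTA := SX.dvdA h ⟨y6, rfl⟩ hkT
      have hX' : -X = b ∨ -X = -b := by
        rcases hX with rfl | rfl
        · exact Or.inr rfl
        · exact Or.inl (neg_neg _)
      obtain ⟨z, hz⟩ := D.ex4 (-X) hX'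
      have hzo : orderOf z % 2 = 1 := by
        have : ((orderOf z : ℕ) : ℤ) % 2 = 1 := by
          rw [hz]
          unfold t4
          obtain ⟨d, hd⟩ : ∃ d : ℤ, X = 2 * d := ⟨X / 2, by omega⟩
          rw [hd]
          ring_nf
          omega
        omega
      refine third (orderOf z) (SX.small_ord h ⟨z, rfl⟩
        (fun hB => tf4_64 h.lw hX' hev hb hTA hkT hy6 hB hz) hzo ?_ ?_) ?_
      · intro r hr h6 h7
        have h8 : (r : ℤ) ∣ t4 (-X) := by rw [← hz]; exact Int.natCast_dvd_natCast.2 h6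
        have h9 : (r : ℤ) ∣ t4 X := by rw [← h4']; exact Int.natCast_dvd_natCast.2 h7
        exact c44 r hr (hodd hr hzo h6) X h8 h9
      · intro r hr h6 h7
        have h8 : (r : ℤ) ∣ t4 (-X) := by rw [← hz]; exact Int.natCast_dvd_natCast.2 h6
        have h9 : (r : ℤ) ∣ t6 (-X) := by
          have e : t6 (-X) = t6 b := by rw [e6]; unfold t6; ring
          rw [e]
          exact (Int.natCast_dvd_natCast.2 h7).trans hk
        exact c64 r hr (-X) h9 h8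
      · rw [hz]
        obtain ⟨t, rfl⟩ : ∃ t, b = t + 4 := ⟨b - 4, by omega⟩
        unfold t4
        rcases hX with h | h <;> rw [h] <;> push_cast <;> apply pos_le <;> clear * - <;> ring_nf <;> positivity
    · obtain ⟨y4, hy4⟩ := D.ex4 Y hY
      have hkT := hnat hk hy4
      have hTA := SX.dvdA h ⟨y4, rfl⟩ hkT
      have hYX : Y = X ∨ Y = -X := by
        rcases hX with rfl | rfl <;> rcases hY with rfl | rfl <;> simp
      rcases hYX with hYX | hYX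
      · have h6 : p * ((q ^ 2 + 1) / 2) ∣ orderOf y4 := hnat (h4'.dvd) (by rw [hy4, hYX])
        exact h.lw.naz hs (Or.inl hsk) h.lw.pp (Or.inr rfl) (h.WS y4) (hsk.trans hkT) ((dvd_mul_right _ _).trans h6)
      · obtain ⟨z, hz⟩ := D.ex6
        have hzo : orderOf z % 2 = 1 := by
          have : ((orderOf z : ℕ) : ℤ) % 2 = 1 := by
            rw [hz]
            unfold t6
            obtain ⟨d, hd⟩ : ∃ d : ℤ, (b : ℤ) = 2 * d := ⟨(b : ℤ) / 2, by omega⟩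
            rw [hd]
            ring_nf
            omega
          omega
        refine third (orderOf z) (SX.small_ord h ⟨z, rfl⟩
          (fun hB => tf4_46 h.lw hY hb hTA hkT hy4 hB hz) hzo ?_ ?_) ?_
        · intro r hr h6 h7
          have h8 : (r : ℤ) ∣ t6 X := by rw [← e6, ← hz]; exact Int.natCast_dvd_natCast.2 h6
          have h9 : (r : ℤ) ∣ t4 X := by rw [← h4']; exact Int.natCast_dvd_natCast.2 h7
          exact c64 r hr X h8 h9
        · intro r hr h6 h7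
          have h8 : (r : ℤ) ∣ t6 Y := by
            have e : t6 Y = t6 b := by rw [e6, hYX]; unfold t6; ring
            rw [e, ← hz]
            exact Int.natCast_dvd_natCast.2 h6
          exact c64 r hr Y h8 ((Int.natCast_dvd_natCast.2 h7).trans hk)
        · rw [hz]
          obtain ⟨t, rfl⟩ : ∃ t, b = t + 4 := ⟨b - 4, by omega⟩
          unfold t4 t6
          rcases hX with h | h <;> rw [h] <;> push_cast <;> apply pos_le <;> clear * - <;> ring_nf <;> positivity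
  · push Not at h1
    have h3 : ((p * ((q ^ 2 + 1) / 2) : ℕ) : ℤ) ∣ t6 b := by
      rw [← hx]
      refine D.six x fun r hr hrx => ?_
      rw [hx] at hrx
      obtain ⟨a0, a1, a2, a3, a4⟩ := hcl r hr hrx
      exact ⟨a0, a1, a2, a3, a4, h1 b (Or.inl rfl) r hr hrx, h1 (-b) (Or.inr rfl) r hr hrx⟩
    obtain ⟨t, ht⟩ := D.ex6
    obtain ⟨κ, hκ, h4, -⟩ := SX.pzD h ⟨t, rfl⟩ (hnat h3 ht)
    have h3b := D.three
    obtain ⟨z, hz⟩ : ∃ z : ℤ, (b : ℤ) ^ 2 = 3 * z + 1 := ⟨(b : ℤ) ^ 2 / 3, by omega⟩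
    have h5 : (3 : ℤ) ∣ ((orderOf t : ℕ) : ℤ) := by
      rw [ht]
      unfold t6
      refine ⟨12 * z ^ 2 + 6 * z + 1, ?_⟩
      have e : (b : ℤ) ^ 4 = ((b : ℤ) ^ 2) ^ 2 := by ring
      rw [e, hz]
      ring
    have h6 : 3 ∣ orderOf t := by exact_mod_cast h5
    rw [h4] at h6
    rcases Nat.prime_three.dvd_mul.1 h6 with h7 | h7
    · rcases hκ with h8 | h8 <;> rw [h8] at h7 <;> norm_num at h7
    · exact (hcl 3 Nat.prime_three h7).2.2.1 ⟨2 * z + 1, by push_cast; rw [hz]; ring⟩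

/-- **Row `²F₄(2^{2m+1})`.** -/
theorem row_tf4 {v f : ℕ} (h : SX p q k A k' B m i W S) (hg : Good W m i) (hI : Fam.Is v f S Fam.tf4) (hv : v.Prime)
    (hvp : v ≠ p) : False := by
  have hF : ∀ w : ℕ, w.Prime → 5 ≤ w → F1.FldDat v w S := fun w hw hw5 =>
    fldDat_exc (t := Fam.tf4) trivial hv hI hw hw5
  obtain ⟨rfl, a, ha, -, K, _, _, hcard, ⟨e⟩⟩ := hI
  have D : TF4Dat (2 ^ a) S := (tf4Dat ha hcard rfl).congr e
  rcases h.dich with h1 | ⟨hw, h2⟩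
  · exact tf4_I h hg D h1
  · exact tf4_II h hg D hF hw h2

end

end Cfsg.Agent.R2.Spec.X4.H18
end
end

-- part: R2/Spec/X3/ExcSz_mg
section
prune_inst 0x20006004300000000000001002000000400001000000000130c0080200075200800008004280080a0820000000000000000000400000000000000000000100208000400092480104460007803001100000000000020000000000000000041000000000000
set_option linter.all false
open scoped Cfsg.Agent.FastGrp

-- part: R2/Spec/X3/ExcSz
section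
/-!
# Box X3 of S3435: the Suzuki groups and the Ree groups `²G₂` (helper16)

* `row_sz`, `row_ree`.
-/

set_option autoImplicit false
set_option linter.unusedTactic false

namespace Cfsg.Agent.R2.Spec.X3

open Cfsg

/-- the case `T > N` or `T < N`, all odd: Suzuki -/
theorem sz_A {p : ℕ} {x w : ℤ} (hw : 2 ≤ w)
    (h : ((p : ℤ) = x ∧ x % 4 = 1 ∧ 5 ≤ x ∧ 2 * (2 * w ^ 2 - 1) = x ^ 2 + 1 ∧ 2 * (2 * w ^ 2 - 2 * w + 1) = x ^ 2 + x) ∨
      (x, 2 * w ^ 2 - 1, 2 * w ^ 2 - 2 * w + 1) ∈ excOdd) : False := by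
  rcases h with ⟨-, -, h5, h1, h2⟩ | h
  · have : x = 5 - 4 * w := by linarith only [h1, h2]
    omega
  · simp only [excOdd, List.mem_cons, Prod.mk.injEq, List.not_mem_nil, or_false] at h
    rcases h with ⟨-, h1, h2⟩ | ⟨-, h1, h2⟩ | ⟨-, h1, h2⟩ | ⟨-, h1, h2⟩ | ⟨-, h1, h2⟩ | ⟨-, h1, h2⟩ | ⟨-, h1, h2⟩ | ⟨-, h1, h2⟩
    · have h3 : w = 5 := by linarith
      subst h3; norm_num at h1
    · have h3 : w = 5 := by linarith
      subst h3; norm_num at h1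
    · have h3 : w = 24 := by linarith
      subst h3; norm_num at h1
    · have h3 : w = 18 := by linarith
      subst h3; norm_num at h1
    · have h3 : w = 0 := by linarith
      omega
    · have h3 : w = -2 := by linarith
      omega
    · have h3 : w = 25 := by linarith
      subst h3; norm_num at h1
    · have h3 : w = 209 := by linarith
      subst h3; norm_num at h1

theorem sz_B {p : ℕ} {x w : ℤ} (hw : 2 ≤ w)
    (h : ((p : ℤ) = x ∧ x % 4 = 1 ∧ 5 ≤ x ∧ 2 * (2 * w ^ 2 + 2 * w + 1) = x ^ 2 + 1 ∧ 2 * (2 * w ^ 2 - 1) = x ^ 2 + x) ∨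
      (x, 2 * w ^ 2 + 2 * w + 1, 2 * w ^ 2 - 1) ∈ excOdd) : False := by
  rcases h with ⟨-, -, h5, h1, h2⟩ | h
  · have : x = -4 * w - 3 := by linarith only [h1, h2]
    omega
  · simp only [excOdd, List.mem_cons, Prod.mk.injEq, List.not_mem_nil, or_false] at h
    rcases h with ⟨-, h1, h2⟩ | ⟨-, h1, h2⟩ | ⟨-, h1, h2⟩ | ⟨-, h1, h2⟩ | ⟨-, h1, h2⟩ | ⟨-, h1, h2⟩ | ⟨-, h1, h2⟩ | ⟨-, h1, h2⟩
    · have h3 : w = 3 := by linarith
      subst h3; norm_num at h1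
    · have h3 : w = 3 := by linarith
      subst h3; norm_num at h1
    · have h3 : w = 22 := by linarith
      subst h3; norm_num at h1
    · have h3 : w = 16 := by linarith
      subst h3; norm_num at h1
    · omega
    · omega
    · have h3 : w = 23 := by linarith
      subst h3; norm_num at h1
    · have h3 : w = 207 := by linarith
      subst h3; norm_num at h1

theorem sz_C {p : ℕ} {x w : ℤ} (hw : 2 ≤ w)
    (h : ((p : ℤ) = x ∧ x % 4 = 1 ∧ 5 ≤ x ∧ 2 * (2 * w ^ 2 - 2 * w + 1) = x ^ 2 + 1 ∧ 2 * (2 * w ^ 2 - 1) = x ^ 2 + x) ∨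
      (x, 2 * w ^ 2 - 2 * w + 1, 2 * w ^ 2 - 1) ∈ excOdd) : False := by
  rcases h with ⟨-, -, h5, h1, h2⟩ | h
  · have h3 : x = 4 * w - 3 := by linarith
    subst h3
    have h4 : (3 * w - 2) * (w - 1) = 0 := by linarith
    rcases mul_eq_zero.1 h4 with h5 | h5 <;> omega
  · simp only [excOdd, List.mem_cons, Prod.mk.injEq, List.not_mem_nil, or_false] at h
    rcases h with ⟨-, h1, h2⟩ | ⟨-, h1, h2⟩ | ⟨-, h1, h2⟩ | ⟨-, h1, h2⟩ | ⟨-, h1, h2⟩ | ⟨-, h1, h2⟩ | ⟨-, h1, h2⟩ | ⟨-, h1, h2⟩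
    · omega
    · omega
    · omega
    · omega
    · have h3 : w = 2 := by linarith
      subst h3; norm_num at h1
    · have h3 : w = 4 := by linarith
      subst h3; norm_num at h1
    · omega
    · omega

theorem bez {T N : ℕ} (a b : ℤ) (h : a * T + b * N = 1) : Nat.Coprime T N := by
  rw [← Nat.isCoprime_iff_coprime]
  exact ⟨a, b, h⟩

/-- **Suzuki groups** -/
theorem row_sz {F : Type*} [Field F] [Fintype F] {m p M : ℕ} {x : ℤ} (hm : 1 ≤ m) (hF : Fintype.card F = 2 ^ (2 * m + 1))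
    (h : Cand p x M ↥(Lie.Sz F (2 ^ (m + 1)))) : False := by
  obtain ⟨i⟩ := Cfsg.Agent.OddCyclic.ClaimC.SzIso.iso hm hF
  have h' : Cand p x M (Cfsg.Sz F m) := h.congr i.symm
  obtain ⟨hs, hA, hB, hC⟩ := Cfsg.Agent.H372.SzSpec.spec (F := F) hm hF
  obtain ⟨w, hw, hw2⟩ : ∃ w, 2 ^ m = w ∧ 2 ≤ w := ⟨2 ^ m, rfl, by
    calc 2 = 2 ^ 1 := by norm_num
      _ ≤ 2 ^ m := Nat.pow_le_pow_right (by norm_num) hm⟩
  have e1 : 2 ^ (2 * m + 1) = 2 * w ^ 2 := by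
    rw [← hw, ← pow_mul, pow_succ]
    ring
  have e2 : 2 ^ (m + 1) = 2 * w := by
    rw [← hw]
    ring
  rw [e1, e2] at hs hB hC
  rw [e1] at hA
  have hww : 2 * w ≤ w ^ 2 := by nlinarith only [hw2]
  obtain ⟨g, hg⟩ := h'.elt
  have hso := hs g (by rw [hg, Nat.odd_iff]; exact h'.M_odd)
  rw [hg] at hso
  have cA : ((2 * w ^ 2 - 1 : ℕ) : ℤ) = 2 * (w : ℤ) ^ 2 - 1 := by
    rw [Nat.cast_sub (by omega)]; push_cast; ring
  have cB : ((2 * w ^ 2 + 2 * w + 1 : ℕ) : ℤ) = 2 * (w : ℤ) ^ 2 + 2 * w + 1 := by push_cast; ring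
  have cC : ((2 * w ^ 2 - 2 * w + 1 : ℕ) : ℤ) = 2 * (w : ℤ) ^ 2 - 2 * w + 1 := by
    rw [Nat.cast_add, Nat.cast_sub (by omega)]; push_cast; ring
  have hwZ : (2 : ℤ) ≤ w := by exact_mod_cast hw2
  rcases hso with h1 | h1 | h1
  · -- `T = u - 1`, `N = u - ρ + 1`
    have hcop : Nat.Coprime (2 * w ^ 2 - 2 * w + 1) (2 * w ^ 2 - 1) := by
      refine bez ((w : ℤ) + 1) (-(w : ℤ)) ?_
      rw [cA, cC]; ring
    have h2 := h'.pair_odd hA h1 hC (by (clear * -; omega)) (hcop.coprime_dvd_right h1) (by rw [cA, cC]; linarith only [hw2, hww])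
    rw [cA, cC] at h2
    exact sz_A hwZ h2
  · -- `T = u + ρ + 1`, `N = u - 1`
    have hcop : Nat.Coprime (2 * w ^ 2 - 1) (2 * w ^ 2 + 2 * w + 1) := by
      refine bez (w : ℤ) (-((w : ℤ) - 1)) ?_
      rw [cA, cB]; ring
    have h2 := h'.pair_odd hB h1 hA (by omega) (hcop.coprime_dvd_right h1) (by rw [cA, cB]; linarith only [hww])
    rw [cA, cB] at h2
    exact sz_B hwZ h2
  · -- `T = u - ρ + 1`, `N = u - 1`
    have hcop : Nat.Coprime (2 * w ^ 2 - 1) (2 * w ^ 2 - 2 * w + 1) := by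
      refine bez (-(w : ℤ)) ((w : ℤ) + 1) ?_
      rw [cA, cC]; ring
    have h2 := h'.pair_odd hC h1 hA (by omega) (hcop.coprime_dvd_right h1) (by rw [cA, cC]; linarith only [hww])
    rw [cA, cC] at h2
    exact sz_C hwZ h2

/-- `T = 3 t² + 3 ε t + 1`, `N = 3 t² - 1` -/
theorem ree_num {p : ℕ} {x t ε : ℤ} (ht : 3 ≤ t) (hε : ε = 1 ∨ ε = -1) (hN8 : (3 * t ^ 2 - 1) % 8 = 2)
    (h : PairOut p x (3 * t ^ 2 + 3 * (ε * t) + 1) (3 * t ^ 2 - 1)) : False := by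
  have hN3 : (3 * t ^ 2 - 1) % 3 = 2 := by
    generalize t ^ 2 = s
    omega
  have hε2 : ε ^ 2 = 1 := by rcases hε with rfl | rfl <;> norm_num
  have hεt : ε * t = t ∨ ε * t = -t := by rcases hε with rfl | rfl <;> simp
  have hs2 : (ε * t) ^ 2 = t ^ 2 := by rw [mul_pow, hε2, one_mul]
  rcases out_even (by omega) h with ⟨hx4, hx5, h⟩ | ⟨hx4, hx5, h⟩
  · rcases h with ⟨h1, h2⟩ | ⟨h0, a, ha, hao, h1, h2⟩ | h
    · have h3 : 3 * (ε * t) = -1 := by linarith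
      (clear * - h1 h2; omega)
    · -- `a x = 6 s + 4 - a`
      have h9 : a * x = a * 0 + (6 * (ε * t) + 4 - a) := by linarith only [h1, h2]
      have h10 : a * (2 * (3 * t ^ 2 + 3 * (ε * t) + 1)) = (6 * (ε * t) + 4 - a) ^ 2 + a ^ 2 := by
        rw [h1]
        have e : a * (a * (x ^ 2 + 1)) = (a * x) ^ 2 + a ^ 2 := by ring
        rw [e, h9]; ring
      have h13 : ∀ z : ℤ, (2 * z ^ 2 - z + 1) % 3 ≠ 0 := by
        intro z
        obtain ⟨y, r, rfl, hr⟩ : ∃ y r, z = 3 * y + r ∧ (r = 0 ∨ r = 1 ∨ r = 2) := ⟨z / 3, z % 3, by omega, by omega⟩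
        have e : 2 * (3 * y + r) ^ 2 - (3 * y + r) + 1 = 3 * (6 * y ^ 2 + 4 * y * r - y) + (2 * r ^ 2 - r + 1) := by ring
        rw [e]
        generalize 6 * y ^ 2 + 4 * y * r - y = w
        rcases hr with rfl | rfl | rfl <;> norm_num <;> omega
      apply h13 a
      have e : 2 * a ^ 2 - a + 1 = 3 * (2 * a * t ^ 2 + 6 * a * (ε * t) + 3 * a - 12 * (ε * t) ^ 2 - 16 * (ε * t) - 5) := by
        linear_combination -h10
      rw [e]
      exact Int.mul_emod_right 3 _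
    · simp only [excE1, List.mem_cons, Prod.mk.injEq, List.not_mem_nil, or_false] at h
      have h2 : (3 * t ^ 2 - 1 = 6 ∨ 3 * t ^ 2 - 1 = 8 ∨ 3 * t ^ 2 - 1 = 20 ∨ 3 * t ^ 2 - 1 = 1228) := by (clear * - h; tauto)
      clear * - h2 hN3 hN8
      omega
  · rcases h with ⟨δ, hδ, h⟩ | ⟨-, h1, h2⟩ | h
    · rcases h with ⟨h0, -, -⟩ | ⟨-, h0, h1, h2⟩ | ⟨h0, -, -⟩
      · omega
      · have h3 : 2 * x = δ * (3 * (ε * t) + 2) - 1 := by linarith
        have h4 : 4 * (δ * (3 * t ^ 2 - 1)) = (2 * x) * (2 * x - 2) := by rw [h2]; ring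
        rw [h3, ← hs2] at h4
        generalize ε * t = s at h4 hεt
        rcases hδ with rfl | rfl
        · have h5 : (s - 1) * (s + 1) = 0 := by linarith
          rcases mul_eq_zero.1 h5 with h6 | h6 <;> omega
        · have h5 : (5 * s + 3) * (s + 1) = 0 := by linarith only [h4]
          rcases mul_eq_zero.1 h5 with h6 | h6 <;> omega
      · omega
    · have h3 : x = 3 * (ε * t) + 2 := by linarith
      rw [h3, ← hs2] at h2
      generalize ε * t = s at h2 hεt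
      have h5 : (s + 1) * (s + 1) = 0 := by linarith
      rcases mul_eq_zero.1 h5 with h6 | h6 <;> omega
    · simp only [excE2, List.mem_cons, Prod.mk.injEq, List.not_mem_nil, or_false] at h
      have h2 : (3 * t ^ 2 - 1 = 10 ∨ 3 * t ^ 2 - 1 = 12 ∨ 3 * t ^ 2 - 1 = 20 ∨ 3 * t ^ 2 - 1 = 24 ∨
        3 * t ^ 2 - 1 = 28 ∨ 3 * t ^ 2 - 1 = 200 ∨ 3 * t ^ 2 - 1 = 72 ∨ 3 * t ^ 2 - 1 = 80 ∨ 3 * t ^ 2 - 1 = 296 ∨
        3 * t ^ 2 - 1 = 580 ∨ 3 * t ^ 2 - 1 = 31900) := by (clear * - h; tauto)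
      clear * - h2 hN3 hN8
      omega

/-- **Ree groups `²G₂`** -/
theorem row_ree {K : Type*} [Field K] [Fintype K] {m p M : ℕ} {x : ℤ} (hm : 1 ≤ m) (hK : Fintype.card K = 3 ^ (2 * m + 1))
    (h : Cand p x M ↥(Lie.twistedG2 K (3 ^ m))) : False := by
  have hsp := S1159.result (K := K) hm hK
  obtain ⟨t, ht, ht3⟩ : ∃ t, 3 ^ m = t ∧ 3 ≤ t := ⟨3 ^ m, rfl, by
    calc 3 = 3 ^ 1 := by norm_num
      _ ≤ 3 ^ m := Nat.pow_le_pow_right (by norm_num) hm⟩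
  have e1 : 3 ^ (2 * m + 1) = 3 * t ^ 2 := by
    rw [← ht, ← pow_mul, pow_succ]
    ring
  have e2 : 3 ^ (m + 1) = 3 * t := by
    rw [← ht]
    ring
  have hto : Odd t := by
    rw [← ht]
    exact (by decide : Odd 3).pow
  rw [e1, e2] at hsp
  have hexi : ∀ d, (d ∣ 6 ∨ d ∣ 9 ∨ d ∣ 3 * t ^ 2 - 1 ∨ d ∣ (3 * t ^ 2 + 1) / 2 ∨ d ∣ 3 * t ^ 2 - 3 * t + 1 ∨
      d ∣ 3 * t ^ 2 + 3 * t + 1) → ∃ g : ↥(Cfsg.Lie.twistedG2 K (3 ^ m)), orderOf g = d := fun d hd => (hsp d).2 hd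
  obtain ⟨a, ha⟩ := hto
  have ht2 : t ^ 2 = 4 * a ^ 2 + 4 * a + 1 := by rw [ha]; ring
  have hC := hexi _ (Or.inr (Or.inr (Or.inr (Or.inr (Or.inl dvd_rfl)))))
  have hB := hexi _ (Or.inr (Or.inr (Or.inr (Or.inr (Or.inr dvd_rfl)))))
  have hA := hexi _ (Or.inr (Or.inr (Or.inl dvd_rfl)))
  have hD := hexi _ (Or.inr (Or.inr (Or.inr (Or.inl dvd_rfl))))
  have htt : 3 * t ≤ t ^ 2 := by nlinarith only [ht3]
  obtain ⟨r, hr, hrn⟩ := h.exists_prime
  have hmm := h.M_ge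
  have cA : ((3 * t ^ 2 - 1 : ℕ) : ℤ) = 3 * (t : ℤ) ^ 2 - 1 := by
    rw [Nat.cast_sub (by (clear * - ht2; omega))]; push_cast; ring
  have cB : ((3 * t ^ 2 + 3 * t + 1 : ℕ) : ℤ) = 3 * (t : ℤ) ^ 2 + 3 * t + 1 := by push_cast; ring
  have cC : ((3 * t ^ 2 - 3 * t + 1 : ℕ) : ℤ) = 3 * (t : ℤ) ^ 2 - 3 * t + 1 := by
    rw [Nat.cast_add, Nat.cast_sub (by (clear * - htt; omega))]; push_cast; ring
  have htZ : (3 : ℤ) ≤ t := by exact_mod_cast ht3
  have hmod : 3 * t ^ 2 % 8 = 3 := by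
    have h5 : t % 8 = 1 ∨ t % 8 = 3 ∨ t % 8 = 5 ∨ t % 8 = 7 := by (clear * - ha; omega)
    have h6 : t ^ 2 % 8 = 1 := by
      rcases h5 with h5 | h5 | h5 | h5 <;> rw [Nat.pow_mod, h5]
    (clear * - h6; omega)
  have hmodZ : (3 * (t : ℤ) ^ 2 - 1) % 8 = 2 := by rw [← cA]; (clear * - ht2 hmod; omega)
  rcases (hsp M).1 h.elt with h1 | h1 | h1 | h1 | h1 | h1
  · have := Nat.le_of_dvd (by norm_num) h1
    omega
  · have := Nat.le_of_dvd (by norm_num) h1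
    omega
  · have h2 := h.odd_of_M hA h1
    omega
  · have h2 := h.odd_of_M hD h1
    (clear * - hmod h2; omega)
  · -- `T = u - s + 1`, `N = u - 1`
    have hcop : Nat.Coprime (3 * t ^ 2 - 1) (3 * t ^ 2 - 3 * t + 1) := by
      refine bez (-(3 * (t : ℤ) ^ 2)) (3 * (t : ℤ) ^ 2 + 3 * t + 1) ?_
      rw [cA, cC]; ring
    have h2 := h.pair hC h1 hA (by (clear * - cA; omega)) (hcop.coprime_dvd_right h1) (by rw [cA, cC]; linarith only [htt])
    rw [cA, cC] at h2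
    refine ree_num (p := p) (x := x) (ε := -1) htZ (Or.inr rfl) hmodZ ?_
    rw [show 3 * (t : ℤ) ^ 2 + 3 * (-1 * t) + 1 = 3 * (t : ℤ) ^ 2 - 3 * t + 1 by ring]
    exact h2
  · -- `T = u + s + 1`, `N = u - 1`
    have hcop : Nat.Coprime (3 * t ^ 2 - 1) (3 * t ^ 2 + 3 * t + 1) := by
      refine bez (-(3 * (t : ℤ) ^ 2)) (3 * (t : ℤ) ^ 2 - 3 * t + 1) ?_
      rw [cA, cB]; ring
    have h2 := h.pair hB h1 hA (by (clear * - cA; omega)) (hcop.coprime_dvd_right h1) (by rw [cA, cB]; linarith only [htt])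
    rw [cA, cB] at h2
    refine ree_num (p := p) (x := x) (ε := 1) htZ (Or.inl rfl) hmodZ ?_
    rw [one_mul]
    exact h2

end Cfsg.Agent.R2.Spec.X3
end

-- part: R2/Spec/X3/ExcF4t
section
/-!
# Box X3 of S3435: the row `²F₄(u)` (helper16, after helper352's row for S3461)
-/

set_option autoImplicit false
set_option linter.unusedSectionVars false

namespace Cfsg.Agent.R2.Spec.X3

open Cfsg Cfsg.Lie Cfsg.Agent.H493.PGF4T

universe u

section Main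

variable {K : Type u} [Field K] [Fintype K] {m : ℕ} {p M : ℕ} {y₀ : ℤ}

/-- an element of order divisible by a prime factor of `P` -/
theorem f4t_tor_dvd {S : Type u} [Group S] [Finite S] {P n : ℕ} (C : H541.PRegCC.CCdat S n) (hPn : P ∣ n)
    (h : H541.PRegTorus.Iso S P 1 12) {x : S} {s : ℕ} (hs : s.Prime) (hsx : s ∣ orderOf x) (hsP : s ∣ P) :
    orderOf x ∣ P := by
  obtain ⟨T, hc, hT, hcent, -⟩ := h
  have hP0 : 0 < P := by rw [← hT]; exact Nat.card_pos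
  have hsf : Fact s.Prime := ⟨hs⟩
  obtain ⟨z', hz'⟩ := exists_prime_orderOf_dvd_card' (G := ↥T) s (by rw [hT]; exact hsP)
  have hz : orderOf (z' : S) = s := by rw [Subgroup.orderOf_coe, hz']
  have hy : orderOf (x ^ (orderOf x / s)) = s := H541.PRegCC.pow_prime rfl (orderOf_pos x) hsx
  obtain ⟨g, hg⟩ := C.conj hs (hsP.trans hPn) hy hz
  rw [hcent _ z'.2 (fun h => by
    rw [pow_one] at h
    rw [h, orderOf_one] at hz
    exact hs.one_lt.ne hz)] at hg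
  have h1 : g * x * g⁻¹ ∈ T := by
    rw [← hg, Subgroup.mem_centralizer_singleton_iff]
    have h3 : x * x ^ (orderOf x / s) = x ^ (orderOf x / s) * x := (Commute.refl x).pow_right _
    calc g * x * g⁻¹ * (g * x ^ (orderOf x / s) * g⁻¹) = g * (x * x ^ (orderOf x / s)) * g⁻¹ := by group
      _ = g * (x ^ (orderOf x / s) * x) * g⁻¹ := by rw [h3]
      _ = _ := by group
  have h2 := Subgroup.orderOf_dvd_natCard T h1
  rw [hT] at h2
  have h3 : orderOf (g * x * g⁻¹) = orderOf x :=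
    orderOf_injective (MulAut.conj g).toMonoidHom (MulAut.conj g).injective x
  rwa [h3] at h2

/-- a prime dividing `M` -/
theorem f4t_prime_cases (hK : Fintype.card K = 2 ^ (2 * m + 1)) (h : Cand p y₀ M ↥(twistedF4 K (2 ^ m))) {r : ℕ} (hr : r.Prime)
    (hrM : r ∣ M) : (¬ (r : ℤ) ∣ f1 (2 ^ m) ∧ ¬ (r : ℤ) ∣ f2 (2 ^ m) ∧ ¬ (r : ℤ) ∣ fp (2 ^ m) ∧
      ¬ (r : ℤ) ∣ fm (2 ^ m)) ∧ r ≠ 2 := by
  have hr2 : r ≠ 2 := (h.prime_facts hr hrM).1
  have hna := h.not_adj hr hrM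
  have hb := H378.TwRowsF.cast_card hK
  have to_nat : ∀ {n : ℕ} {z : ℤ}, (r : ℤ) ∣ z → z ∣ (n : ℤ) → r ∣ n := fun h1 h2 =>
    Int.natCast_dvd_natCast.1 (h1.trans h2)
  refine ⟨⟨fun h1 => hna (H378.TwRowsF.adj_minus hK hr hr2 h1), fun h1 => ?_, fun h1 => ?_, fun h1 => ?_⟩, hr2⟩
  · refine hna (H378.TwRowsF.adj_plus hK hr hr2 (to_nat h1 ?_))
    push_cast
    rw [hb]
    exact ⟨1, by unfold f2; ring⟩
  · refine hna (H378.TwRowsF.adj_sq hK hr hr2 (to_nat h1 ?_))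
    push_cast
    rw [hb]
    exact ⟨fm (2 ^ m), by unfold fp fm; ring⟩
  · refine hna (H378.TwRowsF.adj_sq hK hr hr2 (to_nat h1 ?_))
    push_cast
    rw [hb]
    exact ⟨fp (2 ^ m), by unfold fp fm; ring⟩

theorem f4t_coprime_M {N : ℕ} (h : ∀ r : ℕ, r.Prime → r ∣ M → ¬ r ∣ N) : Nat.Coprime N (M) :=
  Nat.coprime_of_dvd fun r hr h1 h2 => h r hr h2 h1

/-- the numeric case `+` -/
theorem f4t_plus {p : ℕ} {b x T N : ℤ} (hb : 2 ≤ b) (hd : T - N = 2 * (b + 1) ^ 2)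
    (h : ((p : ℤ) = x ∧ x % 4 = 1 ∧ 5 ≤ x ∧ 2 * T = x ^ 2 + 1 ∧ 2 * N = x ^ 2 + x) ∨ (x, T, N) ∈ excOdd) : False := by
  have h9 : 9 ≤ (b + 1) ^ 2 := by nlinarith only [hb]
  rcases h with ⟨-, -, h5, h1, h2⟩ | h
  · linarith
  · simp only [excOdd, List.mem_cons, Prod.mk.injEq, List.not_mem_nil, or_false] at h
    have h1 : (b + 1) ^ 2 = 23 ∨ (b + 1) ^ 2 = 17 ∨ (b + 1) ^ 2 = 24 ∨ (b + 1) ^ 2 = 208 := by
      generalize (b + 1) ^ 2 = s at hd h9 ⊢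
      clear * - h hd h9
      omega
    have h2 : b + 1 ≤ 15 := by
      by_contra hcon
      push Not at hcon
      have h5 : 16 * 16 ≤ (b + 1) ^ 2 := by nlinarith only [hcon]
      generalize (b + 1) ^ 2 = s at h1 h5
      clear * - h1 h5
      omega
    have h3 : 3 ≤ b + 1 := by linarith
    generalize b + 1 = c at h1 h2 h3
    clear * - h1 h2 h3
    interval_cases c <;> omega

/-- the numeric case `-` -/
theorem f4t_minus {p : ℕ} {c x T N : ℤ} (hc : 1 ≤ c) (hd : T - N = 2 * (2 * c - 1) ^ 2)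
    (h : ((p : ℤ) = x ∧ x % 4 = 1 ∧ 5 ≤ x ∧ 2 * T = x ^ 2 + 1 ∧ 2 * N = x ^ 2 + x) ∨ (x, T, N) ∈ excOdd) : False := by
  have h9 : 1 ≤ (2 * c - 1) ^ 2 := by nlinarith only [hc]
  rcases h with ⟨-, -, h5, h1, h2⟩ | h
  · linarith
  · simp only [excOdd, List.mem_cons, Prod.mk.injEq, List.not_mem_nil, or_false] at h
    have h1 : (2 * c - 1) ^ 2 = 4 ∨ (2 * c - 1) ^ 2 = 23 ∨ (2 * c - 1) ^ 2 = 17 ∨ (2 * c - 1) ^ 2 = 24 ∨
        (2 * c - 1) ^ 2 = 208 := by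
      generalize (2 * c - 1) ^ 2 = s at hd h9 ⊢
      clear * - h hd h9
      omega
    have h2 : c ≤ 8 := by
      by_contra hcon
      push Not at hcon
      have h5 : 16 * 16 ≤ (2 * c - 1) ^ 2 := by nlinarith only [hcon]
      generalize (2 * c - 1) ^ 2 = s at h1 h5
      clear * - h1 h5
      omega
    clear * - h1 h2 hc
    interval_cases c <;> omega

/-- the numeric case `6` -/
theorem f4t_six {p : ℕ} {b x T N : ℤ} (hb : 2 ≤ b) (hT : T = 4 * b ^ 4 - 2 * b ^ 2 + 1) (hN : N = (2 * b ^ 2 - 1) * (2 * b ^ 2 + 1))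
    (h : ((p : ℤ) = x ∧ x % 4 = 1 ∧ 5 ≤ x ∧ 2 * T = x ^ 2 + 1 ∧ 2 * N = x ^ 2 + x) ∨ (x, T, N) ∈ excOdd) : False := by
  have h4 : 4 ≤ b ^ 2 := by nlinarith only [hb]
  rcases h with ⟨-, -, h5, h1, h2⟩ | h
  · have h3 : x = 4 * b ^ 2 - 3 := by rw [hT] at h1; rw [hN] at h2; linarith
    rw [h3, hT] at h1
    have h6 : (2 * b ^ 2 - 1) * (b ^ 2 - 2) = 0 := by linarith
    rcases mul_eq_zero.1 h6 with h7 | h7 <;> linarith
  · have hd : T - N = 2 - 2 * b ^ 2 := by rw [hT, hN]; ring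
    have hT2 : T = 4 * (b ^ 2) ^ 2 - 2 * b ^ 2 + 1 := by rw [hT]; ring
    simp only [excOdd, List.mem_cons, Prod.mk.injEq, List.not_mem_nil, or_false] at h
    have h1 : b ^ 2 = 4 ∧ T = 19 := by
      generalize b ^ 2 = s at hd h4 ⊢
      clear * - h hd h4
      omega
    rw [h1.1, h1.2] at hT2
    norm_num at hT2

theorem f4t_shift {b : ℤ} (hb : 2 ≤ b) : ∃ t : ℤ, 0 ≤ t ∧ b = t + 2 := ⟨b - 2, by linarith, by ring⟩

theorem f4t_ineq_plus {b : ℤ} (hb : 2 ≤ b) :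
    (2 * (b + 1) ^ 2) ^ 2 ≤ 5 * (4 * b ^ 4 + 4 * b ^ 3 + 2 * b ^ 2 + 2 * b + 1) := by
  obtain ⟨t, ht, rfl⟩ := f4t_shift hb
  have : 0 ≤ 16 * t ^ 4 + 132 * t ^ 3 + 394 * t ^ 2 + 498 * t + 221 := by positivity
  linarith

theorem f4t_ineq_minus {b : ℤ} (hb : 2 ≤ b) :
    (2 * (b - 1) ^ 2) ^ 2 ≤ 5 * (4 * b ^ 4 - 4 * b ^ 3 + 2 * b ^ 2 - 2 * b + 1) := by
  obtain ⟨t, ht, rfl⟩ := f4t_shift hb
  have : 0 ≤ 16 * t ^ 4 + 124 * t ^ 3 + 346 * t ^ 2 + 414 * t + 181 := by positivity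
  linarith

theorem f4t_ineq_six {b : ℤ} (hb : 2 ≤ b) :
    (2 - 2 * b ^ 2) ^ 2 ≤ 5 * (4 * b ^ 4 - 2 * b ^ 2 + 1) := by
  obtain ⟨t, ht, rfl⟩ := f4t_shift hb
  have : 0 ≤ 16 * t ^ 4 + 128 * t ^ 3 + 382 * t ^ 2 + 504 * t + 249 := by positivity
  linarith

/-- element orders -/
theorem f4t_cert_nat (hK : Fintype.card K = 2 ^ (2 * m + 1)) {C : List (Fin 4 × H129.WData.Mat 4)}
    (hC : H129.WData.ChainOK Am C) {Th : H129.WData.Mat 4} (hTh : ∀ j, H129.WData.hd C (H493.F4Tor.rv j) = Th j)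
    {F : ℤ → ℤ} {L : ℤ → Fin 4 → ℤ} {U : Fin 4 → ℤ} {G : ℤ → Fin 4 → ℤ} {c : ℤ} {H : ℤ → ℤ}
    (h : Cert Th F L U G c H)
    {F' : ℤ → ℤ} {L' : ℤ → Fin 4 → ℤ} {U' : Fin 4 → ℤ} {G' : ℤ → Fin 4 → ℤ} {c' : ℤ} {H' : ℤ → ℤ}
    (h' : Cert Th F' L' U' G' c' H') {r s : ℕ} (hr : 0 < r) (hs : 0 < s) (h1 : (r : ℤ) = F (2 ^ m))
    (h2 : (s : ℤ) = F' (2 ^ m)) (hrs : r.Coprime s) :
    ∃ x : ↥(twistedF4 K (2 ^ m)), orderOf x = r * s := by
  obtain ⟨x, y, hx, hy, hxy⟩ := H360.Iso.exists_pair_cert hK hC hTh h h' hr hs (by rw [h1]) (by rw [h2])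
  exact ⟨x * y, by
    rw [(show Commute x y from hxy).orderOf_mul_eq_mul_orderOf_of_coprime (by rw [hx, hy]; exact hrs), hx, hy]⟩

set_option maxHeartbeats 2000000 in
/-- **no section `²F₄(u)`** -/
theorem row_tf4 (hm : 1 ≤ m) (hK : Fintype.card K = 2 ^ (2 * m + 1)) (h : Cand p y₀ M ↥(twistedF4 K (2 ^ m))) :
    False := by
  have hfin : Finite ↥(twistedF4 K (2 ^ m)) := inferInstance
  obtain ⟨P, N, D⟩ := H541.PRegTF4.exists_par hm
  have hcard := S1068.result hK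
  have hcard' : Nat.card ↥(twistedF4 K (2 ^ m)) = (2 ^ (2 * m + 1)) ^ 12 * ((2 ^ (2 * m + 1) - 1) *
      ((2 ^ (2 * m + 1)) ^ 3 + 1) * ((2 ^ (2 * m + 1)) ^ 4 - 1) * ((2 ^ (2 * m + 1)) ^ 6 + 1)) := by
    rw [hcard]; ring
  obtain ⟨hIP, hIN⟩ := H541.PRegTF4.tor hK rfl D hcard'
  have C := H541.PRegTF4.ccdat hK rfl D
  obtain ⟨x, hx⟩ := h.elt
  -- the parameter
  obtain ⟨b, hb⟩ : ∃ b : ℕ, b = 2 ^ m := ⟨_, rfl⟩
  have hbZ : (2 : ℤ) ^ m = (b : ℤ) := by rw [hb]; push_cast; rfl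
  have hb2 : 2 ≤ b := by
    rw [hb]
    calc 2 = 2 ^ 1 := by norm_num
      _ ≤ 2 ^ m := Nat.pow_le_pow_right (by norm_num) hm
  have hb2Z : (2 : ℤ) ≤ b := by exact_mod_cast hb2
  obtain ⟨c, hc⟩ : ∃ c : ℕ, b = 2 * c := by
    obtain ⟨m', rfl⟩ : ∃ m', m = m' + 1 := ⟨m - 1, by omega⟩
    exact ⟨2 ^ m', by rw [hb, pow_succ]; ring⟩
  have hc1 : (1 : ℤ) ≤ c := by omega
  have hcZ : (b : ℤ) = 2 * c := by exact_mod_cast hc
  have hPeq : (P : ℤ) = fP b := by rw [hb]; exact D.P_eq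
  have hNeq : (N : ℤ) = fM b := by rw [hb]; exact D.N_eq
  -- primes dividing `M`
  have key := fun {r : ℕ} (hr : r.Prime) (hrM : r ∣ M) => f4t_prime_cases hK h hr hrM
  rw [hbZ] at key
  -- the small orders
  obtain ⟨n1, hn1⟩ : ∃ n : ℕ, (n : ℤ) = f1 b := ⟨(f1 b).toNat, Int.toNat_of_nonneg (by unfold f1; nlinarith only [hb2])⟩
  obtain ⟨n2, hn2⟩ : ∃ n : ℕ, (n : ℤ) = f2 b := ⟨(f2 b).toNat, Int.toNat_of_nonneg (by unfold f2; positivity)⟩
  obtain ⟨np, hnp⟩ : ∃ n : ℕ, (n : ℤ) = fp b := ⟨(fp b).toNat, Int.toNat_of_nonneg (by unfold fp; (clear * - hb2; positivity))⟩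
  obtain ⟨nm, hnm⟩ : ∃ n : ℕ, (n : ℤ) = fm b := ⟨(fm b).toNat, Int.toNat_of_nonneg (by unfold fm; nlinarith only [])⟩
  have h1pos : 0 < n1 := by
    have : (0 : ℤ) < n1 := by rw [hn1]; unfold f1; nlinarith only [hb2]
    exact_mod_cast this
  have h2pos : 0 < n2 := by
    have : (0 : ℤ) < n2 := by rw [hn2]; unfold f2; positivity
    exact_mod_cast this
  have hppos : 0 < np := by
    have : (0 : ℤ) < np := by rw [hnp]; unfold fp; (clear * - hb2; positivity)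
    exact_mod_cast this
  have hmpos : 0 < nm := by
    have : (0 : ℤ) < nm := by rw [hnm]; unfold fm; nlinarith only []
    exact_mod_cast this
  -- coprimality
  have hodd1 : n1 % 2 = 1 := by
    have h1 : (n1 : ℤ) = 2 * (b : ℤ) ^ 2 - 1 := hn1
    omega
  have hodd2 : n2 % 2 = 1 := by
    have h1 : (n2 : ℤ) = 2 * (b : ℤ) ^ 2 + 1 := hn2
    omega
  have hoddp : np % 2 = 1 := by
    have h1 : (np : ℤ) = 2 * (b : ℤ) ^ 2 + 2 * b + 1 := hnp
    (clear * - h1; omega)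
  have hoddm : nm % 2 = 1 := by
    have h1 : (nm : ℤ) = 2 * (b : ℤ) ^ 2 - 2 * b + 1 := hnm
    (clear * - h1; omega)
  have hcop : ∀ {y z : ℕ}, y % 2 = 1 → (∀ r : ℕ, r.Prime → r ≠ 2 → (r : ℤ) ∣ y → (r : ℤ) ∣ z → False) →
      y.Coprime z := by
    intro y z hy hyz
    refine Nat.coprime_of_dvd fun r hr h1 h2 => ?_
    by_cases hr2 : r = 2
    · subst hr2; omega
    · exact hyz r hr hr2 (Int.natCast_dvd_natCast.2 h1) (Int.natCast_dvd_natCast.2 h2)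
  have hpr : ∀ {r : ℕ}, r.Prime → r ≠ 2 → ∀ {z : ℤ}, (r : ℤ) ∣ 2 * z → (r : ℤ) ∣ z := by
    intro r hr hr2 z hz
    have hr' := Nat.prime_iff_prime_int.1 hr
    rcases hr'.dvd_or_dvd hz with h1 | h1
    · exfalso
      have h3 : r ∣ 2 := by exact_mod_cast h1
      exact hr2 ((Nat.prime_dvd_prime_iff_eq hr Nat.prime_two).1 h3)
    · exact h1
  have hone : ∀ {r : ℕ}, r.Prime → ¬ (r : ℤ) ∣ 1 := fun {r} hr h1 =>
    hr.one_lt.ne' (Nat.dvd_one.1 (by exact_mod_cast h1))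
  have hc12 : n1.Coprime n2 := hcop hodd1 fun r hr hr2 h1 h2 => by
    rw [hn1] at h1
    rw [hn2] at h2
    have h3 : (r : ℤ) ∣ 2 * 1 := by
      have := dvd_sub h2 h1
      have e : f2 (b : ℤ) - f1 b = 2 * 1 := by unfold f1 f2; ring
      rwa [e] at this
    exact hone hr (hpr hr hr2 h3)
  have hc1p : n1.Coprime np := hcop hodd1 fun r hr hr2 h1 h2 => by
    rw [hn1] at h1
    rw [hnp] at h2
    have h3 : (r : ℤ) ∣ 2 * (b + 1) := by
      have := dvd_sub h2 h1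
      have e : fp (b : ℤ) - f1 b = 2 * (b + 1) := by unfold f1 fp; ring
      rwa [e] at this
    have h4 := hpr hr hr2 h3
    have h5 : (r : ℤ) ∣ 1 := by
      have e : (1 : ℤ) = f1 b - (b + 1) * (2 * (b - 1)) := by unfold f1; ring
      rw [e]
      exact dvd_sub h1 (h4.mul_right _)
    exact hone hr h5
  have hc1m : n1.Coprime nm := hcop hodd1 fun r hr hr2 h1 h2 => by
    rw [hn1] at h1
    rw [hnm] at h2
    have h3 : (r : ℤ) ∣ 2 * (b - 1) := by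
      have := dvd_sub h1 h2
      have e : f1 (b : ℤ) - fm b = 2 * (b - 1) := by unfold f1 fm; ring
      rwa [e] at this
    have h4 := hpr hr hr2 h3
    have h5 : (r : ℤ) ∣ 1 := by
      have e : (1 : ℤ) = f1 b - (b - 1) * (2 * (b + 1)) := by unfold f1; ring
      rw [e]
      exact dvd_sub h1 (h4.mul_right _)
    exact hone hr h5
  have hMn : ∀ {y z : ℕ}, ((y : ℤ) = f1 b ∨ (y : ℤ) = f2 b ∨ (y : ℤ) = fp b ∨ (y : ℤ) = fm b) →
      ((z : ℤ) = f1 b ∨ (z : ℤ) = f2 b ∨ (z : ℤ) = fp b ∨ (z : ℤ) = fm b) → Nat.Coprime (y * z) (M) := by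
    intro y z hy hz
    refine f4t_coprime_M fun r hr hrM hd => ?_
    obtain ⟨⟨k1, k2, k3, k4⟩, -⟩ := key hr hrM
    rcases hr.dvd_mul.1 hd with h1 | h1
    · have h2 := Int.natCast_dvd_natCast.2 h1
      rcases hy with hy | hy | hy | hy <;> rw [hy] at h2
      · exact k1 h2
      · exact k2 h2
      · exact k3 h2
      · exact k4 h2
    · have h2 := Int.natCast_dvd_natCast.2 h1
      rcases hz with hz | hz | hz | hz <;> rw [hz] at h2
      · exact k1 h2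
      · exact k2 h2
      · exact k3 h2
      · exact k4 h2
  have hodd_mul : ∀ {y z : ℕ}, y % 2 = 1 → z % 2 = 1 → (y * z) % 2 = 1 := fun hy hz => by
    rw [Nat.mul_mod, hy, hz]
  by_cases hA : ∃ r : ℕ, r.Prime ∧ r ∣ M ∧ r ∣ P
  · -- case `+`
    obtain ⟨r, hr, hrM, hrP⟩ := hA
    have hMP : M ∣ P := by
      have := f4t_tor_dvd C (dvd_mul_right P N) hIP hr (x := x) (by rw [hx]; exact hrM) hrP
      rwa [hx] at this
    have eT : ∃ y : ↥(twistedF4 K (2 ^ m)), orderOf y = P := by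
      have := H360.Iso.f4t_plus hK hb
      have e : P = 4 * b ^ 4 + 4 * b ^ 3 + 2 * b ^ 2 + 2 * b + 1 := by
        have : (P : ℤ) = 4 * (b : ℤ) ^ 4 + 4 * b ^ 3 + 2 * b ^ 2 + 2 * b + 1 := hPeq
        exact_mod_cast this
      rw [e]
      exact this
    have eN : ∃ y : ↥(twistedF4 K (2 ^ m)), orderOf y = n1 * np :=
      f4t_cert_nat hK chainB_ok hThB certB_f1 certB_fp h1pos hppos (by rw [hbZ, hn1]) (by rw [hbZ, hnp]) hc1p
    have hN' : ((n1 * np : ℕ) : ℤ) = (2 * (b : ℤ) ^ 2 - 1) * (2 * b ^ 2 + 2 * b + 1) := by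
      rw [Nat.cast_mul, hn1, hnp]; rfl
    have hP' : (P : ℤ) = 4 * (b : ℤ) ^ 4 + 4 * b ^ 3 + 2 * b ^ 2 + 2 * b + 1 := hPeq
    have hd : (P : ℤ) - (n1 * np : ℕ) = 2 * ((b : ℤ) + 1) ^ 2 := by rw [hP', hN']; ring
    have hp := h.pair_odd eT hMP eN (hodd_mul hodd1 hoddp) (hMn (Or.inl hn1) (Or.inr (Or.inr (Or.inl hnp)))) (by
      rw [hd, hP']
      exact f4t_ineq_plus hb2Z)
    exact f4t_plus hb2Z hd hp
  by_cases hB : ∃ r : ℕ, r.Prime ∧ r ∣ M ∧ r ∣ N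
  · -- case `-`
    obtain ⟨r, hr, hrM, hrN⟩ := hB
    have hMN : M ∣ N := by
      have := f4t_tor_dvd C (dvd_mul_left N P) hIN hr (x := x) (by rw [hx]; exact hrM) hrN
      rwa [hx] at this
    have hN0 : (N : ℤ) = 4 * (b : ℤ) ^ 4 - 4 * b ^ 3 + 2 * b ^ 2 - 2 * b + 1 := hNeq
    have eT : ∃ y : ↥(twistedF4 K (2 ^ m)), orderOf y = N := by
      refine H360.Iso.f4t_minus hK hb ?_
      have : (N : ℤ) + 4 * (b : ℤ) ^ 3 + 2 * b = 4 * b ^ 4 + 2 * b ^ 2 + 1 := by rw [hN0]; ring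
      exact_mod_cast this
    have eN : ∃ y : ↥(twistedF4 K (2 ^ m)), orderOf y = n1 * nm :=
      f4t_cert_nat hK chainC_ok hThC certC_f1 certC_fm h1pos hmpos (by rw [hbZ, hn1]) (by rw [hbZ, hnm]) hc1m
    have hN' : ((n1 * nm : ℕ) : ℤ) = (2 * (b : ℤ) ^ 2 - 1) * (2 * b ^ 2 - 2 * b + 1) := by
      rw [Nat.cast_mul, hn1, hnm]; rfl
    have hd : (N : ℤ) - (n1 * nm : ℕ) = 2 * ((b : ℤ) - 1) ^ 2 := by rw [hN0, hN']; ring
    have hp := h.pair_odd eT hMN eN (hodd_mul hodd1 hoddm) (hMn (Or.inl hn1) (Or.inr (Or.inr (Or.inr hnm)))) (by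
      rw [hd, hN0]
      exact f4t_ineq_minus hb2Z)
    exact f4t_minus hc1 (by rw [hd, hcZ]) hp
  -- the last case
  push Not at hA hB
  have hf6 : 0 < f6 (b : ℤ) := by
    have e : f6 (b : ℤ) = 3 * (b : ℤ) ^ 4 + ((b : ℤ) ^ 2 - 1) ^ 2 := by unfold f6; ring
    rw [e]
    (clear * - hb2; positivity)
  obtain ⟨n6, hn6⟩ : ∃ n : ℕ, (n : ℤ) = f6 b := ⟨(f6 b).toNat, Int.toNat_of_nonneg hf6.le⟩
  have h6pos : 0 < n6 := by
    have : (0 : ℤ) < n6 := by rw [hn6]; exact hf6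
    exact_mod_cast this
  have hT' : (n6 : ℤ) = 4 * (b : ℤ) ^ 4 - 2 * b ^ 2 + 1 := hn6
  have hM6 : M ∣ n6 := by
    have h1 : M ∣ n6 * (2 ^ 12 * b ^ 24 * (n1 * n2 * (n1 * n2 * (np * nm)) * ((np * nm) * (P * N)) * n1)) := by
      have h2 : M ∣ Nat.card ↥(twistedF4 K (2 ^ m)) := by
        rw [← hx]
        exact orderOf_dvd_natCard x
      rw [hcard] at h2
      have h3 := Int.natCast_dvd_natCast.2 h2
      have k1 : 1 ≤ 2 ^ (2 * m + 1) := Nat.one_le_two_pow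
      have k4 : 1 ≤ (2 ^ (2 * m + 1)) ^ 4 := Nat.one_le_pow _ _ k1
      apply Int.natCast_dvd_natCast.1
      rw [Nat.cast_mul, Nat.cast_mul, Nat.cast_mul, Nat.cast_mul, Nat.cast_sub k1, Nat.cast_sub k4] at h3
      push_cast at h3 ⊢
      have hbb : (2 : ℤ) ^ (2 * m + 1) = 2 * (b : ℤ) ^ 2 := by rw [← hbZ, ← pow_mul]; ring
      rw [hbb] at h3
      rw [hn6, hn1, hn2, hnp, hnm, hPeq, hNeq]
      have e : (2 * (b : ℤ) ^ 2) ^ 12 * (2 * (b : ℤ) ^ 2 - 1) * ((2 * (b : ℤ) ^ 2) ^ 3 + 1) *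
          ((2 * (b : ℤ) ^ 2) ^ 4 - 1) * ((2 * (b : ℤ) ^ 2) ^ 6 + 1) = f6 b * (2 ^ 12 * (b : ℤ) ^ 24 *
          (f1 b * f2 b * (f2 b * (fp b * fm b)) * ((fp b * fm b) * (fP b * fM b)) * f1 b)) := by
        unfold f1 f2 fp fm f6 fP fM
        ring
      rw [e] at h3
      refine h3.trans ⟨f1 b, ?_⟩
      ring
    refine (Nat.Coprime.symm ?_).dvd_of_dvd_mul_right h1
    refine f4t_coprime_M fun r hr hrM hd => ?_
    obtain ⟨⟨k1, k2, k3, k4⟩, k5⟩ := key hr hrM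
    rw [← hn1] at k1
    rw [← hn2] at k2
    rw [← hnp] at k3
    rw [← hnm] at k4
    rw [Int.natCast_dvd_natCast] at k1 k2 k3 k4
    have k6 := hA r hr hrM
    have k7 := hB r hr hrM
    have k8 : ¬ r ∣ 2 := fun h => k5 ((Nat.prime_dvd_prime_iff_eq hr Nat.prime_two).1 h)
    have k9 : ¬ r ∣ b := fun h => k8 (hr.dvd_of_dvd_pow (hb ▸ h))
    simp only [hr.dvd_mul] at hd
    rcases hd with (h | h) | (((h | h) | (h | h) | (h | h)) | (h | h) | (h | h)) | h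
    · exact k8 (hr.dvd_of_dvd_pow h)
    · exact k9 (hr.dvd_of_dvd_pow h)
    all_goals first
      | exact k1 h
      | exact k2 h
      | exact k3 h
      | exact k4 h
      | exact k6 h
      | exact k7 h
  have eT : ∃ y : ↥(twistedF4 K (2 ^ m)), orderOf y = n6 :=
    H360.Iso.exists_order_cert hK chainD_ok hThD certD_f6 h6pos (by rw [hn6, hbZ])
  have eN : ∃ y : ↥(twistedF4 K (2 ^ m)), orderOf y = n1 * n2 :=
    f4t_cert_nat hK chainA_ok hThA certA_f1 certA_f2 h1pos h2pos (by rw [hbZ, hn1]) (by rw [hbZ, hn2]) hc12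
  have hN' : ((n1 * n2 : ℕ) : ℤ) = (2 * (b : ℤ) ^ 2 - 1) * (2 * b ^ 2 + 1) := by
    rw [Nat.cast_mul, hn1, hn2]; rfl
  have hd : (n6 : ℤ) - (n1 * n2 : ℕ) = 2 - 2 * (b : ℤ) ^ 2 := by rw [hT', hN']; ring
  have hp := h.pair_odd eT hM6 eN (hodd_mul hodd1 hodd2) (hMn (Or.inl hn1) (Or.inr (Or.inl hn2))) (by
    rw [hd, hT']
    exact f4t_ineq_six hb2Z)
  exact f4t_six hb2Z hT' hN' hp

end Main

end Cfsg.Agent.R2.Spec.X3
end
end
end
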